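import Mathlib.RingTheory.AdicCompletion.Algebra
import Mathlib.RingTheory.AdicCompletion.RingHom
import Mathlib.RingTheory.MvPowerSeries.Equiv
import Mathlib.RingTheory.Noetherian.Basic

/-! The adic completion of a Noetherian ring is Noetherian (helper63). -/

set_option autoImplicit false

namespace Groth.Agent.Lib.Helper63.CompletionNoeth

open AdicCompletion

section Surj

variable {A R : Type*} [CommRing A] [CommRing R]

theorem evalₐ_factorPow (J : Ideal A) {m n : ℕ} (hmn : m ≤ n) (x : AdicCompletion J A) :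
    Ideal.Quotient.factorPow J hmn (evalₐ J n x) = evalₐ J m x := by
  obtain ⟨s, rfl⟩ := AdicCompletion.mk_surjective J A x
  rw [evalₐ_mk, evalₐ_mk]
  change Ideal.Quotient.mk (J ^ m) (s.val n) = Ideal.Quotient.mk (J ^ m) (s.val m)
  rw [Ideal.Quotient.mk_eq_mk_iff_sub_mem]
  have h := s.property hmn
  rw [SModEq.sub_mem] at h
  have h2 : s.val m - s.val n ∈ J ^ m := by simpa using h
  have : s.val n - s.val m = -(s.val m - s.val n) := by ring
  rw [this]
  exact (J ^ m).neg_mem h2

/-- A surjective ring map `φ : A → R` with `φ(J) = I` induces a surjection on completions. -/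
theorem exists_surjective_completion (φ : A →+* R) (hφ : Function.Surjective φ) (J : Ideal A)
    (I : Ideal R) (hJI : J.map φ = I) :
    ∃ Ψ : AdicCompletion J A →+* AdicCompletion I R, Function.Surjective Ψ := by
  have hle : ∀ n, J ^ n ≤ (I ^ n).comap φ := fun n => by
    rw [← Ideal.map_le_iff_le_comap, Ideal.map_pow, hJI]
  let f : (n : ℕ) → AdicCompletion J A →+* R ⧸ I ^ n := fun n =>
    (Ideal.quotientMap (I ^ n) φ (hle n)).comp ((evalₐ J n : AdicCompletion J A →ₐ[A] A ⧸ J ^ n) :
      AdicCompletion J A →+* A ⧸ J ^ n)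
  have hf : ∀ {m n : ℕ} (hmn : m ≤ n), (Ideal.Quotient.factorPow I hmn).comp (f n) = f m := by
    intro m n hmn
    ext x
    change Ideal.Quotient.factorPow I hmn (Ideal.quotientMap (I ^ n) φ (hle n) (evalₐ J n x)) =
      Ideal.quotientMap (I ^ m) φ (hle m) (evalₐ J m x)
    rw [← evalₐ_factorPow J hmn x]
    generalize evalₐ J n x = y
    obtain ⟨a, rfl⟩ := Ideal.Quotient.mk_surjective y
    rfl
  let Ψ := AdicCompletion.liftRingHom I f hf
  refine ⟨Ψ, ?_⟩
  intro y
  obtain ⟨r, rfl⟩ := AdicCompletion.mk_surjective I R y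
  -- lift the Cauchy sequence
  have hr : ∀ n, r.val (n + 1) - r.val n ∈ I ^ n := by
    intro n
    have h := r.property (Nat.le_succ n)
    rw [SModEq.sub_mem] at h
    have h2 : r.val n - r.val (n + 1) ∈ I ^ n := by simpa using h
    have : r.val (n + 1) - r.val n = -(r.val n - r.val (n + 1)) := by ring
    rw [this]
    exact (I ^ n).neg_mem h2
  have hstep : ∀ n (a : A), φ a = r.val n → ∃ b, φ b = r.val (n + 1) ∧ b - a ∈ J ^ n := by
    intro n a ha
    have h1 : r.val (n + 1) - r.val n ∈ (J ^ n).map φ := by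
      rw [Ideal.map_pow, hJI]; exact hr n
    obtain ⟨d, hd, hd'⟩ := (Ideal.mem_map_iff_of_surjective φ hφ).1 h1
    refine ⟨a + d, ?_, ?_⟩
    · rw [map_add, ha, hd']; ring
    · simpa using hd
  obtain ⟨a0, ha0⟩ := hφ (r.val 0)
  let seq : ∀ n, {a : A // φ a = r.val n} := fun n =>
    Nat.rec ⟨a0, ha0⟩ (fun n p => ⟨(hstep n p.1 p.2).choose, (hstep n p.1 p.2).choose_spec.1⟩) n
  have hseq : ∀ n, (seq (n + 1)).1 - (seq n).1 ∈ J ^ n := fun n =>
    (hstep n (seq n).1 (seq n).2).choose_spec.2
  let s : AdicCauchySequence J A := AdicCauchySequence.mk J A (fun n => (seq n).1) (by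
    intro n
    rw [SModEq.sub_mem]
    have : (seq n).1 - (seq (n + 1)).1 = -((seq (n + 1)).1 - (seq n).1) := by ring
    rw [this]
    have := (J ^ n).neg_mem (hseq n)
    simpa using this)
  refine ⟨AdicCompletion.mk J A s, ?_⟩
  apply AdicCompletion.ext_evalₐ
  intro n
  rw [evalₐ_liftRingHom, evalₐ_mk]
  change Ideal.quotientMap (I ^ n) φ (hle n) (evalₐ J n (AdicCompletion.mk J A s)) = _
  rw [evalₐ_mk]
  change Ideal.Quotient.mk (I ^ n) (φ (seq n).1) = _
  rw [(seq n).2]

end Surj

/-- The completion of a Noetherian ring with respect to any ideal is Noetherian. -/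
theorem isNoetherianRing_adicCompletion (R : Type*) [CommRing R] [IsNoetherianRing R]
    (I : Ideal R) : IsNoetherianRing (AdicCompletion I R) := by
  obtain ⟨n, a, ha⟩ := (Submodule.fg_iff_exists_fin_generating_family).1 (IsNoetherian.noetherian I)
  let φ : MvPolynomial (Fin n) R →+* R := MvPolynomial.eval a
  have hφ : Function.Surjective φ := fun r => ⟨MvPolynomial.C r, MvPolynomial.eval_C _⟩
  have hJI : (MvPolynomial.idealOfVars (Fin n) R).map φ = I := by
    rw [Ideal.map_span, ← Set.range_comp]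
    have : (φ ∘ MvPolynomial.X) = a := by
      funext i; exact MvPolynomial.eval_X _
    rw [this]
    exact ha
  obtain ⟨Ψ, hΨ⟩ := exists_surjective_completion φ hφ _ I hJI
  have h1 : IsNoetherianRing (AdicCompletion (MvPolynomial.idealOfVars (Fin n) R)
      (MvPolynomial (Fin n) R)) :=
    isNoetherianRing_of_ringEquiv (MvPowerSeries (Fin n) R)
      (MvPowerSeries.toAdicCompletionAlgEquiv (Fin n) R).toRingEquiv
  exact isNoetherianRing_of_surjective _ _ Ψ hΨ

end Groth.Agent.Lib.Helper63.CompletionNoeth
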