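import Mathlib
import Groth.Agent.Lib.Helper39.KrullAkizuki

set_option autoImplicit false
set_option linter.style.haveILetI false
set_option linter.unusedSectionVars false
set_option linter.unusedVariables false
universe u

namespace Groth.Agent.Lib.Helper63.DimOneSum

open Groth.Agent.Lib.Helper39 IsLocalRing Pointwise

section Basic
variable (A B K L : Type u)
  [CommRing A] [IsDomain A] [IsNoetherianRing A] [IsLocalRing A]
  [CommRing B] [IsDomain B] [Algebra A B] [FaithfulSMul A B]
  [Field K] [Field L] [Algebra A K] [IsFractionRing A K] [Algebra B L] [IsFractionRing B L]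
  [Algebra K L] [Algebra A L] [IsScalarTower A K L] [IsScalarTower A B L] [FiniteDimensional K L]

/-- a nonzero prime of a one-dimensional local domain is the maximal ideal -/
theorem eq_maximalIdeal_of_ne_bot (hdim : ringKrullDim A = 1) (p : Ideal A) [p.IsPrime]
    (hp : p ≠ ⊥) : p = maximalIdeal A := by
  haveI := KA.krullDimLE_one_of_eq hdim
  have := (Ring.krullDimLE_one_iff_of_noZeroDivisors (R := A)).1 inferInstance p hp inferInstance
  exact IsLocalRing.eq_maximalIdeal this

include K L in
/-- a nonzero prime of `B` contains the image of the maximal ideal of `A`. -/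
theorem map_mem_of_ne_bot (hdim : ringKrullDim A = 1) (m : Ideal B) [m.IsPrime] (hm : m ≠ ⊥)
    (x : A) (hx : x ∈ maximalIdeal A) : algebraMap A B x ∈ m := by
  haveI := KA.krullDimLE_one_of_eq hdim
  obtain ⟨a, ha0, ham⟩ := KA.exists_ne_zero_algebraMap_mem A K (L := L) (A := B)
    (IsFractionRing.injective B L) m hm
  have hne : m.comap (algebraMap A B) ≠ ⊥ := by
    intro h
    have : a ∈ m.comap (algebraMap A B) := ham
    rw [h] at this
    exact ha0 this
  have := eq_maximalIdeal_of_ne_bot A hdim (m.comap (algebraMap A B)) hne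
  have hx' : x ∈ m.comap (algebraMap A B) := this ▸ hx
  exact hx'

include K L in
theorem finite_maximalSpectrum (hdim : ringKrullDim A = 1)
    (x : A) (hx : x ∈ maximalIdeal A) (hx0 : x ≠ 0) : Finite (MaximalSpectrum B) := by
  haveI := KA.krullDimLE_one_of_eq hdim
  have hxB : algebraMap A B x ≠ 0 := by
    rwa [Ne, map_eq_zero_iff _ (FaithfulSMul.algebraMap_injective A B)]
  have hJ : (Ideal.span {algebraMap A B x} : Ideal B) ≠ ⊥ := by
    rwa [Ne, Ideal.span_singleton_eq_bot]
  have hfin := KA.finite_primes_ge A K (L := L) (A := B) (IsFractionRing.injective B L) _ hJ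
  have hfin2 : ({⊥} ∪ {P : Ideal B | P.IsPrime ∧ Ideal.span {algebraMap A B x} ≤ P}).Finite :=
    (Set.finite_singleton _).union hfin
  haveI := hfin2.to_subtype
  apply Finite.of_injective (β := ↥({⊥} ∪ {P : Ideal B | P.IsPrime ∧ Ideal.span {algebraMap A B x} ≤ P}))
    (fun m => ⟨m.asIdeal, by
      by_cases h : m.asIdeal = ⊥
      · left; exact h
      · right
        refine ⟨m.isMaximal.isPrime, ?_⟩
        rw [Ideal.span_singleton_le_iff_mem]
        haveI := m.isMaximal.isPrime
        exact map_mem_of_ne_bot A B K L hdim m.asIdeal h x hx⟩)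
  · intro m m' h
    have := congrArg Subtype.val h
    exact MaximalSpectrum.ext this

end Basic
section P1
variable (A B : Type u) [CommRing A] [IsLocalRing A] [CommRing B] [Algebra A B]
  (m : Ideal B) [hm : m.IsMaximal]

theorem isLocalHom_algebraMap_atPrime (hcomap : m.comap (algebraMap A B) = maximalIdeal A) :
    IsLocalHom (algebraMap A (Localization.AtPrime m)) := by
  constructor
  intro a ha
  by_contra hna
  have h1 : a ∈ maximalIdeal A := (IsLocalRing.mem_maximalIdeal a).2 hna
  rw [← hcomap] at h1
  have h2 : algebraMap A B a ∈ m := h1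
  rw [IsScalarTower.algebraMap_apply A B (Localization.AtPrime m),
    IsLocalization.AtPrime.isUnit_to_map_iff (Localization.AtPrime m) m] at ha
  exact ha h2

theorem length_residueField_atPrime (hcomap : m.comap (algebraMap A B) = maximalIdeal A) :
    haveI := isLocalHom_algebraMap_atPrime A B m hcomap
    Module.length (ResidueField A) (ResidueField (Localization.AtPrime m)) =
      Module.length A (B ⧸ m) := by
  haveI := isLocalHom_algebraMap_atPrime A B m hcomap
  rw [← Module.length_eq_of_surjective (S := A) (R := ResidueField A)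
    (M := ResidueField (Localization.AtPrime m)) (residue_surjective (R := A))]
  let e : (B ⧸ m) ≃+* ResidueField (Localization.AtPrime m) :=
    IsLocalization.AtPrime.equivQuotMaximalIdeal m (Localization.AtPrime m)
  have he : ∀ b : B, e (Ideal.Quotient.mk m b) =
      residue (Localization.AtPrime m) (algebraMap B (Localization.AtPrime m) b) := fun b =>
    IsLocalization.AtPrime.equivQuotMaximalIdeal_apply_mk m (Localization.AtPrime m) b
  let g : (B ⧸ m) ≃ₗ[A] ResidueField (Localization.AtPrime m) :=
    { toFun := e
      map_add' := map_add e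
      map_smul' := by
        intro a y
        obtain ⟨b, rfl⟩ := Ideal.Quotient.mk_surjective y
        simp only [RingHom.id_apply]
        rw [Algebra.smul_def, Algebra.smul_def, map_mul]
        congr 1
      invFun := e.symm
      left_inv := e.left_inv
      right_inv := e.right_inv }
  exact g.length_eq.symm

theorem length_quot_atPrime (hcomap : m.comap (algebraMap A B) = maximalIdeal A)
    (J' : Ideal (Localization.AtPrime m)) :
    Module.length A (Localization.AtPrime m ⧸ J') =
      Module.length (Localization.AtPrime m) (Localization.AtPrime m ⧸ J') *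
        Module.length A (B ⧸ m) := by
  haveI := isLocalHom_algebraMap_atPrime A B m hcomap
  rw [IsLocalRing.length_restrictScalars A (Localization.AtPrime m) (Localization.AtPrime m ⧸ J'),
    length_residueField_atPrime A B m hcomap]

end P1

section P2
variable (A B : Type u) [CommRing A] [CommRing B] [Algebra A B] (J : Ideal B)

/-- the maximal ideal of `B` below a maximal ideal of `B ⧸ J` -/
def below (I : MaximalSpectrum (B ⧸ J)) : MaximalSpectrum B :=
  haveI := I.isMaximal
  ⟨I.asIdeal.comap (Ideal.Quotient.mk J),
    Ideal.comap_isMaximal_of_surjective _ Ideal.Quotient.mk_surjective⟩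

theorem le_below (I : MaximalSpectrum (B ⧸ J)) : J ≤ (below B J I).asIdeal := by
  intro b hb
  show Ideal.Quotient.mk J b ∈ I.asIdeal
  rw [Ideal.Quotient.eq_zero_iff_mem.2 hb]
  exact zero_mem _

theorem below_injective : Function.Injective (below B J) := by
  intro I I' h
  have h1 : I.asIdeal.comap (Ideal.Quotient.mk J) = I'.asIdeal.comap (Ideal.Quotient.mk J) :=
    congrArg MaximalSpectrum.asIdeal h
  apply MaximalSpectrum.ext
  have := congrArg (Ideal.map (Ideal.Quotient.mk J)) h1
  rwa [Ideal.map_comap_of_surjective _ Ideal.Quotient.mk_surjective,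
    Ideal.map_comap_of_surjective _ Ideal.Quotient.mk_surjective] at this

theorem mem_range_below (m : MaximalSpectrum B) (hJ : J ≤ m.asIdeal) :
    m ∈ Set.range (below B J) := by
  haveI := m.isMaximal
  have hcm : (m.asIdeal.map (Ideal.Quotient.mk J)).comap (Ideal.Quotient.mk J) = m.asIdeal := by
    rw [Ideal.comap_map_of_surjective _ Ideal.Quotient.mk_surjective, ← RingHom.ker_eq_comap_bot,
      Ideal.mk_ker]
    exact sup_eq_left.2 hJ
  have hmax : (m.asIdeal.map (Ideal.Quotient.mk J)).IsMaximal := by
    rcases Ideal.map_eq_top_or_isMaximal_of_surjective (Ideal.Quotient.mk J)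
      Ideal.Quotient.mk_surjective m.isMaximal with h | h
    · exfalso
      rw [h, Ideal.comap_top] at hcm
      exact m.isMaximal.ne_top hcm.symm
    · exact h
  exact ⟨⟨_, hmax⟩, MaximalSpectrum.ext hcm⟩

theorem algebraMapSubmonoid_eq (I : MaximalSpectrum (B ⧸ J)) :
    Algebra.algebraMapSubmonoid (B ⧸ J) (below B J I).asIdeal.primeCompl =
      haveI := I.isMaximal
      I.asIdeal.primeCompl := by
  ext c
  constructor
  · rintro ⟨b, hb, rfl⟩
    exact hb
  · intro hc
    obtain ⟨b, rfl⟩ := Ideal.Quotient.mk_surjective c
    exact ⟨b, hc, rfl⟩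

theorem length_localization_eq (I : MaximalSpectrum (B ⧸ J)) :
    haveI := I.isMaximal
    Module.length A (Localization.AtPrime I.asIdeal) =
      Module.length A (Localization.AtPrime (below B J I).asIdeal ⧸
        J.map (algebraMap B (Localization.AtPrime (below B J I).asIdeal))) := by
  haveI := I.isMaximal
  set m := (below B J I).asIdeal with hm
  have inst2 : IsLocalization (Algebra.algebraMapSubmonoid (B ⧸ J) m.primeCompl)
      (Localization.AtPrime m ⧸ J.map (algebraMap B (Localization.AtPrime m))) := inferInstance
  have inst2' : IsLocalization I.asIdeal.primeCompl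
      (Localization.AtPrime m ⧸ J.map (algebraMap B (Localization.AtPrime m))) := by
    rw [← algebraMapSubmonoid_eq B J I]
    exact inst2
  let f := IsLocalization.algEquiv I.asIdeal.primeCompl (Localization.AtPrime I.asIdeal)
    (Localization.AtPrime m ⧸ J.map (algebraMap B (Localization.AtPrime m)))
  let g : (Localization.AtPrime I.asIdeal) ≃ₗ[A]
      (Localization.AtPrime m ⧸ J.map (algebraMap B (Localization.AtPrime m))) :=
    { toFun := f
      map_add' := map_add f
      map_smul' := by
        intro a y
        simp only [RingHom.id_apply]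
        refine Eq.trans ?_ (Algebra.smul_def a (f y)).symm
        rw [Algebra.smul_def, map_mul]
        congr 1
        rw [IsScalarTower.algebraMap_apply A (B ⧸ J) (Localization.AtPrime I.asIdeal)]
        exact (f.commutes _).trans rfl
      invFun := f.symm
      left_inv := f.left_inv
      right_inv := f.right_inv }
  exact g.length_eq

theorem length_quotient_eq_sum [IsArtinianRing (B ⧸ J)] [Fintype (MaximalSpectrum (B ⧸ J))] :
    Module.length A (B ⧸ J) = ∑ I : MaximalSpectrum (B ⧸ J),
      Module.length A (Localization.AtPrime (below B J I).asIdeal ⧸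
        J.map (algebraMap B (Localization.AtPrime (below B J I).asIdeal))) := by
  let e := MaximalSpectrum.toPiLocalizationEquiv (B ⧸ J)
  let g : (B ⧸ J) ≃ₗ[A] (Π I : MaximalSpectrum (B ⧸ J), Localization.AtPrime I.asIdeal) :=
    { toFun := e
      map_add' := map_add e
      map_smul' := by
        intro a y
        simp only [RingHom.id_apply]
        rw [Algebra.smul_def, Algebra.smul_def, map_mul]
        congr 1
      invFun := e.symm
      left_inv := e.left_inv
      right_inv := e.right_inv }
  rw [g.length_eq, Module.length_pi_of_fintype]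
  refine Finset.sum_congr rfl (fun I _ => ?_)
  exact length_localization_eq A B J I

end P2
section P3
variable (A B : Type u) [CommRing A] [IsLocalRing A] [CommRing B] [Algebra A B] (x : A)

theorem map_span_eq (m : Ideal B) [m.IsPrime] :
    (Ideal.span {algebraMap A B x}).map (algebraMap B (Localization.AtPrime m)) =
      Ideal.span {algebraMap A (Localization.AtPrime m) x} := by
  rw [Ideal.map_span, Set.image_singleton, ← IsScalarTower.algebraMap_apply]

theorem finsum_eq_length [IsArtinianRing (B ⧸ Ideal.span {algebraMap A B x})]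
    (hcomap : ∀ m : MaximalSpectrum B, algebraMap A B x ∈ m.asIdeal →
      m.asIdeal.comap (algebraMap A B) = maximalIdeal A) :
    (∑ᶠ m : MaximalSpectrum B,
          Module.length A (B ⧸ m.asIdeal) *
            Module.length (Localization.AtPrime m.asIdeal)
              (Localization.AtPrime m.asIdeal ⧸
                Ideal.span ({algebraMap A (Localization.AtPrime m.asIdeal) x} : Set _))) =
      Module.length A (B ⧸ Ideal.span {algebraMap A B x}) := by
  classical
  set J := Ideal.span {algebraMap A B x} with hJ
  haveI : Fintype (MaximalSpectrum (B ⧸ J)) := Fintype.ofFinite _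
  rw [length_quotient_eq_sum A B J]
  have hsupp : Function.support (fun m : MaximalSpectrum B =>
      Module.length A (B ⧸ m.asIdeal) *
            Module.length (Localization.AtPrime m.asIdeal)
              (Localization.AtPrime m.asIdeal ⧸
                Ideal.span ({algebraMap A (Localization.AtPrime m.asIdeal) x} : Set _))) ⊆
      ((Finset.univ.image (below B J) : Finset (MaximalSpectrum B)) : Set (MaximalSpectrum B)) := by
    intro m hm
    by_contra hnot
    apply hm
    have hxm : algebraMap A B x ∉ m.asIdeal := by
      intro h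
      apply hnot
      obtain ⟨I, hI⟩ := mem_range_below B J m (by rw [hJ, Ideal.span_singleton_le_iff_mem]; exact h)
      rw [Finset.coe_image, Finset.coe_univ, Set.image_univ]
      exact ⟨I, hI⟩
    have hunit : IsUnit (algebraMap A (Localization.AtPrime m.asIdeal) x) := by
      rw [IsScalarTower.algebraMap_apply A B (Localization.AtPrime m.asIdeal),
        IsLocalization.AtPrime.isUnit_to_map_iff (Localization.AtPrime m.asIdeal) m.asIdeal]
      exact hxm
    have htop : Ideal.span ({algebraMap A (Localization.AtPrime m.asIdeal) x} : Set _) = ⊤ :=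
      Ideal.span_singleton_eq_top.2 hunit
    have hsub : Subsingleton (Localization.AtPrime m.asIdeal ⧸
        Ideal.span ({algebraMap A (Localization.AtPrime m.asIdeal) x} : Set _)) := by
      rw [htop]; exact Ideal.Quotient.subsingleton_iff.2 rfl
    simp only
    rw [Module.length_eq_zero_iff.2 hsub, mul_zero]
  rw [finsum_eq_finsetSum_of_support_subset _ hsupp,
    Finset.sum_image (fun a _ b _ h => below_injective B J h)]
  refine Finset.sum_congr rfl (fun I _ => ?_)
  have hxI : algebraMap A B x ∈ (below B J I).asIdeal :=
    le_below B J I (Ideal.subset_span rfl)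
  haveI := (below B J I).isMaximal
  rw [length_quot_atPrime A B (below B J I).asIdeal (hcomap _ hxI), map_span_eq, mul_comm]

end P3

theorem length_quotient_span_eq (A B : Type u) [CommRing A] [CommRing B] [Algebra A B] (x : A) :
    Module.length A (B ⧸ Ideal.span {algebraMap A B x}) =
      Module.length A (B ⧸ (x • ⊤ : Submodule A B)) := by
  have heq : (x • ⊤ : Submodule A B) = (Ideal.span {algebraMap A B x}).restrictScalars A := by
    ext b
    rw [Submodule.mem_smul_pointwise_iff_exists, Submodule.restrictScalars_mem,
      Ideal.mem_span_singleton']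
    constructor
    · rintro ⟨c, -, rfl⟩
      exact ⟨c, by rw [Algebra.smul_def, mul_comm]⟩
    · rintro ⟨c, rfl⟩
      exact ⟨c, trivial, by rw [Algebra.smul_def, mul_comm]⟩
  rw [← (Submodule.Quotient.restrictScalarsEquiv A (Ideal.span {algebraMap A B x})).length_eq,
    (Submodule.quotEquivOfEq _ _ heq).length_eq]

theorem injective_of_surjective_of_length_le {R M N : Type*} [Ring R] [AddCommGroup M]
    [AddCommGroup N] [Module R M] [Module R N] (f : M →ₗ[R] N) (hf : Function.Surjective f)
    (hle : Module.length R M ≤ Module.length R N) (hfin : Module.length R N ≠ ⊤) :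
    Function.Injective f := by
  have h := Module.length_eq_add_of_exact (LinearMap.ker f).subtype f
    (Submodule.subtype_injective _) hf (LinearMap.exact_subtype_ker_map f)
  rw [h] at hle
  have h0 : Module.length R (LinearMap.ker f) = 0 := by
    by_contra hne
    have hpos : 0 < Module.length R (LinearMap.ker f) := pos_iff_ne_zero.2 hne
    have : Module.length R N < Module.length R (LinearMap.ker f) + Module.length R N := by
      exact ENat.lt_add_left hfin hpos
    exact absurd hle (not_le.2 this)
  rw [Module.length_eq_zero_iff] at h0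
  rw [← LinearMap.ker_eq_bot]
  exact (Submodule.subsingleton_iff_eq_bot).1 h0

section Fin
variable (A B K L : Type u)
  [CommRing A] [IsDomain A] [IsNoetherianRing A] [IsLocalRing A]
  [CommRing B] [IsDomain B] [Algebra A B] [FaithfulSMul A B]
  [Field K] [Field L] [Algebra A K] [IsFractionRing A K] [Algebra B L] [IsFractionRing B L]
  [Algebra K L] [Algebra A L] [IsScalarTower A K L] [IsScalarTower A B L] [FiniteDimensional K L]

include K L in
theorem isAlgebraic_of_tower : Algebra.IsAlgebraic A B := by
  constructor
  intro b
  rw [← isAlgebraic_algebraMap_iff (IsFractionRing.injective B L),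
    IsFractionRing.isAlgebraic_iff A K L]
  exact IsAlgebraic.of_finite K _

include K L in
theorem rank_eq_finrank : Module.rank A B = (Module.finrank K L : Cardinal) := by
  haveI := isAlgebraic_of_tower A B K L
  rw [← Algebra.IsAlgebraic.rank_of_isFractionRing A K B L, Module.finrank_eq_rank]

theorem exists_pow_mem_span (hdim : ringKrullDim A = 1) (x a : A) (hx : x ∈ maximalIdeal A)
    (ha : a ≠ 0) : ∃ k : ℕ, x ^ k ∈ Ideal.span {a} := by
  have : x ∈ (Ideal.span {a}).radical := by
    rw [Ideal.radical_eq_sInf, Ideal.mem_sInf]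
    rintro p ⟨hap, hp⟩
    haveI := hp
    have hpne : p ≠ ⊥ := by
      intro h
      rw [h, Ideal.span_singleton_le_iff_mem] at hap
      exact ha hap
    rw [eq_maximalIdeal_of_ne_bot A hdim p hpne]
    exact hx
  exact this

include K L in
theorem finite_of_length_eq (hdim : ringKrullDim A = 1) (x : A) (hx : x ∈ maximalIdeal A)
    (hx0 : x ≠ 0)
    (heq : Module.length A (B ⧸ (x • ⊤ : Submodule A B)) =
      (Module.finrank K L : ℕ∞) * Module.length A (A ⧸ Ideal.span {x})) :
    Module.Finite A B := by
  classical
  haveI := KA.krullDimLE_one_of_eq hdim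
  have hNtop : Module.length A (A ⧸ Ideal.span {x}) ≠ ⊤ :=
    KA.length_quotient_span_singleton_ne_top x hx0
  have hN0 : Module.length A (A ⧸ Ideal.span {x}) ≠ 0 := by
    rw [Ne, Module.length_eq_zero_iff, Submodule.Quotient.subsingleton_iff]
    intro h
    have h1 : (1 : A) ∈ Ideal.span {x} := by rw [h]; trivial
    have : (1 : A) ∈ maximalIdeal A :=
      (Ideal.span_singleton_le_iff_mem (I := maximalIdeal A)).2 hx h1
    exact (Ideal.ne_top_iff_one _).1 (IsLocalRing.maximalIdeal.isMaximal A).ne_top this
  obtain ⟨N₀, hN₀⟩ := ENat.ne_top_iff_exists.1 hNtop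
  have hN₀pos : 0 < N₀ := by
    rcases Nat.eq_zero_or_pos N₀ with h | h
    · exfalso; apply hN0; rw [← hN₀, h]; rfl
    · exact h
  have hQtop : Module.length A (B ⧸ (x • ⊤ : Submodule A B)) ≠ ⊤ := by
    rw [heq, ← hN₀]
    exact ENat.natCast_ne_top _
  -- the quotient is a finite module
  have hQfin : Module.Finite A (B ⧸ (x • ⊤ : Submodule A B)) := by
    rw [Module.length_ne_top_iff, isFiniteLength_iff_isNoetherian_isArtinian] at hQtop
    haveI := hQtop.1
    infer_instance
  obtain ⟨S', hS'⟩ := Module.finite_def.1 hQfin
  have hlift : ∀ q : B ⧸ (x • ⊤ : Submodule A B), ∃ b : B, (x • ⊤ : Submodule A B).mkQ b = q :=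
    Submodule.mkQ_surjective _
  choose ℓ hℓ using hlift
  set M₁ : Submodule A B := Submodule.span A ((S'.image ℓ : Finset B) : Set B) with hM₁
  have hM₁fg : M₁.FG := ⟨S'.image ℓ, rfl⟩
  haveI : Module.Finite A M₁ := Module.Finite.iff_fg.2 hM₁fg
  have hmap : M₁.map (x • ⊤ : Submodule A B).mkQ = ⊤ := by
    rw [hM₁, Submodule.map_span, Finset.coe_image, ← Set.image_comp]
    have : ((x • ⊤ : Submodule A B).mkQ ∘ ℓ) '' (S' : Set _) = (S' : Set _) := by
      ext q
      simp only [Set.mem_image, Function.comp_apply, hℓ, exists_eq_right]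
    rw [this, hS']
  -- the comparison map
  have hle : (x • ⊤ : Submodule A M₁) ≤ (x • ⊤ : Submodule A B).comap M₁.subtype := by
    intro m hm
    obtain ⟨c, -, rfl⟩ := (Submodule.mem_smul_pointwise_iff_exists _ _ _).1 hm
    rw [Submodule.mem_comap, map_smul]
    exact Submodule.smul_mem_pointwise_smul _ _ _ trivial
  let φ := Submodule.mapQ (x • ⊤ : Submodule A M₁) (x • ⊤ : Submodule A B) M₁.subtype hle
  have hφsurj : Function.Surjective φ := by
    intro q
    have hq : q ∈ M₁.map (x • ⊤ : Submodule A B).mkQ := by rw [hmap]; trivial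
    obtain ⟨m, hm, rfl⟩ := hq
    exact ⟨(x • ⊤ : Submodule A M₁).mkQ ⟨m, hm⟩, rfl⟩
  let ι : M₁ →ₗ[A] L := (IsScalarTower.toAlgHom A B L).toLinearMap.comp M₁.subtype
  have hι : Function.Injective ι :=
    (IsFractionRing.injective B L).comp (Submodule.subtype_injective _)
  have hle1 : Module.length A (M₁ ⧸ (x • ⊤ : Submodule A M₁)) ≤
      (Module.finrank K L : ℕ∞) * Module.length A (A ⧸ Ideal.span {x}) :=
    KA.length_quotient_smul_le (K := K) ι hι x hx0
  have hφinj : Function.Injective φ :=
    injective_of_surjective_of_length_le φ hφsurj (by rw [heq]; exact hle1) hQtop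
  have hlen : Module.length A (M₁ ⧸ (x • ⊤ : Submodule A M₁)) =
      (Module.finrank K L : ℕ∞) * Module.length A (A ⧸ Ideal.span {x}) := by
    rw [← heq]
    exact (LinearEquiv.ofBijective φ ⟨hφinj, hφsurj⟩).length_eq
  -- rank of M₁
  have hxinj : ∀ m : M₁, x • m = 0 → m = 0 := by
    intro m hm
    have h1 : algebraMap A B x * (m : B) = 0 := by
      rw [← Algebra.smul_def]
      exact congrArg Subtype.val hm
    rcases mul_eq_zero.1 h1 with h | h
    · exfalso
      rw [map_eq_zero_iff _ (FaithfulSMul.algebraMap_injective A B)] at h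
      exact hx0 h
    · exact Subtype.ext h
  have hfr : Module.finrank A M₁ = Module.finrank K L := by
    have h1 := KA.length_quotient_smul_of_finite M₁ x hxinj
    rw [hlen, ← hN₀] at h1
    have h2 : Module.finrank K L * N₀ = Module.finrank A M₁ * N₀ := by exact_mod_cast h1
    exact (Nat.eq_of_mul_eq_mul_right hN₀pos h2).symm
  have hrank : Module.rank A (B ⧸ M₁) = 0 := by
    have h1 := Submodule.rank_quotient_add_rank M₁
    rw [rank_eq_finrank A B K L, ← Module.finrank_eq_rank A M₁, hfr] at h1
    have h2 : Module.rank A (B ⧸ M₁) + (Module.finrank K L : Cardinal) =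
        0 + (Module.finrank K L : Cardinal) := by rw [h1, zero_add]
    exact Cardinal.eq_of_add_eq_add_right h2 (Cardinal.natCast_lt_aleph0)
  rw [rank_eq_zero_iff] at hrank
  -- cancellation of x
  have hcancel : ∀ b : B, x • b ∈ M₁ → b ∈ M₁ := by
    intro b hb
    have h0 : φ ((x • ⊤ : Submodule A M₁).mkQ ⟨x • b, hb⟩) = 0 := by
      show (x • ⊤ : Submodule A B).mkQ (x • b) = 0
      rw [Submodule.mkQ_apply, Submodule.Quotient.mk_eq_zero]
      exact Submodule.smul_mem_pointwise_smul _ _ _ trivial
    have h1 : (x • ⊤ : Submodule A M₁).mkQ ⟨x • b, hb⟩ = 0 := hφinj (by rw [h0, map_zero])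
    rw [Submodule.mkQ_apply, Submodule.Quotient.mk_eq_zero] at h1
    obtain ⟨m', -, hm'⟩ := (Submodule.mem_smul_pointwise_iff_exists _ _ _).1 h1
    have h2 : x • (m' : B) = x • b := congrArg Subtype.val hm'
    have h3 : algebraMap A B x * ((m' : B) - b) = 0 := by
      rw [mul_sub, ← Algebra.smul_def, ← Algebra.smul_def, h2, sub_self]
    rcases mul_eq_zero.1 h3 with h | h
    · exfalso
      rw [map_eq_zero_iff _ (FaithfulSMul.algebraMap_injective A B)] at h
      exact hx0 h
    · rw [sub_eq_zero] at h
      rw [← h]; exact m'.2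
  have hcancel' : ∀ (k : ℕ) (b : B), x ^ k • b ∈ M₁ → b ∈ M₁ := by
    intro k
    induction k with
    | zero => intro b hb; simpa using hb
    | succ k ih =>
      intro b hb
      apply ih
      apply hcancel
      rwa [smul_smul, ← pow_succ']
  have htop : M₁ = ⊤ := by
    rw [eq_top_iff]
    intro b _
    obtain ⟨a, ha0, ha⟩ := hrank (M₁.mkQ b)
    have hab : a • b ∈ M₁ := by
      rw [← map_smul, Submodule.mkQ_apply, Submodule.Quotient.mk_eq_zero] at ha
      exact ha
    obtain ⟨k, hk⟩ := exists_pow_mem_span A hdim x a hx ha0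
    obtain ⟨c, hc⟩ := Ideal.mem_span_singleton'.1 hk
    apply hcancel' k
    rw [← hc, mul_smul]
    exact M₁.smul_mem c hab
  rw [Module.finite_def, ← htop]
  exact hM₁fg

include K L in
theorem main (hdim : ringKrullDim A = 1) (x : A) (hx : x ∈ maximalIdeal A) (hx0 : x ≠ 0) :
    Finite (MaximalSpectrum B) ∧
      (∑ᶠ m : MaximalSpectrum B,
          Module.length A (B ⧸ m.asIdeal) *
            Module.length (Localization.AtPrime m.asIdeal)
              (Localization.AtPrime m.asIdeal ⧸
                Ideal.span ({algebraMap A (Localization.AtPrime m.asIdeal) x} : Set _)) ≤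
        (Module.finrank K L : ℕ∞) * Module.length A (A ⧸ Ideal.span ({x} : Set A))) ∧
      ((∑ᶠ m : MaximalSpectrum B,
          Module.length A (B ⧸ m.asIdeal) *
            Module.length (Localization.AtPrime m.asIdeal)
              (Localization.AtPrime m.asIdeal ⧸
                Ideal.span ({algebraMap A (Localization.AtPrime m.asIdeal) x} : Set _)) =
        (Module.finrank K L : ℕ∞) * Module.length A (A ⧸ Ideal.span ({x} : Set A))) ↔
          Module.Finite A B) := by
  haveI := KA.krullDimLE_one_of_eq hdim
  have hxB : algebraMap A B x ≠ 0 := by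
    rwa [Ne, map_eq_zero_iff _ (FaithfulSMul.algebraMap_injective A B)]
  have hJ : (Ideal.span {algebraMap A B x} : Ideal B) ≠ ⊥ := by
    rwa [Ne, Ideal.span_singleton_eq_bot]
  haveI : IsArtinianRing (B ⧸ Ideal.span {algebraMap A B x}) :=
    KA.isArtinianRing_quotient_ideal A K (L := L) (A := B) (IsFractionRing.injective B L) _ hJ
  have hcomap : ∀ m : MaximalSpectrum B, algebraMap A B x ∈ m.asIdeal →
      m.asIdeal.comap (algebraMap A B) = maximalIdeal A := by
    intro m hm
    haveI := m.isMaximal.isPrime
    apply eq_maximalIdeal_of_ne_bot A hdim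
    intro h
    have : x ∈ m.asIdeal.comap (algebraMap A B) := hm
    rw [h] at this
    exact hx0 this
  have hsum := finsum_eq_length A B x hcomap
  rw [length_quotient_span_eq] at hsum
  rw [hsum]
  let ι : B →ₗ[A] L := (IsScalarTower.toAlgHom A B L).toLinearMap
  have hι : Function.Injective ι := IsFractionRing.injective B L
  refine ⟨finite_maximalSpectrum A B K L hdim x hx hx0,
    KA.length_quotient_smul_le (K := K) ι hι x hx0, ?_, ?_⟩
  · exact finite_of_length_eq A B K L hdim x hx hx0
  · intro hfin
    have hxinj : ∀ b : B, x • b = 0 → b = 0 := by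
      intro b hb
      rw [Algebra.smul_def] at hb
      rcases mul_eq_zero.1 hb with h | h
      · exact absurd h hxB
      · exact h
    rw [KA.length_quotient_smul_of_finite B x hxinj]
    congr 2
    rw [Module.finrank, rank_eq_finrank A B K L, Cardinal.toNat_natCast]

end Fin

end Groth.Agent.Lib.Helper63.DimOneSum
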