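import Groth.Agent.Lib.Helper63.Geometric
import Mathlib.RingTheory.Polynomial.GaussLemma
import Mathlib.RingTheory.AdjoinRoot
import Mathlib.FieldTheory.PrimitiveElement
import Mathlib.FieldTheory.Perfect
import Mathlib.LinearAlgebra.Dimension.Constructions

/-! Function fields over perfect constant fields are geometric (helper63). -/

set_option autoImplicit false
set_option linter.style.haveILetI false
set_option linter.unusedSectionVars false

namespace Groth.Agent.Lib.Helper63.GeometricPerfect

open IntermediateField FunFld TensorProduct Polynomial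

universe u v

variable {k : Type u} {K : Type v} [Field k] [Field K] [Algebra k K]

/-- Irreducible polynomials over `k` stay irreducible over `K` when `k` is algebraically closed
in `K`. -/
theorem irreducible_map (hk : ∀ y : K, IsAlgebraic k y → y ∈ Set.range (algebraMap k K))
    {g : k[X]} (hg : g.Monic) (hirr : Irreducible g) : Irreducible (g.map (algebraMap k K)) := by
  rw [(hg.map _).irreducible_iff_natDegree]
  rw [hg.irreducible_iff_natDegree] at hirr
  obtain ⟨hne1, hfac⟩ := hirr
  refine ⟨?_, ?_⟩
  · intro h
    apply hne1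
    apply Polynomial.map_injective _ (algebraMap k K).injective
    rw [h, Polynomial.map_one]
  · intro a b ha hb hab
    have lift : ∀ c : K[X], c.Monic → c ∣ g.map (algebraMap k K) →
        ∃ c₀ : k[X], c₀.map (algebraMap k K) = c := by
      intro c hc hdvd
      have h1 := integralClosure.mem_lifts_of_monic_of_dvd_map K hg hc hdvd
      rw [lifts_iff_coeff_lifts] at h1
      have h2 : c ∈ lifts (algebraMap k K) := by
        rw [lifts_iff_coeff_lifts]
        intro n
        obtain ⟨⟨y, hy⟩, hyn⟩ := h1 n
        obtain ⟨c', hc'⟩ := hk y (IsIntegral.isAlgebraic hy)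
        exact ⟨c', by rw [hc', ← hyn]; rfl⟩
      exact (mem_lifts c).1 h2
    obtain ⟨a₀, ha₀'⟩ := lift a ha ⟨b, hab.symm⟩
    obtain ⟨b₀, hb₀'⟩ := lift b hb ⟨a, by rw [← hab, mul_comm]⟩
    subst ha₀' hb₀'
    have hinj := Polynomial.map_injective _ (algebraMap k K).injective
    have ha₀ : a₀.Monic := Polynomial.monic_of_injective (algebraMap k K).injective ha
    have hb₀ : b₀.Monic := Polynomial.monic_of_injective (algebraMap k K).injective hb
    have h3 : a₀ * b₀ = g := by
      apply hinj
      rw [Polynomial.map_mul, hab]
    rcases hfac a₀ b₀ ha₀ hb₀ h3 with h | h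
    · left; rw [natDegree_map]; exact h
    · right; rw [natDegree_map]; exact h

/-- `k' ⊗ K` is a field when `k'/k` is finite separable and `k` is algebraically closed in `K`. -/
theorem isField_tensor_of_separable
    (hk : ∀ y : K, IsAlgebraic k y → y ∈ Set.range (algebraMap k K))
    (k' : Type u) [Field k'] [Algebra k k'] [FiniteDimensional k k'] [Algebra.IsSeparable k k'] :
    IsField (k' ⊗[k] K) := by
  obtain ⟨α, hα⟩ := Field.exists_primitive_element k k'
  have hint : IsIntegral k α := Algebra.IsIntegral.isIntegral α
  set g := minpoly k α with hg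
  have hgm : g.Monic := minpoly.monic hint
  have hirr : Irreducible (g.map (algebraMap k K)) :=
    irreducible_map hk hgm (minpoly.irreducible hint)
  haveI : Fact (Irreducible (g.map (algebraMap k K))) := ⟨hirr⟩
  set E := AdjoinRoot (g.map (algebraMap k K)) with hE
  have hg0 : g.map (algebraMap k K) ≠ 0 := (hgm.map _).ne_zero
  -- the embedding of `k'`
  have hAtop : Algebra.adjoin k {α} = ⊤ := by
    rw [← adjoin_simple_toSubalgebra_of_isAlgebraic hint.isAlgebraic, hα]
    rfl
  let pb : PowerBasis k k' := PowerBasis.ofAdjoinEqTop hint hAtop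
  have hroot : aeval (AdjoinRoot.root (g.map (algebraMap k K))) (minpoly k pb.gen) = 0 := by
    change aeval (AdjoinRoot.root (g.map (algebraMap k K))) (minpoly k α) = 0
    rw [← hg, ← aeval_map_algebraMap K, AdjoinRoot.aeval_eq, AdjoinRoot.mk_self]
  let fa : k' →ₐ[k] E := pb.lift (AdjoinRoot.root _) hroot
  have hfa : fa α = AdjoinRoot.root (g.map (algebraMap k K)) := pb.lift_gen _ hroot
  let ψ : K ⊗[k] k' →ₐ[K] E := Algebra.TensorProduct.productLeftAlgHom (Algebra.ofId K E) fa
  have hsurj : Function.Surjective ψ := by
    rw [← AlgHom.range_eq_top, eq_top_iff, ← AdjoinRoot.adjoinRoot_eq_top]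
    apply Algebra.adjoin_le
    rw [Set.singleton_subset_iff]
    refine ⟨1 ⊗ₜ α, ?_⟩
    change ψ (1 ⊗ₜ α) = _
    rw [Algebra.TensorProduct.lift_tmul, map_one, one_mul, hfa]
  haveI : FiniteDimensional K E := (AdjoinRoot.powerBasis hg0).finite
  have hdim : Module.finrank K (K ⊗[k] k') = Module.finrank K E := by
    rw [Module.finrank_baseChange, (AdjoinRoot.powerBasis hg0).finrank, AdjoinRoot.powerBasis_dim,
      natDegree_map, pb.finrank]
    rfl
  have hinj : Function.Injective ψ :=
    (LinearMap.injective_iff_surjective_of_finrank_eq_finrank (f := ψ.toLinearMap) hdim).2 hsurj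
  let e : K ⊗[k] k' ≃ₐ[K] E := AlgEquiv.ofBijective ψ ⟨hinj, hsurj⟩
  have h1 : IsField (K ⊗[k] k') := e.toMulEquiv.isField (Field.toIsField E)
  exact (Algebra.TensorProduct.comm k k' K).toMulEquiv.isField h1

/-- S11000: over a perfect field every function field is geometric. -/
theorem isGeometric_of_perfectField [PerfectField k] (hK : IsFunctionField k K) :
    IsGeometric k K := by
  intro k' _ _ hfin
  haveI : FiniteDimensional k k' := hfin
  haveI : Algebra.IsSeparable k k' := Algebra.IsAlgebraic.isSeparable_of_perfectField
  exact isField_tensor_of_separable hK.2 k'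

end Groth.Agent.Lib.Helper63.GeometricPerfect
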