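import Groth.Agent.Lib.Helper63.Approx
import Groth.Prelude.Def_W4bk4goldsch23Ext
import Mathlib.LinearAlgebra.Dimension.Finite
import Mathlib.LinearAlgebra.FiniteDimensional.Basic
import Mathlib.RingTheory.Valuation.Integral
import Mathlib.GroupTheory.Archimedean
import Mathlib.RingTheory.Algebraic.Integral
import Mathlib.RingTheory.Norm.Transitivity
import Mathlib.FieldTheory.Galois.Basic

/-! Places in finite extensions of function fields: finiteness of the places above a place,
uniqueness of the place below, multiplicativity of ramification (helper63). -/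

set_option autoImplicit false

namespace Groth.Agent.Lib.Helper63.FunFldExt

open WithZero Groth.Agent.Lib.Helper63.Approx

local notation "ℤᵐ⁰" => WithZero (Multiplicative ℤ)

section General

variable {K L : Type*} [Field K] [Field L] [Algebra K L]

/-- Distinct surjective valuations of `L` restricting to powers of `v` on `K`: at most `[L:K]`. -/
theorem card_le_finrank_of_over [FiniteDimensional K L] (v : Valuation K ℤᵐ⁰) {ι : Type*}
    [Fintype ι] [DecidableEq ι] (w : ι → Valuation L ℤᵐ⁰) (hw : ∀ i, Function.Surjective (w i))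
    (hinj : Function.Injective w) (e : ι → ℕ)
    (hover : ∀ i x, w i (algebraMap K L x) = v x ^ e i) :
    Fintype.card ι ≤ Module.finrank K L := by
  choose x hx1 hx2 using fun i =>
    exists_eq_one_forall_lt_one w hw hinj i (Finset.univ.erase i) (Finset.notMem_erase i _)
  have hli : LinearIndependent K x := by
    rw [Fintype.linearIndependent_iff]
    intro g hg
    by_contra hne
    push Not at hne
    obtain ⟨j, hj⟩ := hne
    obtain ⟨i₀, -, hmax⟩ := Finset.exists_max_image Finset.univ (fun i => v (g i))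
      ⟨j, Finset.mem_univ j⟩
    have hgi₀ : g i₀ ≠ 0 := by
      intro h0
      have := hmax j (Finset.mem_univ j)
      rw [h0, map_zero] at this
      exact hj ((Valuation.zero_iff v).1 (le_zero_iff.1 this))
    have hvi₀ : v (g i₀) ≠ 0 := (Valuation.ne_zero_iff v).2 hgi₀
    have hsum : ∑ i, (g i / g i₀) • x i = 0 := by
      have : ∀ i, (g i / g i₀) • x i = (g i₀)⁻¹ • (g i • x i) := fun i => by
        rw [div_eq_inv_mul, mul_smul]
      simp_rw [this]
      rw [← Finset.smul_sum, hg, smul_zero]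
    have key := Valuation.map_sum_eq_of_lt (v := w i₀) (s := Finset.univ)
      (f := fun i => (g i / g i₀) • x i) (j := i₀) (Finset.mem_univ _) (by
        intro i hi
        have hii₀ : i ≠ i₀ := by
          intro h
          rw [h] at hi
          simp at hi
        simp only [div_self hgi₀, one_smul, hx1]
        rw [Algebra.smul_def, map_mul, hover]
        have h1 : v (g i / g i₀) ≤ 1 := by
          rw [map_div₀, div_le_one₀ (zero_lt_iff.2 hvi₀)]
          exact hmax i (Finset.mem_univ i)
        have h2 : v (g i / g i₀) ^ e i₀ ≤ 1 := pow_le_one₀ zero_le h1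
        have h3 : w i₀ (x i) < 1 := hx2 i i₀ (Finset.mem_erase.2 ⟨hii₀.symm, Finset.mem_univ _⟩)
        exact lt_of_le_of_lt (mul_le_of_le_one_left' h2) h3)
    simp only [div_self hgi₀, one_smul, hx1] at key
    rw [hsum, map_zero] at key
    exact zero_ne_one key
  exact hli.fintype_card_le_finrank

/-- Finitely many surjective valuations of `L` restrict to powers of `v`. -/
theorem finite_setOf_over [FiniteDimensional K L] (v : Valuation K ℤᵐ⁰) :
    {w : Valuation L ℤᵐ⁰ | Function.Surjective w ∧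
      ∃ e : ℕ, ∀ x, w (algebraMap K L x) = v x ^ e}.Finite := by
  classical
  by_contra hinf
  obtain ⟨t, hts, hcard⟩ := Set.Infinite.exists_subset_card_eq hinf (Module.finrank K L + 1)
  have hmem : ∀ i : t, Function.Surjective (i.1 : Valuation L ℤᵐ⁰) ∧
      ∃ e : ℕ, ∀ x, i.1 (algebraMap K L x) = v x ^ e := fun i => hts i.2
  choose hsurj e he using hmem
  have := card_le_finrank_of_over v (fun i : t => i.1) hsurj Subtype.val_injective e he
  rw [Fintype.card_coe, hcard] at this
  omega

end General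

section Restrict

variable {K L : Type*} [Field K] [Field L] [Algebra K L]

/-- A valuation on `L` that is `≤ 1` on `K` is `≤ 1` on every element algebraic over `K`. -/
theorem val_le_one_of_isIntegral (w : Valuation L ℤᵐ⁰) (h : ∀ x : K, w (algebraMap K L x) ≤ 1)
    {y : L} (hy : IsIntegral K y) : w y ≤ 1 := by
  rw [← (Valuation.integer.integers w).isIntegral_iff_v_le_one]
  obtain ⟨p, hp, hpy⟩ := hy
  let φ : K →+* w.integer := (algebraMap K L).codRestrict w.integer h
  refine ⟨p.map φ, hp.map φ, ?_⟩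
  rw [Polynomial.eval₂_map]
  exact hpy

/-- The normalized restriction of a surjective `ℤᵐ⁰`-valued valuation to a subfield over which
the big field is algebraic. -/
theorem exists_restrict [Algebra.IsAlgebraic K L] (w : Valuation L ℤᵐ⁰)
    (hw : Function.Surjective w) :
    ∃ (v : Valuation K ℤᵐ⁰) (e : ℕ), Function.Surjective v ∧ e ≠ 0 ∧
      (∀ x, w (algebraMap K L x) = v x ^ e) ∧ (∀ x, w (algebraMap K L x) ≤ 1 → v x ≤ 1) := by
  classical
  have hinj : Function.Injective (algebraMap K L) := (algebraMap K L).injective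
  have hw0 : ∀ x : K, x ≠ 0 → w (algebraMap K L x) ≠ 0 := fun x hx =>
    (Valuation.ne_zero_iff w).2 ((map_ne_zero_iff _ hinj).2 hx)
  -- the value group of the restriction
  let H : AddSubgroup ℤ :=
    { carrier := {n | ∃ x : K, x ≠ 0 ∧ w (algebraMap K L x) = exp n}
      zero_mem' := ⟨1, one_ne_zero, by rw [map_one, map_one, exp_zero]⟩
      add_mem' := by
        rintro a b ⟨x, hx, hxa⟩ ⟨y, hy, hyb⟩
        exact ⟨x * y, mul_ne_zero hx hy, by rw [map_mul, map_mul, hxa, hyb, exp_add]⟩
      neg_mem' := by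
        rintro a ⟨x, hx, hxa⟩
        exact ⟨x⁻¹, inv_ne_zero hx, by rw [map_inv₀, map_inv₀, hxa, exp_neg]⟩ }
  have hH : ∀ x : K, x ≠ 0 → log (w (algebraMap K L x)) ∈ H := fun x hx =>
    ⟨x, hx, (exp_log (hw0 x hx)).symm⟩
  obtain ⟨a, ha⟩ := Int.subgroup_cyclic H
  have ha' : H = AddSubgroup.zmultiples (a.natAbs : ℤ) := by
    rw [ha, Int.zmultiples_natAbs, AddSubgroup.zmultiples_eq_closure]
  set e : ℕ := a.natAbs with he
  -- nontriviality
  have he0 : e ≠ 0 := by
    intro h0
    have hHbot : ∀ n ∈ H, n = 0 := by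
      intro n hn
      rw [ha', h0] at hn
      simpa using hn
    have hle : ∀ x : K, w (algebraMap K L x) ≤ 1 := by
      intro x
      obtain rfl | hx := eq_or_ne x 0
      · simp
      · have := hHbot _ (hH x hx)
        rw [← exp_log (hw0 x hx), this, exp_zero]
    obtain ⟨y, hy⟩ := hw (exp 1)
    have := val_le_one_of_isIntegral w hle (Algebra.IsIntegral.isIntegral (R := K) y)
    rw [hy, ← exp_zero, exp_le_exp] at this
    omega
  have hepos : (0 : ℤ) < e := by exact_mod_cast Nat.pos_of_ne_zero he0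
  have hdvd : ∀ x : K, x ≠ 0 → (e : ℤ) ∣ log (w (algebraMap K L x)) := by
    intro x hx
    have := hH x hx
    rw [ha', AddSubgroup.mem_zmultiples_iff] at this
    obtain ⟨m, hm⟩ := this
    exact ⟨m, by rw [← hm, smul_eq_mul, mul_comm]⟩
  obtain ⟨x₁, hx₁0, hx₁⟩ : ∃ x : K, x ≠ 0 ∧ w (algebraMap K L x) = exp (e : ℤ) := by
    have : (e : ℤ) ∈ H := by
      rw [ha']; exact AddSubgroup.mem_zmultiples _
    exact this
  let f : K → ℤᵐ⁰ := fun x => if x = 0 then 0 else exp (log (w (algebraMap K L x)) / (e : ℤ))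
  have hf0 : f 0 = 0 := if_pos rfl
  have hfne : ∀ x, x ≠ 0 → f x = exp (log (w (algebraMap K L x)) / (e : ℤ)) := fun x hx =>
    if_neg hx
  let v : Valuation K ℤᵐ⁰ :=
    { toFun := f
      map_zero' := hf0
      map_one' := by
        rw [hfne 1 one_ne_zero, map_one, map_one, log_one, Int.zero_ediv, exp_zero]
      map_mul' := fun x y => by
        obtain rfl | hx := eq_or_ne x 0
        · rw [zero_mul, hf0, zero_mul]
        obtain rfl | hy := eq_or_ne y 0
        · rw [mul_zero, hf0, mul_zero]
        rw [hfne _ (mul_ne_zero hx hy), hfne x hx, hfne y hy, map_mul, map_mul,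
          log_mul (hw0 x hx) (hw0 y hy), Int.add_ediv_of_dvd_left (hdvd x hx), exp_add]
      map_add_le_max' := fun x y => by
        obtain rfl | hx := eq_or_ne x 0
        · rw [zero_add]; exact le_max_right _ _
        obtain rfl | hy := eq_or_ne y 0
        · rw [add_zero]; exact le_max_left _ _
        obtain hxy | hxy := eq_or_ne (x + y) 0
        · rw [hxy, hf0]; exact zero_le
        have hmono : ∀ z : K, z ≠ 0 → w (algebraMap K L (x + y)) ≤ w (algebraMap K L z) →
            f (x + y) ≤ f z := by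
          intro z hz hle
          rw [hfne _ hxy, hfne z hz, exp_le_exp]
          apply Int.ediv_le_ediv hepos
          rwa [log_le_log (hw0 _ hxy) (hw0 z hz)]
        have := Valuation.map_add w (algebraMap K L x) (algebraMap K L y)
        rw [← map_add, le_max_iff] at this
        rcases this with h | h
        · exact le_max_of_le_left (hmono x hx h)
        · exact le_max_of_le_right (hmono y hy h) }
  have hv : ∀ x, v x = f x := fun x => rfl
  refine ⟨v, e, ?_, he0, ?_, ?_⟩
  · intro y
    obtain rfl | hy := eq_or_ne y 0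
    · exact ⟨0, map_zero v⟩
    refine ⟨x₁ ^ (log y), ?_⟩
    rw [hv, hfne _ (zpow_ne_zero _ hx₁0), map_zpow₀, map_zpow₀, hx₁, ← exp_zsmul, log_exp,
      smul_eq_mul, Int.mul_ediv_cancel _ hepos.ne', exp_log hy]
  · intro x
    obtain rfl | hx := eq_or_ne x 0
    · rw [map_zero, map_zero, map_zero, zero_pow he0]
    rw [hv, hfne x hx, ← exp_nsmul, nsmul_eq_mul, Int.mul_ediv_cancel' (hdvd x hx),
      exp_log (hw0 x hx)]
  · intro x hx1
    obtain rfl | hx := eq_or_ne x 0
    · rw [map_zero]; exact zero_le_one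
    rw [hv, hfne x hx, ← exp_zero, exp_le_exp]
    have : log (w (algebraMap K L x)) ≤ 0 := by
      rw [← log_one, log_le_log (hw0 x hx) one_ne_zero]
      exact hx1
    exact Int.ediv_nonpos_of_nonpos_of_neg this (by omega) |> fun h => h

end Restrict

section Galois

variable {K L : Type*} [Field K] [Field L] [Algebra K L]

/-- In a finite Galois extension, the Galois group acts transitively on the (surjective
`ℤᵐ⁰`-valued) valuations with equivalent restrictions to the base field. -/
theorem exists_algEquiv_comap_eq [FiniteDimensional K L] [IsGalois K L]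
    (w₁ w₂ : Valuation L ℤᵐ⁰) (h₁ : Function.Surjective w₁) (h₂ : Function.Surjective w₂)
    (h : (w₁.comap (algebraMap K L)).IsEquiv (w₂.comap (algebraMap K L))) :
    ∃ σ : L ≃ₐ[K] L, w₁.comap (σ : L →+* L) = w₂ := by
  classical
  by_contra hcon
  push Not at hcon
  let S₁ : Finset (Valuation L ℤᵐ⁰) :=
    Finset.univ.image (fun σ : L ≃ₐ[K] L => w₁.comap (σ : L →+* L))
  let S₂ : Finset (Valuation L ℤᵐ⁰) :=
    Finset.univ.image (fun σ : L ≃ₐ[K] L => w₂.comap (σ : L →+* L))
  have hdisj : ∀ w ∈ S₂, w ∉ S₁ := by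
    intro w hw2 hw1
    obtain ⟨σ, -, rfl⟩ := Finset.mem_image.1 hw1
    obtain ⟨τ, -, hτ⟩ := Finset.mem_image.1 hw2
    apply hcon (τ.symm.trans σ)
    ext x
    have := congrArg (fun u : Valuation L ℤᵐ⁰ => u (τ.symm x)) hτ
    simp only [Valuation.comap_apply] at this
    change w₁ (σ (τ.symm x)) = w₂ x
    refine (this.symm : w₁ (σ (τ.symm x)) = w₂ (τ (τ.symm x))).trans ?_
    exact congrArg w₂ (τ.apply_symm_apply x)
  have hsurj : ∀ w : {w // w ∈ S₁ ∪ S₂}, Function.Surjective (w.1 : Valuation L ℤᵐ⁰) := by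
    rintro ⟨w, hw⟩
    rcases Finset.mem_union.1 hw with hw | hw
    · obtain ⟨σ, -, rfl⟩ := Finset.mem_image.1 hw
      exact fun y => by
        obtain ⟨z, hz⟩ := h₁ y
        exact ⟨σ.symm z, by change w₁ (σ (σ.symm z)) = y; rw [AlgEquiv.apply_symm_apply, hz]⟩
    · obtain ⟨σ, -, rfl⟩ := Finset.mem_image.1 hw
      exact fun y => by
        obtain ⟨z, hz⟩ := h₂ y
        exact ⟨σ.symm z, by change w₂ (σ (σ.symm z)) = y; rw [AlgEquiv.apply_symm_apply, hz]⟩
  obtain ⟨x, hx⟩ := exists_approx (fun w : {w // w ∈ S₁ ∪ S₂} => w.1) hsurj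
    Subtype.val_injective (fun w => if w.1 ∈ S₁ then (1 : L) else 0) (δ := 1) one_ne_zero
  have hx1 : ∀ σ : L ≃ₐ[K] L, w₁ (σ x) = 1 := by
    intro σ
    have hmem : w₁.comap (σ : L →+* L) ∈ S₁ := Finset.mem_image.2 ⟨σ, Finset.mem_univ _, rfl⟩
    have := hx ⟨_, Finset.mem_union_left _ hmem⟩
    simp only [if_pos hmem] at this
    have h1 : (w₁.comap (σ : L →+* L)) (1 + (x - 1)) = 1 := Valuation.map_one_add_of_lt _ this
    rw [add_sub_cancel] at h1
    exact h1
  have hx2 : ∀ σ : L ≃ₐ[K] L, w₂ (σ x) < 1 := by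
    intro σ
    have hmem : w₂.comap (σ : L →+* L) ∈ S₂ := Finset.mem_image.2 ⟨σ, Finset.mem_univ _, rfl⟩
    have := hx ⟨_, Finset.mem_union_right _ hmem⟩
    simp only [if_neg (hdisj _ hmem), sub_zero] at this
    exact this
  have hN := Algebra.norm_eq_prod_automorphisms K x
  have e1 : (w₁.comap (algebraMap K L)) (Algebra.norm K x) = 1 := by
    rw [Valuation.comap_apply, hN, map_prod]
    exact Finset.prod_eq_one fun σ _ => hx1 σ
  have e2 : (w₂.comap (algebraMap K L)) (Algebra.norm K x) < 1 := by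
    rw [Valuation.comap_apply, hN, map_prod]
    rw [← Finset.mul_prod_erase Finset.univ _ (Finset.mem_univ (1 : L ≃ₐ[K] L))]
    calc w₂ ((1 : L ≃ₐ[K] L) x) * ∏ σ ∈ Finset.univ.erase (1 : L ≃ₐ[K] L), w₂ (σ x)
        ≤ w₂ ((1 : L ≃ₐ[K] L) x) * 1 :=
          mul_le_mul_right (Finset.prod_le_one' fun σ _ => (hx2 σ).le) _
      _ < 1 := by rw [mul_one]; exact hx2 1
  rw [(Valuation.isEquiv_iff_val_eq_one.1 h).1 e1] at e2
  exact lt_irrefl _ e2

end Galois

section Places

open FunFld

variable {k K K' : Type*} [Field k] [Field K] [Field K'] [Algebra k K] [Algebra K K'] [Algebra k K']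

theorem place_ext {P P' : Place k K} (h : ∀ x, P.1 x = P'.1 x) : P = P' :=
  Subtype.ext (Valuation.ext h)

theorem exists_val_eq_exp (P : Place k K) (n : ℤ) : ∃ x : K, P.1 x = exp n := P.2.2 (exp n)

theorem finite_setOf_isOver [FiniteDimensional K K'] (P : Place k K) :
    {Q : Place k K' | IsOver Q P}.Finite := by
  have h := finite_setOf_over (L := K') P.1
  refine (h.preimage (Subtype.val_injective.injOn)).subset ?_
  intro Q hQ
  obtain ⟨e, he⟩ := hQ
  exact ⟨Q.2.2, e, he⟩

theorem isOverWith_ne_zero {Q : Place k K'} {P : Place k K} {e : ℕ} (h : IsOverWith Q P e) :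
    e ≠ 0 := by
  rintro rfl
  have := h 0
  rw [map_zero, map_zero, pow_zero] at this
  exact zero_ne_one this

theorem isOverWith_unique {Q : Place k K'} {P : Place k K} {e e' : ℕ} (h : IsOverWith Q P e)
    (h' : IsOverWith Q P e') : e = e' := by
  obtain ⟨x, hx⟩ := exists_val_eq_exp P 1
  have h1 := h x
  have h2 := h' x
  rw [hx, ← exp_nsmul] at h1 h2
  have := h1.symm.trans h2
  rw [exp_inj] at this
  simpa using this

open scoped Classical in
theorem ramIdx_eq {Q : Place k K'} {P : Place k K} {e : ℕ} (h : IsOverWith Q P e) :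
    ramIdx Q P = e := by
  have hov : IsOver Q P := ⟨e, h⟩
  unfold ramIdx
  rw [dif_pos hov]
  exact isOverWith_unique (Nat.find_spec hov) h

theorem isOverWith_ramIdx {Q : Place k K'} {P : Place k K} (h : IsOver Q P) :
    IsOverWith Q P (ramIdx Q P) := by
  obtain ⟨e, he⟩ := h
  rw [ramIdx_eq he]
  exact he

/-- If `Q^e₁ = P^e` on `K` (as functions, via a common `R`), then `Q` lies over `P`. -/
theorem isOverWith_of_pow_eq {Q : Place k K'} {P : Place k K} {e₁ e : ℕ} (he₁ : e₁ ≠ 0)
    (h : ∀ x : K, Q.1 (algebraMap K K' x) ^ e₁ = P.1 x ^ e) :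
    ∃ m : ℕ, IsOverWith Q P m ∧ e₁ * m = e := by
  obtain ⟨x₀, hx₀⟩ := exists_val_eq_exp P 1
  have h0 := h x₀
  rw [hx₀, ← exp_nsmul] at h0
  have hq0 : Q.1 (algebraMap K K' x₀) ≠ 0 := by
    intro hz
    rw [hz, zero_pow he₁] at h0
    exact exp_ne_zero h0.symm
  obtain ⟨m, hm⟩ : ∃ m : ℤ, Q.1 (algebraMap K K' x₀) = exp m := ⟨_, (exp_log hq0).symm⟩
  rw [hm, ← exp_nsmul, exp_inj] at h0
  simp only [nsmul_eq_mul, mul_one] at h0
  have hmpos : 0 ≤ m := by
    by_contra hneg
    push Not at hneg
    have : (e₁ : ℤ) * m < 0 := mul_neg_of_pos_of_neg (by exact_mod_cast Nat.pos_of_ne_zero he₁) hneg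
    omega
  obtain ⟨n, rfl⟩ := Int.eq_ofNat_of_zero_le hmpos
  have hen : e₁ * n = e := by exact_mod_cast h0
  refine ⟨n, fun x => ?_, hen⟩
  have hx := h x
  rw [← hen, pow_mul'] at hx
  exact (pow_left_inj₀ zero_le zero_le he₁).1 hx

/-- The place below is unique. -/
theorem isOver_unique_below {Q : Place k K'} {P P' : Place k K} (h : IsOver Q P)
    (h' : IsOver Q P') : P = P' := by
  obtain ⟨e, he⟩ := h
  obtain ⟨e', he'⟩ := h'
  have he0 := isOverWith_ne_zero he
  have he'0 := isOverWith_ne_zero he'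
  have hpow : ∀ x, P.1 x ^ e = P'.1 x ^ e' := fun x => (he x).symm.trans (he' x)
  -- compare value groups
  obtain ⟨x, hx⟩ := exists_val_eq_exp P 1
  obtain ⟨y, hy⟩ := exists_val_eq_exp P' 1
  have h1 := hpow x
  have h2 := hpow y
  rw [hx, ← exp_nsmul] at h1
  rw [hy, ← exp_nsmul] at h2
  have hx' : P'.1 x ≠ 0 := by
    intro hz; rw [hz, zero_pow he'0] at h1; exact exp_ne_zero h1
  have hy' : P.1 y ≠ 0 := by
    intro hz; rw [hz, zero_pow he0] at h2; exact exp_ne_zero h2.symm
  obtain ⟨m, hm⟩ : ∃ m : ℤ, P'.1 x = exp m := ⟨_, (exp_log hx').symm⟩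
  obtain ⟨m', hm'⟩ : ∃ m : ℤ, P.1 y = exp m := ⟨_, (exp_log hy').symm⟩
  rw [hm, ← exp_nsmul, exp_inj] at h1
  rw [hm', ← exp_nsmul, exp_inj] at h2
  simp only [nsmul_eq_mul, mul_one] at h1 h2
  -- e = e' * m, e * m' = e'
  have hee' : e = e' := by
    have hepos : (0 : ℤ) < e := by exact_mod_cast Nat.pos_of_ne_zero he0
    have he'pos : (0 : ℤ) < e' := by exact_mod_cast Nat.pos_of_ne_zero he'0
    have hmm' : m * m' = 1 := by
      have : (e : ℤ) * (m * m') = e * 1 := by
        calc (e : ℤ) * (m * m') = (e * m') * m := by ring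
          _ = e' * m := by rw [h2]
          _ = e * 1 := by rw [← h1]; ring
      exact mul_left_cancel₀ hepos.ne' this
    have hmpos : 0 < m := by
      by_contra hneg
      push Not at hneg
      have : (e' : ℤ) * m ≤ 0 := mul_nonpos_of_nonneg_of_nonpos he'pos.le hneg
      omega
    have hm1 : m = 1 := by
      rcases Int.eq_one_or_neg_one_of_mul_eq_one hmm' with h | h
      · exact h
      · omega
    rw [hm1, mul_one] at h1
    exact_mod_cast h1
  subst hee'
  exact place_ext fun z => (pow_left_inj₀ zero_le zero_le he0).1 (hpow z)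

variable {K'' : Type*} [Field K''] [Algebra K' K''] [Algebra K K''] [Algebra k K'']
  [IsScalarTower K K' K'']

theorem isOverWith_trans {R : Place k K''} {Q : Place k K'} {P : Place k K} {e₁ e₂ : ℕ}
    (h₁ : IsOverWith R Q e₁) (h₂ : IsOverWith Q P e₂) : IsOverWith R P (e₂ * e₁) := by
  intro x
  rw [IsScalarTower.algebraMap_apply K K' K'', h₁, h₂, pow_mul]

theorem isOver_trans {R : Place k K''} {Q : Place k K'} {P : Place k K}
    (h₁ : IsOver R Q) (h₂ : IsOver Q P) : IsOver R P := by
  obtain ⟨e₁, h₁⟩ := h₁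
  obtain ⟨e₂, h₂⟩ := h₂
  exact ⟨_, isOverWith_trans h₁ h₂⟩

theorem ramIdx_trans {R : Place k K''} {Q : Place k K'} {P : Place k K}
    (h₁ : IsOver R Q) (h₂ : IsOver Q P) : ramIdx R P = ramIdx Q P * ramIdx R Q :=
  ramIdx_eq (isOverWith_trans (isOverWith_ramIdx h₁) (isOverWith_ramIdx h₂))

/-- If `R` lies over `P` and over `Q`, then `Q` lies over `P`. -/
theorem isOver_of_isOver_of_isOver {R : Place k K''} {Q : Place k K'} {P : Place k K}
    (h : IsOver R P) (h₁ : IsOver R Q) : IsOver Q P := by
  obtain ⟨e, he⟩ := h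
  obtain ⟨e₁, he₁⟩ := h₁
  obtain ⟨m, hm, -⟩ := isOverWith_of_pow_eq (Q := Q) (P := P) (isOverWith_ne_zero he₁) (e := e)
    (fun x => by rw [← he₁, ← IsScalarTower.algebraMap_apply K K' K'', he])
  exact ⟨m, hm⟩

end Places

section Conorm

open FunFld

variable {k K K' : Type*} [Field k] [Field K] [Field K'] [Algebra k K] [Algebra K K'] [Algebra k K']

/-- Every place of a big field algebraic over `K` lies over a place of `K`. -/
theorem exists_isOver_below [IsScalarTower k K K'] [Algebra.IsAlgebraic K K'] (Q : Place k K') :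
    ∃ P : Place k K, IsOver Q P := by
  obtain ⟨v, e, hsurj, -, hover, hle⟩ := exists_restrict (K := K) (L := K') Q.1 Q.2.2
  refine ⟨⟨v, fun c => hle _ ?_, hsurj⟩, e, hover⟩
  rw [← IsScalarTower.algebraMap_apply]
  exact Q.2.1 c

variable (K') in
/-- The conorm of a single place. -/
noncomputable def cN [FiniteDimensional K K'] (P : Place k K) : Divisor k K' :=
  (finite_setOf_isOver (K' := K') P).toFinset.sum
    (fun Q => (ramIdx Q P : ℤ) • Finsupp.single Q (1 : ℤ))

variable (K') in
/-- The conorm as an additive map. -/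
noncomputable def conormHom [FiniteDimensional K K'] : Divisor k K →+ Divisor k K' :=
  Finsupp.liftAddHom (fun P => zmultiplesHom (Divisor k K') (cN K' P))

theorem conorm_eq_conormHom [FiniteDimensional K K'] (D : Divisor k K) :
    conorm K' D = conormHom K' D := by
  classical
  unfold conorm conormHom
  rw [Finsupp.liftAddHom_apply]
  apply Finsupp.sum_congr
  intro P _
  rw [dif_pos (finite_setOf_isOver (K' := K') P)]
  rfl

theorem conormHom_single [FiniteDimensional K K'] (P : Place k K) (n : ℤ) :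
    conormHom K' (Finsupp.single P n) = n • cN K' P := by
  unfold conormHom
  rw [Finsupp.liftAddHom_apply_single]
  rfl

variable {K'' : Type*} [Field K''] [Algebra K' K''] [Algebra K K''] [Algebra k K'']
  [IsScalarTower K K' K''] [IsScalarTower k K' K'']

theorem cN_trans [FiniteDimensional K K'] [FiniteDimensional K' K''] [FiniteDimensional K K'']
    (P : Place k K) :
    (finite_setOf_isOver (K' := K') P).toFinset.sum (fun Q => (ramIdx Q P : ℤ) • cN K'' Q) =
      cN K'' P := by
  classical
  unfold cN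
  have h1 : ∀ Q ∈ (finite_setOf_isOver (K' := K') P).toFinset,
      (ramIdx Q P : ℤ) • (finite_setOf_isOver (K' := K'') Q).toFinset.sum
        (fun R => (ramIdx R Q : ℤ) • Finsupp.single R (1 : ℤ)) =
      (finite_setOf_isOver (K' := K'') Q).toFinset.sum
        (fun R => (ramIdx R P : ℤ) • Finsupp.single R (1 : ℤ)) := by
    intro Q hQ
    rw [Set.Finite.mem_toFinset] at hQ
    rw [Finset.smul_sum]
    apply Finset.sum_congr rfl
    intro R hR
    rw [Set.Finite.mem_toFinset] at hR
    rw [smul_smul, ramIdx_trans hR hQ]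
    push_cast
    rfl
  rw [Finset.sum_congr rfl h1, ← Finset.sum_biUnion]
  · apply Finset.sum_congr _ (fun _ _ => rfl)
    ext R
    simp only [Finset.mem_biUnion, Set.Finite.mem_toFinset, Set.mem_ofPred_eq]
    constructor
    · rintro ⟨Q, hQ, hR⟩
      exact isOver_trans hR hQ
    · intro hR
      have : Algebra.IsAlgebraic K' K'' := Algebra.IsAlgebraic.of_finite K' K''
      obtain ⟨Q, hQ⟩ := exists_isOver_below (K := K') R
      exact ⟨Q, isOver_of_isOver_of_isOver hR hQ, hQ⟩
  · intro Q₁ _ Q₂ _ hne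
    rw [Function.onFun, Finset.disjoint_left]
    intro R hR₁ hR₂
    rw [Set.Finite.mem_toFinset] at hR₁ hR₂
    exact hne (isOver_unique_below hR₁ hR₂)

theorem conormHom_conormHom [FiniteDimensional K K'] [FiniteDimensional K' K'']
    [FiniteDimensional K K''] :
    (conormHom (k := k) K'').comp (conormHom (k := k) (K := K) K') = conormHom K'' := by
  apply Finsupp.addHom_ext
  intro P n
  rw [AddMonoidHom.comp_apply, conormHom_single, conormHom_single, map_zsmul]
  congr 1
  unfold cN
  rw [map_sum]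
  have : ∀ Q ∈ (finite_setOf_isOver (K' := K') P).toFinset,
      conormHom K'' ((ramIdx Q P : ℤ) • Finsupp.single Q (1 : ℤ)) = (ramIdx Q P : ℤ) • cN K'' Q := by
    intro Q _
    rw [map_zsmul, conormHom_single, one_smul]
  rw [Finset.sum_congr rfl this]
  exact cN_trans P

theorem conorm_conorm [FiniteDimensional K K'] [FiniteDimensional K' K'']
    (D : Divisor k K) :
    haveI : FiniteDimensional K K'' := FiniteDimensional.trans K K' K''
    conorm K'' (conorm K' D) = conorm K'' D := by
  have : FiniteDimensional K K'' := FiniteDimensional.trans K K' K''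
  rw [conorm_eq_conormHom, conorm_eq_conormHom, conorm_eq_conormHom, ← AddMonoidHom.comp_apply,
    conormHom_conormHom]

end Conorm

end Groth.Agent.Lib.Helper63.FunFldExt
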