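import Groth.Agent.Lib.Helper63.SepGen
import Groth.Agent.Lib.Helper63.FunFldExt
import Groth.Prelude.Def_LocRes

/-! Local computations with Laurent expansions: orders of derivatives, independence of the
different exponent from the differential (helper63). -/

set_option autoImplicit false
set_option linter.style.haveILetI false
set_option linter.unusedSectionVars false

namespace Groth.Agent.Lib.Helper63.LocResBasic

open LaurentSeries HahnSeries WithZero

section Laurent

variable {F : Type*} [Field F]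

theorem val_eq_exp_iff {f : F⸨X⸩} {D : ℤ} :
    Valued.v f = exp (-D) ↔ (∀ n : ℤ, n < D → f.coeff n = 0) ∧ f.coeff D ≠ 0 := by
  constructor
  · intro h
    refine ⟨(valuation_le_iff_coeff_lt_eq_zero F).1 h.le, fun h0 => ?_⟩
    have h1 : Valued.v f ≤ exp (-(D + 1)) := by
      rw [valuation_le_iff_coeff_lt_eq_zero]
      intro n hn
      rcases (Int.lt_add_one_iff.1 hn).lt_or_eq with h' | h'
      · exact (valuation_le_iff_coeff_lt_eq_zero F).1 h.le n h'
      · rw [h']; exact h0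
    rw [h, exp_le_exp] at h1
    omega
  · rintro ⟨h1, h2⟩
    refine le_antisymm ((valuation_le_iff_coeff_lt_eq_zero F).2 h1) ?_
    by_contra hlt
    rw [not_le] at hlt
    have hf0 : Valued.v f ≠ 0 := by
      intro h0
      rw [Valuation.zero_iff] at h0
      rw [h0] at h2
      exact h2 rfl
    obtain ⟨m, hm⟩ : ∃ m : ℤ, Valued.v f = exp m := ⟨log (Valued.v f), (exp_log hf0).symm⟩
    rw [hm, exp_lt_exp] at hlt
    have h3 : Valued.v f ≤ exp (-(D + 1)) := by
      rw [hm, exp_le_exp]; omega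
    exact h2 ((valuation_le_iff_coeff_lt_eq_zero F).1 h3 D (by omega))

theorem val_D_le {f : F⸨X⸩} {D : ℤ} (h : Valued.v f ≤ exp (-D)) :
    Valued.v (LocRes.D F f) ≤ exp (-(D - 1)) := by
  rw [valuation_le_iff_coeff_lt_eq_zero] at h ⊢
  intro n hn
  rw [LocRes.D_coeff, h (n + 1) (by omega), smul_zero]

theorem val_D_eq {f : F⸨X⸩} {D : ℤ} (h : Valued.v f = exp (-D)) (hD : (D : F) ≠ 0) :
    Valued.v (LocRes.D F f) = exp (-(D - 1)) := by
  rw [val_eq_exp_iff] at h ⊢
  refine ⟨fun n hn => ?_, ?_⟩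
  · rw [LocRes.D_coeff, h.1 (n + 1) (by omega), smul_zero]
  · rw [LocRes.D_coeff, sub_add_cancel, zsmul_eq_mul]
    exact mul_ne_zero hD h.2

theorem val_D_le_of_cast_eq_zero {f : F⸨X⸩} {D : ℤ} (h : Valued.v f ≤ exp (-D))
    (hD : (D : F) = 0) : Valued.v (LocRes.D F f) ≤ exp (-D) := by
  rw [valuation_le_iff_coeff_lt_eq_zero] at h ⊢
  intro n hn
  rw [LocRes.D_coeff]
  rcases (Int.add_one_le_iff.2 hn).lt_or_eq with h' | h'
  · rw [h (n + 1) h', smul_zero]
  · rw [h', zsmul_eq_mul, hD, zero_mul]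

end Laurent


section Expansion

variable {k : Type*} {K : Type*} {F : Type*} [Field k] [Field K] [Field F] [Algebra k K]
  [Algebra k F]

/-- A linear relation between differentials is carried to the derivatives of expansions. -/
theorem D_exp_eq (φ : K →ₐ[k] F⸨X⸩) {x y g : K}
    (h : KaehlerDifferential.D k K y = g • KaehlerDifferential.D k K x) :
    LocRes.D F (φ y) = φ g * LocRes.D F (φ x) := by
  letI := φ.toRingHom.toAlgebra
  haveI : IsScalarTower k K F⸨X⸩ := LocRes.isScalarTower_exp φ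
  have h1 := congrArg (LocRes.dExp φ).liftKaehlerDifferential h
  rw [map_smul, Derivation.liftKaehlerDifferential_comp_D,
    Derivation.liftKaehlerDifferential_comp_D] at h1
  exact h1

theorem vDiff_one (φ : K →ₐ[k] F⸨X⸩) (x : K) :
    LocRes.vDiff φ 1 x = Valued.v (LocRes.D F (φ x)) := by
  rw [LocRes.vDiff, map_one, one_mul]

theorem ordDiff_one (φ : K →ₐ[k] F⸨X⸩) (x : K) :
    LocRes.ordDiff φ 1 x = - log (Valued.v (LocRes.D F (φ x))) := by
  rw [LocRes.ordDiff, vDiff_one]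

theorem D_ne_zero_of_vDiff_ne_zero (φ : K →ₐ[k] F⸨X⸩) {x : K} (hx : LocRes.vDiff φ 1 x ≠ 0) :
    KaehlerDifferential.D k K x ≠ 0 := by
  intro h0
  apply hx
  have h : KaehlerDifferential.D k K x = (0 : K) • KaehlerDifferential.D k K x := by
    rw [h0, smul_zero]
  rw [vDiff_one, D_exp_eq φ h, map_zero, zero_mul, map_zero]

/-- The residue of `u dv` vanishes when `u` and `v` are integral. -/
theorem resExp_eq_zero_of_le_one (w : Valuation K ℤᵐ⁰) (φ : K →ₐ[k] F⸨X⸩)
    (hφ : ∀ f : K, Valued.v (φ f) = w f) {u v : K} (hu : w u ≤ 1) (hv : w v ≤ 1) :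
    LocRes.resExp φ u v = 0 := by
  have h1 : Valued.v (φ u) ≤ exp (-(0 : ℤ)) := by rw [hφ]; simpa using hu
  have h2 : Valued.v (φ v) ≤ exp (-(0 : ℤ)) := by rw [hφ]; simpa using hv
  have h3 := val_D_le_of_cast_eq_zero h2 (by simp)
  have h4 : Valued.v (φ u * LocRes.D F (φ v)) ≤ exp (-(0 : ℤ)) := by
    rw [map_mul]
    calc Valued.v (φ u) * Valued.v (LocRes.D F (φ v)) ≤ exp (-(0 : ℤ)) * exp (-(0 : ℤ)) :=
          mul_le_mul' h1 h3
      _ = exp (-(0 : ℤ)) := by simp
  rw [LocRes.resExp, LocRes.res_apply]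
  exact (valuation_le_iff_coeff_lt_eq_zero F).1 h4 (-1) (by norm_num)

end Expansion

section Different

variable {k : Type*} {K : Type*} {K' : Type*} {F : Type*} {F' : Type*} [Field k] [Field K]
  [Field K'] [Field F] [Field F'] [Algebra k K] [Algebra K K'] [Algebra k K']
  [IsScalarTower k K K'] [Algebra k F] [Algebra k F']

theorem D_exp_eq' (ψ : K' →ₐ[k] F'⸨X⸩) {x y g : K}
    (h : KaehlerDifferential.D k K y = g • KaehlerDifferential.D k K x) :
    LocRes.D F' (ψ (algebraMap K K' y)) =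
      ψ (algebraMap K K' g) * LocRes.D F' (ψ (algebraMap K K' x)) :=
  D_exp_eq (ψ.comp (IsScalarTower.toAlgHom k K K')) h

/-- The different exponent is the same for two proportional differentials. -/
theorem diffExp_eq_of_smul (w : Valuation K ℤᵐ⁰) (w' : Valuation K' ℤᵐ⁰) (e : ℕ)
    (he : ∀ z : K, w' (algebraMap K K' z) = w z ^ e)
    (φ : K →ₐ[k] F⸨X⸩) (hφ : ∀ f : K, Valued.v (φ f) = w f)
    (ψ : K' →ₐ[k] F'⸨X⸩) (hψ : ∀ f : K', Valued.v (ψ f) = w' f)
    {x x' g : K} (h : KaehlerDifferential.D k K x' = g • KaehlerDifferential.D k K x)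
    (hx : LocRes.vDiff φ 1 x ≠ 0) (hx' : LocRes.vDiff ψ 1 (algebraMap K K' x) ≠ 0)
    (hx2 : LocRes.vDiff φ 1 x' ≠ 0) :
    LocRes.diffExp φ ψ e x' = LocRes.diffExp φ ψ e x := by
  have h1 := D_exp_eq φ h
  have h2 := D_exp_eq' ψ h
  rw [vDiff_one] at hx hx' hx2
  have hg : w g ≠ 0 := by
    intro h0
    apply hx2
    rw [h1, map_mul, hφ, h0, zero_mul]
  rw [LocRes.diffExp, LocRes.diffExp, ordDiff_one, ordDiff_one, ordDiff_one, ordDiff_one, h1, h2,
    map_mul, map_mul, hφ, hψ, he, log_mul hg hx, log_mul (pow_ne_zero e hg) hx', log_pow]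
  simp only [nsmul_eq_mul]
  ring

/-- The derivative of the expansion of a uniformizer has order zero. -/
theorem val_D_uniformizer (w : Valuation K ℤᵐ⁰) (φ : K →ₐ[k] F⸨X⸩)
    (hφ : ∀ f : K, Valued.v (φ f) = w f) {t : K} (ht : w t = exp (-1)) :
    Valued.v (LocRes.D F (φ t)) = 1 := by
  have h1 : Valued.v (φ t) = exp (-(1 : ℤ)) := by rw [hφ, ht]
  have h2 := val_D_eq h1 (by simp)
  simpa using h2

theorem cast_eq_zero_iff_ringChar_dvd (k K F' : Type*) [Field k] [Field K] [Field F']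
    [Algebra k K] [Algebra k F'] (e : ℕ) : ((e : ℤ) : F') = 0 ↔ ringChar K ∣ e := by
  rw [Int.cast_natCast, ← Algebra.ringChar_eq k K, Algebra.ringChar_eq k F', ringChar.spec]

/-- Tame and wild ramification: the different exponent computed on `dx`. -/
theorem diffExp_tame_wild (w : Valuation K ℤᵐ⁰) (w' : Valuation K' ℤᵐ⁰) (e : ℕ)
    (he : ∀ z : K, w' (algebraMap K K' z) = w z ^ e)
    (φ : K →ₐ[k] F⸨X⸩) (hφ : ∀ f : K, Valued.v (φ f) = w f)
    (ψ : K' →ₐ[k] F'⸨X⸩) (hψ : ∀ f : K', Valued.v (ψ f) = w' f)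
    {x t g : K} (ht : w t = exp (-1))
    (h : KaehlerDifferential.D k K t = g • KaehlerDifferential.D k K x)
    (hx : LocRes.vDiff φ 1 x ≠ 0) (hx' : LocRes.vDiff ψ 1 (algebraMap K K' x) ≠ 0) :
    (¬ (ringChar K ∣ e) → LocRes.diffExp φ ψ e x = (e : ℤ) - 1) ∧
    (ringChar K ∣ e → (e : ℤ) ≤ LocRes.diffExp φ ψ e x) := by
  have ht1 := val_D_uniformizer w φ hφ ht
  have hx2 : LocRes.vDiff φ 1 t ≠ 0 := by rw [vDiff_one, ht1]; exact one_ne_zero
  have heq := diffExp_eq_of_smul w w' e he φ hφ ψ hψ h hx hx' hx2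
  rw [← heq, LocRes.diffExp, ordDiff_one, ordDiff_one, ht1, log_one, neg_zero, mul_zero, sub_zero]
  have hvt : Valued.v (ψ (algebraMap K K' t)) = exp (-(e : ℤ)) := by
    rw [hψ, he, ht, ← exp_nsmul]; simp
  -- the derivative above is nonzero
  have hne : Valued.v (LocRes.D F' (ψ (algebraMap K K' t))) ≠ 0 := by
    have h2 := D_exp_eq' ψ h
    rw [vDiff_one] at hx'
    have hg : w g ≠ 0 := by
      intro h0
      rw [vDiff_one, D_exp_eq φ h, map_mul, hφ, h0, zero_mul] at hx2
      exact hx2 rfl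
    rw [h2, map_mul, hψ, he]
    exact mul_ne_zero (pow_ne_zero e hg) hx'
  constructor
  · intro hchar
    have hcast : ((e : ℤ) : F') ≠ 0 := fun h0 =>
      hchar ((cast_eq_zero_iff_ringChar_dvd k K F' e).1 h0)
    rw [val_D_eq hvt hcast, log_exp]
    ring
  · intro hchar
    have hcast : ((e : ℤ) : F') = 0 :=
      (cast_eq_zero_iff_ringChar_dvd k K F' e).2 hchar
    have hle := val_D_le_of_cast_eq_zero hvt.le hcast
    have := (log_le_log hne (by simp)).2 hle
    rw [log_exp] at this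
    omega

end Different

end Groth.Agent.Lib.Helper63.LocResBasic
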