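import Groth.Agent.Lib.Helper63.ConstField
import Mathlib.RingTheory.Flat.Basic
import Mathlib.RingTheory.TensorProduct.Finite
import Mathlib.RingTheory.IntegralClosure.IsIntegralClosure.Basic

/-! Geometric function fields: intermediate fields (helper63). -/

set_option autoImplicit false
set_option linter.style.haveILetI false
set_option linter.unusedSectionVars false

namespace Groth.Agent.Lib.Helper63.Geometric

open IntermediateField FunFld TensorProduct Groth.Agent.Lib.Helper55
  Groth.Agent.Lib.Helper63.ConstField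

universe u v

variable {k : Type u} {K : Type v} [Field k] [Field K] [Algebra k K]

/-- A subfield of a field `K` with `k' ⊗ K` a field also has `k' ⊗ K₀` a field. -/
theorem isField_tensor_of_le (K₀ : IntermediateField k K) (k' : Type u) [Field k'] [Algebra k k']
    [FiniteDimensional k k'] (h : IsField (k' ⊗[k] K)) : IsField (k' ⊗[k] K₀) := by
  letI := h.toField
  let φ : k' ⊗[k] K₀ →ₐ[k] k' ⊗[k] K := Algebra.TensorProduct.map (AlgHom.id k k') K₀.val
  have hφ : Function.Injective φ := by
    have h1 : (φ : k' ⊗[k] K₀ → k' ⊗[k] K) = LinearMap.lTensor k' K₀.val.toLinearMap := by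
      ext t
      induction t using TensorProduct.induction_on with
      | zero => simp
      | tmul a b => rfl
      | add a b ha hb => simp only [map_add, ha, hb]
    rw [h1]
    exact Module.Flat.lTensor_preserves_injective_linearMap _ K₀.val.injective
  haveI : IsDomain (k' ⊗[k] K₀) := hφ.isDomain φ.toRingHom
  -- swap to use the left algebra structure
  let e : K₀ ⊗[k] k' ≃ₐ[k] k' ⊗[k] K₀ := Algebra.TensorProduct.comm k K₀ k'
  haveI : IsDomain (K₀ ⊗[k] k') := e.toMulEquiv.isDomain
  haveI : Module.Finite K₀ (K₀ ⊗[k] k') := inferInstance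
  haveI : Algebra.IsIntegral K₀ (K₀ ⊗[k] k') := Algebra.IsIntegral.of_finite K₀ _
  have h2 : IsField (K₀ ⊗[k] k') := by
    have := isField_of_isIntegral_of_isField' (R := K₀) (S := K₀ ⊗[k] k') (Field.toIsField K₀)
    exact ⟨this.exists_pair_ne, this.mul_comm, this.mul_inv_cancel⟩
  exact e.symm.toMulEquiv.isField h2

/-- S11005: intermediate fields of geometric function fields. -/
theorem intermediateField (hK : IsFunctionField k K) (hg : IsGeometric k K)
    (K₀ : IntermediateField k K) (h₀ : ∃ x ∈ K₀, Transcendental k x) :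
    IsFunctionField k K₀ ∧ IsGeometric k K₀ := by
  obtain ⟨x, hxK₀, hx⟩ := h₀
  refine ⟨⟨⟨⟨x, hxK₀⟩, ?_, ?_⟩, ?_⟩, ?_⟩
  · exact (transcendental_algebraMap_iff (A := K) K₀.val.injective).1 hx
  · haveI : FiniteDimensional k⟮algebraMap K₀ K ⟨x, hxK₀⟩⟯ K :=
      ff_finite_of_transcendental hK hx
    have h1 := finrank_adjoin_map (k := k) (K := K₀) (K' := K) ⟨x, hxK₀⟩
    have h2 : 0 < Module.finrank k⟮algebraMap K₀ K ⟨x, hxK₀⟩⟯ K := Module.finrank_pos
    rw [h1] at h2
    exact Module.finite_of_finrank_pos (Nat.pos_of_mul_pos_right h2)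
  · intro y hy
    have hy' : IsAlgebraic k (y : K) := (isAlgebraic_algebraMap_iff (A := K) K₀.val.injective).2 hy
    obtain ⟨c, hc⟩ := hK.2 _ hy'
    exact ⟨c, Subtype.ext hc⟩
  · intro k' _ _ hfin
    exact isField_tensor_of_le K₀ k' (hg k' hfin)

end Groth.Agent.Lib.Helper63.Geometric
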