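import Groth.Agent.Lib.Helper63.SepGen
import Groth.Agent.Lib.Helper63.GeometricPerfect
import Mathlib.GroupTheory.CosetCover
import Mathlib.FieldTheory.PrimitiveElement

/-! Separating variables inside a generating subspace (helper63). -/

set_option autoImplicit false
set_option linter.style.haveILetI false
set_option linter.unusedSectionVars false

namespace Groth.Agent.Lib.Helper63.SepVar

open IntermediateField FunFld Groth.Agent.Lib.Helper55 Groth.Agent.Lib.Helper63.SepGen

universe u v

variable {k : Type u} {K : Type v} [Field k] [Field K] [Algebra k K]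

theorem essFiniteType (hK : IsFunctionField k K) : Algebra.EssFiniteType k K := by
  obtain ⟨⟨x, hx, hfin⟩, -⟩ := hK
  haveI := hfin
  haveI : Algebra.EssFiniteType k k⟮x⟯ :=
    IntermediateField.essFiniteType_iff.2 ⟨{x}, by simp⟩
  exact Algebra.EssFiniteType.comp k k⟮x⟯ K

/-- `dx ≠ 0` implies `x` separating, in a geometric function field. -/
theorem isSeparable_of_D_ne_zero (hK : IsFunctionField k K) (hg : IsGeometric k K) {x : K}
    (hx : KaehlerDifferential.D k K x ≠ 0) : Algebra.IsSeparable k⟮x⟯ K := by
  haveI := essFiniteType hK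
  apply Groth.Agent.Lib.Helper86.isSeparable_of_span_D_eq_top k⟮x⟯ {x}
    (Set.singleton_subset_iff.2 (mem_adjoin_simple_self k x))
  rw [Set.image_singleton, eq_top_iff, ← KaehlerDifferential.span_range_derivation,
    Submodule.span_le]
  rintro _ ⟨y, rfl⟩
  obtain ⟨g, hg'⟩ := exists_smul_D_eq hK hg hx y
  rw [hg']
  exact Submodule.smul_mem _ _ (Submodule.subset_span rfl)

/-- Some differential is nonzero in a geometric function field. -/
theorem exists_D_ne_zero (hK : IsFunctionField k K) (hg : IsGeometric k K) :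
    ∃ x : K, KaehlerDifferential.D k K x ≠ 0 := by
  obtain ⟨x₀, hx₀, hsep⟩ := exists_separating hK hg
  have hai : AlgebraicIndependent k (fun _ : Unit => x₀) :=
    algebraicIndependent_unique_type_iff.2 hx₀
  haveI : Algebra.IsSeparable (adjoin k (Set.range fun _ : Unit => x₀)) K := by
    rw [Set.range_const]; exact hsep
  obtain ⟨b, hb⟩ := Groth.Agent.Lib.Helper86.exists_basis_D_of_isSeparable
    (fun _ : Unit => x₀) hai
  exact ⟨x₀, by rw [← hb ()]; exact b.ne_zero ()⟩

/-- A generating set contains an element with nonzero differential. -/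
theorem exists_mem_D_ne_zero (hK : IsFunctionField k K) (hg : IsGeometric k K) (S : Set K)
    (hS : adjoin k S = ⊤) : ∃ x ∈ S, KaehlerDifferential.D k K x ≠ 0 := by
  by_contra hcon
  push Not at hcon
  obtain ⟨x₀, hx₀⟩ := exists_D_ne_zero hK hg
  apply hx₀
  have hz : x₀ ∈ adjoin k S := hS ▸ mem_top
  clear hx₀
  induction hz using IntermediateField.adjoin_induction with
  | mem x hx => exact hcon x hx
  | algebraMap c => exact Derivation.map_algebraMap _ c
  | add x y _ _ hx hy => rw [map_add, hx, hy, add_zero]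
  | inv x _ hx => rw [Derivation.leibniz_inv, hx, smul_zero]
  | mul x y _ _ hx hy => rw [Derivation.leibniz, hx, hy, smul_zero, smul_zero, add_zero]

/-- A separating element is transcendental. -/
theorem transcendental_of_isSeparable (hK : IsFunctionField k K) {x : K}
    (hsep : Algebra.IsSeparable k⟮x⟯ K) : Transcendental k x := by
  intro halg
  obtain ⟨⟨t, ht, -⟩, -⟩ := hK
  apply ht
  haveI : Algebra.IsAlgebraic k k⟮x⟯ := isAlgebraic_adjoin_simple halg.isIntegral
  haveI : Algebra.IsAlgebraic k⟮x⟯ K := Algebra.IsSeparable.isAlgebraic _ _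
  haveI : Algebra.IsAlgebraic k K := Algebra.IsAlgebraic.trans k k⟮x⟯ K
  exact Algebra.IsAlgebraic.isAlgebraic t

/-- For a separating `x` and a generating subspace `W` over an infinite field, some `y ∈ W`
gives `K = k(x, y)`. -/
theorem exists_mem_adjoin_pair_eq_top [Infinite k] (hK : IsFunctionField k K) (W : Submodule k K)
    (hW : adjoin k (W : Set K) = ⊤) {x : K} (hsep : Algebra.IsSeparable k⟮x⟯ K) :
    ∃ y ∈ W, adjoin k ({x, y} : Set K) = ⊤ := by
  classical
  have hx := transcendental_of_isSeparable hK hsep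
  haveI : FiniteDimensional k⟮x⟯ K := ff_finite_of_transcendental hK hx
  haveI : Finite (IntermediateField k⟮x⟯ K) :=
    Field.finite_intermediateField_of_exists_primitive_element k⟮x⟯ K
      (Field.exists_primitive_element k⟮x⟯ K)
  haveI := Fintype.ofFinite (IntermediateField k⟮x⟯ K)
  let p : IntermediateField k⟮x⟯ K → Submodule k W := fun L =>
    Submodule.comap W.subtype (L.restrictScalars k).toSubalgebra.toSubmodule
  let s : Finset (Submodule k W) :=
    (Finset.univ.filter fun L : IntermediateField k⟮x⟯ K => L ≠ ⊤).image p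
  have hs : ⊤ ∉ s := by
    intro htop
    obtain ⟨L, hL, hpL⟩ := Finset.mem_image.1 htop
    have hLne : L ≠ ⊤ := (Finset.mem_filter.1 hL).2
    apply hLne
    have hsub : (W : Set K) ⊆ (L.restrictScalars k : Set K) := by
      intro w hw
      have : (⟨w, hw⟩ : W) ∈ p L := by rw [hpL]; trivial
      exact this
    have h1 : adjoin k (W : Set K) ≤ L.restrictScalars k := adjoin_le_iff.2 hsub
    rw [hW] at h1
    rw [eq_top_iff]
    intro z _
    exact h1 (mem_top : z ∈ (⊤ : IntermediateField k K))
  have hne := Subspace.biUnion_ne_univ_of_top_notMem hs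
  obtain ⟨y, hy⟩ : ∃ y : W, y ∉ ⋃ q ∈ s, (q : Set W) := by
    by_contra hcon
    push Not at hcon
    exact hne (Set.eq_univ_of_forall hcon)
  refine ⟨y, y.2, ?_⟩
  have htop : k⟮x⟯⟮(y : K)⟯ = ⊤ := by
    by_contra hL
    apply hy
    simp only [Set.mem_iUnion]
    refine ⟨p k⟮x⟯⟮(y : K)⟯, Finset.mem_image.2 ⟨_, Finset.mem_filter.2 ⟨Finset.mem_univ _, hL⟩,
      rfl⟩, ?_⟩
    exact mem_adjoin_simple_self k⟮x⟯ (y : K)
  have := adjoin_simple_adjoin_simple k x (y : K)
  rw [htop, restrictScalars_top] at this
  exact this.symm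

end Groth.Agent.Lib.Helper63.SepVar
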