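import Groth.Agent.Lib.Helper63.PurelyInsep
import Groth.Agent.Lib.Helper63.SepVar
import Groth.Agent.Lib.Helper63.Geometric
import Mathlib.FieldTheory.PurelyInseparable.PerfectClosure

/-! A local parameter at a place with separable residue field is a separating variable
(helper63). -/

set_option autoImplicit false
set_option linter.style.haveILetI false
set_option linter.unusedSectionVars false

namespace Groth.Agent.Lib.Helper63.LocalParamSep

open IntermediateField FunFld WithZero IsLocalRing Polynomial Groth.Agent.Lib.Helper55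
  Groth.Agent.Lib.Helper63.FunFldExt Groth.Agent.Lib.Helper63.PurelyInsep
  Groth.Agent.Lib.Helper63.FundIneq Groth.Agent.Lib.Helper63.SumEF

universe u v

variable {k : Type u} {K : Type v} [Field k] [Field K] [Algebra k K]

/-- If every element of `K` has a `q`-power in the subfield `K₀` and `κ(P)/k` is separable, then
the residue field does not grow from `Q = P ∩ K₀` to `P`. -/
theorem residue_surjective_of_pow_mem (K₀ : IntermediateField k K) (q : ℕ) [ExpChar k q]
    (hpow : ∀ z : K, ∃ n : ℕ, z ^ q ^ n ∈ K₀) (P : Place k K)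
    [Algebra.IsSeparable k (ResidueField P.O)] {Q : Place k K₀} {e : ℕ}
    (he : IsOverWith P Q e) :
    letI := algO he
    haveI := isLocalHom_algebraMap he
    Function.Surjective (algebraMap (ResidueField Q.O) (ResidueField P.O)) := by
  letI := algO he
  haveI := isLocalHom_algebraMap he
  haveI := isScalarTower_algO he
  have he0 := isOverWith_ne_zero he
  haveI : ExpChar (ResidueField Q.O) q :=
    expChar_of_injective_algebraMap (algebraMap k (ResidueField Q.O)).injective q
  have hcomp : (algebraMap (ResidueField Q.O) (ResidueField P.O)).comp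
      (algebraMap k (ResidueField Q.O)) = algebraMap k (ResidueField P.O) := by
    ext c
    change residue P.O (algebraMap Q.O P.O (algebraMap k Q.O c)) = residue P.O (algebraMap k P.O c)
    rw [← IsScalarTower.algebraMap_apply]
  intro x
  obtain ⟨z, rfl⟩ := residue_surjective x
  -- purely inseparable
  have h1 : residue P.O z ∈ perfectClosure (ResidueField Q.O) (ResidueField P.O) := by
    rw [mem_perfectClosure_iff_pow_mem q]
    obtain ⟨n, hn⟩ := hpow (z : K)
    refine ⟨n, ?_⟩
    have hz₀ : Q.1 (⟨(z : K) ^ q ^ n, hn⟩ : K₀) ≤ 1 := by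
      have h2 : P.1 (algebraMap K₀ K ⟨(z : K) ^ q ^ n, hn⟩) ≤ 1 := by
        change P.1 ((z : K) ^ q ^ n) ≤ 1
        rw [map_pow]; exact pow_le_one' z.2 _
      rw [he] at h2
      exact (pow_le_one_iff_of_nonneg zero_le he0).1 h2
    refine ⟨residue Q.O ⟨⟨(z : K) ^ q ^ n, hn⟩, hz₀⟩, ?_⟩
    rw [← map_pow]
    change residue P.O (algebraMap Q.O P.O ⟨⟨(z : K) ^ q ^ n, hn⟩, hz₀⟩) = residue P.O (z ^ q ^ n)
    congr 1
  -- separable
  have h2 : residue P.O z ∈ separableClosure (ResidueField Q.O) (ResidueField P.O) := by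
    rw [mem_separableClosure_iff]
    have hsep : (minpoly k (residue P.O z)).Separable :=
      Algebra.IsSeparable.isSeparable k (residue P.O z)
    have hsep' := hsep.map (f := algebraMap k (ResidueField Q.O))
    have hdvd : minpoly (ResidueField Q.O) (residue P.O z) ∣
        (minpoly k (residue P.O z)).map (algebraMap k (ResidueField Q.O)) := by
      apply minpoly.dvd
      rw [aeval_def, Polynomial.eval₂_map, hcomp, ← aeval_def, minpoly.aeval]
    exact hsep'.of_dvd hdvd
  have h3 : residue P.O z ∈ (⊥ : IntermediateField (ResidueField Q.O) (ResidueField P.O)) := by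
    rw [← separableClosure_inf_perfectClosure]
    exact ⟨h2, h1⟩
  exact IntermediateField.mem_bot.1 h3

/-- Under the same hypotheses, `e(P|Q) = [K : K₀]`. -/
theorem ramIdx_eq_finrank_of_pow_mem (K₀ : IntermediateField k K) (hK₀ : IsFunctionField k K₀)
    [FiniteDimensional K₀ K] (q : ℕ) [ExpChar k q]
    (hpow : ∀ z : K, ∃ n : ℕ, z ^ q ^ n ∈ K₀) (P : Place k K)
    [Algebra.IsSeparable k (ResidueField P.O)] {Q : Place k K₀} {e : ℕ}
    (he : IsOverWith P Q e) : e = Module.finrank K₀ K := by
  classical
  letI := algO he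
  haveI := isLocalHom_algebraMap he
  have hsurj := residue_surjective_of_pow_mem K₀ q hpow P he
  have hf : Module.finrank (ResidueField Q.O) (ResidueField P.O) = 1 := by
    have hbij : Function.Bijective (Algebra.linearMap (ResidueField Q.O) (ResidueField P.O)) :=
      ⟨(algebraMap (ResidueField Q.O) (ResidueField P.O)).injective, hsurj⟩
    rw [← (LinearEquiv.ofBijective _ hbij).finrank_eq, Module.finrank_self]
  have hdeg := deg_eq_mul he
  rw [hf, mul_one] at hdeg
  have huniq : ∀ P' : Place k K, IsOver P' Q → P' = P := by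
    intro P' hP'
    refine eq_of_pow_mem (K := K₀) (fun z => ?_) hP' ⟨e, he⟩
    obtain ⟨n, hn⟩ := hpow z
    exact ⟨q ^ n, pow_pos (expChar_pos k q) n, ⟨⟨z ^ q ^ n, hn⟩, rfl⟩⟩
  have hsum := sum_ramIdx_mul_deg_eq hK₀ Q {P} (fun P' => by
    rw [Finset.mem_singleton]
    exact ⟨fun h => h ▸ ⟨e, he⟩, huniq P'⟩)
  rw [Finset.sum_singleton, ramIdx_eq he, hdeg] at hsum
  exact Nat.eq_of_mul_eq_mul_right (ff_deg_pos hK₀ Q) hsum

/-- S11030: a local parameter at a place with separable residue field is separating. -/
theorem isSeparable_of_uniformizer (hK : IsFunctionField k K) (hg : IsGeometric k K)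
    (P : Place k K) [Algebra.IsSeparable k (ResidueField P.O)] {t : K}
    (ht : P.1 t = exp (-1)) : Algebra.IsSeparable k⟮t⟯ K := by
  -- `t` is transcendental
  have htr : Transcendental k t := by
    intro halg
    obtain ⟨c, rfl⟩ := hK.2 t halg
    by_cases hc : c = 0
    · rw [hc, map_zero, map_zero] at ht
      exact exp_ne_zero ht.symm
    · rw [ff_val_const P hc, ← exp_zero] at ht
      have := exp_injective ht
      omega
  haveI : FiniteDimensional k⟮t⟯ K := ff_finite_of_transcendental hK htr
  set S : IntermediateField k⟮t⟯ K := separableClosure k⟮t⟯ K with hS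
  set K₀ : IntermediateField k K := S.restrictScalars k with hK₀def
  have htK₀ : t ∈ K₀ := by
    change t ∈ S
    exact S.algebraMap_mem (⟨t, mem_adjoin_simple_self k t⟩ : k⟮t⟯)
  obtain ⟨hK₀, -⟩ := Groth.Agent.Lib.Helper63.Geometric.intermediateField hK hg K₀ ⟨t, htK₀, htr⟩
  haveI : FiniteDimensional K₀ K := inferInstanceAs (FiniteDimensional S K)
  set q := ringExpChar k with hq
  haveI : ExpChar k q := ringExpChar.expChar k
  haveI : ExpChar k⟮t⟯ q := expChar_of_injective_algebraMap (algebraMap k k⟮t⟯).injective q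
  haveI : IsPurelyInseparable S K := separableClosure.isPurelyInseparable k⟮t⟯ K
  have hpow : ∀ z : K, ∃ n : ℕ, z ^ q ^ n ∈ K₀ := by
    intro z
    obtain ⟨n, s, hs⟩ := IsPurelyInseparable.pow_mem S q z
    exact ⟨n, hs ▸ s.2⟩
  obtain ⟨Q, e, he⟩ := exists_isOver_below (K := K₀) P
  have he1 := ramIdx_eq_finrank_of_pow_mem K₀ hK₀ q hpow P he
  -- `e = 1` since `t ∈ K₀` has order one at `P`
  have hval := he ⟨t, htK₀⟩
  change P.1 t = _ at hval
  rw [ht] at hval
  have hQ0 : Q.1 ⟨t, htK₀⟩ ≠ 0 := by
    intro h0
    rw [h0, zero_pow (isOverWith_ne_zero he)] at hval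
    exact exp_ne_zero hval
  have hlog := congrArg log hval
  rw [log_exp, log_pow] at hlog
  simp only [nsmul_eq_mul] at hlog
  have he_one : e = 1 := by
    have h1 : (e : ℤ) ∣ 1 := ⟨-log (Q.1 ⟨t, htK₀⟩), by linarith⟩
    have h2 : (e : ℤ) = 1 := Int.eq_one_of_dvd_one (by positivity) h1
    exact_mod_cast h2
  -- hence `K₀ = ⊤`
  have hfin : Module.finrank S K = 1 := by
    have : Module.finrank K₀ K = 1 := by rw [← he1, he_one]
    exact this
  have htop : S = ⊤ := by
    rw [← IntermediateField.finrank_eq_one_iff_eq_top]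
    exact hfin
  exact (separableClosure.eq_top_iff _ _).1 htop

/-- S11030: `dt ≠ 0` for a local parameter at a place with separable residue field. -/
theorem D_uniformizer_ne_zero (hK : IsFunctionField k K) (hg : IsGeometric k K)
    (P : Place k K) [Algebra.IsSeparable k (ResidueField P.O)] {t : K}
    (ht : P.1 t = exp (-1)) : KaehlerDifferential.D k K t ≠ 0 := by
  have hsep := isSeparable_of_uniformizer hK hg P ht
  have htr := Groth.Agent.Lib.Helper63.SepVar.transcendental_of_isSeparable hK hsep
  have hai : AlgebraicIndependent k (fun _ : Unit => t) :=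
    algebraicIndependent_unique_type_iff.2 htr
  haveI : Algebra.IsSeparable (adjoin k (Set.range fun _ : Unit => t)) K := by
    rw [Set.range_const]; exact hsep
  obtain ⟨b, hb⟩ := Groth.Agent.Lib.Helper86.exists_basis_D_of_isSeparable
    (fun _ : Unit => t) hai
  rw [← hb ()]
  exact b.ne_zero ()

end Groth.Agent.Lib.Helper63.LocalParamSep
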