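import Groth.Agent.Lib.Helper63.Approx
import Groth.Agent.Lib.Helper63.FunFldExt
import Mathlib.LinearAlgebra.Dimension.Finite
import Mathlib.LinearAlgebra.FiniteDimensional.Basic
import Mathlib.LinearAlgebra.Dimension.Constructions
import Mathlib.LinearAlgebra.Dimension.Free
import Mathlib.RingTheory.LocalRing.ResidueField.Basic

/-! The fundamental inequality `∑ e_i f_i ≤ [L:K]` for finitely many distinct discrete valuations
of `L` over a discrete valuation of `K`, via weak approximation (helper63). -/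

set_option autoImplicit false

namespace Groth.Agent.Lib.Helper63.FundIneq

open WithZero Groth.Agent.Lib.Helper63.Approx

local notation "ℤᵐ⁰" => WithZero (Multiplicative ℤ)

theorem le_exp_neg_one_of_lt_one {x : ℤᵐ⁰} (hx : x < 1) : x ≤ exp (-1) := by
  obtain rfl | hx0 := eq_or_ne x 0
  · exact zero_le
  obtain ⟨a, rfl⟩ : ∃ a, x = exp a := ⟨log x, (exp_log hx0).symm⟩
  rw [← exp_zero, exp_lt_exp] at hx
  rw [exp_le_exp]
  omega

section General

variable {K L : Type*} [Field K] [Field L] [Algebra K L]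

/-- Key valuation estimate: if `w A = exp (-a)` and `w B < exp (-a)` then `A + B ≠ 0`. -/
theorem add_ne_zero_of_val {w : Valuation L ℤᵐ⁰} {A B : L} {a : ℤ} (hA : w A = exp a)
    (hB : w B < exp a) : A + B ≠ 0 := by
  intro h
  have h1 : w (A + B) = w A := Valuation.map_add_eq_of_lt_left w (by rw [hA]; exact hB)
  rw [h, map_zero, hA] at h1
  exact exp_ne_zero h1.symm

/-- An adapted family: elements `u m` integral at all `w l`, such that any combination with
coefficients in the valuation ring of `v`, one of them a unit, is not divisible by the uniformizer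
of `v` at some `w i`. -/
theorem exists_adapted_family {ι : Type*} [Fintype ι] [DecidableEq ι]
    (v : Valuation K ℤᵐ⁰) (w : ι → Valuation L ℤᵐ⁰) (hw : ∀ i, Function.Surjective (w i))
    (hinj : Function.Injective w) (e : ι → ℕ)
    (hover : ∀ i x, w i (algebraMap K L x) = v x ^ e i)
    (J : ι → Type*) [∀ i, Fintype (J i)] (z : ∀ i, J i → L)
    (hz : ∀ i (a : J i → K), (∀ j, v (a j) ≤ 1) → (∃ j, v (a j) = 1) →
      w i (∑ j, a j • z i j) = 1) :
    ∃ u : (Σ i, J i × Fin (e i)) → L, (∀ m l, w l (u m) ≤ 1) ∧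
      ∀ c : (Σ i, J i × Fin (e i)) → K, (∀ m, v (c m) ≤ 1) → (∃ m, v (c m) = 1) →
        ∃ i, exp (-(e i : ℤ)) < w i (∑ m, c m • u m) := by
  classical
  -- a common bound
  set E : ℕ := ∑ i, e i with hE
  have heE : ∀ i, e i ≤ E := fun i => Finset.single_le_sum (fun _ _ => Nat.zero_le _)
    (Finset.mem_univ i)
  set δ : ℤᵐ⁰ := exp (-((E : ℤ) + 2)) with hδ
  have hδ0 : δ ≠ 0 := exp_ne_zero
  have hδ1 : δ < exp (-1) := by
    rw [hδ, exp_lt_exp]; omega
  have hδ1' : δ < 1 := by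
    rw [hδ, ← exp_zero, exp_lt_exp]; omega
  -- `w i (z i j) = 1`
  have hz1 : ∀ i j, w i (z i j) = 1 := by
    intro i j
    have := hz i (fun j' => if j' = j then 1 else 0)
      (fun j' => by
        by_cases h : j' = j
        · simp [h]
        · simp [h])
      ⟨j, by simp⟩
    simpa using this
  -- uniformizers
  have ht : ∀ i, ∃ t : L, w i t = exp (-1) ∧ ∀ l, w l t ≤ 1 := by
    intro i
    obtain ⟨π, hπ⟩ := hw i (exp (-1))
    obtain ⟨x, hx⟩ := exists_approx w hw hinj (fun l => if l = i then π else 1) hδ0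
    refine ⟨x, ?_, ?_⟩
    · have h1 := hx i
      simp only [if_true] at h1
      have h2 : w i (x - π) < w i π := by rw [hπ]; exact h1.trans hδ1
      have : x = π + (x - π) := by ring
      rw [this, Valuation.map_add_eq_of_lt_left _ h2, hπ]
    · intro l
      by_cases hl : l = i
      · subst hl
        have h1 := hx l
        simp only [if_true] at h1
        have h2 : w l (x - π) < w l π := by rw [hπ]; exact h1.trans hδ1
        have : x = π + (x - π) := by ring
        rw [this, Valuation.map_add_eq_of_lt_left _ h2, hπ, ← exp_zero, exp_le_exp]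
        omega
      · have h1 := hx l
        simp only [if_neg hl] at h1
        have h2 : w l (x - 1) < w l 1 := by rw [map_one]; exact h1.trans hδ1'
        have : x = 1 + (x - 1) := by ring
        rw [this, Valuation.map_add_eq_of_lt_left _ h2, map_one]
  choose t ht1 ht2 using ht
  have hs : ∀ i (j : J i), ∃ s : L, w i (s - z i j) < 1 ∧ ∀ l, l ≠ i → w l s < δ := by
    intro i j
    obtain ⟨x, hx⟩ := exists_approx w hw hinj (fun l => if l = i then z i j else 0) hδ0
    refine ⟨x, ?_, ?_⟩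
    · have h1 := hx i
      simp only [if_true] at h1
      exact h1.trans hδ1'
    · intro l hl
      have h1 := hx l
      simp only [if_neg hl, sub_zero] at h1
      exact h1
  choose s hs1 hs2 using hs
  have hs_le : ∀ i j, w i (s i j) ≤ 1 := by
    intro i j
    have : s i j = z i j + (s i j - z i j) := by ring
    rw [this]
    exact (Valuation.map_add _ _ _).trans (max_le (hz1 i j).le (hs1 i j).le)
  refine ⟨fun m => t m.1 ^ (m.2.2 : ℕ) * s m.1 m.2.1, ?_, ?_⟩
  · intro m l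
    rw [map_mul, map_pow]
    have h2 : w l (s m.1 m.2.1) ≤ 1 := by
      by_cases hl : l = m.1
      · subst hl; exact hs_le _ _
      · exact ((hs2 m.1 m.2.1 l hl).trans hδ1').le
    exact mul_le_one' (pow_le_one₀ zero_le (ht2 m.1 l)) h2
  intro c hc_le ⟨m₀, hc0⟩
  obtain ⟨i, j₀, a₁⟩ := m₀
  -- minimal level with a unit coefficient
  have hex : ∃ a : ℕ, ∃ (ha : a < e i), ∃ j, v (c ⟨i, j, ⟨a, ha⟩⟩) = 1 :=
    ⟨a₁.1, a₁.2, j₀, hc0⟩
  obtain ⟨ha₀, j₁, hj₁⟩ := Nat.find_spec hex
  have hmin : ∀ a (ha : a < e i), a < Nat.find hex → ∀ j, v (c ⟨i, j, ⟨a, ha⟩⟩) < 1 := by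
    intro a ha hlt j
    refine lt_of_le_of_ne (hc_le _) fun h1 => ?_
    exact Nat.find_min hex hlt ⟨ha, j, h1⟩
  set a₀ : ℕ := Nat.find hex with ha₀_def
  -- split the sum
  have hsmul : ∀ (l : ι) (b : K) (x : L), w l (b • x) = v b ^ e l * w l x := by
    intro l b x
    rw [Algebra.smul_def, map_mul, hover]
  have hpow_le : ∀ (b : K) (n : ℕ), v b ≤ 1 → v b ^ n ≤ 1 := fun b n hb =>
    pow_le_one₀ zero_le hb
  have hexp0 : (exp (-(a₀ : ℤ)) : ℤᵐ⁰) ≠ 0 := exp_ne_zero
  set A : L := ∑ j, c ⟨i, j, ⟨a₀, ha₀⟩⟩ • (t i ^ a₀ * s i j) with hA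
  set B1 : L := ∑ a ∈ Finset.univ.erase (⟨a₀, ha₀⟩ : Fin (e i)),
    ∑ j, c ⟨i, j, a⟩ • (t i ^ (a : ℕ) * s i j) with hB1
  set B2 : L := ∑ l ∈ Finset.univ.erase i,
    ∑ y : J l × Fin (e l), c ⟨l, y⟩ • (t l ^ (y.2 : ℕ) * s l y.1) with hB2
  have hsplit : ∑ m, c m • (t m.1 ^ (m.2.2 : ℕ) * s m.1 m.2.1) = A + (B1 + B2) := by
    rw [Fintype.sum_sigma, ← Finset.add_sum_erase Finset.univ _ (Finset.mem_univ i),
      ← add_assoc]
    congr 1
    rw [Fintype.sum_prod_type_right,
      ← Finset.add_sum_erase Finset.univ _ (Finset.mem_univ (⟨a₀, ha₀⟩ : Fin (e i)))]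
  refine ⟨i, ?_⟩
  have hlt : exp (-(e i : ℤ)) < (exp (-(a₀ : ℤ)) : ℤᵐ⁰) := by
    rw [exp_lt_exp]; omega
  suffices h : w i A = exp (-(a₀ : ℤ)) ∧ w i (B1 + B2) < exp (-(a₀ : ℤ)) by
    rw [hsplit, Valuation.map_add_eq_of_lt_left _ (by rw [h.1]; exact h.2), h.1]
    exact hlt
  refine ⟨?_, ?_⟩
  · -- `w i A = exp (-a₀)`
    have hA' : A = t i ^ a₀ * (∑ j, c ⟨i, j, ⟨a₀, ha₀⟩⟩ • z i j +
        ∑ j, c ⟨i, j, ⟨a₀, ha₀⟩⟩ • (s i j - z i j)) := by
      rw [hA, ← Finset.sum_add_distrib, Finset.mul_sum]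
      refine Finset.sum_congr rfl fun j _ => ?_
      rw [← smul_add, mul_smul_comm]
      congr 2
      ring
    have h1 : w i (∑ j, c ⟨i, j, ⟨a₀, ha₀⟩⟩ • z i j) = 1 :=
      hz i _ (fun j => hc_le _) ⟨j₁, hj₁⟩
    have h2 : w i (∑ j, c ⟨i, j, ⟨a₀, ha₀⟩⟩ • (s i j - z i j)) < 1 := by
      refine Valuation.map_sum_lt _ one_ne_zero fun j _ => ?_
      rw [hsmul]
      calc v (c ⟨i, j, ⟨a₀, ha₀⟩⟩) ^ e i * w i (s i j - z i j)
          ≤ 1 * w i (s i j - z i j) := mul_le_mul' (hpow_le _ _ (hc_le _)) le_rfl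
        _ = w i (s i j - z i j) := one_mul _
        _ < 1 := hs1 i j
    rw [hA', map_mul, map_pow, ht1, Valuation.map_add_eq_of_lt_left _ (by rw [h1]; exact h2), h1,
      mul_one, ← exp_nsmul]
    congr 1
    simp
  · -- the rest is smaller
    refine (Valuation.map_add _ _ _).trans_lt (max_lt ?_ ?_)
    · refine Valuation.map_sum_lt _ hexp0 fun a ha => ?_
      refine Valuation.map_sum_lt _ hexp0 fun j _ => ?_
      have hane : (a : ℕ) ≠ a₀ := by
        intro h
        exact (Finset.ne_of_mem_erase ha) (Fin.ext h)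
      rw [hsmul, map_mul, map_pow, ht1]
      rcases lt_or_gt_of_ne hane with hlt | hgt
      · have hc1 : v (c ⟨i, j, a⟩) ≤ exp (-1) :=
          le_exp_neg_one_of_lt_one (hmin a.1 a.2 hlt j)
        calc v (c ⟨i, j, a⟩) ^ e i * (exp (-1) ^ (a : ℕ) * w i (s i j))
            ≤ exp (-1) ^ e i * (1 * 1) := by
              refine mul_le_mul' (pow_le_pow_left₀ zero_le hc1 _) (mul_le_mul' ?_ (hs_le i j))
              refine pow_le_one₀ zero_le ?_
              rw [← exp_zero, exp_le_exp]; omega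
          _ = exp (-(e i : ℤ)) := by
              rw [mul_one, mul_one, ← exp_nsmul]; congr 1; simp
          _ < exp (-(a₀ : ℤ)) := by
              rw [exp_lt_exp]; omega
      · calc v (c ⟨i, j, a⟩) ^ e i * (exp (-1) ^ (a : ℕ) * w i (s i j))
            ≤ 1 * (exp (-1) ^ (a : ℕ) * 1) :=
              mul_le_mul' (hpow_le _ _ (hc_le _)) (mul_le_mul' le_rfl (hs_le i j))
          _ = exp (-((a : ℕ) : ℤ)) := by
              rw [mul_one, one_mul, ← exp_nsmul]; congr 1; simp
          _ < exp (-(a₀ : ℤ)) := by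
              rw [exp_lt_exp]; omega
    · refine Valuation.map_sum_lt _ hexp0 fun l hl => ?_
      refine Valuation.map_sum_lt _ hexp0 fun y _ => ?_
      have hli : i ≠ l := (Finset.ne_of_mem_erase hl).symm
      rw [hsmul, map_mul, map_pow]
      calc v (c ⟨l, y⟩) ^ e i * (w i (t l) ^ (y.2 : ℕ) * w i (s l y.1))
          ≤ 1 * (1 * w i (s l y.1)) :=
            mul_le_mul' (hpow_le _ _ (hc_le _))
              (mul_le_mul' (pow_le_one₀ zero_le (ht2 l i)) le_rfl)
        _ = w i (s l y.1) := by rw [one_mul, one_mul]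
        _ < δ := hs2 l y.1 i hli
        _ < exp (-(a₀ : ℤ)) := by
            rw [hδ, exp_lt_exp]
            have := heE i
            omega

theorem linearIndependent_of_residue_data {ι : Type*} [Fintype ι] [DecidableEq ι]
    (v : Valuation K ℤᵐ⁰) (w : ι → Valuation L ℤᵐ⁰) (hw : ∀ i, Function.Surjective (w i))
    (hinj : Function.Injective w) (e : ι → ℕ)
    (hover : ∀ i x, w i (algebraMap K L x) = v x ^ e i)
    (J : ι → Type*) [∀ i, Fintype (J i)] (z : ∀ i, J i → L)
    (hz : ∀ i (a : J i → K), (∀ j, v (a j) ≤ 1) → (∃ j, v (a j) = 1) →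
      w i (∑ j, a j • z i j) = 1) :
    ∃ u : (Σ i, J i × Fin (e i)) → L, (∀ m l, w l (u m) ≤ 1) ∧ LinearIndependent K u ∧
      ∀ c : (Σ i, J i × Fin (e i)) → K, (∀ m, v (c m) ≤ 1) → (∃ m, v (c m) = 1) →
        ∃ i, exp (-(e i : ℤ)) < w i (∑ m, c m • u m) := by
  obtain ⟨u, hu1, hu2⟩ := exists_adapted_family v w hw hinj e hover J z hz
  refine ⟨u, hu1, ?_, hu2⟩
  rw [Fintype.linearIndependent_iff]
  intro g hg
  by_contra hne
  push Not at hne
  obtain ⟨m₁, hm₁⟩ := hne
  obtain ⟨m₀, -, hm₀⟩ := Finset.exists_max_image Finset.univ (fun m => v (g m))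
    ⟨m₁, Finset.mem_univ _⟩
  have hgm₀ : g m₀ ≠ 0 := by
    intro h0
    have := hm₀ m₁ (Finset.mem_univ _)
    rw [h0, map_zero] at this
    exact hm₁ ((Valuation.zero_iff v).1 (le_antisymm this zero_le))
  set c : (Σ i, J i × Fin (e i)) → K := fun m => g m / g m₀ with hc
  have hc_le : ∀ m, v (c m) ≤ 1 := by
    intro m
    rw [hc]
    simp only [map_div₀]
    exact div_le_one_of_le₀ (hm₀ m (Finset.mem_univ _)) zero_le
  have hc0 : c m₀ = 1 := by
    rw [hc]; exact div_self hgm₀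
  have hsum : ∑ m, c m • u m = 0 := by
    have : ∑ m, c m • u m = (g m₀)⁻¹ • ∑ m, g m • u m := by
      rw [Finset.smul_sum]
      refine Finset.sum_congr rfl fun m _ => ?_
      simp only [hc, smul_smul, div_eq_inv_mul]
    rw [this, hg, smul_zero]
  obtain ⟨i, hi⟩ := hu2 c hc_le ⟨m₀, by rw [hc0, map_one]⟩
  rw [hsum, map_zero] at hi
  exact not_lt_zero hi

/-- The fundamental inequality in abstract form. -/
theorem sum_mul_card_le_finrank [FiniteDimensional K L] {ι : Type*} [Fintype ι] [DecidableEq ι]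
    (v : Valuation K ℤᵐ⁰) (w : ι → Valuation L ℤᵐ⁰) (hw : ∀ i, Function.Surjective (w i))
    (hinj : Function.Injective w) (e : ι → ℕ)
    (hover : ∀ i x, w i (algebraMap K L x) = v x ^ e i)
    (J : ι → Type*) [∀ i, Fintype (J i)] (z : ∀ i, J i → L)
    (hz : ∀ i (a : J i → K), (∀ j, v (a j) ≤ 1) → (∃ j, v (a j) = 1) →
      w i (∑ j, a j • z i j) = 1) :
    ∑ i, e i * Fintype.card (J i) ≤ Module.finrank K L := by
  obtain ⟨u, -, hu, -⟩ := linearIndependent_of_residue_data v w hw hinj e hover J z hz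
  have := hu.fintype_card_le_finrank
  rw [Fintype.card_sigma] at this
  refine le_trans (le_of_eq ?_) this
  refine Finset.sum_congr rfl fun i _ => ?_
  rw [Fintype.card_prod, Fintype.card_fin, mul_comm]

theorem exp_one_le_of_one_lt {x : ℤᵐ⁰} (hx : 1 < x) : exp 1 ≤ x := by
  have hx0 : x ≠ 0 := (zero_lt_one.trans hx).ne'
  obtain ⟨a, rfl⟩ : ∃ a, x = exp a := ⟨log x, (exp_log hx0).symm⟩
  rw [← exp_zero, exp_lt_exp] at hx
  rw [exp_le_exp]
  omega

/-- Integral elements are combinations of an adapted basis with integral coefficients. -/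
theorem exists_integral_coeff [FiniteDimensional K L] {ι M : Type*} [Fintype M]
    (v : Valuation K ℤᵐ⁰) (w : ι → Valuation L ℤᵐ⁰) (e : ι → ℕ)
    (hover : ∀ i x, w i (algebraMap K L x) = v x ^ e i)
    (u : M → L) (hu : LinearIndependent K u) (hcard : Fintype.card M = Module.finrank K L)
    (hadapt : ∀ c : M → K, (∀ m, v (c m) ≤ 1) → (∃ m, v (c m) = 1) →
      ∃ i, exp (-(e i : ℤ)) < w i (∑ m, c m • u m))
    (y : L) (hy : ∀ i, w i y ≤ 1) :
    ∃ c : M → K, (∀ m, v (c m) ≤ 1) ∧ y = ∑ m, c m • u m := by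
  classical
  haveI : Nonempty M := by
    rw [← Fintype.card_pos_iff, hcard]; exact Module.finrank_pos
  let b := basisOfLinearIndependentOfCardEqFinrank hu hcard
  have hb : ∀ m, b m = u m := fun m => by
    rw [coe_basisOfLinearIndependentOfCardEqFinrank]
  set c : M → K := fun m => b.repr y m with hc
  have hyc : y = ∑ m, c m • u m := by
    conv_lhs => rw [← b.sum_repr y]
    exact Finset.sum_congr rfl fun m _ => by rw [hb]
  refine ⟨c, ?_, hyc⟩
  by_contra hcon
  push Not at hcon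
  obtain ⟨m₁, hm₁⟩ := hcon
  obtain ⟨m₀, -, hm₀⟩ := Finset.exists_max_image Finset.univ (fun m => v (c m))
    ⟨m₁, Finset.mem_univ _⟩
  have hv1 : 1 < v (c m₀) := hm₁.trans_le (hm₀ m₁ (Finset.mem_univ _))
  have hcm₀ : c m₀ ≠ 0 := by
    intro h0
    rw [h0, map_zero] at hv1
    exact not_lt_zero hv1
  set c' : M → K := fun m => c m / c m₀ with hc'
  have hc'_le : ∀ m, v (c' m) ≤ 1 := by
    intro m
    rw [hc']
    simp only [map_div₀]
    exact div_le_one_of_le₀ (hm₀ m (Finset.mem_univ _)) zero_le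
  have hc'0 : c' m₀ = 1 := by
    rw [hc']; exact div_self hcm₀
  have hsum : ∑ m, c' m • u m = (c m₀)⁻¹ • y := by
    rw [hyc, Finset.smul_sum]
    refine Finset.sum_congr rfl fun m _ => ?_
    simp only [hc', smul_smul, div_eq_inv_mul]
  obtain ⟨i, hi⟩ := hadapt c' hc'_le ⟨m₀, by rw [hc'0, map_one]⟩
  rw [hsum, Algebra.smul_def, map_mul, hover, map_inv₀] at hi
  have h1 : exp (1 : ℤ) ^ e i ≤ v (c m₀) ^ e i :=
    pow_le_pow_left₀ zero_le (exp_one_le_of_one_lt hv1) _
  have h2 : (v (c m₀) ^ e i) ≠ 0 := pow_ne_zero _ ((Valuation.ne_zero_iff v).2 hcm₀)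
  have h3 : (v (c m₀))⁻¹ ^ e i * w i y ≤ exp (-(e i : ℤ)) := by
    calc (v (c m₀))⁻¹ ^ e i * w i y ≤ (v (c m₀))⁻¹ ^ e i * 1 := mul_le_mul' le_rfl (hy i)
      _ = (v (c m₀) ^ e i)⁻¹ := by rw [mul_one, inv_pow]
      _ ≤ (exp (1 : ℤ) ^ e i)⁻¹ := by
          rw [inv_le_inv₀ (zero_lt_iff.2 h2) (zero_lt_iff.2 (pow_ne_zero _ exp_ne_zero))]
          exact h1
      _ = exp (-(e i : ℤ)) := by
          rw [← exp_nsmul, ← exp_neg]; congr 1; simp
  exact absurd hi (not_lt.2 h3)

end General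

section Places

open FunFld IsLocalRing Groth.Agent.Lib.Helper63.FunFldExt

variable {k K K' : Type*} [Field k] [Field K] [Field K'] [Algebra k K] [Algebra K K']
  [Algebra k K']

theorem val_le_one_of_isOverWith {Q : Place k K'} {P : Place k K} {e : ℕ} (h : IsOverWith Q P e)
    {x : K} (hx : P.1 x ≤ 1) : Q.1 (algebraMap K K' x) ≤ 1 := by
  rw [h]; exact pow_le_one₀ zero_le hx

/-- The local ring hom `O_P → O_Q` for `Q` over `P`. -/
def localHom {Q : Place k K'} {P : Place k K} {e : ℕ} (h : IsOverWith Q P e) : P.O →+* Q.O :=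
  ((algebraMap K K').comp P.O.subtype).codRestrict Q.O
    (fun x => val_le_one_of_isOverWith h x.2)

theorem localHom_coe {Q : Place k K'} {P : Place k K} {e : ℕ} (h : IsOverWith Q P e) (x : P.O) :
    ((localHom h x : Q.O) : K') = algebraMap K K' (x : K) := rfl

/-- The algebra structure `O_P → O_Q` for `Q` over `P`. -/
@[reducible] def algO {Q : Place k K'} {P : Place k K} {e : ℕ} (h : IsOverWith Q P e) :
    Algebra P.O Q.O := (localHom h).toAlgebra

theorem isLocalHom_localHom {Q : Place k K'} {P : Place k K} {e : ℕ} (h : IsOverWith Q P e) :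
    IsLocalHom (localHom h) := by
  constructor
  intro a ha
  rw [(Valuation.valuationSubring.integers Q.1).isUnit_iff_valuation_eq_one] at ha
  rw [(Valuation.valuationSubring.integers P.1).isUnit_iff_valuation_eq_one]
  change Q.1 (algebraMap K K' (a : K)) = 1 at ha
  change P.1 (a : K) = 1
  rw [h] at ha
  exact (pow_eq_one_iff_of_nonneg zero_le (isOverWith_ne_zero h)).1 ha

theorem isScalarTower_algO [IsScalarTower k K K'] {Q : Place k K'} {P : Place k K} {e : ℕ} (h : IsOverWith Q P e) :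
    letI := algO h
    IsScalarTower k P.O Q.O := by
  let _ := algO h
  refine IsScalarTower.of_algebraMap_eq fun c => ?_
  apply Subtype.ext
  exact IsScalarTower.algebraMap_apply k K K' c

theorem isLocalHom_algebraMap {Q : Place k K'} {P : Place k K} {e : ℕ} (h : IsOverWith Q P e) :
    letI := algO h
    IsLocalHom (algebraMap P.O Q.O) := isLocalHom_localHom h

theorem deg_eq_mul [IsScalarTower k K K'] {Q : Place k K'} {P : Place k K} {e : ℕ}
    (h : IsOverWith Q P e) :
    letI := algO h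
    haveI := isLocalHom_algebraMap h
    Q.deg = P.deg * Module.finrank (ResidueField P.O) (ResidueField Q.O) := by
  letI := algO h
  haveI := isLocalHom_algebraMap h
  haveI := isScalarTower_algO h
  exact (Module.finrank_mul_finrank k (ResidueField P.O) (ResidueField Q.O)).symm

theorem exists_residue_data [IsScalarTower k K K'] {Q : Place k K'} {P : Place k K} {e : ℕ}
    (h : IsOverWith Q P e) :
    ∃ (f : ℕ) (z : Fin f → K'), Q.deg = P.deg * f ∧
      ∀ a : Fin f → K, (∀ j, P.1 (a j) ≤ 1) → (∃ j, P.1 (a j) = 1) →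
        Q.1 (∑ j, a j • z j) = 1 := by
  letI := algO h
  haveI := isLocalHom_algebraMap h
  obtain ⟨b, hb⟩ := exists_linearIndependent_of_le_finrank
    (le_refl (Module.finrank (ResidueField P.O) (ResidueField Q.O)))
  choose z' hz' using fun j => residue_surjective (b j)
  refine ⟨_, fun j => (z' j : K'), deg_eq_mul h, ?_⟩
  intro a ha ⟨j₀, hj₀⟩
  set a' : Fin _ → P.O := fun j => ⟨a j, ha j⟩ with ha'
  set S : Q.O := ∑ j, algebraMap P.O Q.O (a' j) * z' j with hS
  have hScoe : (S : K') = ∑ j, a j • (z' j : K') := by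
    rw [hS]
    rw [show ((∑ j, algebraMap P.O Q.O (a' j) * z' j : Q.O) : K') =
      Q.O.subtype (∑ j, algebraMap P.O Q.O (a' j) * z' j) from rfl, map_sum]
    refine Finset.sum_congr rfl fun j _ => ?_
    rw [map_mul, Algebra.smul_def]
    rfl
  have hres : residue Q.O S = ∑ j, residue P.O (a' j) • b j := by
    rw [hS, map_sum]
    refine Finset.sum_congr rfl fun j _ => ?_
    rw [map_mul, hz', Algebra.smul_def, IsLocalRing.ResidueField.algebraMap_residue]
  have hne : residue Q.O S ≠ 0 := by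
    intro h0
    rw [hres] at h0
    have := Fintype.linearIndependent_iff.1 hb _ h0 j₀
    have hu : IsUnit (a' j₀) := by
      rw [(Valuation.valuationSubring.integers P.1).isUnit_iff_valuation_eq_one]
      exact hj₀
    exact (residue_ne_zero_iff_isUnit _).2 hu this
  have hSu : IsUnit S := (residue_ne_zero_iff_isUnit _).1 hne
  rw [(Valuation.valuationSubring.integers Q.1).isUnit_iff_valuation_eq_one] at hSu
  rw [← hScoe]
  exact hSu

/-- The fundamental inequality for places: `∑ e(Q|P) deg Q ≤ [K':K] deg P`. -/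
theorem sum_mul_deg_le [IsScalarTower k K K'] [FiniteDimensional K K'] (P : Place k K)
    (Qs : Finset (Place k K')) (e : Place k K' → ℕ) (hQs : ∀ Q ∈ Qs, IsOverWith Q P (e Q)) :
    ∑ Q ∈ Qs, e Q * Q.deg ≤ Module.finrank K K' * P.deg := by
  classical
  choose f z hdeg hz using fun Q : Qs => exists_residue_data (hQs Q.1 Q.2)
  have key := sum_mul_card_le_finrank (K := K) (L := K') P.1 (fun Q : Qs => Q.1.1)
    (fun Q => Q.1.2.2) (fun Q Q' hQQ' => Subtype.ext (Subtype.ext hQQ'))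
    (fun Q => e Q.1) (fun Q x => hQs Q.1 Q.2 x) (fun Q => Fin (f Q)) z hz
  simp only [Fintype.card_fin] at key
  calc ∑ Q ∈ Qs, e Q * Q.deg = ∑ Q : Qs, e Q.1 * Q.1.deg := (Finset.sum_coe_sort Qs _).symm
    _ = (∑ Q : Qs, e Q.1 * f Q) * P.deg := by
        rw [Finset.sum_mul]
        refine Finset.sum_congr rfl fun Q _ => ?_
        rw [hdeg Q]; ring
    _ ≤ Module.finrank K K' * P.deg := Nat.mul_le_mul_right _ key

theorem sum_ramIdx_mul_deg_le [IsScalarTower k K K'] [FiniteDimensional K K'] (P : Place k K)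
    (Qs : Finset (Place k K')) (hQs : ∀ Q ∈ Qs, IsOver Q P) :
    ∑ Q ∈ Qs, ramIdx Q P * Q.deg ≤ Module.finrank K K' * P.deg :=
  sum_mul_deg_le P Qs (fun Q => ramIdx Q P) (fun Q hQ => isOverWith_ramIdx (hQs Q hQ))

/-- Adapted families for the places above `P`. -/
theorem exists_adapted_places [IsScalarTower k K K'] (P : Place k K)
    (Qs : Finset (Place k K')) (e : Place k K' → ℕ) (hQs : ∀ Q ∈ Qs, IsOverWith Q P (e Q)) :
    ∃ (f : Qs → ℕ) (u : (Σ Q : Qs, Fin (f Q) × Fin (e Q.1)) → K'),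
      (∀ Q : Qs, Q.1.deg = P.deg * f Q) ∧ (∀ m (Q : Qs), Q.1.1 (u m) ≤ 1) ∧
      LinearIndependent K u ∧
      ∀ c : (Σ Q : Qs, Fin (f Q) × Fin (e Q.1)) → K, (∀ m, P.1 (c m) ≤ 1) →
        (∃ m, P.1 (c m) = 1) → ∃ Q : Qs, exp (-(e Q.1 : ℤ)) < Q.1.1 (∑ m, c m • u m) := by
  classical
  choose f z hdeg hz using fun Q : Qs => exists_residue_data (hQs Q.1 Q.2)
  obtain ⟨u, hu1, hu2, hu3⟩ := linearIndependent_of_residue_data (K := K) (L := K') P.1
    (fun Q : Qs => Q.1.1) (fun Q => Q.1.2.2) (fun Q Q' hQQ' => Subtype.ext (Subtype.ext hQQ'))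
    (fun Q => e Q.1) (fun Q x => hQs Q.1 Q.2 x) (fun Q => Fin (f Q)) z hz
  exact ⟨f, u, hdeg, hu1, hu2, hu3⟩

end Places

end Groth.Agent.Lib.Helper63.FundIneq
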