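import Groth.Agent.Lib.Helper63.Geometric
import Groth.Agent.Lib.Helper86.KaehlerField
import Mathlib.FieldTheory.SeparablyGenerated
import Mathlib.FieldTheory.IsAlgClosed.AlgebraicClosure

/-! Geometric function fields are separably generated; `Ω[K⁄k]` has rank one (helper63). -/

set_option autoImplicit false
set_option linter.style.haveILetI false
set_option linter.unusedSectionVars false

namespace Groth.Agent.Lib.Helper63.SepGen

open IntermediateField FunFld TensorProduct Groth.Agent.Lib.Helper55

universe u v

variable {k : Type u} {K : Type v} [Field k] [Field K] [Algebra k K]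

/-- In characteristic `p`, `p`-th powers of a `k`-linearly independent family in a geometric
extension stay `k`-linearly independent. -/
theorem linearIndepOn_pow_of_isGeometric (hg : IsGeometric k K) (p : ℕ) [hp : Fact p.Prime]
    [CharP k p] (s : Finset K) (hs : LinearIndepOn k _root_.id (s : Set K)) :
    LinearIndepOn k (· ^ p) (s : Set K) := by
  classical
  rw [LinearIndepOn, Fintype.linearIndependent_iff]
  intro c hc
  -- p-th roots of the coefficients
  have hroot : ∀ i : ↥(s : Set K), ∃ γ : AlgebraicClosure k, γ ^ p = algebraMap k _ (c i) :=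
    fun i => IsAlgClosed.exists_pow_nat_eq _ hp.out.pos
  choose γ hγ using hroot
  let S : Set (AlgebraicClosure k) := Set.range γ
  let k' : IntermediateField k (AlgebraicClosure k) := adjoin k S
  haveI : FiniteDimensional k k' := by
    apply IntermediateField.finiteDimensional_adjoin
    intro x _
    exact (Algebra.IsAlgebraic.isAlgebraic x).isIntegral
  have hfield := hg k' inferInstance
  letI := hfield.toField
  haveI : CharP (k' ⊗[k] K) p :=
    charP_of_injective_algebraMap (algebraMap k (k' ⊗[k] K)).injective p
  let γ' : ↥(s : Set K) → k' := fun i => ⟨γ i, subset_adjoin k S ⟨i, rfl⟩⟩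
  have hγ' : ∀ i, γ' i ^ p = algebraMap k k' (c i) := fun i => Subtype.ext (hγ i)
  let z : k' ⊗[k] K := ∑ i, γ' i ⊗ₜ[k] (i : K)
  have hz : z ^ p = 0 := by
    rw [sum_pow_char]
    have : ∀ i : ↥(s : Set K), (γ' i ⊗ₜ[k] (i : K)) ^ p = (1 : k') ⊗ₜ[k] (c i • (i : K) ^ p) := by
      intro i
      rw [Algebra.TensorProduct.tmul_pow, hγ', Algebra.algebraMap_eq_smul_one,
        TensorProduct.smul_tmul]
    simp_rw [this]
    rw [← TensorProduct.tmul_sum]
    have h0 : ∑ i : ↥(s : Set K), c i • (i : K) ^ p = 0 := hc
    rw [h0, TensorProduct.tmul_zero]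
  have hz0 : z = 0 := pow_eq_zero_iff (hp.out.ne_zero) |>.1 hz
  have hli : LinearIndependent k' (fun i : ↥(s : Set K) => (1 : k') ⊗ₜ[k] (i : K)) :=
    Module.Flat.linearIndependent_one_tmul (S := k') hs
  have hsum : ∑ i, γ' i • ((1 : k') ⊗ₜ[k] (i : K)) = 0 := by
    have : ∀ i : ↥(s : Set K), γ' i • ((1 : k') ⊗ₜ[k] (i : K)) = γ' i ⊗ₜ[k] (i : K) := by
      intro i
      rw [TensorProduct.smul_tmul', smul_eq_mul, mul_one]
    simp_rw [this]
    exact hz0
  intro i
  have hi := Fintype.linearIndependent_iff.1 hli γ' hsum i
  have : algebraMap k k' (c i) = 0 := by rw [← hγ', hi, zero_pow hp.out.ne_zero]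
  exact (map_eq_zero _).1 this


/-- A geometric function field of one variable has a separating element. -/
theorem exists_separating (hK : IsFunctionField k K) (hg : IsGeometric k K) :
    ∃ x : K, Transcendental k x ∧ Algebra.IsSeparable k⟮x⟯ K := by
  obtain ⟨⟨x, hx, hfin⟩, -⟩ := hK
  haveI := hfin
  haveI : Algebra.EssFiniteType k k⟮x⟯ :=
    IntermediateField.essFiniteType_iff.2 ⟨{x}, by simp⟩
  haveI : Algebra.EssFiniteType k K := Algebra.EssFiniteType.comp k k⟮x⟯ K
  obtain _ | ⟨p, hp, hpk⟩ := CharP.exists' k
  · refine ⟨x, hx, ?_⟩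
    haveI : CharZero k⟮x⟯ := charZero_of_injective_algebraMap (algebraMap k k⟮x⟯).injective
    infer_instance
  · haveI : Fact p.Prime := hp
    obtain ⟨s, hs, hsep⟩ :=
      exists_isTranscendenceBasis_and_isSeparable_of_linearIndepOn_pow_of_essFiniteType
        (k := k) (K := K) p hp.out (linearIndepOn_pow_of_isGeometric hg p)
    -- `{x}` is a transcendence basis
    have hxb : IsTranscendenceBasis k (fun _ : Unit => x) := by
      have hai : AlgebraicIndependent k (fun _ : Unit => x) :=
        algebraicIndependent_unique_type_iff.2 hx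
      rw [hai.isTranscendenceBasis_iff_isAlgebraic, Set.range_const,
        ← IntermediateField.isAlgebraic_adjoin_iff_top]
      exact Algebra.IsAlgebraic.of_finite _ _
    have hcard := hs.lift_cardinalMk_eq hxb
    have hcard1 : s.card = 1 := by
      have h1 : Cardinal.mk ↥s = 1 := by
        have := hcard
        simp only [Cardinal.mk_fintype, Fintype.card_unique, Nat.cast_one, Cardinal.lift_one,
          Cardinal.lift_eq_one] at this
        simpa using this
      have h2 : (Fintype.card ↥s : Cardinal) = 1 := by rw [← Cardinal.mk_fintype]; exact h1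
      have h3 : Fintype.card ↥s = 1 := by exact_mod_cast h2
      simpa using h3
    obtain ⟨a, rfl⟩ := Finset.card_eq_one.1 hcard1
    refine ⟨a, ?_, ?_⟩
    · have := hs.1
      have h' := this.transcendental ⟨a, Finset.mem_singleton_self a⟩
      exact h'
    · rw [Finset.coe_singleton] at hsep
      exact hsep

/-- In a geometric function field of one variable, `Ω[K⁄k]` has rank at most one: if `dx ≠ 0`
then every `dy` is a multiple of `dx`. -/
theorem exists_smul_D_eq (hK : IsFunctionField k K) (hg : IsGeometric k K) {x : K}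
    (hx : KaehlerDifferential.D k K x ≠ 0) (y : K) :
    ∃ g : K, KaehlerDifferential.D k K y = g • KaehlerDifferential.D k K x := by
  obtain ⟨x₀, hx₀, hsep⟩ := exists_separating hK hg
  have hai : AlgebraicIndependent k (fun _ : Unit => x₀) :=
    algebraicIndependent_unique_type_iff.2 hx₀
  haveI : Algebra.IsSeparable (adjoin k (Set.range fun _ : Unit => x₀)) K := by
    rw [Set.range_const]; exact hsep
  obtain ⟨b, hb⟩ := Groth.Agent.Lib.Helper86.exists_basis_D_of_isSeparable
    (fun _ : Unit => x₀) hai
  have hrep : ∀ ω : Ω[K⁄k], ω = b.repr ω () • KaehlerDifferential.D k K x₀ := by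
    intro ω
    conv_lhs => rw [← b.sum_repr ω]
    simp [hb]
  have ha : b.repr (KaehlerDifferential.D k K x) () ≠ 0 := by
    intro h0
    apply hx
    rw [hrep (KaehlerDifferential.D k K x), h0, zero_smul]
  set a := b.repr (KaehlerDifferential.D k K x) () with ha_def
  set c := b.repr (KaehlerDifferential.D k K y) () with hc_def
  have h1 : KaehlerDifferential.D k K x = a • KaehlerDifferential.D k K x₀ := hrep _
  have h2 : KaehlerDifferential.D k K y = c • KaehlerDifferential.D k K x₀ := hrep _
  refine ⟨c / a, ?_⟩
  rw [h2, h1, smul_smul, div_mul_cancel₀ _ ha]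

end Groth.Agent.Lib.Helper63.SepGen
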