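import Groth.Agent.Lib.Helper63.LocResBasic
import Groth.Agent.Lib.Helper63.SepGen
import Mathlib.RingTheory.Unramified.Field
import Mathlib.RingTheory.Trace.Basic
import Groth.Agent.Lib.Helper55.FunFld.Residue
import Groth.Agent.Lib.Helper63.FundIneq

/-! A place of a geometric function field carrying a Laurent expansion over the constant field
has separable residue field (helper63). -/

set_option autoImplicit false
set_option linter.style.haveILetI false
set_option linter.unusedSectionVars false

namespace Groth.Agent.Lib.Helper63.ExpSep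

open LaurentSeries HahnSeries WithZero FunFld Groth.Agent.Lib.Helper63.LocResBasic

section Coeff

variable {k : Type*} {F : Type*} [Field k] [Field F] [Algebra k F]

/-- A derivation of the coefficient field applied coefficientwise to Laurent series. -/
noncomputable def mapD (d : Derivation k F F) (f : F⸨X⸩) : F⸨X⸩ := f.map (d : F →ₗ[k] F)

@[simp] theorem mapD_coeff (d : Derivation k F F) (f : F⸨X⸩) (n : ℤ) :
    (mapD d f).coeff n = d (f.coeff n) := rfl

theorem mapD_add (d : Derivation k F F) (f g : F⸨X⸩) : mapD d (f + g) = mapD d f + mapD d g := by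
  ext n
  simp

theorem support_mapD_subset (d : Derivation k F F) (f : F⸨X⸩) :
    (mapD d f).support ⊆ f.support := by
  intro n hn
  rw [HahnSeries.mem_support] at hn ⊢
  intro h0
  apply hn
  rw [mapD_coeff, h0, map_zero]

theorem mapD_mul (d : Derivation k F F) (f g : F⸨X⸩) :
    mapD d (f * g) = f * mapD d g + g * mapD d f := by
  ext n
  rw [HahnSeries.coeff_add, mapD_coeff, HahnSeries.coeff_mul,
    HahnSeries.coeff_mul_right' (x := f) (y := mapD d g) g.isPWO_support
      (support_mapD_subset d g),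
    mul_comm g, HahnSeries.coeff_mul_left' (x := mapD d f) (y := g)
      f.isPWO_support (support_mapD_subset d f),
    map_sum, ← Finset.sum_add_distrib]
  refine Finset.sum_congr rfl fun ij _ => ?_
  rw [mapD_coeff, mapD_coeff, d.leibniz, smul_eq_mul, smul_eq_mul]
  ring

theorem mapD_C (d : Derivation k F F) (r : F) : mapD d (HahnSeries.C r) = HahnSeries.C (d r) := by
  ext n
  rw [mapD_coeff, HahnSeries.C_apply, HahnSeries.C_apply, HahnSeries.coeff_single,
    HahnSeries.coeff_single]
  split_ifs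
  · rfl
  · rw [map_zero]

theorem val_mapD_le (d : Derivation k F F) {f : F⸨X⸩} {D : ℤ}
    (h : Valued.v f ≤ exp (-D)) : Valued.v (mapD d f) ≤ exp (-D) := by
  rw [valuation_le_iff_coeff_lt_eq_zero] at h ⊢
  intro n hn
  rw [mapD_coeff, h n hn, map_zero]

variable {K : Type*} [Field K] [Algebra k K]

/-- The `k`-derivation `a ↦ d(φ a)` (coefficientwise) of `K` into Laurent series. -/
noncomputable def dCoeff (φ : K →ₐ[k] F⸨X⸩) (d : Derivation k F F) :
    letI := φ.toRingHom.toAlgebra
    Derivation k K F⸨X⸩ :=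
  letI := φ.toRingHom.toAlgebra
  { toFun := fun a => mapD d (φ a)
    map_add' := fun a b => show mapD d (φ (a + b)) = mapD d (φ a) + mapD d (φ b) by
      rw [map_add, mapD_add]
    map_smul' := fun c a => show mapD d (φ (c • a)) = c • mapD d (φ a) by
      rw [Algebra.smul_def, map_mul, mapD_mul, LocRes.map_algebraMap, mapD_C,
        Derivation.map_algebraMap, map_zero, mul_zero, add_zero, HahnSeries.C_mul_eq_smul,
        algebraMap_smul]
    map_one_eq_zero' := show mapD d (φ 1) = 0 by
      rw [map_one, ← map_one (HahnSeries.C (Γ := ℤ) (R := F)), mapD_C,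
        Derivation.map_one_eq_zero, map_zero]
    leibniz' := fun a b => show mapD d (φ (a * b)) = φ a * mapD d (φ b) + φ b * mapD d (φ a) by
      rw [map_mul, mapD_mul] }

/-- A linear relation between differentials is carried to the coefficientwise derivatives of
expansions. -/
theorem mapD_exp_eq (φ : K →ₐ[k] F⸨X⸩) (d : Derivation k F F) {x y g : K}
    (h : KaehlerDifferential.D k K y = g • KaehlerDifferential.D k K x) :
    mapD d (φ y) = φ g * mapD d (φ x) := by
  letI := φ.toRingHom.toAlgebra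
  haveI : IsScalarTower k K F⸨X⸩ := LocRes.isScalarTower_exp φ
  have h1 := congrArg (dCoeff φ d).liftKaehlerDifferential h
  rw [map_smul, Derivation.liftKaehlerDifferential_comp_D,
    Derivation.liftKaehlerDifferential_comp_D] at h1
  exact h1

end Coeff

section Main

variable {k : Type*} {K : Type*} {F : Type*} [Field k] [Field K] [Field F] [Algebra k K]
  [Algebra k F]

/-- At a place of a geometric function field with a Laurent expansion over `k`, every
`k`-derivation of the coefficient field vanishes. -/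
theorem derivation_eq_zero (hK : IsFunctionField k K) (hg : IsGeometric k K) (P : Place k K)
    (φ : K →ₐ[k] F⸨X⸩) (hφ : LocRes.IsExpansionAt P.1 φ) (d : Derivation k F F) : d = 0 := by
  obtain ⟨hv, hsurj, t, ht⟩ := hφ
  have hγ : Valued.v (LocRes.D F (φ t)) = 1 := val_D_uniformizer P.1 φ hv ht
  have hDt : KaehlerDifferential.D k K t ≠ 0 :=
    D_ne_zero_of_vDiff_ne_zero φ (by rw [vDiff_one, hγ]; exact one_ne_zero)
  ext a
  obtain ⟨f, hf1, hfa⟩ := hsurj a
  obtain ⟨g, hg'⟩ := Groth.Agent.Lib.Helper63.SepGen.exists_smul_D_eq hK hg hDt f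
  have hgle : P.1 g ≤ 1 := by
    have h1 := D_exp_eq φ hg'
    have h2 : Valued.v (φ f) ≤ exp (-(0 : ℤ)) := by rw [hv]; simpa using hf1
    have h3 := val_D_le_of_cast_eq_zero h2 (by simp)
    rw [h1, map_mul, hv, hγ, mul_one] at h3
    simpa using h3
  have h4 := mapD_exp_eq φ d hg'
  have h5 : Valued.v (mapD d (φ t)) ≤ exp (-(1 : ℤ)) := val_mapD_le d (by rw [hv, ht])
  have h6 : Valued.v (mapD d (φ f)) ≤ exp (-(1 : ℤ)) := by
    rw [h4, map_mul, hv]
    calc P.1 g * Valued.v (mapD d (φ t)) ≤ 1 * exp (-(1 : ℤ)) := mul_le_mul' hgle h5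
      _ = _ := one_mul _
  have h7 := (valuation_le_iff_coeff_lt_eq_zero F).1 h6 0 (by norm_num)
  rw [mapD_coeff, hfa] at h7
  simpa using h7

/-- The coefficient field of a Laurent expansion at a place of a geometric function field is
separable over the constant field. -/
theorem isSeparable_coeff (hK : IsFunctionField k K) (hg : IsGeometric k K) (P : Place k K)
    (φ : K →ₐ[k] F⸨X⸩) (hφ : LocRes.IsExpansionAt P.1 φ) [FiniteDimensional k F] :
    Algebra.IsSeparable k F := by
  haveI : Algebra.FormallyUnramified k F := by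
    constructor
    rw [← not_nontrivial_iff_subsingleton]
    intro hnt
    obtain ⟨ω, hω⟩ := exists_ne (0 : Ω[F⁄k])
    obtain ⟨ℓ, hℓ⟩ : ∃ ℓ : Module.Dual F Ω[F⁄k], ℓ ω ≠ 0 := by
      by_contra h
      push Not at h
      exact hω ((Module.forall_dual_apply_eq_zero_iff F ω).1 h)
    have hd := derivation_eq_zero hK hg P φ hφ (ℓ.compDer (KaehlerDifferential.D k F))
    have h0 : ℓ = 0 := by
      apply LinearMap.ext_on_range (KaehlerDifferential.span_range_derivation k F)
      intro a
      have := congrArg (fun δ : Derivation k F F => δ a) hd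
      simpa using this
    exact hℓ (by rw [h0]; rfl)
  exact Algebra.FormallyUnramified.isSeparable k F

end Main

section Res

variable {k : Type*} {K : Type*} {F : Type*} [Field k] [Field K] [Field F] [Algebra k K]
  [Algebra k F]

theorem coeff_zero_mul {f g : F⸨X⸩} (hf : Valued.v f ≤ 1) (hg : Valued.v g ≤ 1) :
    (f * g).coeff 0 = f.coeff 0 * g.coeff 0 := by
  obtain ⟨A, rfl⟩ := (val_le_one_iff_eq_coe F f).1 hf
  obtain ⟨B, rfl⟩ := (val_le_one_iff_eq_coe F g).1 hg
  rw [← PowerSeries.coe_mul]
  have h := fun C : PowerSeries F => coeff_coe_powerSeries C 0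
  simp only [Nat.cast_zero] at h
  rw [h, h, h, PowerSeries.coeff_zero_eq_constantCoeff_apply, map_mul,
    PowerSeries.coeff_zero_eq_constantCoeff_apply, PowerSeries.coeff_zero_eq_constantCoeff_apply]

/-- The constant coefficient of the expansion, as a ring hom on the valuation ring. -/
noncomputable def coeffHom (P : Place k K) (φ : K →ₐ[k] F⸨X⸩)
    (hv : ∀ f : K, Valued.v (φ f) = P.1 f) : P.O →+* F where
  toFun f := (φ (f : K)).coeff 0
  map_one' := by
    change (φ (1 : K)).coeff 0 = 1
    rw [map_one]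
    simp
  map_mul' a b := by
    change (φ ((a : K) * (b : K))).coeff 0 = _
    rw [map_mul]
    exact coeff_zero_mul (by rw [hv]; exact a.2) (by rw [hv]; exact b.2)
  map_zero' := by
    change (φ (0 : K)).coeff 0 = 0
    rw [map_zero]
    rfl
  map_add' a b := by
    change (φ ((a : K) + (b : K))).coeff 0 = _
    rw [map_add]
    rfl

theorem coeffHom_apply (P : Place k K) (φ : K →ₐ[k] F⸨X⸩)
    (hv : ∀ f : K, Valued.v (φ f) = P.1 f) (f : P.O) :
    coeffHom P φ hv f = (φ (f : K)).coeff 0 := rfl

theorem coeffHom_eq_zero (P : Place k K) (φ : K →ₐ[k] F⸨X⸩)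
    (hv : ∀ f : K, Valued.v (φ f) = P.1 f) {f : P.O} (hf : P.1 (f : K) < 1) :
    coeffHom P φ hv f = 0 := by
  have h1 : Valued.v (φ (f : K)) ≤ exp (-(1 : ℤ)) := by
    rw [hv]
    exact Groth.Agent.Lib.Helper63.FundIneq.le_exp_neg_one_of_lt_one hf
  exact (valuation_le_iff_coeff_lt_eq_zero F).1 h1 0 (by norm_num)

instance isLocalHom_coeffHom (P : Place k K) (φ : K →ₐ[k] F⸨X⸩)
    (hv : ∀ f : K, Valued.v (φ f) = P.1 f) : IsLocalHom (coeffHom P φ hv) := by
  constructor
  intro a ha
  rw [(Valuation.valuationSubring.integers P.1).isUnit_iff_valuation_eq_one]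
  by_contra hne
  have hlt : P.1 (a : K) < 1 := lt_of_le_of_ne a.2 hne
  rw [coeffHom_eq_zero P φ hv hlt] at ha
  exact not_isUnit_zero ha

/-- The residue field maps isomorphically onto the coefficient field, `k`-linearly. -/
noncomputable def resLin (P : Place k K) (φ : K →ₐ[k] F⸨X⸩)
    (hv : ∀ f : K, Valued.v (φ f) = P.1 f) :
    IsLocalRing.ResidueField P.O →ₐ[k] F :=
  { IsLocalRing.ResidueField.lift (coeffHom P φ hv) with
    commutes' := by
      intro c
      change IsLocalRing.ResidueField.lift (coeffHom P φ hv)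
        (IsLocalRing.residue P.O (algebraMap k P.O c)) = _
      rw [IsLocalRing.ResidueField.lift_residue_apply, coeffHom_apply]
      change (φ (algebraMap k K c)).coeff 0 = _
      rw [LocRes.map_algebraMap]
      simp }

theorem resLin_surjective (P : Place k K) (φ : K →ₐ[k] F⸨X⸩)
    (hφ : LocRes.IsExpansionAt P.1 φ) : Function.Surjective (resLin P φ hφ.1) := by
  intro a
  obtain ⟨f, hf, hfa⟩ := hφ.2.1 a
  exact ⟨IsLocalRing.residue P.O ⟨f, hf⟩, hfa⟩

/-- The residue field of a place with a Laurent expansion over `k` is separable over `k`. -/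
theorem isSeparable_residueField (hK : IsFunctionField k K) (hg : IsGeometric k K)
    (P : Place k K) (φ : K →ₐ[k] F⸨X⸩) (hφ : LocRes.IsExpansionAt P.1 φ) :
    Algebra.IsSeparable k (IsLocalRing.ResidueField P.O) := by
  haveI : @Module.Finite k (IsLocalRing.ResidueField P.O) _ _
      (@Algebra.toModule _ _ _ _ (Place.algRes P)) :=
    Groth.Agent.Lib.Helper55.ff_finiteDimensional_residueField hK P
  haveI : FiniteDimensional k F :=
    Module.Finite.of_surjective (resLin P φ hφ.1).toLinearMap (resLin_surjective P φ hφ)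
  haveI := isSeparable_coeff hK hg P φ hφ
  exact Algebra.IsSeparable.of_algHom k F (resLin P φ hφ.1)

end Res

section Approx

variable {k : Type*} {K : Type*} {F : Type*} [Field k] [Field K] [Field F] [Algebra k K]
  [Algebra k F]

/-- The image of `K` under an expansion approximates every nonzero Laurent series to first
order. -/
theorem exists_val_sub_lt (P : Place k K) (φ : K →ₐ[k] F⸨X⸩) (hφ : LocRes.IsExpansionAt P.1 φ)
    {q : F⸨X⸩} (hq : q ≠ 0) : ∃ s : K, Valued.v (φ s - q) < Valued.v q := by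
  obtain ⟨hv, hsurj, t, ht⟩ := hφ
  have hq0 : Valued.v q ≠ 0 := (Valuation.ne_zero_iff _).2 hq
  obtain ⟨n, hn⟩ : ∃ n : ℤ, Valued.v q = exp (-n) := ⟨-log (Valued.v q), by rw [neg_neg, exp_log hq0]⟩
  have ht0 : t ≠ 0 := by
    intro h0; rw [h0, map_zero] at ht; exact exp_ne_zero ht.symm
  have hφt0 : φ t ≠ 0 := by
    intro h0
    have := hv t
    rw [h0, map_zero, ht] at this
    exact exp_ne_zero this.symm
  set q' := q * (φ t ^ n)⁻¹ with hq'
  have hvq' : Valued.v q' = 1 := by
    rw [hq', map_mul, map_inv₀, map_zpow₀, hv, ht, hn, ← exp_zsmul, ← exp_neg, ← exp_add]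
    simp
  obtain ⟨f, hf1, hfa⟩ := hsurj (q'.coeff 0)
  have h1 : Valued.v (φ f - q') ≤ exp (-(1 : ℤ)) := by
    rw [valuation_le_iff_coeff_lt_eq_zero]
    intro m hm
    rw [HahnSeries.coeff_sub]
    rcases (Int.lt_iff_add_one_le.1 hm).lt_or_eq with h | h
    · have hm0 : m < 0 := by omega
      have e1 : (φ f).coeff m = 0 :=
        (valuation_le_iff_coeff_lt_eq_zero F).1 (show Valued.v (φ f) ≤ exp (-(0 : ℤ)) by
          rw [hv]; simpa using hf1) m hm0
      have e2 : q'.coeff m = 0 :=
        (valuation_le_iff_coeff_lt_eq_zero F).1 (show Valued.v q' ≤ exp (-(0 : ℤ)) by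
          rw [hvq']; simp) m hm0
      rw [e1, e2, sub_zero]
    · have hm0 : m = 0 := by omega
      rw [hm0, hfa, sub_self]
  refine ⟨f * t ^ n, ?_⟩
  have h2 : φ (f * t ^ n) - q = (φ f - q') * φ t ^ n := by
    rw [map_mul, map_zpow₀, hq', sub_mul, mul_assoc, inv_mul_cancel₀ (zpow_ne_zero n hφt0),
      mul_one]
  rw [h2, map_mul, map_zpow₀, hv, ht, hn, ← exp_zsmul]
  have h3 : (exp (n • (-1 : ℤ)) : ℤᵐ⁰) = exp (-n) := by congr 1; simp
  rw [h3]
  calc Valued.v (φ f - q') * exp (-n) ≤ exp (-(1 : ℤ)) * exp (-n) := mul_le_mul' h1 le_rfl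
    _ < exp (-n) := by
      rw [← exp_add, exp_lt_exp]; omega

/-- At a place of a geometric function field with a Laurent expansion over `k`, some local
residue `Res(y dx)` of a nonzero differential is nonzero. -/
theorem exists_locRes_ne_zero (hK : IsFunctionField k K) (hg : IsGeometric k K) (P : Place k K)
    [FiniteDimensional k F] (φ : K →ₐ[k] F⸨X⸩) (hφ : LocRes.IsExpansionAt P.1 φ) {x : K}
    (hx : KaehlerDifferential.D k K x ≠ 0) : ∃ y : K, LocRes.locRes φ y x ≠ 0 := by
  haveI := isSeparable_coeff hK hg P φ hφ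
  obtain ⟨a, ha⟩ : ∃ a : F, Algebra.trace k F a ≠ 0 := by
    by_contra h
    push Not at h
    exact Algebra.trace_ne_zero k F (LinearMap.ext h)
  have ha0 : a ≠ 0 := by
    intro h0; rw [h0, map_zero] at ha; exact ha rfl
  have hφ' := hφ
  obtain ⟨hv, -, t, ht⟩ := hφ
  have hγ : Valued.v (LocRes.D F (φ t)) = 1 := val_D_uniformizer P.1 φ hv ht
  set w := LocRes.D F (φ x) with hw
  have hw0 : w ≠ 0 := by
    intro h0
    obtain ⟨g, hg'⟩ := Groth.Agent.Lib.Helper63.SepGen.exists_smul_D_eq hK hg hx t
    have := D_exp_eq φ hg'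
    rw [← hw, h0, mul_zero] at this
    rw [this, map_zero] at hγ
    exact zero_ne_one hγ
  set A : F⸨X⸩ := HahnSeries.single (-1) a with hA
  have hA0 : A ≠ 0 := by
    rw [hA]; exact HahnSeries.single_ne_zero ha0
  have hvA : Valued.v A = exp (1 : ℤ) := by
    have := (val_eq_exp_iff (f := A) (D := -1)).2 ⟨fun m hm => by
      rw [hA, HahnSeries.coeff_single_of_ne (by omega)], by
      rw [hA, HahnSeries.coeff_single_same]; exact ha0⟩
    simpa using this
  obtain ⟨s, hs⟩ := exists_val_sub_lt P φ hφ' (q := A * w⁻¹) (mul_ne_zero hA0 (inv_ne_zero hw0))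
  refine ⟨s, ?_⟩
  have h1 : φ s * w = A + (φ s - A * w⁻¹) * w := by
    rw [sub_mul, mul_assoc, inv_mul_cancel₀ hw0, mul_one]; ring
  have h2 : Valued.v ((φ s - A * w⁻¹) * w) ≤ exp (-(0 : ℤ)) := by
    have h3 : Valued.v ((φ s - A * w⁻¹) * w) < exp (1 : ℤ) := by
      rw [map_mul]
      have hvw : Valued.v w ≠ 0 := (Valuation.ne_zero_iff _).2 hw0
      calc Valued.v (φ s - A * w⁻¹) * Valued.v w < Valued.v (A * w⁻¹) * Valued.v w :=
            mul_lt_mul_of_pos_right hs (zero_lt_iff.2 hvw)
        _ = exp (1 : ℤ) := by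
          rw [map_mul, map_inv₀, mul_assoc, inv_mul_cancel₀ hvw, mul_one, hvA]
    have h4 : (Valued.v ((φ s - A * w⁻¹) * w) : ℤᵐ⁰) ≤ exp (0 : ℤ) := by
      by_cases h0 : Valued.v ((φ s - A * w⁻¹) * w) = 0
      · rw [h0]; exact zero_le
      · rw [← exp_log h0] at h3 ⊢
        rw [exp_lt_exp] at h3
        rw [exp_le_exp]
        omega
    simpa using h4
  have h5 : ((φ s - A * w⁻¹) * w).coeff (-1) = 0 :=
    (valuation_le_iff_coeff_lt_eq_zero F).1 h2 (-1) (by norm_num)
  rw [LocRes.locRes, LocRes.resExp, LocRes.res_apply, ← hw, h1, HahnSeries.coeff_add, h5, add_zero,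
    hA, HahnSeries.coeff_single_same]
  exact ha

end Approx

end Groth.Agent.Lib.Helper63.ExpSep
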