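import Mathlib.RingTheory.Valuation.Basic
import Mathlib.Algebra.Order.GroupWithZero.Canonical
import Mathlib.Algebra.GroupWithZero.WithZero
import Mathlib.Tactic.FieldSimp
import Mathlib.Tactic.Ring
import Mathlib.Tactic.Linarith

/-! Weak approximation for finitely many distinct surjective `ℤᵐ⁰`-valued valuations on a field
(helper63). No function-field hypotheses. -/

set_option autoImplicit false

namespace Groth.Agent.Lib.Helper63.Approx

open WithZero

local notation "ℤᵐ⁰" => WithZero (Multiplicative ℤ)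

/-- Archimedean property of `ℤᵐ⁰`. -/
theorem exists_pow_mul_lt_one {x : ℤᵐ⁰} (hx : x < 1) (y : ℤᵐ⁰) :
    ∃ N : ℕ, ∀ n ≥ N, x ^ n * y < 1 := by
  obtain rfl | hx0 := eq_or_ne x 0
  · refine ⟨1, fun n hn => ?_⟩
    rw [zero_pow (by omega), zero_mul]
    exact zero_lt_one
  obtain rfl | hy0 := eq_or_ne y 0
  · exact ⟨0, fun n _ => by rw [mul_zero]; exact zero_lt_one⟩
  obtain ⟨a, rfl⟩ : ∃ a, x = exp a := ⟨log x, (exp_log hx0).symm⟩
  obtain ⟨b, rfl⟩ : ∃ b, y = exp b := ⟨log y, (exp_log hy0).symm⟩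
  have ha : a < 0 := by
    rw [← exp_zero, exp_lt_exp] at hx
    exact hx
  refine ⟨b.toNat + 1, fun n hn => ?_⟩
  rw [← exp_nsmul, ← exp_add, ← exp_zero, exp_lt_exp, nsmul_eq_mul]
  have h1 : (n : ℤ) ≥ b.toNat + 1 := by exact_mod_cast hn
  have h2 : (b.toNat : ℤ) ≥ b := Int.self_le_toNat b
  nlinarith

variable {K : Type*} [Field K]

theorem exists_le_one_lt_of_ne {v w : Valuation K ℤᵐ⁰} (hv : Function.Surjective v)
    (hw : Function.Surjective w) (hne : v ≠ w) : ∃ a, v a ≤ 1 ∧ 1 < w a := by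
  by_contra hcon
  push Not at hcon
  apply hne
  have h_unit : ∀ u, v u = 1 → w u = 1 := by
    intro u hu
    have hu0 : u ≠ 0 := by
      rintro rfl
      rw [map_zero] at hu
      exact zero_ne_one hu
    have h1 : w u ≤ 1 := hcon u hu.le
    have h2 : w u⁻¹ ≤ 1 := hcon u⁻¹ (by rw [map_inv₀, hu, inv_one])
    rw [map_inv₀] at h2
    have hwu : w u ≠ 0 := (Valuation.ne_zero_iff w).2 hu0
    have h3 : 1 ≤ w u := by
      rwa [inv_le_one₀ (zero_lt_iff.2 hwu)] at h2
    exact le_antisymm h1 h3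
  obtain ⟨π, hπ⟩ := hv (exp (-1))
  have hπ0 : π ≠ 0 := by
    rintro rfl
    rw [map_zero] at hπ
    exact exp_ne_zero hπ.symm
  have hwπ0 : w π ≠ 0 := (Valuation.ne_zero_iff w).2 hπ0
  have hwπ1 : w π ≤ 1 := hcon π (by rw [hπ, ← exp_zero, exp_le_exp]; norm_num)
  set e : ℤ := -log (w π) with he
  have hwπ : w π = exp (-e) := by rw [he, neg_neg, exp_log hwπ0]
  have he0 : 0 ≤ e := by
    rw [hwπ, ← exp_zero, exp_le_exp] at hwπ1
    omega
  have key : ∀ a, a ≠ 0 → w a = exp (e * log (v a)) := by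
    intro a ha
    have hva : v a ≠ 0 := (Valuation.ne_zero_iff v).2 ha
    set n := log (v a) with hn
    have hvan : v a = exp n := (exp_log hva).symm
    have hu : v (a * π ^ n) = 1 := by
      rw [map_mul, map_zpow₀, hπ, hvan, ← exp_zsmul, ← exp_add, smul_eq_mul]
      rw [← exp_zero, exp_inj]
      ring
    have hwu := h_unit _ hu
    rw [map_mul, map_zpow₀, hwπ, ← exp_zsmul, smul_eq_mul] at hwu
    have : w a = (exp (n * -e))⁻¹ := eq_inv_of_mul_eq_one_left hwu
    rw [this, ← exp_neg]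
    congr 1
    ring
  have he1 : e = 1 := by
    obtain ⟨a, ha⟩ := hw (exp 1)
    have ha0 : a ≠ 0 := by
      rintro rfl
      rw [map_zero] at ha
      exact exp_ne_zero ha.symm
    rw [key a ha0, exp_inj] at ha
    rcases Int.eq_one_or_neg_one_of_mul_eq_one ha with h | h
    · exact h
    · omega
  ext a
  obtain rfl | ha := eq_or_ne a 0
  · rw [map_zero, map_zero]
  · rw [key a ha, he1, one_mul, exp_log ((Valuation.ne_zero_iff v).2 ha)]

theorem exists_one_lt_lt_one_of_ne {v w : Valuation K ℤᵐ⁰} (hv : Function.Surjective v)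
    (hw : Function.Surjective w) (hne : v ≠ w) : ∃ c, 1 < v c ∧ w c < 1 := by
  obtain ⟨a, ha1, ha2⟩ := exists_le_one_lt_of_ne hv hw hne
  obtain ⟨b, hb1, hb2⟩ := exists_le_one_lt_of_ne hw hv hne.symm
  have ha0 : a ≠ 0 := by
    rintro rfl
    rw [map_zero] at ha2
    exact not_lt_of_ge zero_le_one ha2
  have hva : v a ≠ 0 := (Valuation.ne_zero_iff v).2 ha0
  have hwa : w a ≠ 0 := (Valuation.ne_zero_iff w).2 ha0
  refine ⟨b / a, ?_, ?_⟩
  · rw [map_div₀, one_lt_div₀ (zero_lt_iff.2 hva)]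
    exact lt_of_le_of_lt ha1 hb2
  · rw [map_div₀, div_lt_one₀ (zero_lt_iff.2 hwa)]
    exact lt_of_le_of_lt hb1 ha2

/-- Weak approximation, first form: for pairwise distinct surjective valuations `v j` (`j ∈ s`)
and `v i` with `i ∉ s`, there is `a` with `1 < v i a` and `v j a < 1` for all `j ∈ s`. -/
theorem exists_one_lt_forall_lt_one {ι : Type*} [DecidableEq ι] (v : ι → Valuation K ℤᵐ⁰)
    (hv : ∀ i, Function.Surjective (v i)) (hinj : Function.Injective v) (i : ι) (s : Finset ι)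
    (his : i ∉ s) : ∃ a, 1 < v i a ∧ ∀ j ∈ s, v j a < 1 := by
  induction s using Finset.induction_on with
  | empty =>
    obtain ⟨a, ha⟩ := hv i (exp 1)
    refine ⟨a, ?_, by simp⟩
    rw [ha, ← exp_zero, exp_lt_exp]
    norm_num
  | insert k s hks ih =>
    have hik : i ≠ k := fun h => his (h ▸ Finset.mem_insert_self _ _)
    have his' : i ∉ s := fun h => his (Finset.mem_insert_of_mem h)
    obtain ⟨a, ha1, ha2⟩ := ih his'
    obtain ⟨b, hb1, hb2⟩ := exists_one_lt_lt_one_of_ne (hv i) (hv k) (fun h => hik (hinj h))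
    have ha0 : a ≠ 0 := by
      rintro rfl
      rw [map_zero] at ha1
      exact not_lt_of_ge zero_le_one ha1
    rcases lt_trichotomy (v k a) 1 with hka | hka | hka
    · exact ⟨a, ha1, fun j hj => by
        rcases Finset.mem_insert.1 hj with rfl | hj
        · exact hka
        · exact ha2 j hj⟩
    · -- `v k a = 1`: use `a ^ N * b`
      choose N hN using fun j : s => exists_pow_mul_lt_one (ha2 j.1 j.2) (v j.1 b)
      let M := Finset.univ.sup N
      refine ⟨a ^ M * b, ?_, fun j hj => ?_⟩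
      · rw [map_mul, map_pow]
        exact lt_of_lt_of_le hb1 (le_mul_of_one_le_left' (one_le_pow₀ ha1.le))
      · rcases Finset.mem_insert.1 hj with rfl | hj
        · rw [map_mul, map_pow, hka, one_pow, one_mul]; exact hb2
        · rw [map_mul, map_pow]
          exact hN ⟨j, hj⟩ M (Finset.le_sup (f := N) (Finset.mem_univ (⟨j, hj⟩ : {x // x ∈ s})))
    · -- `1 < v k a`: use `a ^ N * b / (1 + a ^ N)`
      choose N hN using fun j : s => exists_pow_mul_lt_one (ha2 j.1 j.2) (v j.1 b)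
      let M := Finset.univ.sup N + 1
      have hM : M ≠ 0 := Nat.succ_ne_zero _
      have hgt : ∀ w : Valuation K ℤᵐ⁰, 1 < w a → w (1 + a ^ M) = w (a ^ M) := by
        intro w hwa
        apply Valuation.map_add_eq_of_lt_right
        rw [map_one, map_pow]
        exact one_lt_pow₀ hwa hM
      have hlt : ∀ w : Valuation K ℤᵐ⁰, w a < 1 → w (1 + a ^ M) = 1 := by
        intro w hwa
        apply Valuation.map_one_add_of_lt
        rw [map_pow]
        exact pow_lt_one₀ zero_le hwa hM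
      have hne0 : ∀ w : Valuation K ℤᵐ⁰, w (a ^ M) ≠ 0 := fun w =>
        (Valuation.ne_zero_iff w).2 (pow_ne_zero _ ha0)
      refine ⟨a ^ M * b / (1 + a ^ M), ?_, fun j hj => ?_⟩
      · rw [map_div₀, hgt _ ha1, map_mul, mul_div_cancel_left₀ _ (hne0 _)]
        exact hb1
      · rcases Finset.mem_insert.1 hj with rfl | hj
        · rw [map_div₀, hgt _ hka, map_mul, mul_div_cancel_left₀ _ (hne0 _)]
          exact hb2
        · rw [map_div₀, hlt _ (ha2 j hj), div_one, map_mul, map_pow]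
          exact hN ⟨j, hj⟩ M (le_trans (Finset.le_sup (f := N) (Finset.mem_univ (⟨j, hj⟩ : {x // x ∈ s})))
            (Nat.le_succ _))

/-- Weak approximation, second form: there is `x` with `v i x = 1` and `v j x < 1` for `j ∈ s`. -/
theorem exists_eq_one_forall_lt_one {ι : Type*} [DecidableEq ι] (v : ι → Valuation K ℤᵐ⁰)
    (hv : ∀ i, Function.Surjective (v i)) (hinj : Function.Injective v) (i : ι) (s : Finset ι)
    (his : i ∉ s) : ∃ x, v i x = 1 ∧ ∀ j ∈ s, v j x < 1 := by
  obtain ⟨a, ha1, ha2⟩ := exists_one_lt_forall_lt_one v hv hinj i s his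
  have ha0 : a ≠ 0 := by
    rintro rfl
    rw [map_zero] at ha1
    exact not_lt_of_ge zero_le_one ha1
  refine ⟨a / (1 + a), ?_, fun j hj => ?_⟩
  · have h1 : v i (1 + a) = v i a := by
      apply Valuation.map_add_eq_of_lt_right
      rw [map_one]; exact ha1
    rw [map_div₀, h1, div_self ((Valuation.ne_zero_iff _).2 ha0)]
  · have h1 : v j (1 + a) = 1 := Valuation.map_one_add_of_lt _ (ha2 j hj)
    rw [map_div₀, h1, div_one]
    exact ha2 j hj

/-- Approximate idempotents: `z` close to `1` at `v i` and close to `0` at the other `v j`. -/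
theorem exists_approx_idem {ι : Type*} [Fintype ι] [DecidableEq ι] (v : ι → Valuation K ℤᵐ⁰)
    (hv : ∀ i, Function.Surjective (v i)) (hinj : Function.Injective v) (i : ι) {δ : ℤᵐ⁰}
    (hδ : δ ≠ 0) : ∃ z, v i (z - 1) < δ ∧ ∀ j, j ≠ i → v j z < δ := by
  obtain ⟨a, ha1, ha2⟩ := exists_one_lt_forall_lt_one v hv hinj i (Finset.univ.erase i)
    (Finset.notMem_erase i _)
  have ha0 : a ≠ 0 := by
    rintro rfl
    rw [map_zero] at ha1
    exact not_lt_of_ge zero_le_one ha1
  have hδpos : 0 < δ := zero_lt_iff.2 hδ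
  have hvia0 : v i a ≠ 0 := (Valuation.ne_zero_iff _).2 ha0
  have hinv : (v i a)⁻¹ < 1 := inv_lt_one_of_one_lt₀ ha1
  obtain ⟨N₀, hN₀⟩ := exists_pow_mul_lt_one hinv δ⁻¹
  choose N hN using fun j : {j // j ≠ i} =>
    exists_pow_mul_lt_one (ha2 j.1 (Finset.mem_erase.2 ⟨j.2, Finset.mem_univ _⟩)) δ⁻¹
  let M := max N₀ (Finset.univ.sup N) + 1
  have hM : M ≠ 0 := Nat.succ_ne_zero _
  have haM0 : a ^ M ≠ 0 := pow_ne_zero _ ha0
  have h1 : v i (1 + a ^ M) = v i (a ^ M) := by
    apply Valuation.map_add_eq_of_lt_right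
    rw [map_one, map_pow]
    exact one_lt_pow₀ ha1 hM
  have hne : (1 : K) + a ^ M ≠ 0 := by
    intro h
    rw [h, map_zero] at h1
    exact (Valuation.ne_zero_iff (v i)).2 haM0 h1.symm
  refine ⟨a ^ M / (1 + a ^ M), ?_, fun j hj => ?_⟩
  · have : a ^ M / (1 + a ^ M) - 1 = -(1 + a ^ M)⁻¹ := by
      field_simp
      ring
    rw [this, Valuation.map_neg, map_inv₀, h1, map_pow, ← inv_pow]
    have := hN₀ M (le_trans (le_max_left _ _) (Nat.le_succ _))
    rwa [mul_inv_lt_iff₀ hδpos, one_mul] at this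
  · have hja : v j a < 1 := ha2 j (Finset.mem_erase.2 ⟨hj, Finset.mem_univ _⟩)
    have h2 : v j (1 + a ^ M) = 1 := by
      apply Valuation.map_one_add_of_lt
      rw [map_pow]
      exact pow_lt_one₀ zero_le hja hM
    rw [map_div₀, h2, div_one, map_pow]
    have := hN ⟨j, hj⟩ M (le_trans (le_trans (Finset.le_sup (f := N)
      (Finset.mem_univ (⟨j, hj⟩ : {j // j ≠ i}))) (le_max_right _ _)) (Nat.le_succ _))
    rwa [mul_inv_lt_iff₀ hδpos, one_mul] at this

/-- Weak approximation theorem: simultaneous approximation of given elements. -/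
theorem exists_approx {ι : Type*} [Fintype ι] [DecidableEq ι] (v : ι → Valuation K ℤᵐ⁰)
    (hv : ∀ i, Function.Surjective (v i)) (hinj : Function.Injective v) (a : ι → K) {δ : ℤᵐ⁰}
    (hδ : δ ≠ 0) : ∃ x, ∀ i, v i (x - a i) < δ := by
  -- a bound for all `v i (a j)`
  obtain ⟨B, hB⟩ := Finset.exists_le
    (insert (1 : ℤᵐ⁰) (Finset.univ.image (fun p : ι × ι => v p.1 (a p.2))))
  have hB1 : 1 ≤ B := hB 1 (Finset.mem_insert_self _ _)
  have hBa : ∀ i j, v i (a j) ≤ B := fun i j =>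
    hB _ (Finset.mem_insert_of_mem (Finset.mem_image.2 ⟨(i, j), Finset.mem_univ _, rfl⟩))
  have hB0 : B ≠ 0 := (lt_of_lt_of_le zero_lt_one hB1).ne'
  set δ' : ℤᵐ⁰ := δ * exp (-1) * B⁻¹ with hδ'
  have hδ'0 : δ' ≠ 0 := mul_ne_zero (mul_ne_zero hδ exp_ne_zero) (inv_ne_zero hB0)
  have hδ'lt : B * δ' < δ := by
    rw [hδ', mul_comm, mul_assoc, inv_mul_cancel₀ hB0, mul_one]
    have : exp (-1 : ℤ) < 1 := by rw [← exp_zero, exp_lt_exp]; norm_num
    calc δ * exp (-1) < δ * 1 := by
          rw [mul_lt_mul_iff_right₀ (zero_lt_iff.2 hδ)]; exact this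
      _ = δ := mul_one δ
  choose z hz1 hz2 using fun i => exists_approx_idem v hv hinj i hδ'0
  refine ⟨∑ j, a j * z j, fun i => ?_⟩
  have hsplit : ∑ j, a j * z j - a i = ∑ j, (a j * z j - if j = i then a i else 0) := by
    rw [Finset.sum_sub_distrib, Finset.sum_ite_eq' Finset.univ i, if_pos (Finset.mem_univ _)]
  rw [hsplit]
  apply Valuation.map_sum_lt _ hδ
  intro j _
  by_cases hji : j = i
  · subst hji
    rw [if_pos rfl]
    have : a j * z j - a j = a j * (z j - 1) := by ring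
    rw [this, map_mul]
    calc v j (a j) * v j (z j - 1) ≤ B * v j (z j - 1) := mul_le_mul_left (hBa j j) _
      _ ≤ B * δ' := mul_le_mul_right (hz1 j).le _
      _ < δ := hδ'lt
  · rw [if_neg hji, sub_zero, map_mul]
    calc v i (a j) * v i (z j) ≤ B * v i (z j) := mul_le_mul_left (hBa i j) _
      _ ≤ B * δ' := mul_le_mul_right (hz2 j i (Ne.symm hji)).le _
      _ < δ := hδ'lt

end Groth.Agent.Lib.Helper63.Approx
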