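import Groth.Agent.Lib.Helper63.SumEF
import Groth.Agent.Lib.Helper55.FunFld.Discrete
import Groth.Agent.Lib.Helper55.FunFld.Zeros

/-! The integral closure of the valuation ring of a place in a finite extension is a finite
module (helper63). -/

set_option autoImplicit false
set_option linter.style.haveILetI false

namespace Groth.Agent.Lib.Helper63.IntClosure

open WithZero IntermediateField FunFld Groth.Agent.Lib.Helper55 Groth.Agent.Lib.Helper63.FunFldExt
  Groth.Agent.Lib.Helper63.FundIneq Groth.Agent.Lib.Helper63.SumEF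

local notation "ℤᵐ⁰" => WithZero (Multiplicative ℤ)

section

variable {R L : Type*} [CommRing R] [Field L] [Algebra R L]

/-- Elements integral over a ring on which `w ≤ 1` have `w ≤ 1`. -/
theorem val_le_one_of_isIntegral' (w : Valuation L ℤᵐ⁰) (h : ∀ x : R, w (algebraMap R L x) ≤ 1)
    {y : L} (hy : IsIntegral R y) : w y ≤ 1 := by
  rw [← (Valuation.integer.integers w).isIntegral_iff_v_le_one]
  obtain ⟨p, hp, hpy⟩ := hy
  let φ : R →+* w.integer := (algebraMap R L).codRestrict w.integer h
  refine ⟨p.map φ, hp.map φ, ?_⟩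
  rw [Polynomial.eval₂_map]
  exact hpy

end

universe uk uK uK'

variable {k : Type uk} {K : Type uK} {K' : Type uK'} [Field k] [Field K] [Field K'] [Algebra k K]
  [Algebra K K'] [Algebra k K'] [IsScalarTower k K K']

/-- A `K`-basis of `K'` such that every element integral at all places above `P` has coefficients
in `O_P`. -/
theorem exists_integral_basis [FiniteDimensional K K'] (hK : IsFunctionField k K)
    (P : Place k K) :
    ∃ (M : Type uK') (_ : Fintype M) (u : M → K'), LinearIndependent K u ∧
      ∀ y : K', (∀ Q : Place k K', IsOver Q P → Q.1 y ≤ 1) →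
        ∃ c : M → K, (∀ m, P.1 (c m) ≤ 1) ∧ y = ∑ m, c m • u m := by
  classical
  have hfin := finite_setOf_isOver (K' := K') P
  set Qs := hfin.toFinset with hQs
  have hmem : ∀ Q, Q ∈ Qs ↔ IsOver Q P := fun Q => hfin.mem_toFinset
  obtain ⟨f, u, hdeg, -, hu, hadapt⟩ := exists_adapted_places P Qs (fun Q => ramIdx Q P)
    (fun Q hQ => isOverWith_ramIdx ((hmem Q).1 hQ))
  refine ⟨_, inferInstance, u, hu, ?_⟩
  have hsum := sum_ramIdx_mul_deg_eq hK P Qs hmem
  have hcard : Fintype.card (Σ Q : Qs, Fin (f Q) × Fin (ramIdx Q.1 P)) =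
      Module.finrank K K' := by
    rw [Fintype.card_sigma]
    simp only [Fintype.card_prod, Fintype.card_fin]
    have hP : 0 < P.deg := ff_deg_pos hK P
    apply Nat.eq_of_mul_eq_mul_right hP
    rw [← hsum, ← Finset.sum_coe_sort Qs, Finset.sum_mul]
    refine Finset.sum_congr rfl fun Q _ => ?_
    rw [hdeg Q]
    ring
  intro y hy
  exact exists_integral_coeff (K := K) (L := K') P.1 (fun Q : Qs => Q.1.1)
    (fun Q => ramIdx Q.1 P) (fun Q x => isOverWith_ramIdx ((hmem Q.1).1 Q.2) x) u hu hcard
    hadapt y (fun Q => hy Q.1 ((hmem Q.1).1 Q.2))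

/-- The integral closure of `O_P` in a finite extension `K'` of `K` is a finite `O_P`-module. -/
theorem integralClosure_finite [FiniteDimensional K K'] (hK : IsFunctionField k K) (P : Place k K)
    [Algebra P.O K'] [IsScalarTower P.O K K'] :
    Module.Finite P.O (integralClosure P.O K') := by
  classical
  obtain ⟨M, _, u, -, hspan⟩ := exists_integral_basis (K' := K') hK P
  have hle : Subalgebra.toSubmodule (integralClosure P.O K') ≤
      Submodule.span P.O (Set.range u) := by
    intro y hy
    have hyint : IsIntegral P.O y := hy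
    have hyQ : ∀ Q : Place k K', IsOver Q P → Q.1 y ≤ 1 := by
      intro Q hQ
      obtain ⟨e, he⟩ := hQ
      refine val_le_one_of_isIntegral' Q.1 (fun x => ?_) hyint
      rw [IsScalarTower.algebraMap_apply P.O K K']
      exact val_le_one_of_isOverWith he x.2
    obtain ⟨c, hc, rfl⟩ := hspan y hyQ
    refine Submodule.sum_mem _ fun m _ => ?_
    have : c m • u m = (⟨c m, hc m⟩ : P.O) • u m :=
      IsScalarTower.algebraMap_smul K (⟨c m, hc m⟩ : P.O) (u m)
    rw [this]
    exact Submodule.smul_mem _ _ (Submodule.subset_span ⟨m, rfl⟩)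
  haveI : IsPrincipalIdealRing P.O := ff_vs_isPrincipalIdealRing hK P.O (fun c => P.2.1 c)
  haveI : Module.Finite P.O (Submodule.span P.O (Set.range u)) :=
    Module.Finite.span_of_finite P.O (Set.finite_range u)
  haveI : IsNoetherian P.O (Submodule.span P.O (Set.range u)) :=
    isNoetherian_of_isNoetherianRing_of_finite _ _
  haveI : IsNoetherian P.O (Subalgebra.toSubmodule (integralClosure P.O K')) :=
    isNoetherian_of_le hle
  have hfg : (Subalgebra.toSubmodule (integralClosure P.O K')).FG :=
    Module.Finite.iff_fg.1 inferInstance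
  exact Module.Finite.iff_fg.2 hfg

end Groth.Agent.Lib.Helper63.IntClosure
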