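import Groth.Agent.Lib.Helper63.FundIneq
import Groth.Agent.Lib.Helper55.FunFld.Degree
import Mathlib.FieldTheory.LinearDisjoint
import Mathlib.FieldTheory.AlgebraicClosure

/-! Constant field extensions: for `k ⊆ k' ⊆ E` with `k'/k` algebraic and `x ∈ E` transcendental,
`[E : k(x)] = [k' : k] [E : k'(x)]`; the function field `K'/k'` where `k'` is the algebraic
closure of `k` in a finite extension `K'` of a function field `K/k` (helper63). -/

set_option autoImplicit false
set_option linter.style.haveILetI false

namespace Groth.Agent.Lib.Helper63.ConstField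

open Polynomial IntermediateField Groth.Agent.Lib.Helper55

section field

variable {k E : Type*} [Field k] [Field E] [Algebra k E]

/-- A `k`-linearly independent family in an extension `k'` stays linearly independent over `k(x)`
for `x` transcendental over `k'`. -/
theorem linearIndependent_adjoin_of_transcendental {k' : Type*} [Field k'] [Algebra k k']
    [Algebra k' E] [IsScalarTower k k' E] {x : E} (hx : Transcendental k' x) {ι : Type*}
    (b : ι → k') (hb : LinearIndependent k b) :
    LinearIndependent k⟮x⟯ (algebraMap k' E ∘ b) := by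
  classical
  rw [linearIndependent_iff_finset_linearIndependent]
  intro s
  have hbs : LinearIndependent k (b ∘ (Subtype.val : s → ι)) :=
    hb.comp _ Subtype.val_injective
  have hx0 : x ≠ 0 := fun h => hx (h ▸ isAlgebraic_zero)
  refine ff_linearIndependent_of_coeff_zero hx0 _ ?_
  intro p hp i
  set P : k'[X] := ∑ i : s, C (b i) * (p i).map (algebraMap k k') with hP
  have hPx : aeval x P = 0 := by
    rw [hP, map_sum, ← hp]
    refine Finset.sum_congr rfl fun i _ => ?_
    rw [map_mul, aeval_C, aeval_map_algebraMap, mul_comm]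
    rfl
  have hP0 : P = 0 := by
    by_contra hne
    exact hx ⟨P, hne, hPx⟩
  have hcoeff : ∑ j : s, (p j).coeff 0 • b j = 0 := by
    have := congrArg (fun q => q.coeff 0) hP0
    simp only [hP, finsetSum_coeff, coeff_C_mul, coeff_map, coeff_zero] at this
    rw [← this]
    refine Finset.sum_congr rfl fun j _ => ?_
    rw [Algebra.smul_def, mul_comm]
  exact Fintype.linearIndependent_iff.1 hbs _ hcoeff i

variable (k' : IntermediateField k E)

theorem adjoin_adjoin_eq (x : E) : adjoin k' ((k⟮x⟯ : IntermediateField k E) : Set E) = k'⟮x⟯ := by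
  apply le_antisymm
  · rw [adjoin_le_iff]
    intro y hy
    have h1 : k⟮x⟯ ≤ (k'⟮x⟯).restrictScalars k := by
      rw [adjoin_simple_le_iff]
      exact mem_adjoin_simple_self k' x
    exact h1 hy
  · rw [adjoin_simple_le_iff]
    exact subset_adjoin _ _ (mem_adjoin_simple_self k x)

theorem rank_mul_rank_adjoin [Algebra.IsAlgebraic k k'] {x : E} (hx : Transcendental k' x) :
    Module.rank k k' * Module.rank k'⟮x⟯ E = Module.rank k⟮x⟯ E := by
  have H : (k⟮x⟯ : IntermediateField k E).LinearDisjoint k' :=
    IntermediateField.LinearDisjoint.of_basis_right' (Module.Basis.ofVectorSpace k k')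
      (linearIndependent_adjoin_of_transcendental hx _ (Module.Basis.ofVectorSpace k k').linearIndependent)
  have := H.rank_right_mul_adjoin_rank_eq_of_isAlgebraic (.inr inferInstance)
  rw [adjoin_adjoin_eq] at this
  exact this

theorem finite_of_finite_adjoin [Algebra.IsAlgebraic k k'] {x : E} (hx : Transcendental k' x)
    [FiniteDimensional k⟮x⟯ E] :
    FiniteDimensional k k' ∧ FiniteDimensional k'⟮x⟯ E ∧
      Module.finrank k k' * Module.finrank k'⟮x⟯ E = Module.finrank k⟮x⟯ E := by
  have h := rank_mul_rank_adjoin k' hx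
  have hlt : Module.rank k⟮x⟯ E < Cardinal.aleph0 := Module.rank_lt_aleph0 _ _
  rw [← h] at hlt
  have h1 : Module.rank k k' ≠ 0 := (rank_pos (R := k) (M := k')).ne'
  have h2 : Module.rank k'⟮x⟯ E ≠ 0 := (rank_pos (R := k'⟮x⟯) (M := E)).ne'
  rw [Cardinal.mul_lt_aleph0_iff_of_ne_zero h1 h2] at hlt
  refine ⟨Module.rank_lt_aleph0_iff.1 hlt.1, Module.rank_lt_aleph0_iff.1 hlt.2, ?_⟩
  have := congrArg Cardinal.toNat h
  rw [Cardinal.toNat_mul] at this
  exact this

end field

section funfld

open FunFld

variable {k K K' : Type*} [Field k] [Field K] [Field K'] [Algebra k K] [Algebra K K']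
  [Algebra k K'] [IsScalarTower k K K']

/-- `[K' : k(x)] = [K : k(x₀)] [K' : K]` for `x` the image of `x₀`. -/
theorem finrank_adjoin_map (x₀ : K) :
    Module.finrank k⟮algebraMap K K' x₀⟯ K' = Module.finrank k⟮x₀⟯ K * Module.finrank K K' := by
  rw [Module.finrank_mul_finrank k⟮x₀⟯ K K']
  symm
  let f : K →ₐ[k] K' := IsScalarTower.toAlgHom k K K'
  have hmap : (k⟮x₀⟯).map f = k⟮algebraMap K K' x₀⟯ := by
    rw [adjoin_map, Set.image_singleton]
    rfl
  let i : k⟮x₀⟯ ≃ₐ[k] k⟮algebraMap K K' x₀⟯ := (equivMap k⟮x₀⟯ f).trans (equivOfEq hmap)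
  refine Algebra.finrank_eq_of_equiv_equiv i.toRingEquiv (RingEquiv.refl K') ?_
  ext y
  rfl

theorem finiteDimensional_adjoin_map [FiniteDimensional K K'] {x₀ : K}
    [FiniteDimensional k⟮x₀⟯ K] : FiniteDimensional k⟮algebraMap K K' x₀⟯ K' := by
  apply Module.finite_of_finrank_pos
  rw [finrank_adjoin_map]
  exact Nat.mul_pos Module.finrank_pos Module.finrank_pos

variable (k K K') in
/-- `K'` is a function field over the algebraic closure of `k` in `K'`. -/
theorem isFunctionField_algebraicClosure (hK : IsFunctionField k K) [FiniteDimensional K K'] :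
    IsFunctionField (algebraicClosure k K') K' := by
  obtain ⟨⟨x₀, hx₀, hfin⟩, -⟩ := hK
  refine ⟨⟨algebraMap K K' x₀, ?_, ?_⟩, ?_⟩
  · rw [← Algebra.IsAlgebraic.transcendental_iff (R := k)]
    exact (transcendental_algebraMap_iff (algebraMap K K').injective).2 hx₀
  · have h1 : Transcendental (algebraicClosure k K') (algebraMap K K' x₀) := by
      rw [← Algebra.IsAlgebraic.transcendental_iff (R := k)]
      exact (transcendental_algebraMap_iff (algebraMap K K').injective).2 hx₀
    have := finiteDimensional_adjoin_map (k := k) (K' := K') (x₀ := x₀)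
    exact (finite_of_finite_adjoin (algebraicClosure k K') h1).2.1
  · intro y hy
    have : IsAlgebraic k y := hy.restrictScalars k
    exact ⟨⟨y, mem_algebraicClosure_iff.2 this⟩, rfl⟩

end funfld

section places

open FunFld IsLocalRing Groth.Agent.Lib.Helper63.FunFldExt

variable {k K' : Type*} [Field k] [Field K'] [Algebra k K'] (k' : IntermediateField k K')

/-- A place over `k` is a place over an algebraic extension `k'` of `k` inside `K'`. -/
def toConst [Algebra.IsAlgebraic k k'] (Q : Place k K') : Place k' K' :=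
  ⟨Q.1, fun c => val_le_one_of_isIntegral Q.1 Q.2.1
    ((Algebra.IsIntegral.isIntegral (R := k) c).map (IsScalarTower.toAlgHom k k' K')), Q.2.2⟩

/-- A place over `k'` is a place over `k`. -/
def ofConst (Q' : Place k' K') : Place k K' :=
  ⟨Q'.1, fun c => by rw [IsScalarTower.algebraMap_apply k k' K']; exact Q'.2.1 _, Q'.2.2⟩

@[simp] theorem toConst_val [Algebra.IsAlgebraic k k'] (Q : Place k K') :
    (toConst k' Q).1 = Q.1 := rfl

@[simp] theorem ofConst_val (Q' : Place k' K') : (ofConst k' Q').1 = Q'.1 := rfl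

@[simp] theorem toConst_ofConst [Algebra.IsAlgebraic k k'] (Q' : Place k' K') :
    toConst k' (ofConst k' Q') = Q' := rfl

@[simp] theorem ofConst_toConst [Algebra.IsAlgebraic k k'] (Q : Place k K') :
    ofConst k' (toConst k' Q) = Q := rfl

theorem toConst_injective [Algebra.IsAlgebraic k k'] :
    Function.Injective (toConst k' : Place k K' → Place k' K') := fun Q₁ Q₂ h => by
  rw [← ofConst_toConst k' Q₁, h, ofConst_toConst]

theorem toConst_ord [Algebra.IsAlgebraic k k'] (Q : Place k K') (x : K') :
    (toConst k' Q).ord x = Q.ord x := rfl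

theorem deg_eq_mul_deg_toConst [Algebra.IsAlgebraic k k'] (Q : Place k K') :
    Q.deg = Module.finrank k k' * (toConst k' Q).deg := by
  letI : Algebra k' Q.O := Place.algO (toConst k' Q)
  haveI : IsScalarTower k k' Q.O := by
    refine IsScalarTower.of_algebraMap_eq fun c => ?_
    apply Subtype.ext
    exact IsScalarTower.algebraMap_apply k k' K' c
  exact (Module.finrank_mul_finrank k k' (ResidueField Q.O)).symm

end places

section degree

open FunFld IsLocalRing Groth.Agent.Lib.Helper63.FunFldExt

variable {k K K' : Type*} [Field k] [Field K] [Field K'] [Algebra k K] [Algebra K K']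
  [Algebra k K'] [IsScalarTower k K K']

/-- The degree formula for the zeros of `x ∈ K` in a finite extension `K'/K` (degrees over `k`,
which need not be algebraically closed in `K'`): `∑ ord_Q(x) deg_k Q = [K : k(x)] [K' : K]`. -/
theorem sum_zeros_eq [FiniteDimensional K K'] (hK : IsFunctionField k K) {x₀ : K}
    (hx₀ : Transcendental k x₀) :
    {Q : Place k K' | Q.1 (algebraMap K K' x₀) < 1}.Finite ∧
    ∀ Zs : Finset (Place k K'), (∀ Q, Q ∈ Zs ↔ Q.1 (algebraMap K K' x₀) < 1) →
      ∑ Q ∈ Zs, Q.ord (algebraMap K K' x₀) * (Q.deg : ℤ) =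
        (Module.finrank k⟮x₀⟯ K : ℤ) * Module.finrank K K' := by
  classical
  set k' := algebraicClosure k K' with hk'
  have hK' := isFunctionField_algebraicClosure k K K' hK
  set x : K' := algebraMap K K' x₀ with hx
  have hxk : Transcendental k x := (transcendental_algebraMap_iff (algebraMap K K').injective).2 hx₀
  have hx' : Transcendental k' x := by
    rw [← Algebra.IsAlgebraic.transcendental_iff (R := k)]
    exact hxk
  have hx0 : x ≠ 0 := fun h => hxk (h ▸ isAlgebraic_zero)
  have hfin' := ff_finite_zeros hK' hx'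
  have hfinK : FiniteDimensional k⟮x₀⟯ K := ff_finite_of_transcendental hK hx₀
  have hfinx : FiniteDimensional k⟮x⟯ K' := finiteDimensional_adjoin_map
  refine ⟨(hfin'.preimage ((toConst_injective k').injOn)).subset fun Q hQ => hQ, ?_⟩
  intro Zs hZs
  have hdeg := ff_deg_zerosDiv hK' hx'
  have hsub : (FunFld.div k' x ⊔ 0).support ⊆ Zs.image (toConst k') := by
    intro Q' hQ'
    rw [Finsupp.mem_support_iff, Finsupp.sup_apply, ff_div_apply hK'] at hQ'
    have hpos : 0 < Q'.ord x := by
      by_contra hle
      push Not at hle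
      exact hQ' (max_eq_right hle)
    rw [Finset.mem_image]
    refine ⟨ofConst k' Q', (hZs _).2 ?_, toConst_ofConst k' Q'⟩
    exact (ff_ord_pos_iff Q' hx0).1 hpos
  rw [ff_deg_eq_sum_of_support_subset _ _ hsub,
    Finset.sum_image (fun Q₁ _ Q₂ _ h => toConst_injective k' h)] at hdeg
  have hterm : ∀ Q ∈ Zs, (FunFld.div k' x ⊔ 0) (toConst k' Q) * ((toConst k' Q).deg : ℤ) =
      Q.ord x * ((toConst k' Q).deg : ℤ) := by
    intro Q hQ
    rw [Finsupp.sup_apply, ff_div_apply hK', toConst_ord]
    have hpos : 0 < Q.ord x := (ff_ord_pos_iff Q hx0).2 ((hZs Q).1 hQ)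
    rw [show (0 : Divisor k' K') (toConst k' Q) = 0 from rfl, max_eq_left hpos.le]
  rw [Finset.sum_congr rfl hterm] at hdeg
  obtain ⟨-, -, hmul⟩ := finite_of_finite_adjoin k' hx'
  have h1 : ∑ Q ∈ Zs, Q.ord x * (Q.deg : ℤ) =
      (Module.finrank k k' : ℤ) * ∑ Q ∈ Zs, Q.ord x * ((toConst k' Q).deg : ℤ) := by
    rw [Finset.mul_sum]
    refine Finset.sum_congr rfl fun Q _ => ?_
    rw [deg_eq_mul_deg_toConst k' Q]
    push_cast
    ring
  rw [h1, hdeg]
  have h2 := finrank_adjoin_map (k := k) (K' := K') x₀
  rw [← hx] at h2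
  rw [← Nat.cast_mul, ← Nat.cast_mul, ← h2]
  exact_mod_cast hmul

end degree

end Groth.Agent.Lib.Helper63.ConstField
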