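import Groth.Agent.Lib.Helper63.Inertia
import Groth.Agent.Lib.Helper63.ConstField

/-! The inertia field: `K'/K₁` is totally ramified at `Q` (helper63). -/

set_option autoImplicit false
set_option linter.style.haveILetI false
set_option linter.unusedSectionVars false

namespace Groth.Agent.Lib.Helper63.InertiaField

open WithZero IntermediateField FunFld IsLocalRing Polynomial Groth.Agent.Lib.Helper55
  Groth.Agent.Lib.Helper63.Approx Groth.Agent.Lib.Helper63.FunFldExt
  Groth.Agent.Lib.Helper63.FundIneq Groth.Agent.Lib.Helper63.SumEF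
  Groth.Agent.Lib.Helper63.Galois Groth.Agent.Lib.Helper63.ConstField
  Groth.Agent.Lib.Helper63.Tower Groth.Agent.Lib.Helper63.Inertia
open scoped Pointwise

variable {k K K' : Type*} [Field k] [Field K] [Field K'] [Algebra k K] [Algebra K K']
  [Algebra k K'] [IsScalarTower k K K']

/-- Places of a finite extension of a function field have positive degree over `k`. -/
theorem deg_pos_of_finite [FiniteDimensional K K'] (hK : IsFunctionField k K) (Q : Place k K') :
    0 < Q.deg := by
  have hK' := isFunctionField_algebraicClosure k K K' hK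
  obtain ⟨⟨x₀, hx₀, hfin⟩, -⟩ := hK
  have hxk : Transcendental k (algebraMap K K' x₀) :=
    (transcendental_algebraMap_iff (algebraMap K K').injective).2 hx₀
  have hx' : Transcendental (algebraicClosure k K') (algebraMap K K' x₀) := by
    rw [← Algebra.IsAlgebraic.transcendental_iff (R := k)]
    exact hxk
  haveI : FiniteDimensional k⟮x₀⟯ K := hfin
  haveI : FiniteDimensional k⟮algebraMap K K' x₀⟯ K' := finiteDimensional_adjoin_map
  obtain ⟨hfin1, -, -⟩ := finite_of_finite_adjoin (algebraicClosure k K') hx'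
  rw [deg_eq_mul_deg_toConst (algebraicClosure k K') Q]
  exact Nat.mul_pos Module.finrank_pos (ff_deg_pos hK' _)

/-- `K'` is totally ramified at `Q` over the inertia field of `Q`. -/
theorem totallyRamified [FiniteDimensional K K'] [IsGalois K K'] (hK : IsFunctionField k K)
    (Q : Place k K') [Algebra.IsSeparable k (ResidueField Q.O)] :
    let K₁ : IntermediateField K K' := IntermediateField.fixedField
        (((Q.O).inertiaSubgroup K).map ((Q.O).decompositionSubgroup K).subtype)
    ∃ Q₁ : FunFld.Place k K₁, FunFld.IsOverWith Q Q₁ (Module.finrank K₁ K') := by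
  intro K₁
  haveI : IsScalarTower k K₁ K' := IsScalarTower.of_algebraMap_eq (fun c => rfl)
  obtain ⟨Q₁, hQ₁⟩ := exists_isOver_below (K := K₁) Q
  refine ⟨Q₁, ?_⟩
  have he := isOverWith_ramIdx hQ₁
  have hcard := card_inertia' (K := K₁) he (deg_pos_of_finite hK Q₁)
    (fun Qs hQs => sum_ramIdx_mul_deg_eq_tower hK Q₁ Qs hQs)
  -- every element of `Gal(K'/K₁)` comes from the inertia group
  have key : ∀ σ : K' ≃ₐ[K₁] K', ∃ τ : (Q.O).decompositionSubgroup K,
      τ ∈ (Q.O).inertiaSubgroup K ∧ τ.1 = σ.restrictScalars K := by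
    intro σ
    have hmem : σ.restrictScalars K ∈ K₁.fixingSubgroup := by
      rw [IntermediateField.mem_fixingSubgroup_iff]
      intro x hx
      exact σ.commutes ⟨x, hx⟩
    rw [IntermediateField.fixingSubgroup_fixedField] at hmem
    obtain ⟨τ, hτ, hτσ⟩ := Subgroup.mem_map.1 hmem
    exact ⟨τ, hτ, hτσ⟩
  have hdec : ∀ σ : K' ≃ₐ[K₁] K', σ ∈ (Q.O).decompositionSubgroup K₁ := by
    intro σ
    obtain ⟨τ, -, hτσ⟩ := key σ
    have hτ := τ.2
    rw [MulAction.mem_stabilizer_iff] at hτ ⊢
    ext x
    rw [ValuationSubring.mem_pointwise_smul_iff_inv_smul_mem]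
    conv_rhs => rw [← hτ, ValuationSubring.mem_pointwise_smul_iff_inv_smul_mem]
    rw [hτσ]
    rfl
  have hin : ∀ σ : (Q.O).decompositionSubgroup K₁, σ ∈ (Q.O).inertiaSubgroup K₁ := by
    intro σ
    obtain ⟨τ, hτ, hτσ⟩ := key σ.1
    rw [ValuationSubring.inertiaSubgroup, MonoidHom.mem_ker] at hτ ⊢
    ext x
    obtain ⟨a, rfl⟩ := residue_surjective x
    have h1 : (MulSemiringAction.toRingAut _ (ResidueField Q.O) τ) (residue Q.O a) =
        residue Q.O a := by rw [hτ]; rfl
    change σ • residue Q.O a = residue Q.O a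
    change τ • residue Q.O a = residue Q.O a at h1
    rw [← ResidueField.residue_smul] at h1 ⊢
    rw [← h1]
    congr 1
    apply Subtype.ext
    change σ.1 (a : K') = τ.1 (a : K')
    rw [hτσ]
    rfl
  have h1 : Nat.card ((Q.O).inertiaSubgroup K₁) = Nat.card ((Q.O).decompositionSubgroup K₁) := by
    have : (Q.O).inertiaSubgroup K₁ = ⊤ := by
      ext σ; simp [hin σ]
    rw [this, Subgroup.card_top]
  have h2 : Nat.card ((Q.O).decompositionSubgroup K₁) = Nat.card (K' ≃ₐ[K₁] K') := by
    have : (Q.O).decompositionSubgroup K₁ = ⊤ := by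
      ext σ; simp [hdec σ]
    rw [this, Subgroup.card_top]
  rw [h1, h2, IsGalois.card_aut_eq_finrank] at hcard
  rw [hcard]
  exact he

/-- The value set of `Q` on a subfield below which `Q` has ramification index `e`. -/
theorem range_comap_of_isOverWith {F : Type*} [Field F] [Algebra k F] [Algebra F K']
    {Q : Place k K'} {P : Place k F} {e : ℕ} (h : IsOverWith Q P e) :
    Set.range (Q.1.comap (algebraMap F K')) = Set.range (fun v : ℤᵐ⁰ => v ^ e) := by
  ext w
  constructor
  · rintro ⟨x, rfl⟩
    exact ⟨P.1 x, (h x).symm⟩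
  · rintro ⟨v, rfl⟩
    obtain ⟨x, rfl⟩ := P.2.2 v
    exact ⟨x, h x⟩

theorem range_pow_eq_iff {e₁ e₂ : ℕ} (h₁ : e₁ ≠ 0) :
    Set.range (fun v : ℤᵐ⁰ => v ^ e₁) = Set.range (fun v : ℤᵐ⁰ => v ^ (e₂ * e₁)) ↔ e₂ = 1 := by
  constructor
  · intro h
    have hmem : (exp (-1 : ℤ)) ^ e₁ ∈ Set.range (fun v : ℤᵐ⁰ => v ^ (e₂ * e₁)) := by
      rw [← h]; exact ⟨_, rfl⟩
    obtain ⟨v, hv⟩ := hmem
    have hv0 : v ≠ 0 := by
      rintro rfl
      simp only at hv
      rw [zero_pow (by
        intro h0
        rw [h0] at hv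
        simp only [pow_zero] at hv
        have : (exp (-1 : ℤ)) ^ e₁ < 1 := pow_lt_one₀ zero_le (by rw [← exp_zero, exp_lt_exp]; omega) h₁
        rw [← hv] at this
        exact lt_irrefl _ this)] at hv
      exact pow_ne_zero _ exp_ne_zero hv.symm
    obtain ⟨a, rfl⟩ : ∃ a, v = exp a := ⟨log v, (exp_log hv0).symm⟩
    simp only [← exp_nsmul, exp_inj] at hv
    simp only [nsmul_eq_mul, Nat.cast_mul] at hv
    have h2 : ((e₂ : ℤ) * a + 1) * e₁ = 0 := by linarith
    have he₁ : (e₁ : ℤ) ≠ 0 := by exact_mod_cast h₁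
    have h3 : (e₂ : ℤ) * a = -1 := by
      rcases mul_eq_zero.1 h2 with h | h
      · linarith
      · exact absurd h he₁
    have h4 : (e₂ : ℤ) ∣ 1 := ⟨-a, by linarith⟩
    have h5 := Int.eq_one_of_dvd_one (Int.natCast_nonneg e₂) h4
    exact_mod_cast h5
  · rintro rfl
    rw [one_mul]

/-- The inertia group over an intermediate field injects into the part of the inertia group
fixing that field. -/
theorem card_inertia_le [FiniteDimensional K K'] (E : IntermediateField K K') (Q : Place k K') :
    Nat.card ((Q.O).inertiaSubgroup E) ≤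
      Nat.card ↥((((Q.O).inertiaSubgroup K).map ((Q.O).decompositionSubgroup K).subtype) ⊓
        E.fixingSubgroup) := by
  have hmem : ∀ σ : (Q.O).inertiaSubgroup E, (σ.1.1.restrictScalars K) ∈
      ((((Q.O).inertiaSubgroup K).map ((Q.O).decompositionSubgroup K).subtype) ⊓
        E.fixingSubgroup) := by
    rintro ⟨⟨σ, hσ⟩, hI⟩
    have hdec : σ.restrictScalars K ∈ (Q.O).decompositionSubgroup K := by
      rw [MulAction.mem_stabilizer_iff] at hσ ⊢
      ext x
      rw [ValuationSubring.mem_pointwise_smul_iff_inv_smul_mem]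
      conv_rhs => rw [← hσ, ValuationSubring.mem_pointwise_smul_iff_inv_smul_mem]
      rfl
    refine ⟨Subgroup.mem_map.2 ⟨⟨σ.restrictScalars K, hdec⟩, ?_, rfl⟩, ?_⟩
    · rw [ValuationSubring.inertiaSubgroup, MonoidHom.mem_ker] at hI ⊢
      ext x
      obtain ⟨a, rfl⟩ := residue_surjective x
      have h1 : (MulSemiringAction.toRingAut _ (ResidueField Q.O)
          (⟨σ, hσ⟩ : (Q.O).decompositionSubgroup E)) (residue Q.O a) = residue Q.O a := by
        rw [hI]; rfl
      change (⟨σ.restrictScalars K, hdec⟩ : (Q.O).decompositionSubgroup K) • residue Q.O a =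
        residue Q.O a
      change (⟨σ, hσ⟩ : (Q.O).decompositionSubgroup E) • residue Q.O a = residue Q.O a at h1
      rw [← ResidueField.residue_smul] at h1 ⊢
      rw [← h1]
      congr 1
    · change _ ∈ E.fixingSubgroup
      rw [IntermediateField.mem_fixingSubgroup_iff]
      intro x hx
      exact σ.commutes ⟨x, hx⟩
  refine Nat.card_le_card_of_injective (fun σ => ⟨_, hmem σ⟩) ?_
  intro σ σ' h
  have h1 : σ.1.1.restrictScalars K = σ'.1.1.restrictScalars K := congrArg Subtype.val h
  apply Subtype.ext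
  apply Subtype.ext
  ext x
  exact DFunLike.congr_fun h1 x

/-- `e(Q ∩ E | Q ∩ K) = 1` iff `E` is contained in the inertia field. -/
theorem unramified_iff_le_inertiaField [FiniteDimensional K K'] [IsGalois K K']
    (hK : IsFunctionField k K)
    (Q : Place k K') [Algebra.IsSeparable k (ResidueField Q.O)] (E : IntermediateField K K') :
    Set.range (Q.1.comap (algebraMap E K')) = Set.range (Q.1.comap (algebraMap K K')) ↔
      E ≤ IntermediateField.fixedField
        (((Q.O).inertiaSubgroup K).map ((Q.O).decompositionSubgroup K).subtype) := by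
  classical
  haveI : IsScalarTower k E K' := IsScalarTower.of_algebraMap_eq (fun c => rfl)
  obtain ⟨PE, hPE⟩ := exists_isOver_below (K := E) Q
  obtain ⟨P, hP⟩ := exists_isOver_below (K := K) PE
  have he₁ := isOverWith_ramIdx hPE
  have he₂ := isOverWith_ramIdx hP
  have he := isOverWith_trans he₁ he₂
  have he₁0 := isOverWith_ne_zero he₁
  set I := ((Q.O).inertiaSubgroup K).map ((Q.O).decompositionSubgroup K).subtype with hI
  have hcardI : Nat.card I = ramIdx PE P * ramIdx Q PE := by
    rw [hI, Nat.card_congr (Subgroup.equivMapOfInjective _ _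
      (Subgroup.subtype_injective _)).symm.toEquiv]
    exact card_inertia hK he
  have hiff : Set.range (Q.1.comap (algebraMap E K')) = Set.range (Q.1.comap (algebraMap K K')) ↔
      ramIdx PE P = 1 := by
    rw [range_comap_of_isOverWith he₁, range_comap_of_isOverWith he, range_pow_eq_iff he₁0]
  rw [hiff]
  constructor
  · intro h1
    rw [IntermediateField.le_iff_le]
    have hcardE := card_inertia' (K := E) he₁ (deg_pos_of_finite hK PE)
      (fun Qs hQs => sum_ramIdx_mul_deg_eq_tower hK PE Qs hQs)
    have hle := card_inertia_le E Q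
    rw [hcardE] at hle
    rw [h1, one_mul] at hcardI
    have hsub : (I ⊓ E.fixingSubgroup) = I := by
      apply Subgroup.eq_of_le_of_card_ge inf_le_left
      rw [hcardI]
      exact hle
    rw [← hsub]
    exact inf_le_right
  · intro hle
    -- use total ramification over the inertia field
    obtain ⟨Q₁, hQ₁⟩ := totallyRamified hK Q
    set K₁ : IntermediateField K K' := IntermediateField.fixedField I with hK₁
    have hfin : Module.finrank K₁ K' = Nat.card I := IntermediateField.finrank_fixedField_eq_card I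
    rw [hfin, hcardI] at hQ₁
    apply hiff.1
    apply Set.Subset.antisymm
    · rintro _ ⟨x, rfl⟩
      have h1 : Q.1.comap (algebraMap E K') x ∈ Set.range (Q.1.comap (algebraMap K₁ K')) :=
        ⟨⟨x.1, hle x.2⟩, rfl⟩
      rw [range_comap_of_isOverWith hQ₁, ← range_comap_of_isOverWith he] at h1
      exact h1
    · rintro _ ⟨x, rfl⟩
      exact ⟨algebraMap K E x, rfl⟩

end Groth.Agent.Lib.Helper63.InertiaField
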