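import Groth.Agent.Lib.Helper63.Tower
import Groth.Agent.Lib.Helper63.InertiaField
import Groth.Agent.Lib.Helper63.FundIneq

/-! Places in (generalised) purely inseparable extensions: uniqueness; counting arguments with the
fundamental equality (helper63). -/

set_option autoImplicit false
set_option linter.style.haveILetI false
set_option linter.unusedSectionVars false

namespace Groth.Agent.Lib.Helper63.PurelyInsep

open IntermediateField FunFld WithZero Groth.Agent.Lib.Helper55
  Groth.Agent.Lib.Helper63.FunFldExt Groth.Agent.Lib.Helper63.SumEF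
  Groth.Agent.Lib.Helper63.Tower Groth.Agent.Lib.Helper63.InertiaField

variable {k K K' K'' : Type*} [Field k] [Field K] [Field K'] [Field K''] [Algebra k K]
  [Algebra K K'] [Algebra k K'] [Algebra K' K''] [Algebra k K''] [Algebra K K'']
  [IsScalarTower K K' K''] [IsScalarTower k K' K'']

/-- If every element of `K'` has a positive power in `K`, a place of `K` has at most one place of
`K'` above it. -/
theorem eq_of_pow_mem
    (hpow : ∀ z : K', ∃ n : ℕ, 0 < n ∧ z ^ n ∈ Set.range (algebraMap K K'))
    {Q Q' : Place k K'} {P : Place k K} (h : IsOver Q P) (h' : IsOver Q' P) : Q = Q' := by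
  obtain ⟨e, he⟩ := h
  obtain ⟨e', he'⟩ := h'
  have he0 := isOverWith_ne_zero he
  have he'0 := isOverWith_ne_zero he'
  apply ff_place_eq_of_O_le
  intro z hz
  have hz' : Q.1 z ≤ 1 := hz
  change Q'.1 z ≤ 1
  obtain ⟨n, hn, x, hx⟩ := hpow z
  have h1 : Q.1 (algebraMap K K' x) ≤ 1 := by
    rw [hx, map_pow]; exact pow_le_one' hz' n
  rw [he] at h1
  have h2 : P.1 x ≤ 1 := (pow_le_one_iff_of_nonneg zero_le he0).1 h1
  have h3 : Q'.1 (algebraMap K K' x) ≤ 1 := by
    rw [he']; exact pow_le_one' h2 e'
  rw [hx, map_pow] at h3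
  exact (pow_le_one_iff_of_nonneg zero_le hn.ne').1 h3

/-- Existence of a place above, for a finite extension of a function field. -/
theorem exists_isOver [IsScalarTower k K K'] [FiniteDimensional K K'] (hK : IsFunctionField k K)
    (P : Place k K) : ∃ Q : Place k K', IsOver Q P := by
  classical
  have hfin := finite_setOf_isOver (K' := K') P
  have h := sum_ramIdx_mul_deg_eq hK P hfin.toFinset (fun Q => hfin.mem_toFinset)
  by_contra hcon
  push Not at hcon
  have hempty : hfin.toFinset = ∅ := by
    rw [Finset.eq_empty_iff_forall_notMem]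
    intro Q hQ
    exact hcon Q (hfin.mem_toFinset.1 hQ)
  rw [hempty, Finset.sum_empty] at h
  have h1 : 0 < Module.finrank K K' := Module.finrank_pos
  have h2 := ff_deg_pos hK P
  have := Nat.mul_pos h1 h2
  omega

/-- Existence of a place above, in a tower. -/
theorem exists_isOver_tower [IsScalarTower k K K'] [FiniteDimensional K K']
    [FiniteDimensional K' K''] (hK : IsFunctionField k K)
    (Q₁ : Place k K') : ∃ R : Place k K'', IsOver R Q₁ := by
  classical
  have hfin := finite_setOf_isOver (K' := K'') Q₁
  have h := sum_ramIdx_mul_deg_eq_tower (K'' := K'') hK Q₁ hfin.toFinset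
    (fun Q => hfin.mem_toFinset)
  by_contra hcon
  push Not at hcon
  have hempty : hfin.toFinset = ∅ := by
    rw [Finset.eq_empty_iff_forall_notMem]
    intro Q hQ
    exact hcon Q (hfin.mem_toFinset.1 hQ)
  rw [hempty, Finset.sum_empty] at h
  have h1 : 0 < Module.finrank K' K'' := Module.finrank_pos
  have h2 := deg_pos_of_finite hK Q₁
  have := Nat.mul_pos h1 h2
  omega

/-- If every place above `P` has degree at least `[K':K] deg P`, there is only one. -/
theorem eq_of_deg_ge [IsScalarTower k K K'] [FiniteDimensional K K'] (hK : IsFunctionField k K)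
    (P : Place k K)
    (hf : ∀ Q : Place k K', IsOver Q P → Module.finrank K K' * P.deg ≤ Q.deg)
    {Q Q' : Place k K'} (h : IsOver Q P) (h' : IsOver Q' P) : Q = Q' := by
  classical
  by_contra hne
  have hfin := finite_setOf_isOver (K' := K') P
  have hsum := sum_ramIdx_mul_deg_eq hK P hfin.toFinset (fun Q => hfin.mem_toFinset)
  have hsub : ({Q, Q'} : Finset (Place k K')) ⊆ hfin.toFinset := by
    intro R hR
    rw [Finset.mem_insert, Finset.mem_singleton] at hR
    rcases hR with rfl | rfl
    · exact hfin.mem_toFinset.2 h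
    · exact hfin.mem_toFinset.2 h'
  have hle := Finset.sum_le_sum_of_subset (f := fun R => ramIdx R P * R.deg) hsub
  rw [Finset.sum_pair hne, hsum] at hle
  have h1 : 0 < Module.finrank K K' := Module.finrank_pos
  have h2 := ff_deg_pos hK P
  have h3 := Nat.mul_pos h1 h2
  have hQ : Module.finrank K K' * P.deg ≤ ramIdx Q P * Q.deg := by
    have := isOverWith_ne_zero (isOverWith_ramIdx h)
    calc Module.finrank K K' * P.deg ≤ Q.deg := hf Q h
      _ = 1 * Q.deg := (one_mul _).symm
      _ ≤ ramIdx Q P * Q.deg := Nat.mul_le_mul_right _ (Nat.one_le_iff_ne_zero.2 this)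
  have hQ' : Module.finrank K K' * P.deg ≤ ramIdx Q' P * Q'.deg := by
    have := isOverWith_ne_zero (isOverWith_ramIdx h')
    calc Module.finrank K K' * P.deg ≤ Q'.deg := hf Q' h'
      _ = 1 * Q'.deg := (one_mul _).symm
      _ ≤ ramIdx Q' P * Q'.deg := Nat.mul_le_mul_right _ (Nat.one_le_iff_ne_zero.2 this)
  omega

open IsLocalRing Polynomial Groth.Agent.Lib.Helper63.FundIneq in
/-- If `a ∈ K'` is a root of a monic `g ∈ k[T]` whose image over `κ(P)` is irreducible, then every
place `Q` over `P` has `deg Q ≥ deg g · deg P`. -/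
theorem deg_ge_of_irreducible_map [IsScalarTower k K K'] [FiniteDimensional K K']
    (hK : IsFunctionField k K) {Q : Place k K'} {P : Place k K} (h : IsOver Q P)
    {g : Polynomial k} (hg : g.Monic) {a : K'} (ha : Polynomial.aeval a g = 0)
    (hirr : Irreducible (g.map (algebraMap k (ResidueField P.O)))) :
    g.natDegree * P.deg ≤ Q.deg := by
  obtain ⟨e, he⟩ := h
  letI := algO he
  haveI := isLocalHom_algebraMap he
  haveI := isScalarTower_algO he
  have hdeg := deg_eq_mul he
  have hQpos := deg_pos_of_finite hK Q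
  rw [hdeg, mul_comm]
  apply Nat.mul_le_mul_left
  haveI : FiniteDimensional (ResidueField P.O) (ResidueField Q.O) := by
    apply Module.finite_of_finrank_pos
    rw [hdeg] at hQpos
    exact Nat.pos_of_mul_pos_left hQpos
  have haQ : Q.1 a ≤ 1 :=
    val_le_one_of_isIntegral Q.1 (fun c => Q.2.1 c) ⟨g, hg, ha⟩
  set aO : Q.O := ⟨a, haQ⟩ with haO
  have h1 : eval₂ (algebraMap k Q.O) aO g = 0 := by
    apply Subtype.ext
    have hh := Polynomial.hom_eval₂ g (algebraMap k Q.O) Q.O.subtype aO
    have : (Q.O.subtype.comp (algebraMap k Q.O)) = algebraMap k K' := by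
      ext c; rfl
    rw [this] at hh
    change Q.O.subtype (eval₂ (algebraMap k Q.O) aO g) = 0
    rw [hh]
    exact ha
  have hcomp : (algebraMap (ResidueField P.O) (ResidueField Q.O)).comp
      (algebraMap k (ResidueField P.O)) = (residue Q.O).comp (algebraMap k Q.O) := by
    ext c
    change residue Q.O (algebraMap P.O Q.O (algebraMap k P.O c)) = residue Q.O (algebraMap k Q.O c)
    rw [← IsScalarTower.algebraMap_apply]
  have h2 : aeval (residue Q.O aO) (g.map (algebraMap k (ResidueField P.O))) = 0 := by
    rw [aeval_def, Polynomial.eval₂_map, hcomp, ← Polynomial.hom_eval₂, h1, map_zero]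
  have h3 := minpoly.eq_of_irreducible_of_monic hirr h2 (hg.map _)
  have h4 := minpoly.natDegree_le (A := ResidueField P.O) (residue Q.O aO)
  rw [← h3, hg.natDegree_map] at h4
  exact h4

end Groth.Agent.Lib.Helper63.PurelyInsep
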