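import Groth.Agent.Lib.Helper63.Conorm
import Groth.Agent.Lib.Helper55.FunFld.Approx
import Mathlib.RingTheory.Valuation.RamificationGroup
import Mathlib.GroupTheory.Index

/-! Places in finite Galois extensions of function fields: the Galois action on places,
transitivity, decomposition groups (helper63). -/

set_option autoImplicit false
set_option linter.style.haveILetI false

namespace Groth.Agent.Lib.Helper63.Galois

open WithZero IntermediateField FunFld IsLocalRing Groth.Agent.Lib.Helper55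
  Groth.Agent.Lib.Helper63.FunFldExt
  Groth.Agent.Lib.Helper63.FundIneq Groth.Agent.Lib.Helper63.ConstField
  Groth.Agent.Lib.Helper63.SumEF
open scoped Pointwise

variable {k K K' : Type*} [Field k] [Field K] [Field K'] [Algebra k K] [Algebra K K']
  [Algebra k K'] [IsScalarTower k K K']

/-- The place `Q ∘ σ`. -/
def comapEquiv (σ : K' ≃ₐ[K] K') (Q : Place k K') : Place k K' :=
  ⟨Q.1.comap (σ : K' →+* K'), fun c => by
    rw [Valuation.comap_apply]
    have : (σ : K' →+* K') (algebraMap k K' c) = algebraMap k K' c := by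
      rw [IsScalarTower.algebraMap_apply k K K']
      exact σ.commutes _
    rw [this]
    exact Q.2.1 c,
  fun y => by
    obtain ⟨x, hx⟩ := Q.2.2 y
    refine ⟨σ.symm x, ?_⟩
    rw [Valuation.comap_apply]
    simpa using hx⟩

@[simp] theorem comapEquiv_apply (σ : K' ≃ₐ[K] K') (Q : Place k K') (x : K') :
    (comapEquiv σ Q).1 x = Q.1 (σ x) := rfl

theorem comapEquiv_isOverWith (σ : K' ≃ₐ[K] K') {Q : Place k K'} {P : Place k K} {e : ℕ}
    (h : IsOverWith Q P e) : IsOverWith (comapEquiv σ Q) P e := by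
  intro x
  rw [comapEquiv_apply, σ.commutes, h]

theorem comapEquiv_O (σ : K' ≃ₐ[K] K') (Q : Place k K') :
    (comapEquiv σ Q).O = σ⁻¹ • Q.O := by
  ext x
  rw [ValuationSubring.mem_pointwise_smul_iff_inv_smul_mem, inv_inv]
  rfl

/-- The ring isomorphism `O_{Q∘σ} ≃ O_Q` induced by `σ`. -/
def ringEquivO (σ : K' ≃ₐ[K] K') (Q : Place k K') : (comapEquiv σ Q).O ≃+* Q.O where
  toFun x := ⟨σ x, x.2⟩
  invFun y := ⟨σ.symm y, by
    change Q.1 (σ (σ.symm y)) ≤ 1
    rw [σ.apply_symm_apply]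
    exact y.2⟩
  left_inv x := Subtype.ext (σ.symm_apply_apply x)
  right_inv y := Subtype.ext (σ.apply_symm_apply y)
  map_mul' x y := Subtype.ext (map_mul σ _ _)
  map_add' x y := Subtype.ext (map_add σ _ _)

theorem comapEquiv_deg (σ : K' ≃ₐ[K] K') (Q : Place k K') : (comapEquiv σ Q).deg = Q.deg := by
  refine Algebra.finrank_eq_of_equiv_equiv (RingEquiv.refl k)
    (ResidueField.mapEquiv (ringEquivO σ Q)) ?_
  ext c
  change residue Q.O (algebraMap k Q.O c) =
    residue Q.O ((ringEquivO σ Q) (algebraMap k (comapEquiv σ Q).O c))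
  congr 1
  symm
  apply Subtype.ext
  change σ (algebraMap k K' c) = algebraMap k K' c
  rw [IsScalarTower.algebraMap_apply k K K']
  exact σ.commutes _

omit [IsScalarTower k K K'] in
theorem isEquiv_of_isOver {Q₁ Q₂ : Place k K'} {P : Place k K} (h₁ : IsOver Q₁ P)
    (h₂ : IsOver Q₂ P) :
    (Q₁.1.comap (algebraMap K K')).IsEquiv (Q₂.1.comap (algebraMap K K')) := by
  obtain ⟨e₁, h₁⟩ := h₁
  obtain ⟨e₂, h₂⟩ := h₂
  intro x y
  simp only [Valuation.comap_apply]
  rw [h₁, h₁, h₂, h₂, pow_le_pow_iff_left₀ zero_le zero_le (isOverWith_ne_zero h₁),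
    pow_le_pow_iff_left₀ zero_le zero_le (isOverWith_ne_zero h₂)]

/-- Transitivity of the Galois action on the places above `P`. -/
theorem exists_comapEquiv_eq [FiniteDimensional K K'] [IsGalois K K'] {Q₁ Q₂ : Place k K'}
    {P : Place k K} (h₁ : IsOver Q₁ P) (h₂ : IsOver Q₂ P) :
    ∃ σ : K' ≃ₐ[K] K', comapEquiv σ Q₁ = Q₂ := by
  obtain ⟨σ, hσ⟩ := exists_algEquiv_comap_eq Q₁.1 Q₂.1 Q₁.2.2 Q₂.2.2 (isEquiv_of_isOver h₁ h₂)
  exact ⟨σ, Subtype.ext hσ⟩

/-- All places above `P` in a Galois extension have the same `e` and the same degree. -/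
theorem isOverWith_and_deg_eq [FiniteDimensional K K'] [IsGalois K K'] {Q Q' : Place k K'}
    {P : Place k K} {e : ℕ} (h : IsOverWith Q P e) (h' : IsOver Q' P) :
    IsOverWith Q' P e ∧ Q'.deg = Q.deg := by
  obtain ⟨σ, rfl⟩ := exists_comapEquiv_eq ⟨e, h⟩ h'
  exact ⟨comapEquiv_isOverWith σ h, comapEquiv_deg σ Q⟩

/-- Orbit-stabilizer: `#{Q' | P} · |G_Q| = [K':K]`. -/
theorem card_over_mul_card_decomposition [FiniteDimensional K K'] [IsGalois K K']
    {Q : Place k K'} {P : Place k K} (h : IsOver Q P) :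
    Nat.card {Q' : Place k K' // IsOver Q' P} * Nat.card ((Q.O).decompositionSubgroup K) =
      Module.finrank K K' := by
  rw [← IsGalois.card_aut_eq_finrank K K', ← Subgroup.index_mul_card ((Q.O).decompositionSubgroup K),
    MulAction.index_stabilizer, ← Nat.card_coe_set_eq]
  congr 1
  -- bijection between places over `P` and the orbit of `O_Q`
  have hmem : ∀ Q' : {Q' : Place k K' // IsOver Q' P},
      Q'.1.O ∈ MulAction.orbit (K' ≃ₐ[K] K') Q.O := by
    intro Q'
    obtain ⟨σ, hσ⟩ := exists_comapEquiv_eq h Q'.2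
    refine ⟨σ⁻¹, ?_⟩
    rw [← hσ, comapEquiv_O]
  refine Nat.card_congr (Equiv.ofBijective (fun Q' => ⟨Q'.1.O, hmem Q'⟩) ⟨?_, ?_⟩)
  · intro Q₁ Q₂ h12
    have : Q₁.1.O = Q₂.1.O := congrArg Subtype.val h12
    exact Subtype.ext (ff_place_eq_of_O_le this.le)
  · rintro ⟨A, σ, rfl⟩
    obtain ⟨e, he⟩ := h
    refine ⟨⟨comapEquiv σ⁻¹ Q, e, comapEquiv_isOverWith _ he⟩, ?_⟩
    apply Subtype.ext
    change (comapEquiv σ⁻¹ Q).O = σ • Q.O
    rw [comapEquiv_O, inv_inv]

/-- `|G_Q| · deg P = e · deg Q`, given the fundamental equality at `P`. -/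
theorem card_decomposition_mul_deg' [FiniteDimensional K K'] [IsGalois K K']
    {Q : Place k K'} {P : Place k K} {e : ℕ} (h : IsOverWith Q P e)
    (hFE : ∀ Qs : Finset (Place k K'), (∀ Q', Q' ∈ Qs ↔ IsOver Q' P) →
      ∑ Q' ∈ Qs, ramIdx Q' P * Q'.deg = Module.finrank K K' * P.deg) :
    Nat.card ((Q.O).decompositionSubgroup K) * P.deg = e * Q.deg := by
  classical
  have hfin := finite_setOf_isOver (K' := K') P
  have h1 := card_over_mul_card_decomposition (K := K) (Q := Q) (P := P) ⟨e, h⟩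
  have h2 := hFE hfin.toFinset (fun Q' => hfin.mem_toFinset)
  have h3 : ∑ Q' ∈ hfin.toFinset, ramIdx Q' P * Q'.deg = hfin.toFinset.card * (e * Q.deg) := by
    rw [Finset.card_eq_sum_ones, Finset.sum_mul]
    refine Finset.sum_congr rfl fun Q' hQ' => ?_
    obtain ⟨he', hd'⟩ := isOverWith_and_deg_eq h (hfin.mem_toFinset.1 hQ')
    rw [ramIdx_eq he', hd', one_mul]
  have h4 : Nat.card {Q' : Place k K' // IsOver Q' P} = hfin.toFinset.card := by
    rw [← Set.ncard_eq_toFinset_card _ hfin]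
    exact Nat.card_coe_set_eq _
  rw [h3, ← h1, h4] at h2
  have hpos : 0 < hfin.toFinset.card :=
    Finset.card_pos.2 ⟨Q, hfin.mem_toFinset.2 ⟨e, h⟩⟩
  have : hfin.toFinset.card * (e * Q.deg) =
      hfin.toFinset.card * (Nat.card ((Q.O).decompositionSubgroup K) * P.deg) := by
    rw [h2]; ring
  exact (Nat.eq_of_mul_eq_mul_left hpos this).symm

/-- `|G_Q| · deg P = e · deg Q`. -/
theorem card_decomposition_mul_deg [FiniteDimensional K K'] [IsGalois K K']
    (hK : IsFunctionField k K) {Q : Place k K'} {P : Place k K} {e : ℕ} (h : IsOverWith Q P e) :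
    Nat.card ((Q.O).decompositionSubgroup K) * P.deg = e * Q.deg :=
  card_decomposition_mul_deg' h (fun Qs hQs => sum_ramIdx_mul_deg_eq hK P Qs hQs)

end Groth.Agent.Lib.Helper63.Galois
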