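import Groth.Agent.Lib.Helper63.ConstField

/-! The fundamental equality `∑_{Q|P} e(Q|P) deg Q = [K':K] deg P` for finite extensions of
function fields of one variable (helper63). -/

set_option autoImplicit false
set_option linter.style.haveILetI false

namespace Groth.Agent.Lib.Helper63.SumEF

open WithZero IntermediateField FunFld Groth.Agent.Lib.Helper55 Groth.Agent.Lib.Helper63.FunFldExt
  Groth.Agent.Lib.Helper63.FundIneq Groth.Agent.Lib.Helper63.ConstField

variable {k K K' : Type*} [Field k] [Field K] [Field K'] [Algebra k K] [Algebra K K']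
  [Algebra k K']

theorem ord_algebraMap {Q : Place k K'} {P : Place k K} {e : ℕ} (h : IsOverWith Q P e) (x : K) :
    Q.ord (algebraMap K K' x) = e * P.ord x := by
  unfold Place.ord
  rw [h, log_pow]
  simp

theorem val_lt_one_iff_of_isOverWith {Q : Place k K'} {P : Place k K} {e : ℕ}
    (h : IsOverWith Q P e) (x : K) : Q.1 (algebraMap K K' x) < 1 ↔ P.1 x < 1 := by
  rw [h]
  have he := isOverWith_ne_zero h
  constructor
  · intro hlt
    by_contra hcon
    push Not at hcon
    exact absurd hlt (not_lt.2 (one_le_pow₀ hcon))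
  · intro hlt
    exact pow_lt_one₀ zero_le hlt he

/-- `∑_{Q|P} e(Q|P) deg Q = [K':K] deg P`. -/
theorem sum_ramIdx_mul_deg_eq [IsScalarTower k K K'] [FiniteDimensional K K'] (hK : IsFunctionField k K) (P : Place k K)
    (Qs : Finset (Place k K')) (hQs : ∀ Q, Q ∈ Qs ↔ IsOver Q P) :
    ∑ Q ∈ Qs, ramIdx Q P * Q.deg = Module.finrank K K' * P.deg := by
  classical
  obtain ⟨x₀, hx₀P⟩ := P.2.2 (exp (-1))
  have hx₀0 : x₀ ≠ 0 := by
    rintro rfl
    rw [map_zero] at hx₀P
    exact exp_ne_zero hx₀P.symm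
  have hPlt : P.1 x₀ < 1 := by
    rw [hx₀P, ← exp_zero, exp_lt_exp]; omega
  have hx₀ : Transcendental k x₀ := ff_transcendental_of_val_lt_one hK P hx₀0 hPlt
  -- degree formula in `K`
  obtain ⟨hfinZ, hsumZ⟩ := sum_zeros_eq (K' := K) hK hx₀
  simp only [Algebra.algebraMap_self, RingHom.id_apply, Module.finrank_self, Nat.cast_one,
    mul_one] at hfinZ hsumZ
  set Z := hfinZ.toFinset with hZ
  have hZmem : ∀ P', P' ∈ Z ↔ P'.1 x₀ < 1 := fun P' => hfinZ.mem_toFinset
  have hsumK := hsumZ Z hZmem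
  -- degree formula in `K'`
  obtain ⟨hfinZ', hsumZ'⟩ := sum_zeros_eq (K' := K') hK hx₀
  set Z' := hfinZ'.toFinset with hZ'
  have hZ'mem : ∀ Q, Q ∈ Z' ↔ Q.1 (algebraMap K K' x₀) < 1 := fun Q => hfinZ'.mem_toFinset
  have hsum' := hsumZ' Z' hZ'mem
  -- the place below
  choose g hg using fun Q : Place k K' => exists_isOver_below (K := K) Q
  have hgZ : ∀ Q ∈ Z', g Q ∈ Z := by
    intro Q hQ
    obtain ⟨e, he⟩ := hg Q
    rw [hZmem, ← val_lt_one_iff_of_isOverWith he]
    exact (hZ'mem Q).1 hQ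
  -- local sums
  set S : Place k K → ℕ := fun P' =>
    ∑ Q ∈ (finite_setOf_isOver (K' := K') P').toFinset, ramIdx Q P' * Q.deg with hS
  have hSle : ∀ P', S P' ≤ Module.finrank K K' * P'.deg := fun P' =>
    sum_ramIdx_mul_deg_le P' _ (fun Q hQ => (finite_setOf_isOver (K' := K') P').mem_toFinset.1 hQ)
  have hfib : ∀ P' ∈ Z, ∑ Q ∈ Z' with g Q = P', Q.ord (algebraMap K K' x₀) * (Q.deg : ℤ) =
      P'.ord x₀ * (S P' : ℤ) := by
    intro P' hP'
    have hset : (Z'.filter fun Q => g Q = P') = (finite_setOf_isOver (K' := K') P').toFinset := by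
      ext Q
      rw [Finset.mem_filter, (finite_setOf_isOver (K' := K') P').mem_toFinset]
      change _ ↔ IsOver Q P'
      constructor
      · rintro ⟨-, rfl⟩
        exact hg Q
      · intro hQ
        obtain ⟨e, he⟩ := hQ
        refine ⟨(hZ'mem Q).2 ((val_lt_one_iff_of_isOverWith he x₀).2 ((hZmem P').1 hP')), ?_⟩
        exact isOver_unique_below (hg Q) ⟨e, he⟩
    rw [hset, hS]
    push_cast
    rw [Finset.mul_sum]
    refine Finset.sum_congr rfl fun Q hQ => ?_
    have hQ' : IsOver Q P' := (finite_setOf_isOver (K' := K') P').mem_toFinset.1 hQ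
    rw [ord_algebraMap (isOverWith_ramIdx hQ') x₀]
    ring
  have hglobal : ∑ P' ∈ Z, P'.ord x₀ * (S P' : ℤ) =
      ∑ P' ∈ Z, P'.ord x₀ * ((Module.finrank K K' * P'.deg : ℕ) : ℤ) := by
    rw [← Finset.sum_congr rfl hfib, Finset.sum_fiberwise_of_maps_to hgZ, hsum']
    push_cast
    rw [← hsumK, Finset.sum_mul]
    refine Finset.sum_congr rfl fun P' _ => ?_
    ring
  -- all defects vanish
  have hdef : ∀ P' ∈ Z, 0 ≤ P'.ord x₀ * (((Module.finrank K K' * P'.deg : ℕ) : ℤ) - (S P' : ℤ)) := by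
    intro P' hP'
    have h1 : 0 < P'.ord x₀ := (ff_ord_pos_iff P' hx₀0).2 ((hZmem P').1 hP')
    have h2 : (S P' : ℤ) ≤ ((Module.finrank K K' * P'.deg : ℕ) : ℤ) := by exact_mod_cast hSle P'
    exact mul_nonneg h1.le (sub_nonneg.2 h2)
  have hzero : ∑ P' ∈ Z, P'.ord x₀ * (((Module.finrank K K' * P'.deg : ℕ) : ℤ) - (S P' : ℤ)) = 0 := by
    simp only [mul_sub, Finset.sum_sub_distrib]
    rw [hglobal, sub_self]
  have hP := (Finset.sum_eq_zero_iff_of_nonneg hdef).1 hzero P ((hZmem P).2 hPlt)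
  have hordP : P.ord x₀ = 1 := by
    unfold Place.ord
    rw [hx₀P, log_exp]
    simp
  rw [hordP, one_mul, sub_eq_zero] at hP
  have hQs' : Qs = (finite_setOf_isOver (K' := K') P).toFinset := by
    ext Q
    rw [hQs, (finite_setOf_isOver (K' := K') P).mem_toFinset]
    rfl
  rw [hQs']
  exact_mod_cast hP.symm

end Groth.Agent.Lib.Helper63.SumEF
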