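import Groth.Agent.Lib.Helper63.UnramifiedFF
import Groth.Agent.Lib.Helper63.ConstField
import Mathlib.RingTheory.Discriminant
import Mathlib.FieldTheory.PrimitiveElement
import Mathlib.FieldTheory.SeparableDegree
import Mathlib.RingTheory.Adjoin.PowerBasis

/-! Separable constant field extensions are unramified, and the integral closure of `O_P` is
`O_P[k']` (helper63). -/

set_option autoImplicit false
set_option linter.style.haveILetI false
set_option linter.unusedSectionVars false

namespace Groth.Agent.Lib.Helper63.ConstExtUnram

open WithZero Polynomial IntermediateField FunFld IsLocalRing Groth.Agent.Lib.Helper55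
  Groth.Agent.Lib.Helper63.FunFldExt Groth.Agent.Lib.Helper63.FundIneq

universe u v w

variable {k k' : Type u} {K : Type v} {K' : Type w} [Field k] [Field k'] [Field K] [Field K']
  [Algebra k k'] [FiniteDimensional k k'] [Algebra k K] [Algebra K K'] [Algebra k' K']
  [Algebra k K'] [IsScalarTower k k' K'] [IsScalarTower k K K']

/-- If `K' = k' K` and `k' = k(α₀)` then `K' = K[α₀]`. -/
theorem adjoin_eq_top (hsurj : Function.Surjective (Algebra.TensorProduct.productMap
      (IsScalarTower.toAlgHom k k' K') (IsScalarTower.toAlgHom k K K'))) {α₀ : k'}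
    (hα₀ : k⟮α₀⟯ = ⊤) : Algebra.adjoin K {algebraMap k' K' α₀} = ⊤ := by
  rw [eq_top_iff]
  intro w hw
  clear hw
  obtain ⟨t, rfl⟩ := hsurj w
  have hint : IsIntegral k α₀ := Algebra.IsIntegral.isIntegral α₀
  induction t using TensorProduct.induction_on with
  | zero => rw [map_zero]; exact zero_mem _
  | add a b ha hb => rw [map_add]; exact add_mem ha hb
  | tmul c x =>
    rw [Algebra.TensorProduct.productMap_apply_tmul]
    refine mul_mem ?_ (Subalgebra.algebraMap_mem _ x)
    have hc : c ∈ k⟮α₀⟯ := by rw [hα₀]; exact IntermediateField.mem_top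
    have hc' : c ∈ Algebra.adjoin k {α₀} := by
      rw [← adjoin_simple_toSubalgebra_of_isAlgebraic hint.isAlgebraic]
      exact hc
    rw [Algebra.adjoin_singleton_eq_range_aeval] at hc'
    obtain ⟨q, rfl⟩ := hc'
    change algebraMap k' K' (aeval α₀ q) ∈ _
    rw [← aeval_algebraMap_apply]
    have h1 : aeval (algebraMap k' K' α₀) q =
        aeval (algebraMap k' K' α₀) (q.map (algebraMap k K)) := by
      rw [aeval_map_algebraMap]
    rw [h1]
    rw [Algebra.adjoin_singleton_eq_range_aeval]
    exact ⟨_, rfl⟩

/-- Separable constant field extensions are unramified. -/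
theorem isOverWith_one [Algebra.IsSeparable k k']
    (hsurj : Function.Surjective (Algebra.TensorProduct.productMap
      (IsScalarTower.toAlgHom k k' K') (IsScalarTower.toAlgHom k K K')))
    {P : Place k K} {Q : Place k K'} (hQ : IsOver Q P) : IsOverWith Q P 1 := by
  obtain ⟨α₀, hα₀⟩ := Field.exists_primitive_element k k'
  have hintk : IsIntegral k α₀ := Algebra.IsIntegral.isIntegral α₀
  set α := algebraMap k' K' α₀ with hα
  have hint' : IsIntegral k α := hintk.map (IsScalarTower.toAlgHom k k' K')
  have hB := adjoin_eq_top (K := K) hsurj hα₀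
  have hgen : K⟮α⟯ = ⊤ := by
    apply IntermediateField.toSubalgebra_injective
    rw [adjoin_simple_toSubalgebra_of_isAlgebraic hint'.tower_top.isAlgebraic, hB]
    rfl
  obtain ⟨e, he⟩ := hQ
  have hsep : (minpoly k α₀).Separable := Algebra.IsSeparable.isSeparable k α₀
  have h1 : e = 1 := by
    refine Groth.Agent.Lib.Helper63.UnramifiedFF.eq_one_of_squarefree he hgen
      (val_le_one_of_isIntegral Q.1 Q.2.1 hint')
      (g := (minpoly k α₀).map (algebraMap k P.O)) ?_ ?_
    · rw [eval₂_map]
      have : ((algebraMap K K').comp P.O.subtype).comp (algebraMap k P.O) = algebraMap k K' := by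
        ext c
        exact (IsScalarTower.algebraMap_apply k K K' c).symm
      rw [this, ← aeval_def, hα, aeval_algebraMap_apply, minpoly.aeval, map_zero]
    · rw [Polynomial.map_map]
      exact (hsep.map).squarefree
  rw [← h1]
  exact he

/-- The integral closure of `O_P` in a separable constant field extension is `O_P[k']`. -/
theorem integralClosure_eq [Algebra.IsSeparable k k']
    (hsurj : Function.Surjective (Algebra.TensorProduct.productMap
      (IsScalarTower.toAlgHom k k' K') (IsScalarTower.toAlgHom k K K')))
    (hK : IsFunctionField k K) (P : Place k K) [Algebra P.O K'] [IsScalarTower P.O K K'] :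
    integralClosure P.O K' = Algebra.adjoin P.O (Set.range (algebraMap k' K')) := by
  classical
  have hcomp : ∀ c : k, algebraMap P.O K' (algebraMap k P.O c) = algebraMap k K' c := by
    intro c
    rw [IsScalarTower.algebraMap_apply P.O K K', IsScalarTower.algebraMap_apply k K K']
    rfl
  apply le_antisymm
  · intro z hz
    obtain ⟨α₀, hα₀⟩ := Field.exists_primitive_element k k'
    have hintk : IsIntegral k α₀ := Algebra.IsIntegral.isIntegral α₀
    set α := algebraMap k' K' α₀ with hα
    have hint' : IsIntegral k α := hintk.map (IsScalarTower.toAlgHom k k' K')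
    have hintK : IsIntegral K α := hint'.tower_top
    have hB := adjoin_eq_top (K := K) hsurj hα₀
    set B := PowerBasis.ofAdjoinEqTop hintK hB with hBdef
    haveI : FiniteDimensional K K' := B.finite
    have hsepα : IsSeparable K α := by
      have hsep : (minpoly k α₀).Separable := Algebra.IsSeparable.isSeparable k α₀
      have hdvd : minpoly K α ∣ (minpoly k α₀).map (algebraMap k K) := by
        apply minpoly.dvd
        rw [aeval_map_algebraMap, hα, aeval_algebraMap_apply, minpoly.aeval, map_zero]
      exact (hsep.map).of_dvd hdvd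
    have hgen : K⟮α⟯ = ⊤ := by
      apply IntermediateField.toSubalgebra_injective
      rw [adjoin_simple_toSubalgebra_of_isAlgebraic hintK.isAlgebraic, hB]
      rfl
    haveI : Algebra.IsSeparable K K' := by
      rw [← IntermediateField.isSeparable_top, ← hgen]
      exact (IntermediateField.isSeparable_adjoin_simple_iff_isSeparable K K').2 hsepα
    have hintPO : IsIntegral P.O B.gen := by
      change IsIntegral P.O α
      obtain ⟨q, hq, hq0⟩ := hint'
      refine ⟨q.map (algebraMap k P.O), hq.map _, ?_⟩
      rw [eval₂_map]
      have : (algebraMap P.O K').comp (algebraMap k P.O) = algebraMap k K' := by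
        ext c; exact hcomp c
      rw [this]
      exact hq0
    have hmem := Algebra.discr_mul_isIntegral_mem_adjoin (K := K) (R := P.O) (B := B) hintPO
      (z := z) hz
    -- the discriminant is a nonzero constant
    have hdint : IsIntegral k (Algebra.discr K B.basis) := by
      apply Algebra.discr_isIntegral
      intro i
      rw [B.basis_eq_pow]
      exact hint'.pow _
    obtain ⟨c, hc⟩ := hK.2 _ hdint.isAlgebraic
    have hd0 : Algebra.discr K B.basis ≠ 0 := Algebra.discr_not_zero_of_basis K B.basis
    have hc0 : c ≠ 0 := by
      rintro rfl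
      rw [map_zero] at hc
      exact hd0 hc.symm
    have hz' : z = algebraMap P.O K' (algebraMap k P.O c⁻¹) * (Algebra.discr K B.basis • z) := by
      rw [hcomp, ← hc, Algebra.smul_def, IsScalarTower.algebraMap_apply k K K', ← mul_assoc,
        ← map_mul, ← map_mul, inv_mul_cancel₀ hc0, map_one, map_one, one_mul]
    rw [hz']
    refine mul_mem (Subalgebra.algebraMap_mem _ _) ?_
    refine Algebra.adjoin_mono ?_ hmem
    rw [Set.singleton_subset_iff]
    exact ⟨α₀, rfl⟩
  · apply Algebra.adjoin_le
    rintro _ ⟨c, rfl⟩
    have hintc : IsIntegral k (algebraMap k' K' c) :=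
      (Algebra.IsIntegral.isIntegral (R := k) c).map (IsScalarTower.toAlgHom k k' K')
    obtain ⟨q, hq, hq0⟩ := hintc
    refine ⟨q.map (algebraMap k P.O), hq.map _, ?_⟩
    rw [eval₂_map]
    have : (algebraMap P.O K').comp (algebraMap k P.O) = algebraMap k K' := by
      ext c; exact hcomp c
    rw [this]
    exact hq0

end Groth.Agent.Lib.Helper63.ConstExtUnram
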