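import Groth.Agent.Lib.Helper63.LocResMono
import Groth.Agent.Lib.Helper55.FunFld.Approx
import Mathlib.RingTheory.DedekindDomain.Different

/-! Trace duals of `O_P[s]` and of the integral closure of `O_P` at a place of residue degree
one: Euler's lemma and the conductor (helper63). -/

set_option autoImplicit false
set_option linter.style.haveILetI false
set_option linter.unusedSectionVars false

namespace Groth.Agent.Lib.Helper63.LocResDual

open WithZero Polynomial IntermediateField FunFld Groth.Agent.Lib.Helper55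
  Groth.Agent.Lib.Helper63.FunFldExt
  Groth.Agent.Lib.Helper63.FundIneq Groth.Agent.Lib.Helper63.SumEF
  Groth.Agent.Lib.Helper63.IntClosure Groth.Agent.Lib.Helper63.LocResMono

universe uk uK uK'

variable {k : Type uk} {K : Type uK} {K' : Type uK'} [Field k] [Field K] [Field K'] [Algebra k K]
  [Algebra K K'] [Algebra k K'] [IsScalarTower k K K'] [FiniteDimensional K K']

/-- A local parameter at `Q` which is a unit at the other places over `P`. -/
theorem exists_localGen (P : Place k K) (Q : Place k K') (hQ : IsOver Q P) :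
    ∃ s : K', Q.1 s = exp (-1) ∧ ∀ Q' : Place k K', IsOver Q' P → Q' ≠ Q → Q'.1 s = 1 := by
  classical
  have hfin := finite_setOf_isOver (K' := K') P
  obtain ⟨z, hz⟩ := ff_weak_approx_eq hfin.toFinset (fun _ => (0 : K'))
    (fun Q' => if Q' = Q then -1 else 0)
  refine ⟨z, ?_, ?_⟩
  · have := hz Q (hfin.mem_toFinset.2 hQ)
    simpa using this
  · intro Q' hQ' hne
    have := hz Q' (hfin.mem_toFinset.2 hQ')
    simpa [hne] using this

theorem isIntegral_iff (hK : IsFunctionField k K) (P : Place k K) [Algebra P.O K']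
    [IsScalarTower P.O K K'] (z : K') :
    IsIntegral P.O z ↔ ∀ Q' : Place k K', IsOver Q' P → Q'.1 z ≤ 1 := by
  constructor
  · intro hz Q' hQ'
    obtain ⟨e, he⟩ := hQ'
    refine val_le_one_of_isIntegral' Q'.1 (fun x => ?_) hz
    rw [IsScalarTower.algebraMap_apply P.O K K']
    exact val_le_one_of_isOverWith he x.2
  · exact isIntegral_of_forall_le_one hK P

theorem aeval_derivative_ne_zero [Algebra.IsSeparable K K'] (s : K') :
    aeval s (derivative (minpoly K s)) ≠ 0 :=
  (Algebra.IsSeparable.isSeparable K s).aeval_derivative_ne_zero (minpoly.aeval K s)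

open scoped Pointwise in
/-- Euler's lemma: the trace dual of `O_P[s]` is `f'(s)⁻¹ O_P[s]`. -/
theorem mem_dual_adjoin_iff [Algebra.IsSeparable K K'] (P : Place k K)
    [Algebra P.O K'] [IsScalarTower P.O K K'] {s : K'} (htop : K⟮s⟯ = ⊤)
    (hint : IsIntegral P.O s) (y : K') :
    (∀ a ∈ Algebra.adjoin P.O ({s} : Set K'), P.1 (Algebra.trace K K' (y * a)) ≤ 1) ↔
      y * aeval s (derivative (minpoly K s)) ∈ Algebra.adjoin P.O ({s} : Set K') := by
  have hx : Algebra.adjoin K ({s} : Set K') = ⊤ := by
    rw [← IntermediateField.adjoin_simple_toSubalgebra_of_isAlgebraic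
      (Algebra.IsAlgebraic.isAlgebraic s), htop, IntermediateField.top_toSubalgebra]
  have h := traceForm_dualSubmodule_adjoin P.O K (x := s) hx hint
  have hne := aeval_derivative_ne_zero (K := K) s
  have h1 : y ∈ (Algebra.traceForm K K').dualSubmodule
      (Subalgebra.toSubmodule (Algebra.adjoin P.O ({s} : Set K'))) ↔
      ∀ a ∈ Algebra.adjoin P.O ({s} : Set K'), P.1 (Algebra.trace K K' (y * a)) ≤ 1 := by
    rw [LinearMap.BilinForm.mem_dualSubmodule]
    refine forall₂_congr fun a _ => ?_
    rw [Algebra.traceForm_apply, Submodule.mem_one]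
    constructor
    · rintro ⟨r, hr⟩
      rw [← hr]
      exact r.2
    · intro hle
      exact ⟨⟨_, hle⟩, rfl⟩
  rw [← h1, h, Submodule.mem_smul_pointwise_iff_exists]
  constructor
  · rintro ⟨b, hb, rfl⟩
    rw [smul_eq_mul, mul_comm, ← mul_assoc, mul_inv_cancel₀ hne, one_mul]
    exact hb
  · intro hmem
    refine ⟨_, hmem, ?_⟩
    rw [smul_eq_mul, mul_comm, mul_assoc, mul_inv_cancel₀ hne, mul_one]

open IsLocalRing in
/-- Approximation by `O_P` at a place of residue degree one. -/
theorem exists_sub_lt_one {Q : Place k K'} {P : Place k K} [P.1.HasExtension Q.1]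
    (hf : Function.Surjective
      (algebraMap (IsLocalRing.ResidueField P.O) (IsLocalRing.ResidueField Q.O)))
    {z : K'} (hz : Q.1 z ≤ 1) :
    ∃ a : K, P.1 a ≤ 1 ∧ Q.1 (z - algebraMap K K' a) < 1 := by
  obtain ⟨ā, hā⟩ := hf (residue Q.O ⟨z, hz⟩)
  obtain ⟨a, rfl⟩ := residue_surjective ā
  rw [Valuation.HasExtension.algebraMap_residue_eq_residue_algebraMap, eq_comm, ← sub_eq_zero,
    ← map_sub, residue_eq_zero_iff, Valuation.mem_maximalIdeal_iff] at hā
  exact ⟨a, a.2, hā⟩

/-- The conductor of `O_P[s]` in the integral closure contains a unit at `Q`. -/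
theorem exists_conductor (hK : IsFunctionField k K) {Q : Place k K'} {P : Place k K} {e : ℕ}
    (he : IsOverWith Q P e) [P.1.HasExtension Q.1]
    (hf : Function.Surjective
      (algebraMap (IsLocalRing.ResidueField P.O) (IsLocalRing.ResidueField Q.O)))
    [Algebra P.O K'] [IsScalarTower P.O K K'] {s : K'} (hs : Q.1 s = exp (-1))
    (hs' : ∀ Q' : Place k K', IsOver Q' P → Q' ≠ Q → Q'.1 s = 1) :
    ∃ c ∈ Algebra.adjoin P.O ({s} : Set K'), Q.1 c = 1 ∧
      ∀ z : K', IsIntegral P.O z → c * z ∈ Algebra.adjoin P.O ({s} : Set K') := by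
  classical
  set A := Algebra.adjoin P.O ({s} : Set K') with hA
  have hsA : s ∈ A := Algebra.subset_adjoin (Set.mem_singleton s)
  have hs0 : s ≠ 0 := by
    intro h0; rw [h0, map_zero] at hs; exact exp_ne_zero hs.symm
  have hsint : IsIntegral P.O s := by
    rw [isIntegral_iff hK P]
    intro Q' hQ'
    by_cases hQQ : Q' = Q
    · rw [hQQ, hs, ← exp_zero, exp_le_exp]; norm_num
    · exact (hs' Q' hQ' hQQ).le
  have hAR : ∀ a ∈ A, IsIntegral P.O a := by
    intro a ha
    have hle : A ≤ integralClosure P.O K' :=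
      Algebra.adjoin_le (Set.singleton_subset_iff.2 hsint)
    exact hle ha
  let RA : Submodule A K' :=
    { carrier := {z | IsIntegral P.O z}
      add_mem' := fun ha hb => IsIntegral.add ha hb
      zero_mem' := isIntegral_zero
      smul_mem' := fun a z hz => by
        change IsIntegral P.O ((a : K') * z)
        exact (hAR a a.2).mul hz }
  let one : Submodule A K' := 1
  let N : Submodule A (K' ⧸ one) := RA.map one.mkQ
  let I : Ideal A := Ideal.span {⟨s, hsA⟩}
  have hfg : N.FG := by
    have hfin : Module.Finite P.O (integralClosure P.O K') := integralClosure_finite hK P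
    obtain ⟨S, hS⟩ := (Module.Finite.iff_fg
      (N := Subalgebra.toSubmodule (integralClosure P.O K'))).1 hfin
    have hRA : RA.FG := by
      refine ⟨S, le_antisymm (Submodule.span_le.2 ?_) ?_⟩
      · intro x hx
        have : x ∈ Subalgebra.toSubmodule (integralClosure P.O K') :=
          hS ▸ Submodule.subset_span hx
        exact this
      · intro z hz
        have : z ∈ Submodule.span P.O (S : Set K') := by rw [hS]; exact hz
        exact Submodule.span_le_restrictScalars P.O A _ this
    exact hRA.map _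
  have hin : N ≤ I • N := by
    rintro _ ⟨z, hz, rfl⟩
    have hzQ : Q.1 z ≤ 1 := (isIntegral_iff hK P z).1 hz Q ⟨e, he⟩
    obtain ⟨a, ha, hlt⟩ := exists_sub_lt_one hf hzQ
    set w := (z - algebraMap K K' a) / s with hw_def
    have hw : IsIntegral P.O w := by
      rw [isIntegral_iff hK P]
      intro Q' hQ'
      by_cases hQQ : Q' = Q
      · subst hQQ
        rw [hw_def, map_div₀, hs]
        have := le_exp_neg_one_of_lt_one hlt
        exact div_le_one_of_le₀ this zero_le
      · rw [hw_def, map_div₀, hs' Q' hQ' hQQ, div_one]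
        have h1 := (isIntegral_iff hK P z).1 hz Q' hQ'
        have h2 : Q'.1 (algebraMap K K' a) ≤ 1 := by
          obtain ⟨e', he'⟩ := hQ'
          exact val_le_one_of_isOverWith he' ha
        exact (Valuation.map_sub _ _ _).trans (max_le h1 h2)
    have hmk : one.mkQ z = (⟨s, hsA⟩ : A) • one.mkQ w := by
      rw [← map_smul, ← sub_eq_zero, ← map_sub, Submodule.mkQ_apply,
        Submodule.Quotient.mk_eq_zero]
      refine Submodule.mem_one.2 ⟨algebraMap P.O A ⟨a, ha⟩, ?_⟩
      change algebraMap P.O K' ⟨a, ha⟩ = z - s * w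
      rw [IsScalarTower.algebraMap_apply P.O K K', hw_def, mul_div_cancel₀ _ hs0]
      change algebraMap K K' a = _
      ring
    rw [hmk]
    exact Submodule.smul_mem_smul (Ideal.mem_span_singleton_self _)
      (Submodule.mem_map_of_mem hw)
  obtain ⟨r, hrI, hrN⟩ :=
    Submodule.exists_sub_one_mem_and_smul_eq_zero_of_fg_of_le_smul I N hfg hin
  refine ⟨r, r.2, ?_, ?_⟩
  · obtain ⟨b, hb⟩ := Ideal.mem_span_singleton'.1 hrI
    have hb' : (r : K') = 1 + b * s := by
      have := congrArg (Subtype.val) hb
      change (b : K') * s = (r : K') - 1 at this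
      rw [this]; ring
    rw [hb']
    apply Valuation.map_one_add_of_lt
    rw [map_mul, hs]
    have hbQ : Q.1 (b : K') ≤ 1 := (isIntegral_iff hK P _).1 (hAR b b.2) Q ⟨e, he⟩
    calc Q.1 (b : K') * exp (-1) ≤ 1 * exp (-1) := mul_le_mul' hbQ le_rfl
      _ < 1 := by rw [one_mul, ← exp_zero, exp_lt_exp]; norm_num
  · intro z hz
    have h1 := hrN (one.mkQ z) (Submodule.mem_map_of_mem hz)
    rw [← map_smul, Submodule.mkQ_apply, Submodule.Quotient.mk_eq_zero] at h1
    obtain ⟨a, ha⟩ := Submodule.mem_one.1 h1
    have : (r : K') * z = (a : K') := ha.symm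
    rw [this]
    exact a.2

end Groth.Agent.Lib.Helper63.LocResDual
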