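import Groth.Agent.Lib.Helper63.Conorm

/-! The fundamental equality over an intermediate field of a finite extension of a function
field (whose constant field may be bigger than `k`) (helper63). -/

set_option autoImplicit false
set_option linter.style.haveILetI false

namespace Groth.Agent.Lib.Helper63.Tower

open WithZero IntermediateField FunFld Groth.Agent.Lib.Helper55 Groth.Agent.Lib.Helper63.FunFldExt
  Groth.Agent.Lib.Helper63.FundIneq Groth.Agent.Lib.Helper63.SumEF
  Groth.Agent.Lib.Helper63.Conorm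

variable {k K K' : Type*} [Field k] [Field K] [Field K'] [Algebra k K] [Algebra K K']
  [Algebra k K']

theorem deg_cN [FiniteDimensional K K'] (P : Place k K) :
    (cN K' P).deg = ∑ Q ∈ (finite_setOf_isOver (K' := K') P).toFinset,
      ((ramIdx Q P * Q.deg : ℕ) : ℤ) := by
  unfold cN
  rw [ff_deg_sum]
  refine Finset.sum_congr rfl fun Q _ => ?_
  rw [Finsupp.smul_single, smul_eq_mul, mul_one, ff_deg_single]
  push_cast
  ring

theorem deg_cN_le [IsScalarTower k K K'] [FiniteDimensional K K'] (P : Place k K) :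
    (cN K' P).deg ≤ Module.finrank K K' * P.deg := by
  rw [deg_cN, ← Nat.cast_sum]
  exact_mod_cast sum_ramIdx_mul_deg_le P _
    (fun Q hQ => (finite_setOf_isOver (K' := K') P).mem_toFinset.1 hQ)

theorem deg_cN_eq [IsScalarTower k K K'] [FiniteDimensional K K'] (hK : IsFunctionField k K)
    (P : Place k K) : (cN K' P).deg = Module.finrank K K' * P.deg := by
  rw [deg_cN, ← Nat.cast_sum, sum_ramIdx_mul_deg_eq hK P _
    (fun Q => (finite_setOf_isOver (K' := K') P).mem_toFinset)]
  push_cast
  rfl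

variable {K'' : Type*} [Field K''] [Algebra K' K''] [Algebra K K''] [Algebra k K'']
  [IsScalarTower K K' K''] [IsScalarTower k K' K'']

/-- The fundamental equality for `K''/K'` where `K'` is finite over a function field `K`. -/
theorem deg_cN_eq_tower [IsScalarTower k K K'] [FiniteDimensional K K']
    [FiniteDimensional K' K''] (hK : IsFunctionField k K) (Q₁ : Place k K') :
    (cN K'' Q₁).deg = Module.finrank K' K'' * Q₁.deg := by
  classical
  haveI : FiniteDimensional K K'' := FiniteDimensional.trans K K' K''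
  haveI : IsScalarTower k K K'' := by
    refine IsScalarTower.of_algebraMap_eq fun c => ?_
    rw [IsScalarTower.algebraMap_apply k K' K'', IsScalarTower.algebraMap_apply k K K',
      ← IsScalarTower.algebraMap_apply K K' K'']
  obtain ⟨P, hP⟩ := exists_isOver_below (K := K) Q₁
  set Qs := (finite_setOf_isOver (K' := K') P).toFinset with hQs
  have hQ₁ : Q₁ ∈ Qs := (finite_setOf_isOver (K' := K') P).mem_toFinset.2 hP
  -- global identity
  have h1 : ∑ Q ∈ Qs, (ramIdx Q P : ℤ) * (cN K'' Q).deg =
      ∑ Q ∈ Qs, (ramIdx Q P : ℤ) * ((Module.finrank K' K'' : ℤ) * Q.deg) := by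
    have hL := deg_cN_eq (K' := K'') hK P
    rw [← cN_trans (K' := K') P, ff_deg_sum] at hL
    have h2 : ∀ Q ∈ Qs, ((ramIdx Q P : ℤ) • cN K'' Q).deg = (ramIdx Q P : ℤ) * (cN K'' Q).deg := by
      intro Q _
      unfold Divisor.deg
      rw [Finsupp.sum_smul_index (fun _ => by simp), Finsupp.mul_sum]
      refine Finsupp.sum_congr fun R _ => ?_
      rw [mul_assoc]
    rw [Finset.sum_congr rfl h2] at hL
    rw [hL, ← Module.finrank_mul_finrank K K' K'']
    have hK' := deg_cN_eq (K' := K') hK P
    rw [deg_cN] at hK'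
    push_cast at hK' ⊢
    rw [mul_comm (Module.finrank K K' : ℤ), mul_assoc, ← hK', Finset.mul_sum]
    refine Finset.sum_congr rfl fun Q _ => ?_
    ring
  have hdef : ∀ Q ∈ Qs, 0 ≤ (ramIdx Q P : ℤ) *
      ((Module.finrank K' K'' : ℤ) * Q.deg - (cN K'' Q).deg) := fun Q _ =>
    mul_nonneg (Nat.cast_nonneg _) (sub_nonneg.2 (deg_cN_le Q))
  have hzero : ∑ Q ∈ Qs, (ramIdx Q P : ℤ) *
      ((Module.finrank K' K'' : ℤ) * Q.deg - (cN K'' Q).deg) = 0 := by
    simp only [mul_sub, Finset.sum_sub_distrib]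
    rw [h1, sub_self]
  have h3 := (Finset.sum_eq_zero_iff_of_nonneg hdef).1 hzero Q₁ hQ₁
  have he : (ramIdx Q₁ P : ℤ) ≠ 0 := by
    have := isOverWith_ne_zero (isOverWith_ramIdx hP)
    exact_mod_cast this
  rcases mul_eq_zero.1 h3 with h | h
  · exact absurd h he
  · exact (sub_eq_zero.1 h).symm

/-- Sum form of `deg_cN_eq_tower`. -/
theorem sum_ramIdx_mul_deg_eq_tower [IsScalarTower k K K'] [FiniteDimensional K K']
    [FiniteDimensional K' K''] (hK : IsFunctionField k K) (Q₁ : Place k K')
    (Rs : Finset (Place k K'')) (hRs : ∀ R, R ∈ Rs ↔ IsOver R Q₁) :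
    ∑ R ∈ Rs, ramIdx R Q₁ * R.deg = Module.finrank K' K'' * Q₁.deg := by
  have h := deg_cN_eq_tower (K'' := K'') hK Q₁
  rw [deg_cN, ← Nat.cast_sum] at h
  have hRs' : Rs = (finite_setOf_isOver (K' := K'') Q₁).toFinset := by
    ext R
    rw [hRs, (finite_setOf_isOver (K' := K'') Q₁).mem_toFinset]
    rfl
  rw [hRs']
  exact_mod_cast h

end Groth.Agent.Lib.Helper63.Tower
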