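import Groth.Agent.Lib.Helper63.Galois
import Groth.Agent.Lib.Helper63.Tower
import Mathlib.RingTheory.Invariant.Basic
import Mathlib.FieldTheory.PrimitiveElement
import Mathlib.FieldTheory.Fixed
import Mathlib.FieldTheory.Separable

/-! Inertia groups of places in finite Galois extensions of function fields (helper63). -/

set_option autoImplicit false
set_option linter.style.haveILetI false
set_option linter.unusedSectionVars false

namespace Groth.Agent.Lib.Helper63.Inertia

open WithZero IntermediateField FunFld IsLocalRing Polynomial Groth.Agent.Lib.Helper55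
  Groth.Agent.Lib.Helper63.Approx Groth.Agent.Lib.Helper63.FunFldExt
  Groth.Agent.Lib.Helper63.FundIneq Groth.Agent.Lib.Helper63.SumEF
  Groth.Agent.Lib.Helper63.Galois
open scoped Pointwise

variable {k K K' : Type*} [Field k] [Field K] [Field K'] [Algebra k K] [Algebra K K']
  [Algebra k K'] [IsScalarTower k K K']

theorem mem_decomposition_iff (σ : K' ≃ₐ[K] K') (Q : Place k K') :
    σ ∈ (Q.O).decompositionSubgroup K ↔ comapEquiv σ Q = Q := by
  rw [MulAction.mem_stabilizer_iff]
  constructor
  · intro h
    apply ff_place_eq_of_O_le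
    rw [comapEquiv_O, inv_smul_eq_iff.2 h.symm]
  · intro h
    have h1 := congrArg Place.O h
    rw [comapEquiv_O, inv_smul_eq_iff] at h1
    exact h1.symm

omit [IsScalarTower k K K'] in
/-- Approximation: lift a residue class at `Q` to an element integral at all places above `P`
and vanishing at the places above `P` other than `Q`. -/
theorem exists_lift_residue [FiniteDimensional K K'] {Q : Place k K'} {P : Place k K}
    (hQ : IsOver Q P) (a : ResidueField Q.O) :
    ∃ α : K', (∀ Q', IsOver Q' P → Q' ≠ Q → Q'.1 α < 1) ∧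
      ∃ h : Q.1 α ≤ 1, residue Q.O ⟨α, h⟩ = a := by
  classical
  obtain ⟨α₀, rfl⟩ := residue_surjective a
  have hfin := finite_setOf_isOver (K' := K') P
  obtain ⟨x, hx⟩ := exists_approx (fun Q' : hfin.toFinset => Q'.1.1) (fun Q' => Q'.1.2.2)
    (fun Q₁ Q₂ h => Subtype.ext (Subtype.ext h))
    (fun Q' => if Q'.1 = Q then (α₀ : K') else 0) (δ := 1) one_ne_zero
  refine ⟨x, ?_, ?_⟩
  · intro Q' hQ' hne
    have := hx ⟨Q', hfin.mem_toFinset.2 hQ'⟩
    simpa [hne] using this
  · have h1 := hx ⟨Q, hfin.mem_toFinset.2 hQ⟩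
    simp only [if_true] at h1
    have hle : Q.1 x ≤ 1 := by
      have : x = (α₀ : K') + (x - α₀) := by ring
      rw [this]
      exact (Valuation.map_add _ _ _).trans (max_le α₀.2 h1.le)
    refine ⟨hle, ?_⟩
    have hmem : (⟨x, hle⟩ : Q.O) - α₀ ∈ maximalIdeal Q.O := by
      rw [Valuation.mem_maximalIdeal_iff]
      exact h1
    have := (residue_eq_zero_iff _).2 hmem
    rwa [map_sub, sub_eq_zero] at this

section main

variable [FiniteDimensional K K'] {Q : Place k K'} {P : Place k K}
  [Algebra P.O Q.O] [IsLocalHom (algebraMap P.O Q.O)]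

local notation "F" => ResidueField P.O
local notation "E" => ResidueField Q.O
local notation "D" => ValuationSubring.decompositionSubgroup K (FunFld.Place.O Q)

omit [FiniteDimensional K K'] [IsLocalHom (algebraMap P.O Q.O)] in
theorem coe_smul (σ : D) (b : Q.O) : ((σ • b : Q.O) : K') = σ.1 (b : K') := rfl

omit [FiniteDimensional K K'] in
/-- The decomposition group acts on the residue field of `Q` by `F`-automorphisms. -/
theorem smul_algebraMap
    (hcoe : ∀ a : P.O, ((algebraMap P.O Q.O a : Q.O) : K') = algebraMap K K' (a : K))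
    (σ : D) (x : F) : σ • (algebraMap F E x) = algebraMap F E x := by
  obtain ⟨a, rfl⟩ := residue_surjective x
  rw [ResidueField.algebraMap_residue, ← ResidueField.residue_smul]
  congr 1
  apply Subtype.ext
  rw [coe_smul, hcoe]
  exact σ.1.commutes _

/-- The image of the decomposition group in `Aut(E)` has at most `[E:F]` elements. -/
theorem card_range_le [FiniteDimensional F E]
    (hcoe : ∀ a : P.O, ((algebraMap P.O Q.O a : Q.O) : K') = algebraMap K K' (a : K)) :
    Nat.card (MulSemiringAction.toRingAut D E).range ≤ Module.finrank F E := by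
  classical
  have hcomm : ∀ τ : (MulSemiringAction.toRingAut D E).range, ∀ x : F,
      (τ.1 : E ≃+* E) (algebraMap F E x) = algebraMap F E x := by
    rintro ⟨τ, σ, rfl⟩ x
    exact smul_algebraMap hcoe σ x
  let ψ : (MulSemiringAction.toRingAut D E).range → (E ≃ₐ[F] E) := fun τ =>
    AlgEquiv.ofRingEquiv (f := (τ.1 : E ≃+* E)) (hcomm τ)
  have hψ : Function.Injective ψ := by
    intro τ₁ τ₂ h
    apply Subtype.ext
    ext x
    exact congrArg (fun g : E ≃ₐ[F] E => g x) h
  calc Nat.card (MulSemiringAction.toRingAut D E).range ≤ Nat.card (E ≃ₐ[F] E) :=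
        Nat.card_le_card_of_injective ψ hψ
    _ = Fintype.card (E ≃ₐ[F] E) := Nat.card_eq_fintype_card
    _ ≤ Module.finrank F E := AlgEquiv.card_le

/-- The image of the decomposition group in `Aut(E)` has at least `[E:F]` elements. -/
theorem le_card_range [IsGalois K K'] [FiniteDimensional F E] [Algebra.IsSeparable F E]
    {e : ℕ} (hQ : IsOverWith Q P e)
    (hcoe : ∀ a : P.O, ((algebraMap P.O Q.O a : Q.O) : K') = algebraMap K K' (a : K)) :
    Module.finrank F E ≤ Nat.card (MulSemiringAction.toRingAut D E).range := by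
  classical
  obtain ⟨a, ha⟩ := Field.exists_primitive_element F E
  by_cases ha0 : a = 0
  · have h1 : Module.finrank F E = 1 := by
      rw [ha0, adjoin_zero] at ha
      exact IntermediateField.bot_eq_top_iff_finrank_eq_one.1 ha
    rw [h1]
    exact Nat.card_pos
  obtain ⟨α, hα_other, hαQ, hres⟩ := exists_lift_residue ⟨e, hQ⟩ a
  have hσα : ∀ σ : K' ≃ₐ[K] K', Q.1 (σ α) ≤ 1 := by
    intro σ
    by_cases h : comapEquiv σ Q = Q
    · have := congrArg (fun R : Place k K' => R.1 α) h
      simp only [comapEquiv_apply] at this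
      rw [this]; exact hαQ
    · exact (hα_other _ ⟨e, comapEquiv_isOverWith σ hQ⟩ h).le
  let β : (K' ≃ₐ[K] K') → Q.O := fun σ => ⟨σ α, hσα σ⟩
  set gO : Q.O[X] := ∏ σ : K' ≃ₐ[K] K', (X - C (β σ)) with hgO
  have hgmap : gO.map Q.O.subtype = MulSemiringAction.charpoly (K' ≃ₐ[K] K') α := by
    rw [hgO, Polynomial.map_prod, MulSemiringAction.charpoly_eq]
    refine Finset.prod_congr rfl fun σ _ => ?_
    rw [Polynomial.map_sub, Polynomial.map_X, Polynomial.map_C]
    rfl
  have hlift : gO ∈ Polynomial.lifts (algebraMap P.O Q.O) := by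
    rw [Polynomial.lifts_iff_coeff_lifts]
    intro n
    have h1 : ((gO.coeff n : Q.O) : K') =
        (MulSemiringAction.charpoly (K' ≃ₐ[K] K') α).coeff n := by
      rw [← hgmap, Polynomial.coeff_map]; rfl
    have h2 : ∀ σ : K' ≃ₐ[K] K', σ ((gO.coeff n : Q.O) : K') = ((gO.coeff n : Q.O) : K') := by
      intro σ
      rw [h1]
      exact MulSemiringAction.smul_coeff_charpoly α n σ
    obtain ⟨c, hc⟩ := (IsGalois.mem_range_algebraMap_iff_fixed _).2 h2
    have hc1 : P.1 c ≤ 1 := by
      have h3 : Q.1 (algebraMap K K' c) ≤ 1 := by rw [hc]; exact (gO.coeff n).2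
      rw [hQ] at h3
      exact (pow_le_one_iff_of_nonneg zero_le (isOverWith_ne_zero hQ)).1 h3
    refine ⟨⟨c, hc1⟩, Subtype.ext ?_⟩
    rw [hcoe]
    exact hc
  obtain ⟨hO, hhO⟩ := (Polynomial.mem_lifts _).1 hlift
  set hbar : F[X] := hO.map (residue P.O) with hhbar
  set gbar : E[X] := ∏ σ : K' ≃ₐ[K] K', (X - C (residue Q.O (β σ))) with hgbar
  have hgbar' : gO.map (residue Q.O) = gbar := by
    rw [hgO, Polynomial.map_prod]
    refine Finset.prod_congr rfl fun σ _ => ?_
    rw [Polynomial.map_sub, Polynomial.map_X, Polynomial.map_C]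
  have hmap : hbar.map (algebraMap F E) = gbar := by
    rw [hhbar, Polynomial.map_map, ← hgbar', ← hhO, Polynomial.map_map]
    congr 1
  have hroot : Polynomial.aeval a hbar = 0 := by
    rw [Polynomial.aeval_def, ← Polynomial.eval_map, hmap, hgbar, Polynomial.eval_prod]
    refine Finset.prod_eq_zero (Finset.mem_univ (1 : K' ≃ₐ[K] K')) ?_
    rw [Polynomial.eval_sub, Polynomial.eval_X, Polynomial.eval_C, sub_eq_zero]
    exact hres.symm
  have hdvd : (minpoly F a).map (algebraMap F E) ∣ gbar := by
    rw [← hmap]
    exact Polynomial.map_dvd _ (minpoly.dvd F a hroot)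
  have hgbar0 : gbar ≠ 0 :=
    (Polynomial.monic_prod_of_monic _ _ fun σ _ => Polynomial.monic_X_sub_C _).ne_zero
  have hsplit : ((minpoly F a).map (algebraMap F E)).Splits :=
    Polynomial.Splits.of_dvd (Polynomial.Splits.prod fun σ _ => Polynomial.Splits.X_sub_C _)
      hgbar0 hdvd
  have hsep : (minpoly F a).Separable := Algebra.IsSeparable.isSeparable F a
  have hcard := Polynomial.card_rootSet_eq_natDegree hsep hsplit
  have hint : IsIntegral F a := Algebra.IsIntegral.isIntegral a
  have hdeg : (minpoly F a).natDegree = Module.finrank F E := by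
    rw [← IntermediateField.adjoin.finrank hint, ha, IntermediateField.finrank_top']
  -- every root comes from the decomposition group
  have hsub : (minpoly F a).rootSet E ⊆
      Set.range (fun τ : (MulSemiringAction.toRingAut D E).range => (τ.1 : E ≃+* E) a) := by
    intro b hb
    rw [Polynomial.mem_rootSet] at hb
    have hb0 : b ≠ 0 := by
      rintro rfl
      have h1 : minpoly F a = minpoly F (0 : E) :=
        minpoly.eq_of_irreducible_of_monic (minpoly.irreducible hint) hb.2 (minpoly.monic hint)
      rw [minpoly.zero] at h1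
      have := minpoly.aeval F a
      rw [h1, Polynomial.aeval_X] at this
      exact ha0 this
    have hev : Polynomial.eval b gbar = 0 := by
      obtain ⟨q, hq⟩ := hdvd
      rw [hq, Polynomial.eval_mul, Polynomial.eval_map, ← Polynomial.aeval_def, hb.2, zero_mul]
    rw [hgbar, Polynomial.eval_prod, Finset.prod_eq_zero_iff] at hev
    obtain ⟨σ, -, hσ⟩ := hev
    rw [Polynomial.eval_sub, Polynomial.eval_X, Polynomial.eval_C, sub_eq_zero] at hσ
    have hunit : IsUnit (β σ) := by
      rw [← residue_ne_zero_iff_isUnit, ← hσ]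
      exact hb0
    rw [(Valuation.valuationSubring.integers Q.1).isUnit_iff_valuation_eq_one] at hunit
    have hQσ : comapEquiv σ Q = Q := by
      by_contra hne
      have := hα_other _ ⟨e, comapEquiv_isOverWith σ hQ⟩ hne
      rw [comapEquiv_apply] at this
      exact absurd hunit this.ne
    have hσD : σ ∈ D := (mem_decomposition_iff σ Q).2 hQσ
    refine ⟨⟨MulSemiringAction.toRingAut D E ⟨σ, hσD⟩, ⟨σ, hσD⟩, rfl⟩, ?_⟩
    rw [hσ, ← hres]
    rfl
  haveI : Finite (MulSemiringAction.toRingAut D E).range := inferInstance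
  calc Module.finrank F E = Fintype.card ((minpoly F a).rootSet E) := by rw [hcard, hdeg]
    _ = Nat.card ((minpoly F a).rootSet E) := Nat.card_eq_fintype_card.symm
    _ ≤ Nat.card (Set.range (fun τ : (MulSemiringAction.toRingAut D E).range =>
          (τ.1 : E ≃+* E) a)) := Nat.card_mono (Set.finite_range _) hsub
    _ ≤ Nat.card (MulSemiringAction.toRingAut D E).range := Finite.card_range_le _

end main

/-- The inertia group of `Q` has order `e(Q|P)`, given the fundamental equality at `P`. -/
theorem card_inertia' [FiniteDimensional K K'] [IsGalois K K'] {Q : Place k K'} {P : Place k K}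
    {e : ℕ} (he : IsOverWith Q P e) (hdegP : 0 < P.deg)
    (hFE : ∀ Qs : Finset (Place k K'), (∀ Q', Q' ∈ Qs ↔ IsOver Q' P) →
      ∑ Q' ∈ Qs, ramIdx Q' P * Q'.deg = Module.finrank K K' * P.deg)
    [Algebra.IsSeparable k (ResidueField Q.O)] :
    Nat.card ((Q.O).inertiaSubgroup K) = e := by
  letI := algO he
  haveI : IsLocalHom (algebraMap P.O Q.O) := isLocalHom_algebraMap he
  haveI : IsScalarTower k P.O Q.O := isScalarTower_algO he
  have hcoe : ∀ a : P.O, ((algebraMap P.O Q.O a : Q.O) : K') = algebraMap K K' (a : K) :=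
    fun a => rfl
  have hD := card_decomposition_mul_deg' he hFE
  have hdeg := deg_eq_mul he
  have hDpos : 0 < Nat.card ((Q.O).decompositionSubgroup K) := Nat.card_pos
  have hQpos : 0 < Q.deg := by
    have : 0 < e * Q.deg := by rw [← hD]; exact Nat.mul_pos hDpos hdegP
    exact Nat.pos_of_mul_pos_left this
  have hfpos' : 0 < Module.finrank (ResidueField P.O) (ResidueField Q.O) := by
    rw [hdeg] at hQpos
    exact Nat.pos_of_mul_pos_left hQpos
  haveI : FiniteDimensional (ResidueField P.O) (ResidueField Q.O) :=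
    Module.finite_of_finrank_pos hfpos'
  have hcomp : (algebraMap (ResidueField P.O) (ResidueField Q.O)).comp
      (algebraMap k (ResidueField P.O)) = algebraMap k (ResidueField Q.O) := by
    ext c
    change residue Q.O (algebraMap P.O Q.O (algebraMap k P.O c)) =
      residue Q.O (algebraMap k Q.O c)
    rw [← IsScalarTower.algebraMap_apply]
  haveI : Algebra.IsSeparable (ResidueField P.O) (ResidueField Q.O) := ⟨fun x => by
    have hsep : (minpoly k x).Separable := Algebra.IsSeparable.isSeparable k x
    have hroot : Polynomial.aeval x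
        ((minpoly k x).map (algebraMap k (ResidueField P.O))) = 0 := by
      rw [Polynomial.aeval_def, Polynomial.eval₂_map, hcomp, ← Polynomial.aeval_def,
        minpoly.aeval]
    exact (hsep.map).of_dvd (minpoly.dvd (ResidueField P.O) x hroot)⟩
  have hrange : Nat.card (MulSemiringAction.toRingAut ((Q.O).decompositionSubgroup K)
      (ResidueField Q.O)).range = Module.finrank (ResidueField P.O) (ResidueField Q.O) :=
    le_antisymm (card_range_le hcoe) (le_card_range he hcoe)
  have hsplit := Subgroup.card_eq_card_quotient_mul_card_subgroup ((Q.O).inertiaSubgroup K)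
  have hquot : Nat.card (((Q.O).decompositionSubgroup K) ⧸ ((Q.O).inertiaSubgroup K)) =
      Nat.card (MulSemiringAction.toRingAut ((Q.O).decompositionSubgroup K)
        (ResidueField Q.O)).range :=
    Nat.card_congr (QuotientGroup.quotientKerEquivRange _).toEquiv
  rw [hquot, hrange] at hsplit
  rw [hsplit, hdeg] at hD
  set f := Module.finrank (ResidueField P.O) (ResidueField Q.O) with hf
  have hfpos : 0 < f := by
    rw [hdeg] at hQpos
    exact Nat.pos_of_mul_pos_left hQpos
  have : (f * P.deg) * Nat.card ((Q.O).inertiaSubgroup K) = (f * P.deg) * e := by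
    calc (f * P.deg) * Nat.card ((Q.O).inertiaSubgroup K)
        = f * Nat.card ((Q.O).inertiaSubgroup K) * P.deg := by ring
      _ = e * (P.deg * f) := hD
      _ = (f * P.deg) * e := by ring
  exact Nat.eq_of_mul_eq_mul_left (Nat.mul_pos hfpos hdegP) this

/-- The inertia group of `Q` has order `e(Q|P)`. -/
theorem card_inertia [FiniteDimensional K K'] [IsGalois K K'] (hK : IsFunctionField k K)
    {Q : Place k K'} {P : Place k K} {e : ℕ} (he : IsOverWith Q P e)
    [Algebra.IsSeparable k (ResidueField Q.O)] :
    Nat.card ((Q.O).inertiaSubgroup K) = e :=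
  card_inertia' he (ff_deg_pos hK P) (fun Qs hQs => sum_ramIdx_mul_deg_eq hK P Qs hQs)

end Groth.Agent.Lib.Helper63.Inertia
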