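import Groth.Agent.Lib.Helper63.Conorm
import Groth.Prelude.Def_W4bk4goldsch45

/-! Divisors of projective maps and conorms (helper63). -/

set_option autoImplicit false
set_option linter.style.haveILetI false

namespace Groth.Agent.Lib.Helper63.MapDiv

open WithZero IntermediateField FunFld Groth.Agent.Lib.Helper55 Groth.Agent.Lib.Helper63.FunFldExt
  Groth.Agent.Lib.Helper63.SumEF Groth.Agent.Lib.Helper63.Conorm

variable {k K K' : Type*} [Field k] [Field K] [Field K'] [Algebra k K] [Algebra K K']
  [Algebra k K']

/-- The support of `P ↦ -inf_i ord_P(φ i)` is finite as soon as each `ord (φ i)` has finite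
support. -/
theorem finite_support_inf {ι : Type*} [Fintype ι] [Nonempty ι] (φ : ι → K)
    (h : ∀ i, (Function.support fun P : Place k K => P.ord (φ i)).Finite) :
    (Function.support fun P : Place k K =>
      -Finset.univ.inf' Finset.univ_nonempty (fun i => P.ord (φ i))).Finite := by
  refine (Set.finite_iUnion h).subset ?_
  intro P hP
  rw [Function.mem_support] at hP
  by_contra hcon
  rw [Set.mem_iUnion] at hcon
  push Not at hcon
  apply hP
  have : ∀ i, P.ord (φ i) = 0 := fun i => by
    have := hcon i
    rwa [Function.mem_support, not_not] at this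
  simp [this]

theorem mapDiv_apply_of_finite {ι : Type*} [Fintype ι] [Nonempty ι] (φ : ι → K)
    (h : ∀ i, (Function.support fun P : Place k K => P.ord (φ i)).Finite) (P : Place k K) :
    mapDiv k φ P = -Finset.univ.inf' Finset.univ_nonempty (fun i => P.ord (φ i)) := by
  unfold mapDiv
  rw [dif_pos (finite_support_inf φ h)]
  rfl

/-- `[φ]_{K'} = N*([φ]_K)` for a tuple `φ` with entries in `K`. -/
theorem mapDiv_algebraMap [IsScalarTower k K K'] [FiniteDimensional K K']
    (hK : IsFunctionField k K) {ι : Type*} [Fintype ι] [Nonempty ι] (φ : ι → K) :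
    mapDiv k (fun i => algebraMap K K' (φ i)) = conormHom K' (mapDiv k φ) := by
  ext Q
  obtain ⟨P, hP⟩ := exists_isOver_below (K := K) Q
  rw [mapDiv_apply_of_finite _ (fun i => finite_support_ord hK _), conormHom_apply _ hP,
    mapDiv_apply_of_finite _ (fun i => ff_finite_support_ord hK _)]
  have he := isOverWith_ramIdx hP
  simp only [ord_algebraMap he]
  have hmono : Monotone fun n : ℤ => (ramIdx Q P : ℤ) * n := fun a b hab =>
    mul_le_mul_of_nonneg_left hab (Nat.cast_nonneg _)
  have := Finset.apply_inf'_eq_inf'_comp (s := Finset.univ) Finset.univ_nonempty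
    (f := fun i => P.ord (φ i)) (fun n : ℤ => (ramIdx Q P : ℤ) * n) (fun x y => hmono.map_min)
  rw [neg_mul, mul_comm, this]
  rfl

section twist

variable {k K : Type*} [Field k] [Field K] [Algebra k K]

/-- `K` viewed as an extension of itself through a `k`-embedding `τ`. -/
def Twist (_τ : K →ₐ[k] K) : Type _ := K

variable (τ : K →ₐ[k] K)

instance : Field (Twist τ) := inferInstanceAs (Field K)
instance : Algebra k (Twist τ) := inferInstanceAs (Algebra k K)
instance : Algebra K (Twist τ) := τ.toRingHom.toAlgebra
instance : IsScalarTower k K (Twist τ) :=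
  IsScalarTower.of_algebraMap_eq (fun c => (τ.commutes c).symm)

theorem finrank_twist : Module.finrank K (Twist τ) = Module.finrank τ.fieldRange K := by
  refine Algebra.finrank_eq_of_equiv_equiv (AlgEquiv.ofInjectiveField τ).toRingEquiv
    (RingEquiv.refl K) ?_
  ext x
  rfl

theorem finiteDimensional_twist (hK : IsFunctionField k K) : FiniteDimensional K (Twist τ) := by
  have hK' := hK
  obtain ⟨⟨x₀, hx₀, -⟩, -⟩ := hK'
  have hτx : Transcendental k (τ x₀) := by
    intro h
    apply hx₀
    obtain ⟨p, hp0, hp⟩ := h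
    refine ⟨p, hp0, τ.toRingHom.injective ?_⟩
    rw [map_zero]
    rw [← hp]
    exact (Polynomial.aeval_algHom_apply τ x₀ p).symm
  have hfin : FiniteDimensional k⟮τ x₀⟯ K := ff_finite_of_transcendental hK hτx
  have hle : k⟮τ x₀⟯ ≤ τ.fieldRange := by
    rw [adjoin_simple_le_iff]
    exact ⟨x₀, rfl⟩
  have h2 : FiniteDimensional (extendScalars hle) K := inferInstance
  have h3 : FiniteDimensional τ.fieldRange K := h2
  exact Module.Finite.of_equiv_equiv (A₁ := τ.fieldRange) (B₁ := K) (A₂ := K) (B₂ := Twist τ)
    (AlgEquiv.ofInjectiveField τ).symm.toRingEquiv (RingEquiv.refl K) (by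
      ext x
      obtain ⟨y, rfl⟩ := (AlgEquiv.ofInjectiveField τ).surjective x
      change τ ((AlgEquiv.ofInjectiveField τ).symm ((AlgEquiv.ofInjectiveField τ) y)) =
        ((AlgEquiv.ofInjectiveField τ) y : K)
      rw [AlgEquiv.symm_apply_apply]
      rfl)

/-- `deg [τ ∘ φ] = [K : τ K] deg [φ]`. -/
theorem deg_mapDiv_comp (hK : IsFunctionField k K) {ι : Type*} [Fintype ι] [Nonempty ι]
    (φ : ι → K) :
    (mapDiv k (τ ∘ φ)).deg = Module.finrank τ.fieldRange K * (mapDiv k φ).deg := by
  haveI := finiteDimensional_twist τ hK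
  have h1 := mapDiv_algebraMap (K := K) (K' := Twist τ) hK φ
  have h2 := deg_conormHom (K := K) (K' := Twist τ) hK (mapDiv k φ)
  rw [← h1, finrank_twist] at h2
  exact h2

end twist

end Groth.Agent.Lib.Helper63.MapDiv
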