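import Groth.Agent.Lib.Helper63.UnramifiedFF
import Groth.Agent.Lib.Helper63.IntClosure
import Mathlib.FieldTheory.PrimitiveElement
import Mathlib.FieldTheory.Separable
import Mathlib.RingTheory.Polynomial.Basic

/-! Finitely many places ramify in a finite separable extension of function fields (helper63). -/

set_option autoImplicit false
set_option linter.style.haveILetI false
set_option linter.unusedSectionVars false

namespace Groth.Agent.Lib.Helper63.FiniteRamified

open WithZero Polynomial IntermediateField FunFld IsLocalRing Groth.Agent.Lib.Helper55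
  Groth.Agent.Lib.Helper63.FunFldExt Groth.Agent.Lib.Helper63.FundIneq

variable {k K K' : Type*} [Field k] [Field K] [Field K'] [Algebra k K] [Algebra K K']
  [Algebra k K'] [IsScalarTower k K K']

omit [Algebra K K'] [Algebra k K'] [IsScalarTower k K K'] in
theorem finite_poles (hK : IsFunctionField k K) (x : K) : {P : Place k K | 1 < P.1 x}.Finite := by
  refine (ff_finite_support_ord hK x).subset ?_
  intro P hP
  have hP' : 1 < P.1 x := hP
  have hx0 : x ≠ 0 := by
    rintro rfl
    rw [map_zero] at hP'
    exact not_lt_zero hP'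
  rw [Function.mem_support]
  exact ((ff_ord_neg_iff P hx0).2 hP').ne

omit [Algebra K K'] [Algebra k K'] [IsScalarTower k K K'] in
theorem finite_poles_finset (hK : IsFunctionField k K) (s : Finset K) :
    {P : Place k K | ∃ c ∈ s, 1 < P.1 c}.Finite := by
  have : {P : Place k K | ∃ c ∈ s, 1 < P.1 c} = ⋃ c ∈ s, {P : Place k K | 1 < P.1 c} := by
    ext P; simp
  rw [this]
  exact Set.Finite.biUnion s.finite_toSet (fun c _ => finite_poles hK c)

omit [Algebra k K] [Algebra K K'] [Algebra k K'] [IsScalarTower k K K'] in
theorem val_le_one_of_eval₂_monic {R : Type*} [CommRing R] (w : Valuation K' ℤᵐ⁰) (φ : R →+* K')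
    (hφ : ∀ r, w (φ r) ≤ 1) {g : R[X]} (hg : g.Monic) {α : K'} (h : eval₂ φ α g = 0) :
    w α ≤ 1 := by
  letI := φ.toAlgebra
  exact Groth.Agent.Lib.Helper63.IntClosure.val_le_one_of_isIntegral' w hφ ⟨g, hg, h⟩

omit [Algebra K K'] [Algebra k K'] [IsScalarTower k K K'] in
theorem exists_lift (P : Place k K) (p : K[X]) (hp : ∀ n, P.1 (p.coeff n) ≤ 1) :
    ∃ q : (P.O)[X], q.map P.O.subtype = p := by
  have : p ∈ Polynomial.lifts P.O.subtype := by
    rw [lifts_iff_coeff_lifts]
    intro n
    exact ⟨⟨p.coeff n, hp n⟩, rfl⟩
  exact (mem_lifts p).1 this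

/-- Finitely many places of `K'` are ramified over `K`. -/
theorem finite_ramified [FiniteDimensional K K'] (hK : IsFunctionField k K)
    [Algebra.IsSeparable K K'] :
    {Q : Place k K' | ¬ Function.Surjective (Q.1.comap (algebraMap K K'))}.Finite := by
  classical
  obtain ⟨α, hα⟩ := Field.exists_primitive_element K K'
  have hint : IsIntegral K α := Algebra.IsIntegral.isIntegral α
  set g := minpoly K α with hg
  have hsep : g.Separable := Algebra.IsSeparable.isSeparable K α
  obtain ⟨a, b, hab⟩ := hsep
  set s : Finset K := a.coeffs ∪ b.coeffs ∪ g.coeffs with hs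
  have hB := finite_poles_finset hK s
  set B := {P : Place k K | ∃ c ∈ s, 1 < P.1 c} with hBdef
  have hgood : ∀ P : Place k K, P ∉ B → ∀ Q : Place k K', IsOver Q P → IsOverWith Q P 1 := by
    intro P hP Q hQ
    have hcoef : ∀ (p : K[X]), p.coeffs ⊆ s → ∀ n, P.1 (p.coeff n) ≤ 1 := by
      intro p hps n
      by_cases h0 : p.coeff n = 0
      · rw [h0, map_zero]; exact zero_le
      · by_contra hlt
        push Not at hlt
        exact hP ⟨p.coeff n, hps (coeff_mem_coeffs h0), hlt⟩
    obtain ⟨a', ha'⟩ := exists_lift P a (hcoef a (by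
      intro c hc; rw [hs]; exact Finset.mem_union_left _ (Finset.mem_union_left _ hc)))
    obtain ⟨b', hb'⟩ := exists_lift P b (hcoef b (by
      intro c hc; rw [hs]; exact Finset.mem_union_left _ (Finset.mem_union_right _ hc)))
    obtain ⟨g', hg'⟩ := exists_lift P g (hcoef g (by
      intro c hc; rw [hs]; exact Finset.mem_union_right _ hc))
    have hinj : Function.Injective (Polynomial.map P.O.subtype) :=
      Polynomial.map_injective _ Subtype.val_injective
    have hab' : a' * g' + b' * derivative g' = 1 := by
      apply hinj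
      rw [Polynomial.map_add, Polynomial.map_mul, Polynomial.map_mul, ← derivative_map, ha', hb',
        hg', Polynomial.map_one]
      exact hab
    have hmonic : g'.Monic := by
      apply Polynomial.monic_of_injective (f := P.O.subtype) Subtype.val_injective
      rw [hg']
      exact minpoly.monic hint
    have hroot : eval₂ ((algebraMap K K').comp P.O.subtype) α g' = 0 := by
      rw [← eval₂_map, hg', ← aeval_def, hg, minpoly.aeval]
    obtain ⟨e, he⟩ := hQ
    have hα1 : Q.1 α ≤ 1 := val_le_one_of_eval₂_monic Q.1
      ((algebraMap K K').comp P.O.subtype)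
      (fun r => val_le_one_of_isOverWith he r.2) hmonic hroot
    have hsq : Squarefree (g'.map (residue P.O)) := by
      apply Separable.squarefree
      refine ⟨a'.map (residue P.O), b'.map (residue P.O), ?_⟩
      rw [derivative_map, ← Polynomial.map_mul, ← Polynomial.map_mul, ← Polynomial.map_add,
        hab', Polynomial.map_one]
    have h1 := Groth.Agent.Lib.Helper63.UnramifiedFF.eq_one_of_squarefree he hα hα1 hroot hsq
    rw [← h1]
    exact he
  have hsub : {Q : Place k K' | ¬ Function.Surjective (Q.1.comap (algebraMap K K'))} ⊆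
      ⋃ P ∈ B, {Q : Place k K' | IsOver Q P} := by
    intro Q hQ
    obtain ⟨P, hP⟩ := exists_isOver_below (K := K) Q
    simp only [Set.mem_iUnion, Set.mem_ofPred_eq]
    refine ⟨P, ?_, hP⟩
    by_contra hPB
    apply hQ
    have h1 := hgood P hPB Q hP
    intro v
    obtain ⟨x, hx⟩ := P.2.2 v
    refine ⟨x, ?_⟩
    change Q.1 (algebraMap K K' x) = v
    rw [h1, pow_one, hx]
  exact (Set.Finite.biUnion hB (fun P _ => finite_setOf_isOver P)).subset hsub

end Groth.Agent.Lib.Helper63.FiniteRamified
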