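import Groth.Agent.Lib.Helper63.ASBasisK

/-! S19047: Frobenius on `H¹` of `y² + y = f(x)` in terms of repartitions (helper63). -/

set_option autoImplicit false
set_option linter.style.haveILetI false
set_option linter.unusedSectionVars false

namespace Groth.Agent.Lib.Helper63.ASFrob

open WithZero Polynomial IntermediateField FunFld
  Groth.Agent.Lib.Helper55
  Groth.Agent.Lib.Helper63.FunFldExt Groth.Agent.Lib.Helper63.Hyperelliptic
  Groth.Agent.Lib.Helper63.RatFuncPlaces
  Groth.Agent.Lib.Helper63.ASLocal Groth.Agent.Lib.Helper63.HyperGenus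
  Groth.Agent.Lib.Helper63.ASGenus
  Groth.Agent.Lib.Helper63.ASPoles
  Groth.Agent.Lib.Helper63.ASRegDiff Groth.Agent.Lib.Helper63.ASBasisE
  Groth.Agent.Lib.Helper63.ASBasisK

local notation "ℤᵐ⁰" => WithZero (Multiplicative ℤ)

section base

variable {k : Type*} [Field k]

/-- Principal parts at `x = α` are realised by rational functions regular elsewhere. -/
theorem exists_principal_part (α : k) (n : ℕ) : ∀ w : RatFunc k,
    (∀ P : Place k (RatFunc k), P.1 ((RatFunc.X : RatFunc k) - RatFunc.C α) < 1 →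
      P.1 w ≤ exp (n : ℤ)) →
    ∃ u : RatFunc k, (∀ P : Place k (RatFunc k),
        P.1 ((RatFunc.X : RatFunc k) - RatFunc.C α) < 1 → P.1 (w - u) ≤ 1) ∧
      ∀ P : Place k (RatFunc k), 1 ≤ P.1 ((RatFunc.X : RatFunc k) - RatFunc.C α) →
        P.1 u ≤ 1 := by
  induction n with
  | zero =>
    intro w hw
    refine ⟨0, fun P hP => ?_, fun P _ => by rw [map_zero]; exact zero_le⟩
    have := hw P hP
    rw [Nat.cast_zero, exp_zero] at this
    rwa [sub_zero]
  | succ n ih =>
    intro w hw
    obtain ⟨Pα, hPα⟩ := exists_place_at α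
    set t := (RatFunc.X : RatFunc k) - RatFunc.C α with ht
    have ht0 : t ≠ 0 := sub_ne_zero' α
    have hu : Pα.1 (w * t ^ (n + 1)) ≤ 1 := by
      have := hw Pα hPα
      rw [map_mul, map_pow, val_sub_eq Pα hPα, ← exp_nsmul]
      calc Pα.1 w * exp ((n + 1) • (-1 : ℤ)) ≤ exp ((n + 1 : ℕ) : ℤ) * exp ((n + 1) • (-1 : ℤ)) :=
            mul_le_mul' this le_rfl
        _ = 1 := by rw [← exp_add, ← exp_zero]; congr 1; simp
    obtain ⟨c, hc⟩ := exists_const_approx Pα hPα hu
    set u₁ := RatFunc.C c * t⁻¹ ^ (n + 1) with hu₁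
    obtain ⟨u₂, h1, h2⟩ := ih (w - u₁) (by
      intro P hP
      have hPP : P = Pα := place_eq_of_sub hPα hP
      subst hPP
      have e : w - u₁ = (w * t ^ (n + 1) - RatFunc.C c) * t⁻¹ ^ (n + 1) := by
        rw [hu₁, inv_pow]
        field_simp
      rw [e, map_mul, val_rpow_at P hP, ← lt_exp_succ_iff]
      calc P.1 (w * t ^ (n + 1) - RatFunc.C c) * exp ((n + 1 : ℕ) : ℤ)
          < 1 * exp ((n + 1 : ℕ) : ℤ) := by
            apply mul_lt_mul_of_pos_right hc
            exact zero_lt_iff.2 exp_ne_zero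
        _ = exp ((n : ℤ) + 1) := by rw [one_mul]; congr 1)
    refine ⟨u₁ + u₂, fun P hP => ?_, fun P hP => ?_⟩
    · have := h1 P hP
      rwa [sub_sub] at this
    · refine (P.1.map_add _ _).trans (max_le ?_ (h2 P hP))
      rw [hu₁, map_mul, map_pow, map_inv₀]
      calc P.1 (RatFunc.C c) * (P.1 t)⁻¹ ^ (n + 1) ≤ 1 * 1 :=
            mul_le_mul' (val_C P c) (pow_le_one₀ zero_le (inv_le_one_of_one_le₀ hP))
        _ = 1 := one_mul _

end base

section main

variable {k K : Type*} [Field k] [Field K] [Algebra k K] [Algebra (RatFunc k) K]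
  [IsScalarTower k (RatFunc k) K] [DecidableEq (Place k K)]

local notation "jj" => algebraMap (RatFunc k) K

/-- A repartition supported at the place over `x = α` with a value from `k(x)` is trivial in
`H¹`. -/
theorem single_mem (h2 : ringChar k = 2) (hdeg : Module.finrank (RatFunc k) K = 2)
    (y : K) (hy : y ∉ Set.range (algebraMap (RatFunc k) K)) (f : RatFunc k)
    (heq : y ^ 2 + y = jj f) {α : k} {dα : ℕ} (hodd : Odd dα)
    (hpole : ∀ p : Place k (RatFunc k),
      p.1 ((RatFunc.X : RatFunc k) - RatFunc.C α) < 1 → p.ord f = -(dα : ℤ))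
    (Pα : Place k K) (hPα : Pα.1 (jj RatFunc.X - algebraMap k K α) < 1) (w : RatFunc k) :
    (Pi.single Pα (jj w) : Place k K → K) ∈
      AD (0 : Divisor k K) ⊔ LinearMap.range (diag k K) := by
  haveI := finiteDimensional_of_finrank (k := k) (K := K) hdeg
  -- the place below
  obtain ⟨-, -, p, hp2, hpv, -⟩ := val_at_pole h2 hdeg y hy f heq hodd hpole hPα
  have hpv1 : p.1 ((RatFunc.X : RatFunc k) - RatFunc.C α) < 1 := by
    rw [hpv, ← exp_zero, exp_lt_exp]; norm_num
  have hord := hpole p hpv1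
  have hdpos := hodd.pos
  have huniq := ((ArtinSchreier.ramification h2 hdeg y hy f heq p).1
    ⟨by rw [hord]; omega, by rw [hord]; exact Odd.neg (by exact_mod_cast hodd)⟩).1
  -- a bound for the pole order of `w`
  obtain ⟨n, hn⟩ : ∃ n : ℕ, p.1 w ≤ exp (n : ℤ) := by
    by_cases hw0 : w = 0
    · exact ⟨0, by rw [hw0, map_zero]; exact zero_le⟩
    · refine ⟨(-p.ord w).toNat, ?_⟩
      rw [ff_val_eq_exp_neg_ord p hw0, exp_le_exp]
      exact Int.self_le_toNat _
  obtain ⟨u, hu1, hu2⟩ := exists_principal_part α n w (fun P hP => by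
    have : P = p := place_eq_of_sub hpv1 hP
    rw [this]
    exact hn)
  have hmem : (Pi.single Pα (jj w) - diag k K (jj u) : Place k K → K) ∈
      AD (0 : Divisor k K) := by
    intro Q
    rw [Finsupp.zero_apply, exp_zero, Pi.sub_apply]
    have hdiag : diag k K (jj u) Q = jj u := rfl
    rw [hdiag]
    obtain ⟨q, hq⟩ := exists_isOver_below (K := RatFunc k) Q
    have he := isOverWith_ramIdx hq
    have he0 := isOverWith_ne_zero he
    by_cases hQ : Q = Pα
    · subst hQ
      rw [Pi.single_eq_same, ← map_sub, he]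
      apply pow_le_one₀ zero_le
      apply hu1
      rw [val_X_sub_C_below he α] at hPα
      exact (pow_lt_one_iff_of_nonneg zero_le he0).1 hPα
    · rw [Pi.single_eq_of_ne hQ, zero_sub, Valuation.map_neg, he]
      apply pow_le_one₀ zero_le
      apply hu2
      by_contra hlt
      push Not at hlt
      have hqp : q = p := place_eq_of_sub hpv1 hlt
      subst hqp
      exact hQ (huniq.unique hq ⟨2, hp2⟩)
  have e : (Pi.single Pα (jj w) : Place k K → K) =
      (Pi.single Pα (jj w) - diag k K (jj u)) + diag k K (jj u) := by abel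
  rw [e]
  exact Submodule.add_mem_sup hmem ⟨jj u, rfl⟩

/-- S19047. -/
theorem s19047 [CharP k 2] (hdeg : Module.finrank (RatFunc k) K = 2)
    (y : K) (hy : y ∉ Set.range (algebraMap (RatFunc k) K)) (f : RatFunc k)
    (heq : y ^ 2 + y = jj f) {α : k} {dα : ℕ} (hodd : Odd dα)
    (hpole : ∀ p : Place k (RatFunc k),
      p.1 ((RatFunc.X : RatFunc k) - RatFunc.C α) < 1 → p.ord f = -(dα : ℤ))
    (Pα : Place k K) (hPα : Pα.1 (jj RatFunc.X - algebraMap k K α) < 1) (j : ℕ) :
    ((Pi.single Pα ((y * (jj RatFunc.X - algebraMap k K α) ^ j) ^ 2) : Place k K → K) -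
        (Pi.single Pα (y * (jj RatFunc.X - algebraMap k K α) ^ (2 * j)) : Place k K → K) ∈
      AD (0 : Divisor k K) ⊔ LinearMap.range (diag k K)) ∧
    (dα < 4 * j + 1 →
      (Pi.single Pα ((y * (jj RatFunc.X - algebraMap k K α) ^ j) ^ 2) : Place k K → K) ∈
        AD (0 : Divisor k K) ⊔ LinearMap.range (diag k K)) := by
  have h2 : ringChar k = 2 := ringChar.eq k 2
  haveI : CharP K 2 := charP_of_injective_algebraMap (algebraMap k K).injective 2
  set t := jj RatFunc.X - algebraMap k K α with ht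
  have hsq : (y * t ^ j) ^ 2 =
      jj (f * ((RatFunc.X : RatFunc k) - RatFunc.C α) ^ (2 * j)) + y * t ^ (2 * j) := by
    rw [map_mul, map_pow, jj_X_sub_C, ← heq, ← ht]
    have h2' : (2 : K) = 0 := CharTwo.two_eq_zero
    ring_nf
    linear_combination (-(y * t ^ (j * 2))) * h2'
  have hA := single_mem h2 hdeg y hy f heq hodd hpole Pα hPα
    (f * ((RatFunc.X : RatFunc k) - RatFunc.C α) ^ (2 * j))
  constructor
  · rw [← Pi.single_sub, hsq, add_sub_cancel_right]
    exact hA
  · intro hlt
    rw [hsq, Pi.single_add]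
    refine add_mem hA (Submodule.mem_sup_left ?_)
    intro Q
    rw [Finsupp.zero_apply, exp_zero]
    by_cases hQ : Q = Pα
    · subst hQ
      rw [Pi.single_eq_same]
      obtain ⟨h1, h3, -⟩ := val_at_pole h2 hdeg y hy f heq hodd hpole hPα
      rw [← ht] at h1
      rw [map_mul, map_pow, h3, h1, ← exp_nsmul, ← exp_add, ← exp_zero, exp_le_exp]
      simp only [nsmul_eq_mul]
      push_cast
      omega
    · rw [Pi.single_eq_of_ne hQ, map_zero]
      exact zero_le

end main

end Groth.Agent.Lib.Helper63.ASFrob
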