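import Groth.Agent.Lib.Helper63.ASAdeleAux
import Groth.Agent.Lib.Helper63.ASFrob

/-! S19046: a basis of `H¹(X, O) = A / (A(0) + K)` for `y² + y = f(x)` in characteristic `2`
(helper63). -/

set_option autoImplicit false
set_option linter.style.haveILetI false
set_option linter.unusedSectionVars false

namespace Groth.Agent.Lib.Helper63.ASAdele

open WithZero Polynomial IntermediateField FunFld Module
  Groth.Agent.Lib.Helper55
  Groth.Agent.Lib.Helper63.FunFldExt Groth.Agent.Lib.Helper63.Hyperelliptic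
  Groth.Agent.Lib.Helper63.RatFuncPlaces Groth.Agent.Lib.Helper63.LocResBasic
  Groth.Agent.Lib.Helper63.ASLocal Groth.Agent.Lib.Helper63.HyperGenus
  Groth.Agent.Lib.Helper63.HyperDiff Groth.Agent.Lib.Helper63.ASGenus
  Groth.Agent.Lib.Helper63.ASDiff Groth.Agent.Lib.Helper63.ASPoles
  Groth.Agent.Lib.Helper63.ASRegDiff Groth.Agent.Lib.Helper63.ASBasisE
  Groth.Agent.Lib.Helper63.ASBasisK Groth.Agent.Lib.Helper63.ASAdeleAux

local notation "ℤᵐ⁰" => WithZero (Multiplicative ℤ)

universe u v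

variable {k : Type u} {K : Type v} [Field k] [Field K] [Algebra k K] [Algebra (RatFunc k) K]
  [IsScalarTower k (RatFunc k) K]

local notation "jj" => algebraMap (RatFunc k) K

section fam

variable [DecidableEq (Place k K)] (B : Finset k) (d : k → ℕ) (y : K) (Pl : k → Place k K)

/-- The family of repartitions of S19046. -/
noncomputable def famA : Idx B d → (Place k K → K) :=
  Sum.elim
    (fun a => Pi.single (Pl (a.1.1 : k))
      (y * (jj RatFunc.X - algebraMap k K (a.1.1 : k)) ^ a.1.2))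
    (fun b => Pi.single (Pl (b.1 : k)) y)

/-- The value of a member of the family at its place. -/
noncomputable def valK (i : Idx B d) : K :=
  y * (jj RatFunc.X - algebraMap k K (pt B d i)) ^ (od B d i - 1)

variable {B d}

theorem famA_eq (i : Idx B d) : famA B d y Pl i = Pi.single (Pl (pt B d i)) (valK B d y i) := by
  rcases i with ⟨⟨a, j⟩, hj⟩ | ⟨b, hb⟩
  · simp only [famA, valK, pt, od, Sum.elim_inl, Nat.add_sub_cancel]
  · simp only [famA, valK, pt, od, Sum.elim_inr, Nat.sub_self, pow_zero, mul_one]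

theorem pt_mem (i : Idx B d) : pt B d i ∈ B := by
  rcases i with ⟨⟨a, j⟩, hj⟩ | ⟨b, hb⟩
  · exact a.2
  · exact b.2

theorem od_le (hd : ∀ β ∈ B, Odd (d β)) (i : Idx B d) :
    2 * (od B d i - 1) + 1 ≤ d (pt B d i) := by
  rcases i with ⟨⟨a, j⟩, hj⟩ | ⟨b, hb⟩
  · simp only [pt, od, Sum.elim_inl, Nat.add_sub_cancel]
    exact hj.2
  · simp only [pt, od, Sum.elim_inr, Nat.sub_self, mul_zero, zero_add]
    exact (hd b.1 b.2).pos

theorem two_le_od_of_pt_zero (i : Idx B d) (h : pt B d i = 0) : 2 ≤ od B d i := by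
  rcases i with ⟨⟨a, j⟩, hj⟩ | ⟨b, hb⟩
  · simp only [od, Sum.elim_inl]
    have := hj.1
    simp only at this
    omega
  · simp only [pt, Sum.elim_inr] at h
    exact absurd h hb

end fam


section core

variable [DecidableEq (Place k K)]

/-- The local facts at the places `Pl γ`. -/
theorem place_facts (h2 : ringChar k = 2) (hdeg : Module.finrank (RatFunc k) K = 2)
    (y : K) (hy : y ∉ Set.range (algebraMap (RatFunc k) K)) (f : RatFunc k)
    (heq : y ^ 2 + y = jj f) {B : Finset k} {d : k → ℕ} (S : Setting f B d)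
    (Pl : k → Place k K)
    (hPl : ∀ β ∈ B, (Pl β).1 (jj RatFunc.X - algebraMap k K β) < 1) {γ : k} (hγ : γ ∈ B) :
    ∃ p : Place k (RatFunc k), IsOverWith (Pl γ) p 2 ∧
      p.1 ((RatFunc.X : RatFunc k) - RatFunc.C γ) = exp (-1) ∧
      ∀ Q : Place k K, IsOver Q p → Q = Pl γ := by
  haveI := finiteDimensional_of_finrank (k := k) (K := K) hdeg
  obtain ⟨-, -, p, hp2, hpv, -⟩ := val_at_pole h2 hdeg y hy f heq (S.hd γ hγ)
    (fun p hp => S.hpole p γ hγ hp) (hPl γ hγ)
  have hpv1 : p.1 ((RatFunc.X : RatFunc k) - RatFunc.C γ) < 1 := by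
    rw [hpv, ← exp_zero, exp_lt_exp]; norm_num
  have hord := S.hpole p γ hγ hpv1
  have hdpos := (S.hd γ hγ).pos
  have huniq := ((ArtinSchreier.ramification h2 hdeg y hy f heq p).1
    ⟨by rw [hord]; omega, by rw [hord]; exact Odd.neg (by exact_mod_cast S.hd γ hγ)⟩).1
  exact ⟨p, hp2, hpv, fun Q hQ => huniq.unique hQ ⟨2, hp2⟩⟩

theorem Pl_injOn {B : Finset k} (Pl : k → Place k K)
    (hPl : ∀ β ∈ B, (Pl β).1 (jj RatFunc.X - algebraMap k K β) < 1) {β γ : k} (hβ : β ∈ B)
    (hγ : γ ∈ B) (h : Pl β = Pl γ) : β = γ := by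
  by_contra hne
  have h1 := hPl β hβ
  have h2 := hPl γ hγ
  rw [h] at h1
  have e : algebraMap k K (β - γ) = (jj RatFunc.X - algebraMap k K γ) -
      (jj RatFunc.X - algebraMap k K β) := by
    rw [map_sub]; ring
  have h3 : (Pl γ).1 (algebraMap k K (β - γ)) < 1 := by
    rw [e]
    exact lt_of_le_of_lt (Valuation.map_sub _ _ _) (max_lt h2 h1)
  rw [ff_val_const (Pl γ) (sub_ne_zero.2 hne)] at h3
  exact lt_irrefl _ h3

open Classical in
/-- The polynomial part of the sum at `γ`. -/
noncomputable def hE (B : Finset k) (d : k → ℕ) (s : Finset (Idx B d)) (g : Idx B d → k)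
    (γ : k) : RatFunc k :=
  ∑ i ∈ s, if pt B d i = γ then
    RatFunc.C (g i) * ((RatFunc.X : RatFunc k) - RatFunc.C γ) ^ (od B d i - 1) else 0

theorem val_hE_le {B : Finset k} {d : k → ℕ} (s : Finset (Idx B d)) (g : Idx B d → k) (γ : k)
    (P : Place k (RatFunc k)) (hX : P.1 RatFunc.X ≤ 1) : P.1 (hE B d s g γ) ≤ 1 := by
  refine Valuation.map_sum_le _ (fun i _ => ?_)
  split_ifs
  · rw [map_mul, map_pow]
    exact mul_le_one' (val_C P _) (pow_le_one₀ zero_le (val_sub_le_one P hX γ))
  · rw [map_zero]; exact zero_le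

theorem jj_C (c : k) : jj (RatFunc.C c) = algebraMap k K c := by
  rw [← RatFunc.algebraMap_eq_C, ← IsScalarTower.algebraMap_apply]

theorem sum_apply_at {B : Finset k} {d : k → ℕ} (y : K) (Pl : k → Place k K)
    (hPl : ∀ β ∈ B, (Pl β).1 (jj RatFunc.X - algebraMap k K β) < 1)
    (s : Finset (Idx B d)) (g : Idx B d → k) {γ : k} (hγ : γ ∈ B) :
    (∑ i ∈ s, g i • famA B d y Pl i) (Pl γ) = y * jj (hE B d s g γ) := by
  rw [Finset.sum_apply, hE, map_sum, Finset.mul_sum]
  refine Finset.sum_congr rfl (fun i _ => ?_)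
  rw [Pi.smul_apply, famA_eq]
  split_ifs with h
  · subst h
    rw [Pi.single_eq_same, valK, map_mul, map_pow, jj_X_sub_C, jj_C, Algebra.smul_def]
    ring
  · rw [Pi.single_eq_of_ne, smul_zero, map_zero, mul_zero]
    intro h'
    exact h (Pl_injOn Pl hPl hγ (pt_mem i) h').symm

theorem sum_apply_of_ne {B : Finset k} {d : k → ℕ} (y : K) (Pl : k → Place k K)
    (s : Finset (Idx B d)) (g : Idx B d → k) {Q : Place k K} (hQ : ∀ γ ∈ B, Q ≠ Pl γ) :
    (∑ i ∈ s, g i • famA B d y Pl i) Q = 0 := by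
  rw [Finset.sum_apply]
  refine Finset.sum_eq_zero (fun i _ => ?_)
  rw [Pi.smul_apply, famA_eq, Pi.single_eq_of_ne (hQ _ (pt_mem i)), smul_zero]

end core


section licore

variable [DecidableEq (Place k K)]

/-- The heart of the linear independence: a combination of the family lying in `A(0) + K` has
zero coefficients. -/
theorem li_core (h2 : ringChar k = 2) (hdeg : Module.finrank (RatFunc k) K = 2)
    (y : K) (hy : y ∉ Set.range (algebraMap (RatFunc k) K)) (f : RatFunc k)
    (heq : y ^ 2 + y = jj f) {B : Finset k} {d : k → ℕ} (S : Setting f B d)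
    (Pl : k → Place k K)
    (hPl : ∀ β ∈ B, (Pl β).1 (jj RatFunc.X - algebraMap k K β) < 1)
    (s : Finset (Idx B d)) (g : Idx B d → k) (u : K)
    (hu : ∀ Q : Place k K, Q.1 ((∑ i ∈ s, g i • famA B d y Pl i) Q - u) ≤ 1) :
    ∀ i ∈ s, g i = 0 := by
  classical
  haveI := finiteDimensional_of_finrank (k := k) (K := K) hdeg
  obtain ⟨a, b, rfl⟩ := exists_decomp hdeg hy u
  have hodd' : ∀ P : Place k (RatFunc k), P.ord f < 0 → Odd (P.ord f) := S.odd
  -- places away from `B`
  have hA : ∀ P : Place k (RatFunc k),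
      (∀ γ ∈ B, 1 ≤ P.1 ((RatFunc.X : RatFunc k) - RatFunc.C γ)) → P.1 b ≤ 1 := by
    intro P hB
    have h := (local_iff h2 hdeg y hy f heq P (hodd' P) a b 0).1 (by
      intro Q hQ
      rw [zero_mul, exp_zero]
      have he := isOverWith_ramIdx hQ
      have he0 := isOverWith_ne_zero he
      have hQne : ∀ γ ∈ B, Q ≠ Pl γ := by
        intro γ hγ hQγ
        have h1 := hPl γ hγ
        rw [← hQγ, val_X_sub_C_below he γ] at h1
        exact absurd h1 (not_lt.2 (one_le_pow₀ (hB γ hγ)))
      have := hu Q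
      rw [sum_apply_of_ne y Pl s g hQne, zero_sub, Valuation.map_neg] at this
      exact this)
    have := h.2
    rwa [S.poleHalf_else P hB, sub_zero, exp_zero] at this
  -- places at `B`
  have hBv : ∀ γ ∈ B, ∀ P : Place k (RatFunc k),
      P.1 ((RatFunc.X : RatFunc k) - RatFunc.C γ) < 1 →
      P.1 (hE B d s g γ - b) ≤ exp (-(((d γ + 1) / 2 : ℕ) : ℤ)) := by
    intro γ hγ P hlt
    obtain ⟨p, hp2, hpv, huniq⟩ := place_facts h2 hdeg y hy f heq S Pl hPl hγ
    have hpv1 : p.1 ((RatFunc.X : RatFunc k) - RatFunc.C γ) < 1 := by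
      rw [hpv, ← exp_zero, exp_lt_exp]; norm_num
    have hPp : P = p := place_eq_of_sub hpv1 hlt
    subst hPp
    have h := (local_iff h2 hdeg y hy f heq P (hodd' P) (-a) (hE B d s g γ - b) 0).1 (by
      intro Q hQ
      rw [zero_mul, exp_zero]
      have hQγ := huniq Q hQ
      subst hQγ
      have := hu (Pl γ)
      rw [sum_apply_at y Pl hPl s g hγ] at this
      have e : y * jj (hE B d s g γ) - (jj a + jj b * y) =
          jj (-a) + jj (hE B d s g γ - b) * y := by
        rw [map_neg, map_sub]; ring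
      rwa [e] at this)
    have := h.2
    rwa [S.poleHalf_at P hγ hlt, zero_sub] at this
  -- `b` is constant
  have hb_fin : ∀ P : Place k (RatFunc k), P.1 RatFunc.X ≤ 1 → P.1 b ≤ 1 := by
    intro P hX
    by_cases hB : ∀ γ ∈ B, 1 ≤ P.1 ((RatFunc.X : RatFunc k) - RatFunc.C γ)
    · exact hA P hB
    · push Not at hB
      obtain ⟨γ, hγ, hlt⟩ := hB
      have h1 := hBv γ hγ P hlt
      have h3 : b = hE B d s g γ - (hE B d s g γ - b) := by ring
      rw [h3]
      refine (Valuation.map_sub _ _ _).trans (max_le (val_hE_le s g γ P hX) (h1.trans ?_))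
      rw [← exp_zero, exp_le_exp]
      omega
  obtain ⟨A, hAdeg, hbA⟩ := poly_of_bounds b 1 hb_fin (fun P hX => by
    have := hA P (fun γ _ => by rw [val_sub_inf P hX, ← exp_zero, exp_le_exp]; norm_num)
    rwa [Nat.cast_one, sub_self, exp_zero])
  rw [Nat.cast_one] at hAdeg
  have hA0 : A = C (A.coeff 0) :=
    eq_C_of_degree_le_zero (Nat.WithBot.lt_one_iff_le_zero.1 hAdeg)
  set c₀ := A.coeff 0 with hc₀
  have hb : b = RatFunc.C c₀ := by rw [hbA, hA0, RatFunc.algebraMap_C]
  -- the polynomials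
  have hH : ∀ γ ∈ B, (∑ i ∈ s, if pt B d i = γ then C (g i) * X ^ (od B d i - 1) else 0) - C c₀ =
      (0 : k[X]) := by
    intro γ hγ
    obtain ⟨p, hp2, hpv, huniq⟩ := place_facts h2 hdeg y hy f heq S Pl hPl hγ
    have hpv1 : p.1 ((RatFunc.X : RatFunc k) - RatFunc.C γ) < 1 := by
      rw [hpv, ← exp_zero, exp_lt_exp]; norm_num
    refine poly_eq_zero_of_val p hpv _ ((d γ - 1) / 2) ?_ ?_
    · refine (natDegree_sub_le_of_le (natDegree_sum_le_of_forall_le _ _
        (n := (d γ - 1) / 2) (fun i _ => ?_)) (natDegree_C c₀).le).trans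
        (max_le le_rfl (Nat.zero_le _))
      split_ifs with h
      · refine (natDegree_C_mul_X_pow_le _ _).trans ?_
        have := od_le S.hd i
        rw [h] at this
        omega
      · simp
    · have e : aeval ((RatFunc.X : RatFunc k) - RatFunc.C γ)
          ((∑ i ∈ s, if pt B d i = γ then C (g i) * X ^ (od B d i - 1) else 0) - C c₀) =
          hE B d s g γ - b := by
        rw [hb, hE, map_sub, map_sum, aeval_C, RatFunc.algebraMap_eq_C]
        congr 1
        refine Finset.sum_congr rfl (fun i _ => ?_)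
        split_ifs
        · rw [map_mul, map_pow, aeval_C, aeval_X, RatFunc.algebraMap_eq_C]
        · rw [map_zero]
      rw [e]
      refine (hBv γ hγ p hpv1).trans ?_
      rw [exp_le_exp]
      obtain ⟨m, hm⟩ := S.hd γ hγ
      push_cast
      omega
  have hcoeff : ∀ γ ∈ B, ∀ n : ℕ,
      (∑ i ∈ s, if pt B d i = γ then (if n = od B d i - 1 then g i else 0) else 0) -
        (if n = 0 then c₀ else 0) = 0 := by
    intro γ hγ n
    have h1 := congrArg (fun p : k[X] => Polynomial.coeff p n) (hH γ hγ)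
    simp only [coeff_sub, finsetSum_coeff, coeff_zero, coeff_C] at h1
    have h2' : ∀ i, ((if pt B d i = γ then C (g i) * X ^ (od B d i - 1) else (0 : k[X]))).coeff n =
        if pt B d i = γ then (if n = od B d i - 1 then g i else 0) else 0 := by
      intro i
      split_ifs <;> simp [*]
    simp only [h2'] at h1
    exact h1
  have hc0 : c₀ = 0 := by
    have h := hcoeff 0 S.h0 0
    have hz : (∑ i ∈ s, if pt B d i = 0 then (if 0 = od B d i - 1 then g i else 0) else 0) = 0 := by
      refine Finset.sum_eq_zero (fun i _ => ?_)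
      split_ifs with h1 h3
      · have := two_le_od_of_pt_zero i h1
        omega
      · rfl
      · rfl
    rw [hz, if_pos rfl, zero_sub, neg_eq_zero] at h
    exact h
  intro i₀ hi₀
  have h := hcoeff (pt B d i₀) (pt_mem i₀) (od B d i₀ - 1)
  rw [Finset.sum_eq_single i₀ ?_ ?_] at h
  · rw [if_pos rfl, if_pos rfl, hc0] at h
    simpa using h
  · intro i _ hne
    split_ifs with h1 h3
    · exfalso
      apply hne
      apply pt_od_injective h1
      have := od_pos i
      have := od_pos i₀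
      omega
    · rfl
    · rfl
  · intro hn
    exact absurd hi₀ hn

end licore


section main

/-- The degree of the half pole divisor. -/
theorem deg_poleHalf_eq [IsAlgClosed k] {f : RatFunc k} {B : Finset k} {d : k → ℕ}
    (S : Setting f B d) : (poleHalf f).deg = ∑ γ ∈ B, (((d γ + 1) / 2 : ℕ) : ℤ) := by
  classical
  choose pE hpE using fun γ : k => exists_place_at γ
  have hinj : ∀ γ ∈ B, ∀ γ' ∈ B, pE γ = pE γ' → γ = γ' := by
    intro γ _ γ' _ h
    by_contra hne
    have h1 := hpE γ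
    rw [h, ASBasisE.val_sub_of_ne (pE γ') (Ne.symm hne) (hpE γ')] at h1
    exact lt_irrefl _ h1
  unfold Divisor.deg
  rw [Finsupp.sum_of_support_subset (poleHalf f) (s := B.image pE) ?_
    (fun P n => n * (P.deg : ℤ)) (fun P _ => zero_mul _),
    Finset.sum_image hinj]
  · refine Finset.sum_congr rfl (fun γ hγ => ?_)
    rw [S.poleHalf_at (pE γ) hγ (hpE γ), ff_deg_eq_one_of_isAlgClosed isFunctionField_ratFunc,
      Nat.cast_one, mul_one]
  · intro P hP
    rw [Finsupp.mem_support_iff] at hP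
    rw [Finset.mem_image]
    by_contra hcon
    apply hP
    apply S.poleHalf_else
    intro γ hγ
    by_contra hlt
    push Not at hlt
    exact hcon ⟨γ, hγ, (place_eq_of_sub hlt (hpE γ))⟩

theorem genus_eq_card [IsAlgClosed k] (h2 : ringChar k = 2)
    (hdeg : Module.finrank (RatFunc k) K = 2) (hK : IsFunctionField k K)
    (y : K) (hy : y ∉ Set.range (algebraMap (RatFunc k) K)) (f : RatFunc k)
    (heq : y ^ 2 + y = jj f) {B : Finset k} {d : k → ℕ} (S : Setting f B d) :
    genus k K = Nat.card (Idx B d) := by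
  have h1 := genus_eq h2 hdeg hK y hy f heq S.odd
  rw [deg_poleHalf_eq S] at h1
  rw [card_idx B d S.h0]
  have h3 : ∑ γ ∈ B, (d γ + 1) / 2 = ∑ γ ∈ B, (d γ - 1) / 2 + B.card := by
    rw [Finset.card_eq_sum_ones, ← Finset.sum_add_distrib]
    refine Finset.sum_congr rfl (fun γ hγ => ?_)
    obtain ⟨m, hm⟩ := S.hd γ hγ
    omega
  have h4 : 0 < B.card := Finset.card_pos.2 ⟨0, S.h0⟩
  have h5 : (genus k K : ℤ) = -1 + ((∑ γ ∈ B, (d γ + 1) / 2 : ℕ) : ℤ) := by
    rw [h1]
    push_cast
    rfl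
  rw [h3] at h5
  omega

variable [DecidableEq (Place k K)]

/-- S19046. -/
theorem s19046 [IsAlgClosed k] [CharP k 2] (hK : IsFunctionField k K)
    (hdeg : Module.finrank (RatFunc k) K = 2)
    (y : K) (hy : y ∉ Set.range (algebraMap (RatFunc k) K)) (f : RatFunc k)
    (heq : y ^ 2 + y = jj f) (B : Finset k) (d : k → ℕ) (S : Setting f B d)
    (Pl : k → Place k K)
    (hPl : ∀ β ∈ B, (Pl β).1 (jj RatFunc.X - algebraMap k K β) < 1) :
    (∀ i, famA B d y Pl i ∈ adele k K) ∧
    LinearIndependent k (fun i => Submodule.mkQ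
      (AD (0 : Divisor k K) ⊔ LinearMap.range (diag k K)) (famA B d y Pl i)) ∧
    ∀ a : Place k K → K, a ∈ adele k K →
      a ∈ (AD (0 : Divisor k K) ⊔ LinearMap.range (diag k K)) ⊔
        Submodule.span k (Set.range (famA B d y Pl)) := by
  have h2 : ringChar k = 2 := ringChar.eq k 2
  set W : Submodule k (Place k K → K) := AD (0 : Divisor k K) ⊔ LinearMap.range (diag k K) with hW
  have hmem : ∀ i, famA B d y Pl i ∈ adele k K := by
    intro i
    rw [ff_mem_adele_iff, famA_eq]
    refine (Set.finite_singleton (Pl (pt B d i))).subset ?_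
    intro P hP
    by_contra hne
    apply hP
    rw [Pi.single_eq_of_ne hne, map_zero]
    exact zero_le
  have hli : LinearIndependent k (fun i => Submodule.mkQ W (famA B d y Pl i)) := by
    rw [linearIndependent_iff']
    intro s g hsum
    have h1 : (∑ i ∈ s, g i • famA B d y Pl i) ∈ W := by
      rw [← Submodule.Quotient.mk_eq_zero, ← Submodule.mkQ_apply, map_sum]
      simp only [map_smul]
      exact hsum
    obtain ⟨a₀, ha₀, z, ⟨u, rfl⟩, hsum'⟩ := Submodule.mem_sup.1 h1
    refine li_core h2 hdeg y hy f heq S Pl hPl s g u ?_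
    intro Q
    rw [← hsum']
    have e : (a₀ + diag k K u) Q - u = a₀ Q := by
      rw [Pi.add_apply]
      change a₀ Q + u - u = _
      ring
    rw [e]
    have := ha₀ Q
    rwa [Finsupp.zero_apply, exp_zero] at this
  refine ⟨hmem, hli, ?_⟩
  haveI : Fintype (Idx B d) := Fintype.ofFinite _
  obtain ⟨hfd, hrk⟩ := ff_finrank_adele_quot hK (0 : Divisor k K)
  haveI : FiniteDimensional k (↥(adele k K) ⧸ Submodule.comap (adele k K).subtype W) := hfd
  refine span_of_li_of_card (adele k K) W (famA B d y Pl) hmem hli ?_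
  rw [← Nat.card_eq_fintype_card, ← genus_eq_card h2 hdeg hK y hy f heq S]
  rw [ff_deg_zero, ff_ell_zero hK] at hrk
  have hrk' : (finrank k (↥(adele k K) ⧸ Submodule.comap (adele k K).subtype W) : ℤ) =
      (genus k K : ℤ) - (0 + 1 - ((1 : ℕ) : ℤ)) := hrk
  omega

end main

end Groth.Agent.Lib.Helper63.ASAdele
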