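import Groth.Agent.Lib.Helper63.ASBasisK
import Groth.Agent.Lib.Helper55.FunFld.Index
import Groth.Agent.Lib.Helper55.FunFld.AlgClosed

/-! Auxiliary lemmas for S19046: a polynomial in a local parameter of small degree and high order
vanishes; spanning from linear independence and a dimension count in a quotient; the cardinality
of the index set (helper63). -/

set_option autoImplicit false
set_option linter.style.haveILetI false
set_option linter.unusedSectionVars false

namespace Groth.Agent.Lib.Helper63.ASAdeleAux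

open WithZero Polynomial FunFld Module Groth.Agent.Lib.Helper55
  Groth.Agent.Lib.Helper63.RatFuncPlaces Groth.Agent.Lib.Helper63.ASBasisE

local notation "ℤᵐ⁰" => WithZero (Multiplicative ℤ)

section poly

variable {k F : Type*} [Field k] [Field F] [Algebra k F]

/-- A polynomial of degree `≤ c` in a local parameter `t` whose value vanishes to order `> c`
is zero. -/
theorem poly_eq_zero_of_val (P : Place k F) {t : F} (ht : P.1 t = exp (-1)) (H : k[X]) (c : ℕ)
    (hdeg : H.natDegree ≤ c) (hval : P.1 (aeval t H) ≤ exp (-((c : ℤ) + 1))) : H = 0 := by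
  by_contra hH
  obtain ⟨q, hq1, hq2⟩ := exists_eq_pow_rootMultiplicity_mul_and_not_dvd H hH 0
  set m := rootMultiplicity 0 H with hm
  have hq0 : q.coeff 0 ≠ 0 := by
    intro h0
    apply hq2
    rw [C_0, sub_zero]
    exact X_dvd_iff.2 h0
  have hqne : q ≠ 0 := by
    rintro rfl
    exact hq0 (coeff_zero 0)
  have hmc : m ≤ c := by
    have h1 : H.natDegree = m + q.natDegree := by
      conv_lhs => rw [hq1]
      rw [natDegree_mul (pow_ne_zero _ (X_sub_C_ne_zero 0)) hqne, natDegree_pow,
        natDegree_X_sub_C, mul_one]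
    omega
  have ht1 : P.1 t < 1 := by
    rw [ht, ← exp_zero, exp_lt_exp]; norm_num
  have hvq : P.1 (aeval t q) = 1 := by
    have e : q = divX q * X + C (q.coeff 0) := (divX_mul_X_add q).symm
    rw [e, map_add, map_mul, aeval_X, aeval_C]
    have h1 : P.1 (algebraMap k F (q.coeff 0)) = 1 := ff_val_const P hq0
    have h2 : P.1 (aeval t (divX q) * t) < 1 := by
      rw [map_mul]
      calc P.1 (aeval t (divX q)) * P.1 t ≤ 1 * P.1 t :=
            mul_le_mul' (ZerosBound.val_aeval_le_one P.1 P.2.1 ht1.le _) le_rfl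
        _ = P.1 t := one_mul _
        _ < 1 := ht1
    rw [Valuation.map_add_eq_of_lt_right _ (by rw [h1]; exact h2), h1]
  have hvH : P.1 (aeval t H) = exp (-(m : ℤ)) := by
    conv_lhs => rw [hq1]
    rw [map_mul, map_pow, map_sub, aeval_X, aeval_C, map_zero, sub_zero, map_mul, map_pow, ht, hvq,
      mul_one, ← exp_nsmul]
    congr 1
    simp
  rw [hvH, exp_le_exp] at hval
  omega

end poly

section linalg

variable {k V ι : Type*} [Field k] [AddCommGroup V] [Module k V] [Fintype ι]

/-- Linear independence modulo `W` plus a dimension count gives spanning modulo `W`. -/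
theorem span_of_li_of_card (A W : Submodule k V) (v : ι → V) (hv : ∀ i, v i ∈ A)
    (hli : LinearIndependent k (fun i => W.mkQ (v i)))
    [FiniteDimensional k (↥A ⧸ W.comap A.subtype)]
    (hcard : Module.finrank k (↥A ⧸ W.comap A.subtype) = Fintype.card ι) :
    ∀ a ∈ A, a ∈ W ⊔ Submodule.span k (Set.range v) := by
  set φ : ↥A →ₗ[k] V ⧸ W := W.mkQ ∘ₗ A.subtype with hφ
  have hker : LinearMap.ker φ = W.comap A.subtype := by
    rw [hφ, LinearMap.ker_comp, Submodule.ker_mkQ]
  let e : (↥A ⧸ W.comap A.subtype) ≃ₗ[k] LinearMap.range φ :=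
    (Submodule.quotEquivOfEq _ _ hker.symm).trans φ.quotKerEquivRange
  have hfr : finrank k (LinearMap.range φ) = Fintype.card ι := by
    rw [← e.finrank_eq, hcard]
  haveI : FiniteDimensional k (LinearMap.range φ) := e.finiteDimensional
  have hle : Submodule.span k (Set.range (fun i => W.mkQ (v i))) ≤ LinearMap.range φ := by
    rw [Submodule.span_le]
    rintro _ ⟨i, rfl⟩
    exact ⟨⟨v i, hv i⟩, rfl⟩
  have heq : Submodule.span k (Set.range (fun i => W.mkQ (v i))) = LinearMap.range φ :=
    Submodule.eq_of_le_of_finrank_eq hle (by rw [finrank_span_eq_card hli, hfr])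
  intro a ha
  have h1 : W.mkQ a ∈ Submodule.span k (Set.range (fun i => W.mkQ (v i))) := by
    rw [heq]
    exact ⟨⟨a, ha⟩, rfl⟩
  have h2 : (fun i => W.mkQ (v i)) = W.mkQ ∘ v := rfl
  rw [h2, Set.range_comp, ← Submodule.map_span] at h1
  obtain ⟨z, hz, hza⟩ := h1
  have h3 : a - z ∈ W := by
    rw [← Submodule.Quotient.mk_eq_zero W, Submodule.Quotient.mk_sub]
    have : W.mkQ z = W.mkQ a := hza
    rw [Submodule.mkQ_apply, Submodule.mkQ_apply] at this
    rw [this, sub_self]
  have h4 : a = (a - z) + z := by abel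
  rw [h4]
  exact Submodule.add_mem_sup h3 hz

end linalg

section card

variable {k : Type*} [Field k] (B : Finset k) (d : k → ℕ)

/-- The first summand of the index set, as a sigma type. -/
def idxEquiv : {a : ↥B × ℕ // 1 ≤ a.2 ∧ 2 * a.2 + 1 ≤ d (a.1 : k)} ≃
    (Σ β : ↥B, Fin ((d (β : k) - 1) / 2)) where
  toFun a := ⟨a.1.1, ⟨a.1.2 - 1, by have := a.2.1; have := a.2.2; omega⟩⟩
  invFun b := ⟨⟨b.1, b.2.1 + 1⟩, by
    have := b.2.2
    constructor
    · simp
    · simp only
      omega⟩
  left_inv a := by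
    rcases a with ⟨⟨β, j⟩, h1, h2⟩
    simp only at h1
    simp only [Subtype.mk.injEq, Prod.mk.injEq, true_and]
    omega
  right_inv b := by
    rcases b with ⟨β, j, hj⟩
    simp

instance : Finite (Idx B d) := by
  haveI : Finite {a : ↥B × ℕ // 1 ≤ a.2 ∧ 2 * a.2 + 1 ≤ d (a.1 : k)} :=
    Finite.of_equiv _ (idxEquiv B d).symm
  infer_instance

theorem card_idx (h0 : (0 : k) ∈ B) :
    Nat.card (Idx B d) = ∑ β ∈ B, (d β - 1) / 2 + (B.card - 1) := by
  classical
  haveI : Finite {a : ↥B × ℕ // 1 ≤ a.2 ∧ 2 * a.2 + 1 ≤ d (a.1 : k)} :=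
    Finite.of_equiv _ (idxEquiv B d).symm
  rw [Nat.card_sum, Nat.card_congr (idxEquiv B d), Nat.card_sigma]
  congr 1
  · simp only [Nat.card_fin]
    exact Finset.sum_coe_sort B (fun β => (d β - 1) / 2)
  · have e : {b : ↥B // (b : k) ≠ 0} ≃ ↥(B.erase 0) :=
      { toFun := fun b => ⟨b.1.1, Finset.mem_erase.2 ⟨b.2, b.1.2⟩⟩
        invFun := fun b => ⟨⟨b.1, (Finset.mem_erase.1 b.2).2⟩, (Finset.mem_erase.1 b.2).1⟩
        left_inv := fun b => rfl
        right_inv := fun b => rfl }
    rw [Nat.card_congr e, Nat.card_eq_fintype_card, Fintype.card_coe, Finset.card_erase_of_mem h0]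

end card

end Groth.Agent.Lib.Helper63.ASAdeleAux
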