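import Groth.Agent.Lib.Helper63.ASRegDiff

/-! Partial fractions in `k(X)`: rational functions with poles of bounded order at the points of
a finite set `B ∋ 0` and a double zero at infinity (helper63). -/

set_option autoImplicit false
set_option linter.style.haveILetI false
set_option linter.unusedSectionVars false

namespace Groth.Agent.Lib.Helper63.ASBasisE

open WithZero Polynomial FunFld Groth.Agent.Lib.Helper55
  Groth.Agent.Lib.Helper63.RatFuncPlaces Groth.Agent.Lib.Helper63.HyperGenus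
  Groth.Agent.Lib.Helper63.ASPoles Groth.Agent.Lib.Helper63.ASRegDiff
  Groth.Agent.Lib.Helper63.ASNormal

local notation "ℤᵐ⁰" => WithZero (Multiplicative ℤ)

variable {k : Type*} [Field k]

local notation "ι" => algebraMap k[X] (RatFunc k)

section vals

variable (P : Place k (RatFunc k))

theorem val_C (c : k) : P.1 (RatFunc.C c) ≤ 1 := by
  rw [← RatFunc.algebraMap_eq_C]
  exact P.2.1 c

theorem val_C_ne {c : k} (hc : c ≠ 0) : P.1 (RatFunc.C c) = 1 := by
  rw [← RatFunc.algebraMap_eq_C]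
  exact ff_val_const P hc

theorem val_sub_le_one (hX : P.1 RatFunc.X ≤ 1) (α : k) :
    P.1 ((RatFunc.X : RatFunc k) - RatFunc.C α) ≤ 1 :=
  (Valuation.map_sub _ _ _).trans (max_le hX (val_C P α))

theorem val_X_le_one_of_sub {α : k} (h : P.1 ((RatFunc.X : RatFunc k) - RatFunc.C α) < 1) :
    P.1 RatFunc.X ≤ 1 := by
  have h1 : (RatFunc.X : RatFunc k) = (RatFunc.X - RatFunc.C α) + RatFunc.C α := by ring
  rw [h1]
  exact (P.1.map_add _ _).trans (max_le h.le (val_C P α))

theorem val_sub_eq {α : k} (h : P.1 ((RatFunc.X : RatFunc k) - RatFunc.C α) < 1) :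
    P.1 ((RatFunc.X : RatFunc k) - RatFunc.C α) = exp (-1) := by
  rw [← ι_X_sub_C] at h ⊢
  exact val_irreducible P (irreducible_X_sub_C α) h

theorem val_sub_of_ne {α β : k} (hne : β ≠ α)
    (h : P.1 ((RatFunc.X : RatFunc k) - RatFunc.C β) < 1) :
    P.1 ((RatFunc.X : RatFunc k) - RatFunc.C α) = 1 := by
  have h1 : (RatFunc.X : RatFunc k) - RatFunc.C α = (RatFunc.X - RatFunc.C β) + RatFunc.C (β - α) := by
    rw [map_sub]; ring
  rw [h1, Valuation.map_add_eq_of_lt_right]
  · exact val_C_ne P (sub_ne_zero.2 hne)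
  · rw [val_C_ne P (sub_ne_zero.2 hne)]
    exact h

theorem val_sub_inf (hX : 1 < P.1 RatFunc.X) (α : k) :
    P.1 ((RatFunc.X : RatFunc k) - RatFunc.C α) = exp 1 := by
  rw [Valuation.map_sub_eq_of_lt_left, val_X_inf P hX]
  exact lt_of_le_of_lt (val_C P α) hX

theorem val_X_eq_sub_zero : P.1 ((RatFunc.X : RatFunc k) - RatFunc.C 0) = P.1 RatFunc.X := by
  rw [map_zero, sub_zero]

/-- Uniqueness of the place at `α`. -/
theorem place_eq_of_sub {P P' : Place k (RatFunc k)} {α : k}
    (h : P.1 ((RatFunc.X : RatFunc k) - RatFunc.C α) < 1)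
    (h' : P'.1 ((RatFunc.X : RatFunc k) - RatFunc.C α) < 1) : P' = P := by
  rw [← ι_X_sub_C] at h h'
  exact place_eq_of_irreducible P P' (irreducible_X_sub_C α) h h'

/-- Constants approximate integral elements at the place at `α`. -/
theorem exists_const_approx {α : k} (h : P.1 ((RatFunc.X : RatFunc k) - RatFunc.C α) < 1) {w : RatFunc k}
    (hw : P.1 w ≤ 1) : ∃ c : k, P.1 (w - RatFunc.C c) < 1 := by
  rw [← ι_X_sub_C] at h
  obtain ⟨c, hc, hcw⟩ := exists_poly_rep P (irreducible_X_sub_C α) h hw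
  have hc0 : c.natDegree = 0 := by
    rcases hc with hc | hc
    · rw [hc, natDegree_zero]
    · rw [natDegree_X_sub_C] at hc
      omega
  refine ⟨c.coeff 0, ?_⟩
  rw [eq_C_of_natDegree_eq_zero hc0, RatFunc.algebraMap_C] at hcw
  exact hcw

theorem lt_exp_succ_iff {a : ℤᵐ⁰} {n : ℤ} : a < exp (n + 1) ↔ a ≤ exp n := by
  obtain rfl | ha0 := eq_or_ne a 0
  · simp
  obtain ⟨m, rfl⟩ : ∃ m : ℤ, a = exp m := ⟨_, (exp_log ha0).symm⟩
  rw [exp_lt_exp, exp_le_exp]
  omega

theorem val_rpow_at {α : k} (h : P.1 ((RatFunc.X : RatFunc k) - RatFunc.C α) < 1) (n : ℕ) :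
    P.1 (((RatFunc.X : RatFunc k) - RatFunc.C α)⁻¹ ^ n) = exp (n : ℤ) := by
  rw [map_pow, map_inv₀, val_sub_eq P h, ← exp_neg, neg_neg, ← exp_nsmul]
  simp

theorem val_rpow_unit {α : k} (h : P.1 ((RatFunc.X : RatFunc k) - RatFunc.C α) = 1) (n : ℕ) :
    P.1 (((RatFunc.X : RatFunc k) - RatFunc.C α)⁻¹ ^ n) = 1 := by
  rw [map_pow, map_inv₀, h, inv_one, one_pow]

theorem val_rpow_inf (hX : 1 < P.1 RatFunc.X) (α : k) (n : ℕ) :
    P.1 (((RatFunc.X : RatFunc k) - RatFunc.C α)⁻¹ ^ n) = exp (-(n : ℤ)) := by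
  rw [map_pow, map_inv₀, val_sub_inf P hX, ← exp_neg, ← exp_nsmul]
  simp

theorem val_rtwo {α : k} (hα : α ≠ 0) :
    P.1 (RatFunc.C α / ((RatFunc.X : RatFunc k) * ((RatFunc.X : RatFunc k) - RatFunc.C α))) =
      (P.1 RatFunc.X * P.1 ((RatFunc.X : RatFunc k) - RatFunc.C α))⁻¹ := by
  rw [map_div₀, val_C_ne P hα, map_mul, one_div]

theorem rtwo_eq (α : k) :
    RatFunc.C α / ((RatFunc.X : RatFunc k) * ((RatFunc.X : RatFunc k) - RatFunc.C α)) =
      ((RatFunc.X : RatFunc k) - RatFunc.C α)⁻¹ - (RatFunc.X : RatFunc k)⁻¹ := by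
  have hX0 : (RatFunc.X : RatFunc k) ≠ 0 := RatFunc.X_ne_zero
  have h1 : (RatFunc.X : RatFunc k) - RatFunc.C α ≠ 0 := by
    intro h
    have h2 : (RatFunc.X : RatFunc k) = RatFunc.C α := sub_eq_zero.1 h
    have := congrArg RatFunc.num h2
    rw [RatFunc.num_X, RatFunc.num_C] at this
    have h4 := congrArg Polynomial.natDegree this
    rw [natDegree_X, natDegree_C] at h4
    omega
  field_simp
  ring

theorem sub_ne_zero' (α : k) : (RatFunc.X : RatFunc k) - RatFunc.C α ≠ 0 := by
  intro h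
  have h2 : (RatFunc.X : RatFunc k) = RatFunc.C α := sub_eq_zero.1 h
  have := congrArg RatFunc.num h2
  rw [RatFunc.num_X, RatFunc.num_C] at this
  have h4 := congrArg Polynomial.natDegree this
  rw [natDegree_X, natDegree_C] at h4
  omega

theorem val_sub_mul_le {a r : RatFunc k} {b : ℤᵐ⁰} (c : k) (ha : P.1 a ≤ b) (hr : P.1 r ≤ b) :
    P.1 (a - RatFunc.C c * r) ≤ b := by
  refine (Valuation.map_sub _ _ _).trans (max_le ha ?_)
  rw [map_mul]
  calc P.1 (RatFunc.C c) * P.1 r ≤ 1 * b := mul_le_mul' (val_C P c) hr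
    _ = b := one_mul _

end vals

section span

variable (B : Finset k) (d : k → ℕ)

/-- The index type of the family. -/
abbrev Idx : Type _ :=
  {a : ↥B × ℕ // 1 ≤ a.2 ∧ 2 * a.2 + 1 ≤ d (a.1 : k)} ⊕ {b : ↥B // (b : k) ≠ 0}

/-- The family `(X - α)^{-(j+1)}`, `α / (X (X - α))`. -/
noncomputable def famE : Idx B d → RatFunc k :=
  Sum.elim (fun a => ((RatFunc.X : RatFunc k) - RatFunc.C (a.1.1 : k))⁻¹ ^ (a.1.2 + 1))
    (fun b => RatFunc.C (b.1 : k) /
      ((RatFunc.X : RatFunc k) * ((RatFunc.X : RatFunc k) - RatFunc.C (b.1 : k))))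

/-- Pole orders at the points of `B` bounded by `m`. -/
def C1 (m : k → ℕ) (a : RatFunc k) : Prop :=
  ∀ P : Place k (RatFunc k), ∀ α ∈ B,
    P.1 ((RatFunc.X : RatFunc k) - RatFunc.C α) < 1 → P.1 a ≤ exp (m α : ℤ)

/-- Integrality at the other finite places. -/
def C2 (a : RatFunc k) : Prop :=
  ∀ P : Place k (RatFunc k), P.1 RatFunc.X ≤ 1 →
    (∀ α ∈ B, 1 ≤ P.1 ((RatFunc.X : RatFunc k) - RatFunc.C α)) → P.1 a ≤ 1

/-- A double zero at infinity. -/
def C3 (a : RatFunc k) : Prop :=
  ∀ P : Place k (RatFunc k), 1 < P.1 RatFunc.X → P.1 a ≤ exp (-2)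

theorem exists_place_at (α : k) :
    ∃ P : Place k (RatFunc k), P.1 ((RatFunc.X : RatFunc k) - RatFunc.C α) < 1 := by
  have htr : Transcendental k ((RatFunc.X : RatFunc k) - RatFunc.C α) := by
    have := transcendental_poly (k := k) (K := RatFunc k) (B := X - C α)
      (by rw [natDegree_X_sub_C]; exact one_pos)
    simpa [ι_X_sub_C] using this
  exact ff_exists_zero isFunctionField_ratFunc htr

variable {B d} [DecidableEq k]

/-- Removing the leading term of a pole of order `n + 1 ≥ 2` at `α`. -/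
theorem step_pow {m : k → ℕ} {a : RatFunc k} {α : k} (hα : α ∈ B) {n : ℕ} (hn : 1 ≤ n)
    (hm : m α = n + 1) (h1 : C1 B m a) (h2 : C2 B a) (h3 : C3 a) :
    ∃ c : k, C1 B (Function.update m α n)
        (a - RatFunc.C c * ((RatFunc.X : RatFunc k) - RatFunc.C α)⁻¹ ^ (n + 1)) ∧
      C2 B (a - RatFunc.C c * ((RatFunc.X : RatFunc k) - RatFunc.C α)⁻¹ ^ (n + 1)) ∧
      C3 (a - RatFunc.C c * ((RatFunc.X : RatFunc k) - RatFunc.C α)⁻¹ ^ (n + 1)) := by
  obtain ⟨Pα, hPα⟩ := exists_place_at α
  set t := (RatFunc.X : RatFunc k) - RatFunc.C α with ht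
  have ht0 : t ≠ 0 := sub_ne_zero' α
  have hu : Pα.1 (a * t ^ (n + 1)) ≤ 1 := by
    have := h1 Pα α hα hPα
    rw [hm] at this
    rw [map_mul, map_pow, val_sub_eq Pα hPα, ← exp_nsmul]
    calc Pα.1 a * exp ((n + 1) • (-1 : ℤ)) ≤ exp ((n + 1 : ℕ) : ℤ) * exp ((n + 1) • (-1 : ℤ)) :=
          mul_le_mul' this le_rfl
      _ = 1 := by rw [← exp_add, ← exp_zero]; congr 1; simp
  obtain ⟨c, hc⟩ := exists_const_approx Pα hPα hu
  refine ⟨c, ?_, ?_, ?_⟩
  · intro P α' hα' hP
    by_cases hαα : α' = α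
    · subst hαα
      have hPP : P = Pα := place_eq_of_sub hPα hP
      subst hPP
      rw [Function.update_self]
      have e : a - RatFunc.C c * t⁻¹ ^ (n + 1) = (a * t ^ (n + 1) - RatFunc.C c) * t⁻¹ ^ (n + 1) := by
        rw [inv_pow]
        field_simp
      rw [e, map_mul, val_rpow_at P hP, ← lt_exp_succ_iff]
      calc P.1 (a * t ^ (n + 1) - RatFunc.C c) * exp ((n + 1 : ℕ) : ℤ)
          < 1 * exp ((n + 1 : ℕ) : ℤ) := by
            apply mul_lt_mul_of_pos_right hc
            exact zero_lt_iff.2 exp_ne_zero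
        _ = exp ((n : ℤ) + 1) := by rw [one_mul]; congr 1
    · rw [Function.update_of_ne hαα]
      refine val_sub_mul_le P c (h1 P α' hα' hP) ?_
      rw [val_rpow_unit P (val_sub_of_ne P hαα hP), ← exp_zero, exp_le_exp]
      exact Int.natCast_nonneg _
  · intro P hX hB
    refine val_sub_mul_le P c (h2 P hX hB) ?_
    rw [val_rpow_unit P (le_antisymm (val_sub_le_one P hX α) (hB α hα))]
  · intro P hX
    refine val_sub_mul_le P c (h3 P hX) ?_
    rw [val_rpow_inf P hX, exp_le_exp]
    push_cast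
    omega

/-- Removing a simple pole at `α ≠ 0`. -/
theorem step_one (h0 : (0 : k) ∈ B) {m : k → ℕ} {a : RatFunc k} {α : k} (hα : α ∈ B)
    (hα0 : α ≠ 0) (hm : m α = 1) (hm0 : 1 ≤ m 0) (h1 : C1 B m a) (h2 : C2 B a) (h3 : C3 a) :
    ∃ c : k, C1 B (Function.update m α 0)
        (a - RatFunc.C c * (RatFunc.C α /
          ((RatFunc.X : RatFunc k) * ((RatFunc.X : RatFunc k) - RatFunc.C α)))) ∧
      C2 B (a - RatFunc.C c * (RatFunc.C α /
          ((RatFunc.X : RatFunc k) * ((RatFunc.X : RatFunc k) - RatFunc.C α)))) ∧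
      C3 (a - RatFunc.C c * (RatFunc.C α /
          ((RatFunc.X : RatFunc k) * ((RatFunc.X : RatFunc k) - RatFunc.C α)))) := by
  obtain ⟨Pα, hPα⟩ := exists_place_at α
  set t := (RatFunc.X : RatFunc k) - RatFunc.C α with ht
  have ht0 : t ≠ 0 := sub_ne_zero' α
  have hu : Pα.1 (a * t) ≤ 1 := by
    have := h1 Pα α hα hPα
    rw [hm] at this
    rw [map_mul, val_sub_eq Pα hPα]
    calc Pα.1 a * exp (-1) ≤ exp ((1 : ℕ) : ℤ) * exp (-1) := mul_le_mul' this le_rfl
      _ = 1 := by rw [← exp_add, ← exp_zero]; congr 1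
  obtain ⟨c, hc⟩ := exists_const_approx Pα hPα hu
  refine ⟨c, ?_, ?_, ?_⟩
  · intro P α' hα' hP
    by_cases hαα : α' = α
    · subst hαα
      have hPP : P = Pα := place_eq_of_sub hPα hP
      subst hPP
      rw [Function.update_self, Nat.cast_zero, exp_zero, rtwo_eq]
      have e : a - RatFunc.C c * (t⁻¹ - (RatFunc.X : RatFunc k)⁻¹) =
          (a * t - RatFunc.C c) * t⁻¹ + RatFunc.C c * (RatFunc.X : RatFunc k)⁻¹ := by
        field_simp
        ring
      rw [e]
      refine (P.1.map_add _ _).trans (max_le ?_ ?_)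
      · have h5 : P.1 ((a * t - RatFunc.C c) * t⁻¹) < exp ((0 : ℤ) + 1) := by
          rw [map_mul, map_inv₀, val_sub_eq P hP, ← exp_neg, neg_neg, zero_add]
          calc P.1 (a * t - RatFunc.C c) * exp 1 < 1 * exp 1 := by
                apply mul_lt_mul_of_pos_right hc
                exact zero_lt_iff.2 exp_ne_zero
            _ = exp 1 := one_mul _
        have := lt_exp_succ_iff.1 h5
        rwa [exp_zero] at this
      · have hX1 : P.1 (RatFunc.X : RatFunc k) = 1 := by
          have := val_sub_of_ne P (α := 0) hα0 hP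
          rwa [val_X_eq_sub_zero] at this
        rw [map_mul, map_inv₀, hX1, inv_one, mul_one]
        exact val_C P c
    · rw [Function.update_of_ne hαα]
      refine val_sub_mul_le P c (h1 P α' hα' hP) ?_
      rw [val_rtwo P hα0, val_sub_of_ne P hαα hP, mul_one]
      by_cases h00 : α' = 0
      · subst h00
        rw [val_X_eq_sub_zero] at hP
        have hXv : P.1 (RatFunc.X : RatFunc k) = exp (-1) := by
          have := val_sub_eq P (α := 0) (by rwa [val_X_eq_sub_zero])
          rwa [val_X_eq_sub_zero] at this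
        rw [hXv, ← exp_neg, neg_neg, exp_le_exp]
        exact_mod_cast hm0
      · have hX1 : P.1 (RatFunc.X : RatFunc k) = 1 := by
          have := val_sub_of_ne P (α := 0) h00 hP
          rwa [val_X_eq_sub_zero] at this
        rw [hX1, inv_one, ← exp_zero, exp_le_exp]
        exact Int.natCast_nonneg _
  · intro P hX hB
    refine val_sub_mul_le P c (h2 P hX hB) ?_
    have hX1 : P.1 (RatFunc.X : RatFunc k) = 1 := by
      have := le_antisymm (val_sub_le_one P hX 0) (hB 0 h0)
      rwa [val_X_eq_sub_zero] at this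
    rw [val_rtwo P hα0, hX1, le_antisymm (val_sub_le_one P hX α) (hB α hα), mul_one, inv_one]
  · intro P hX
    refine val_sub_mul_le P c (h3 P hX) ?_
    rw [val_rtwo P hα0, val_X_inf P hX, val_sub_inf P hX, ← exp_add, ← exp_neg, exp_le_exp]
    norm_num

theorem sum_update {m : k → ℕ} {α : k} (hα : α ∈ B) {n N : ℕ} (hm : m α = n + 1)
    (hsum : ∑ β ∈ B, m β = N) : ∑ β ∈ B, Function.update m α n β = N - 1 ∧ N - 1 < N := by
  have e1 := Finset.sum_update_of_mem hα m n
  have e2 := Finset.add_sum_erase B m hα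
  rw [Finset.sdiff_singleton_eq_erase] at e1
  omega

/-- Functions with poles bounded by `m` at `B` and a double zero at infinity lie in the span of
the family. -/
theorem mem_span_aux (h0 : (0 : k) ∈ B) (N : ℕ) : ∀ (m : k → ℕ) (a : RatFunc k),
    ∑ α ∈ B, m α = N → 1 ≤ m 0 → (∀ α ∈ B, 2 * m α ≤ d α + 1) → C1 B m a → C2 B a → C3 a →
    a ∈ Submodule.span k (Set.range (famE B d)) := by
  induction N using Nat.strong_induction_on with
  | _ N ih =>
  intro m a hsum hm0 hmd h1 h2 h3
  by_cases hex : ∃ α ∈ B, 2 ≤ m α ∨ (α ≠ 0 ∧ 1 ≤ m α)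
  · obtain ⟨α, hα, hcase⟩ := hex
    by_cases h2m : 2 ≤ m α
    · obtain ⟨n, hn⟩ : ∃ n, m α = n + 1 := ⟨m α - 1, by omega⟩
      have hn1 : 1 ≤ n := by omega
      obtain ⟨c, h1', h2', h3'⟩ := step_pow hα hn1 hn h1 h2 h3
      obtain ⟨hs, hlt⟩ := sum_update hα hn hsum
      have hm0' : 1 ≤ Function.update m α n 0 := by
        by_cases h : (0 : k) = α
        · subst h
          rw [Function.update_self]
          exact hn1
        · rw [Function.update_of_ne h]
          exact hm0
      have hmd' : ∀ β ∈ B, 2 * Function.update m α n β ≤ d β + 1 := by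
        intro β hβ
        by_cases h : β = α
        · subst h
          rw [Function.update_self]
          have := hmd β hβ
          omega
        · rw [Function.update_of_ne h]
          exact hmd β hβ
      have hmem := ih (N - 1) hlt _ _ hs hm0' hmd' h1' h2' h3'
      have hr : ((RatFunc.X : RatFunc k) - RatFunc.C α)⁻¹ ^ (n + 1) ∈
          Submodule.span k (Set.range (famE B d)) :=
        Submodule.subset_span ⟨Sum.inl ⟨(⟨α, hα⟩, n), hn1, by
          have := hmd α hα
          show 2 * n + 1 ≤ d α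
          omega⟩, rfl⟩
      have e : a = (a - RatFunc.C c * ((RatFunc.X : RatFunc k) - RatFunc.C α)⁻¹ ^ (n + 1)) +
          c • ((RatFunc.X : RatFunc k) - RatFunc.C α)⁻¹ ^ (n + 1) := by
        rw [Algebra.smul_def, RatFunc.algebraMap_eq_C]
        ring
      rw [e]
      exact add_mem hmem (Submodule.smul_mem _ c hr)
    · have hα0 : α ≠ 0 := by
        rcases hcase with h | h
        · exact absurd h h2m
        · exact h.1
      have hm1 : m α = 1 := by
        rcases hcase with h | h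
        · exact absurd h h2m
        · omega
      obtain ⟨c, h1', h2', h3'⟩ := step_one h0 hα hα0 hm1 hm0 h1 h2 h3
      obtain ⟨hs, hlt⟩ := sum_update (n := 0) hα hm1 hsum
      have hm0' : 1 ≤ Function.update m α 0 0 := by
        rw [Function.update_of_ne (Ne.symm hα0)]
        exact hm0
      have hmd' : ∀ β ∈ B, 2 * Function.update m α 0 β ≤ d β + 1 := by
        intro β hβ
        by_cases h : β = α
        · subst h
          rw [Function.update_self]
          omega
        · rw [Function.update_of_ne h]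
          exact hmd β hβ
      have hmem := ih (N - 1) hlt _ _ hs hm0' hmd' h1' h2' h3'
      have hr : RatFunc.C α / ((RatFunc.X : RatFunc k) * ((RatFunc.X : RatFunc k) - RatFunc.C α)) ∈
          Submodule.span k (Set.range (famE B d)) :=
        Submodule.subset_span ⟨Sum.inr ⟨⟨α, hα⟩, hα0⟩, rfl⟩
      have e : a = (a - RatFunc.C c * (RatFunc.C α /
            ((RatFunc.X : RatFunc k) * ((RatFunc.X : RatFunc k) - RatFunc.C α)))) +
          c • (RatFunc.C α /
            ((RatFunc.X : RatFunc k) * ((RatFunc.X : RatFunc k) - RatFunc.C α))) := by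
        rw [Algebra.smul_def, RatFunc.algebraMap_eq_C]
        ring
      rw [e]
      exact add_mem hmem (Submodule.smul_mem _ c hr)
  · push Not at hex
    have hm01 : m 0 = 1 := by
      have := (hex 0 h0).1
      omega
    have hmα : ∀ α ∈ B, α ≠ 0 → m α = 0 := by
      intro α hα hα0
      have := (hex α hα).2 hα0
      omega
    obtain ⟨A, hA, haA⟩ := poly_of_bounds (a * RatFunc.X) 0 (fun P hX => by
        rw [map_mul]
        by_cases hB : ∀ α ∈ B, 1 ≤ P.1 ((RatFunc.X : RatFunc k) - RatFunc.C α)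
        · exact mul_le_one' (h2 P hX hB) hX
        · push Not at hB
          obtain ⟨α, hα, hlt⟩ := hB
          have ha := h1 P α hα hlt
          by_cases hα0 : α = 0
          · subst hα0
            have hXv : P.1 (RatFunc.X : RatFunc k) = exp (-1) := by
              have := val_sub_eq P hlt
              rwa [val_X_eq_sub_zero] at this
            rw [hm01] at ha
            rw [hXv]
            calc P.1 a * exp (-1) ≤ exp ((1 : ℕ) : ℤ) * exp (-1) := mul_le_mul' ha le_rfl
              _ = 1 := by rw [← exp_add, ← exp_zero]; congr 1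
          · rw [hmα α hα hα0, Nat.cast_zero, exp_zero] at ha
            exact mul_le_one' ha hX)
      (fun P hX => by
        rw [map_mul, val_X_inf P hX]
        calc P.1 a * exp 1 ≤ exp (-2) * exp 1 := mul_le_mul' (h3 P hX) le_rfl
          _ = exp (((0 : ℕ) : ℤ) - 1) := by rw [← exp_add]; congr 1)
    have hA0 : A = 0 := by
      by_contra hne
      rw [degree_eq_natDegree hne] at hA
      exact absurd hA (by simp)
    rw [hA0, map_zero] at haA
    have ha0 : a = 0 := (mul_eq_zero.1 haA).resolve_right RatFunc.X_ne_zero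
    rw [ha0]
    exact zero_mem _

/-- The spanning statement. -/
theorem mem_span (h0 : (0 : k) ∈ B) (hd : ∀ α ∈ B, Odd (d α)) (a : RatFunc k)
    (h1 : C1 B (fun α => (d α + 1) / 2) a) (h2 : C2 B a) (h3 : C3 a) :
    a ∈ Submodule.span k (Set.range (famE B d)) := by
  refine mem_span_aux h0 _ (fun α => (d α + 1) / 2) a rfl ?_ ?_ h1 h2 h3
  · have := (hd 0 h0).pos
    show 1 ≤ (d 0 + 1) / 2
    omega
  · intro α hα
    show 2 * ((d α + 1) / 2) ≤ d α + 1
    omega

end span

section indep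

variable (B : Finset k) (d : k → ℕ)

/-- The point at which a member of the family has its main pole. -/
def pt : Idx B d → k := Sum.elim (fun a => (a.1.1 : k)) (fun b => (b.1 : k))

/-- The order of that pole. -/
def od : Idx B d → ℕ := Sum.elim (fun a => a.1.2 + 1) (fun _ => 1)

variable {B d}

theorem od_pos (i : Idx B d) : 1 ≤ od B d i := by
  rcases i with a | b
  · exact Nat.le_add_left _ _
  · exact le_rfl

theorem pt_od_injective {i i' : Idx B d} (h1 : pt B d i = pt B d i') (h2 : od B d i = od B d i') :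
    i = i' := by
  rcases i with ⟨⟨a, j⟩, hj⟩ | ⟨b, hb⟩ <;> rcases i' with ⟨⟨a', j'⟩, hj'⟩ | ⟨b', hb'⟩
  · simp only [pt, od, Sum.elim_inl] at h1 h2
    have e1 : a = a' := Subtype.ext h1
    have e2 : j = j' := by omega
    subst e1 e2
    rfl
  · simp only [pt, od, Sum.elim_inl, Sum.elim_inr] at h1 h2
    have := hj.1
    simp only at this
    omega
  · simp only [pt, od, Sum.elim_inl, Sum.elim_inr] at h1 h2
    have := hj'.1
    simp only at this
    omega
  · simp only [pt, od, Sum.elim_inr] at h1 h2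
    have e1 : b = b' := Subtype.ext h1
    subst e1
    rfl

theorem val_famE_at (P : Place k (RatFunc k)) {γ : k}
    (hP : P.1 ((RatFunc.X : RatFunc k) - RatFunc.C γ) < 1) (i : Idx B d) (hi : pt B d i = γ) :
    P.1 (famE B d i) = exp (od B d i : ℤ) := by
  rcases i with ⟨⟨a, j⟩, hj⟩ | ⟨b, hb⟩
  · simp only [pt, Sum.elim_inl] at hi
    subst hi
    simp only [famE, od, Sum.elim_inl]
    exact val_rpow_at P hP (j + 1)
  · simp only [pt, Sum.elim_inr] at hi
    subst hi
    simp only [famE, od, Sum.elim_inr]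
    have hX1 : P.1 (RatFunc.X : RatFunc k) = 1 := by
      have := val_sub_of_ne P (α := 0) hb hP
      rwa [val_X_eq_sub_zero] at this
    rw [val_rtwo P hb, hX1, one_mul, val_sub_eq P hP, ← exp_neg, neg_neg]
    rfl

theorem val_famE_of_ne (P : Place k (RatFunc k)) {γ : k}
    (hP : P.1 ((RatFunc.X : RatFunc k) - RatFunc.C γ) < 1) (hγ : γ ≠ 0) (i : Idx B d)
    (hi : pt B d i ≠ γ) : P.1 (famE B d i) ≤ 1 := by
  rcases i with ⟨⟨a, j⟩, hj⟩ | ⟨b, hb⟩
  · simp only [pt, Sum.elim_inl] at hi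
    simp only [famE, Sum.elim_inl]
    rw [val_rpow_unit P (val_sub_of_ne P (Ne.symm hi) hP)]
  · simp only [pt, Sum.elim_inr] at hi
    simp only [famE, Sum.elim_inr]
    have hX1 : P.1 (RatFunc.X : RatFunc k) = 1 := by
      have := val_sub_of_ne P (α := 0) hγ hP
      rwa [val_X_eq_sub_zero] at this
    rw [val_rtwo P hb, hX1, one_mul, val_sub_of_ne P (Ne.symm hi) hP, inv_one]

theorem val_famE_inl_of_ne (P : Place k (RatFunc k)) {γ : k}
    (hP : P.1 ((RatFunc.X : RatFunc k) - RatFunc.C γ) < 1)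
    (a : {a : ↥B × ℕ // 1 ≤ a.2 ∧ 2 * a.2 + 1 ≤ d (a.1 : k)})
    (hi : (a.1.1 : k) ≠ γ) : P.1 (famE B d (Sum.inl a)) ≤ 1 := by
  simp only [famE, Sum.elim_inl]
  rw [val_rpow_unit P (val_sub_of_ne P (Ne.symm hi) hP)]

/-- The dominant term argument at the place at `γ`. -/
theorem coeff_eq_zero_at (P : Place k (RatFunc k)) {γ : k}
    (hP : P.1 ((RatFunc.X : RatFunc k) - RatFunc.C γ) < 1) (s : Finset (Idx B d))
    (g : Idx B d → k) (hsum : ∑ i ∈ s, g i • famE B d i = 0)
    (H : ∀ i ∈ s, pt B d i ≠ γ → g i = 0 ∨ P.1 (famE B d i) ≤ 1) :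
    ∀ i ∈ s, pt B d i = γ → g i = 0 := by
  classical
  by_contra hcon
  push Not at hcon
  obtain ⟨i₁, hi₁s, hi₁γ, hi₁g⟩ := hcon
  set T := s.filter (fun i => pt B d i = γ ∧ g i ≠ 0) with hT
  have hTne : T.Nonempty := ⟨i₁, Finset.mem_filter.2 ⟨hi₁s, hi₁γ, hi₁g⟩⟩
  obtain ⟨i₀, hi₀T, hmax⟩ := Finset.exists_max_image T (od B d) hTne
  obtain ⟨hi₀s, hi₀γ, hi₀g⟩ := Finset.mem_filter.1 hi₀T
  have hval : ∀ i, P.1 (g i • famE B d i) = P.1 (algebraMap k (RatFunc k) (g i)) *
      P.1 (famE B d i) := fun i => by rw [Algebra.smul_def, map_mul]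
  have hv₀ : P.1 (g i₀ • famE B d i₀) = exp (od B d i₀ : ℤ) := by
    rw [hval, ff_val_const P hi₀g, one_mul, val_famE_at P hP i₀ hi₀γ]
  have h1lt : (1 : ℤᵐ⁰) < exp (od B d i₀ : ℤ) := by
    rw [← exp_zero, exp_lt_exp]
    have := od_pos i₀
    omega
  have key := Valuation.map_sum_eq_of_lt P.1 hi₀s (f := fun i => g i • famE B d i) (by
    intro i hi
    rw [Finset.mem_sdiff, Finset.mem_singleton] at hi
    obtain ⟨his, hne⟩ := hi
    show P.1 (g i • famE B d i) < P.1 (g i₀ • famE B d i₀)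
    rw [hv₀]
    by_cases hg : g i = 0
    · rw [hg, zero_smul, map_zero]
      exact zero_lt_iff.2 exp_ne_zero
    rw [hval, ff_val_const P hg, one_mul]
    by_cases hγ : pt B d i = γ
    · have hiT : i ∈ T := Finset.mem_filter.2 ⟨his, hγ, hg⟩
      have hle := hmax i hiT
      have hne' : od B d i ≠ od B d i₀ := fun h => hne (pt_od_injective (hγ.trans hi₀γ.symm) h)
      rw [val_famE_at P hP i hγ, exp_lt_exp]
      omega
    · rcases H i his hγ with h | h
      · exact absurd h hg
      · exact lt_of_le_of_lt h h1lt)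
  rw [hsum, map_zero, hv₀] at key
  exact exp_ne_zero key.symm

/-- The family is linearly independent. -/
theorem linearIndependent_famE : LinearIndependent k (famE B d) := by
  classical
  rw [linearIndependent_iff']
  intro s g hsum
  have hA : ∀ γ : k, γ ≠ 0 → ∀ i ∈ s, pt B d i = γ → g i = 0 := by
    intro γ hγ
    obtain ⟨P, hP⟩ := exists_place_at γ
    exact coeff_eq_zero_at P hP s g hsum (fun i _ hi => Or.inr (val_famE_of_ne P hP hγ i hi))
  have hB : ∀ i ∈ s, pt B d i = 0 → g i = 0 := by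
    obtain ⟨P, hP⟩ := exists_place_at (0 : k)
    exact coeff_eq_zero_at P hP s g hsum (fun i hi hne => Or.inl (hA _ hne i hi rfl))
  intro i hi
  by_cases h : pt B d i = 0
  · exact hB i hi h
  · exact hA _ h i hi rfl

end indep

end Groth.Agent.Lib.Helper63.ASBasisE
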