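import Groth.Agent.Lib.Helper63.ASBasisE

/-! S19044: a basis of the regular differentials on `y² + y = f(x)`, `k` algebraically closed of
characteristic `2`, `f` with odd poles at a finite set `B ∋ 0` (helper63). -/

set_option autoImplicit false
set_option linter.style.haveILetI false
set_option linter.unusedSectionVars false

namespace Groth.Agent.Lib.Helper63.ASBasisK

open LaurentSeries HahnSeries WithZero Polynomial IntermediateField FunFld
  Groth.Agent.Lib.Helper55
  Groth.Agent.Lib.Helper63.FunFldExt Groth.Agent.Lib.Helper63.Hyperelliptic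
  Groth.Agent.Lib.Helper63.RatFuncPlaces Groth.Agent.Lib.Helper63.LocResBasic
  Groth.Agent.Lib.Helper63.ASLocal Groth.Agent.Lib.Helper63.HyperGenus
  Groth.Agent.Lib.Helper63.HyperDiff Groth.Agent.Lib.Helper63.ASGenus
  Groth.Agent.Lib.Helper63.ASDiff Groth.Agent.Lib.Helper63.ASPoles
  Groth.Agent.Lib.Helper63.ASRegDiff Groth.Agent.Lib.Helper63.ASBasisE

local notation "ℤᵐ⁰" => WithZero (Multiplicative ℤ)

universe u v w

variable {k : Type u} {K : Type v} [Field k] [Field K] [Algebra k K] [Algebra (RatFunc k) K]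
  [IsScalarTower k (RatFunc k) K]

local notation "jj" => algebraMap (RatFunc k) K

section setting

variable (f : RatFunc k) (B : Finset k) (d : k → ℕ)

/-- The hypotheses on the poles of `f`. -/
structure Setting : Prop where
  h0 : (0 : k) ∈ B
  hd : ∀ α ∈ B, Odd (d α)
  hpole : ∀ (p : Place k (RatFunc k)) (α : k), α ∈ B →
      p.1 ((RatFunc.X : RatFunc k) - RatFunc.C α) < 1 → p.ord f = -(d α : ℤ)
  hint : ∀ p : Place k (RatFunc k),
      (∀ α ∈ B, 1 ≤ p.1 ((RatFunc.X : RatFunc k) - RatFunc.C α)) → p.1 f ≤ 1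

variable {f B d}

theorem Setting.odd (S : Setting f B d) (P : Place k (RatFunc k)) (hneg : P.ord f < 0) :
    Odd (P.ord f) := by
  by_cases hB : ∀ α ∈ B, 1 ≤ P.1 ((RatFunc.X : RatFunc k) - RatFunc.C α)
  · exfalso
    have h1 := S.hint P hB
    have hf0 : f ≠ 0 := by
      rintro rfl
      rw [ff_ord_zero] at hneg
      exact lt_irrefl _ hneg
    have := (ff_ord_nonneg_iff P hf0).2 h1
    omega
  · push Not at hB
    obtain ⟨α, hα, hlt⟩ := hB
    rw [S.hpole P α hα hlt]
    exact Odd.neg (by exact_mod_cast S.hd α hα)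

theorem Setting.poleHalf_at (S : Setting f B d) (P : Place k (RatFunc k)) {α : k} (hα : α ∈ B)
    (hlt : P.1 ((RatFunc.X : RatFunc k) - RatFunc.C α) < 1) :
    poleHalf f P = (((d α + 1) / 2 : ℕ) : ℤ) := by
  rw [poleHalf_apply, S.hpole P α hα hlt]
  have := (S.hd α hα).pos
  rw [if_pos (by omega)]
  push_cast
  omega

theorem Setting.poleHalf_else (S : Setting f B d) (P : Place k (RatFunc k))
    (hB : ∀ α ∈ B, 1 ≤ P.1 ((RatFunc.X : RatFunc k) - RatFunc.C α)) : poleHalf f P = 0 := by
  rw [poleHalf_apply, if_neg]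
  have h1 := S.hint P hB
  by_cases hf0 : f = 0
  · rw [hf0, ff_ord_zero]
    exact lt_irrefl _
  · have := (ff_ord_nonneg_iff P hf0).2 h1
    omega

theorem poleHalf_nonneg (P : Place k (RatFunc k)) : 0 ≤ poleHalf f P := by
  rw [poleHalf_apply]
  split_ifs with h
  · omega
  · exact le_rfl

theorem Setting.nn_inf (S : Setting f B d) (P : Place k (RatFunc k)) (hX : 1 < P.1 RatFunc.X) :
    nn f P = -2 := by
  rw [nn, if_neg (not_le.2 hX), S.poleHalf_else P (fun α _ => by
    rw [val_sub_inf P hX, ← exp_zero, exp_le_exp]; norm_num)]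
  norm_num

/-- Every member of the family satisfies the regularity bounds. -/
theorem Setting.bound_famE (S : Setting f B d) (i : Idx B d) (P : Place k (RatFunc k)) :
    P.1 (famE B d i) ≤ exp (nn f P) := by
  by_cases hX : P.1 RatFunc.X ≤ 1
  · rw [nn, if_pos hX]
    by_cases hB : ∀ α ∈ B, 1 ≤ P.1 ((RatFunc.X : RatFunc k) - RatFunc.C α)
    · rw [S.poleHalf_else P hB, exp_zero]
      have hu : ∀ α ∈ B, P.1 ((RatFunc.X : RatFunc k) - RatFunc.C α) = 1 := fun α hα =>
        le_antisymm (val_sub_le_one P hX α) (hB α hα)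
      rcases i with ⟨⟨a, j⟩, hj⟩ | ⟨b, hb⟩
      · simp only [famE, Sum.elim_inl]
        rw [val_rpow_unit P (hu a.1 a.2)]
      · simp only [famE, Sum.elim_inr]
        have hX1 : P.1 (RatFunc.X : RatFunc k) = 1 := by
          have := hu 0 S.h0
          rwa [val_X_eq_sub_zero] at this
        rw [val_rtwo P hb, hX1, hu b.1 b.2, mul_one, inv_one]
    · push Not at hB
      obtain ⟨γ, hγ, hlt⟩ := hB
      rw [S.poleHalf_at P hγ hlt]
      have hdγ := (S.hd γ hγ).pos
      by_cases hpt : pt B d i = γ
      · rw [val_famE_at P hlt i hpt, exp_le_exp]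
        rcases i with ⟨⟨a, j⟩, hj⟩ | ⟨b, hb⟩
        · simp only [pt, Sum.elim_inl] at hpt
          simp only [od, Sum.elim_inl]
          have h2 := hj.2
          simp only at h2
          rw [hpt] at h2
          have : j + 1 ≤ (d γ + 1) / 2 := by omega
          exact_mod_cast this
        · simp only [od, Sum.elim_inr]
          have : 1 ≤ (d γ + 1) / 2 := by omega
          exact_mod_cast this
      · have h1le : (1 : ℤᵐ⁰) ≤ exp ((((d γ + 1) / 2 : ℕ)) : ℤ) := by
          rw [← exp_zero, exp_le_exp]
          exact Int.natCast_nonneg _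
        by_cases hγ0 : γ = 0
        · subst hγ0
          rcases i with ⟨⟨a, j⟩, hj⟩ | ⟨b, hb⟩
          · simp only [pt, Sum.elim_inl] at hpt
            exact (val_famE_inl_of_ne P hlt ⟨⟨a, j⟩, hj⟩ hpt).trans h1le
          · simp only [pt, Sum.elim_inr] at hpt
            simp only [famE, Sum.elim_inr]
            have hXv : P.1 (RatFunc.X : RatFunc k) = exp (-1) := by
              have := val_sub_eq P hlt
              rwa [val_X_eq_sub_zero] at this
            rw [val_rtwo P hb, hXv, ASBasisE.val_sub_of_ne P (Ne.symm hpt) hlt, mul_one, ← exp_neg, neg_neg,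
              exp_le_exp]
            have : 1 ≤ (d 0 + 1) / 2 := by omega
            exact_mod_cast this
        · exact (val_famE_of_ne P hlt hγ0 i hpt).trans h1le
  · push Not at hX
    rw [S.nn_inf P hX]
    rcases i with ⟨⟨a, j⟩, hj⟩ | ⟨b, hb⟩
    · simp only [famE, Sum.elim_inl]
      rw [val_rpow_inf P hX, exp_le_exp]
      have := hj.1
      simp only at this
      push_cast
      omega
    · simp only [famE, Sum.elim_inr]
      rw [val_rtwo P hb, val_X_inf P hX, val_sub_inf P hX, ← exp_add, ← exp_neg, exp_le_exp]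
      norm_num

end setting

section main

/-- S19044. -/
theorem s19044 [IsAlgClosed k] [CharP k 2]
    (hdeg : Module.finrank (RatFunc k) K = 2)
    (y : K) (hy : y ∉ Set.range (algebraMap (RatFunc k) K)) (f : RatFunc k)
    (heq : y ^ 2 + y = jj f)
    (B : Finset k) (d : k → ℕ) (S : Setting f B d)
    (F : Place k K → Type w) [∀ P, Field (F P)] [∀ P, Algebra k (F P)]
    (φ : ∀ P, K →ₐ[k] LaurentSeries (F P)) (hφ : ∀ P, LocRes.IsExpansionAt P.1 (φ P)) :
    (∀ i P, LocRes.vDiff (φ P) (jj (famE B d i)) (jj RatFunc.X) ≤ 1) ∧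
    LinearIndependent k (fun i => jj (famE B d i)) ∧
    ∀ z : K, (∀ P, LocRes.vDiff (φ P) z (jj RatFunc.X) ≤ 1) →
      z ∈ Submodule.span k (Set.range (fun i => jj (famE B d i))) := by
  classical
  haveI := finiteDimensional_of_finrank (k := k) (K := K) hdeg
  have h2 : ringChar k = 2 := ringChar.eq k 2
  have hodd' : ∀ P : Place k (RatFunc k), P.ord f < 0 → Odd (P.ord f) := S.odd
  let J : RatFunc k →ₗ[k] K := (IsScalarTower.toAlgHom k (RatFunc k) K).toLinearMap
  have hJ : ∀ r, J r = jj r := fun r => rfl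
  refine ⟨?_, ?_, ?_⟩
  · intro i Q
    obtain ⟨P, hQ⟩ := exists_isOver_below (K := RatFunc k) Q
    have h := (regular_iff h2 hdeg y hy f heq hodd' F φ hφ P (famE B d i) 0).2
      ⟨S.bound_famE i P, by rw [map_zero]; exact zero_le⟩ Q hQ
    rwa [map_zero, zero_mul, add_zero] at h
  · have hli := (linearIndependent_famE (B := B) (d := d)).map' J (by
      rw [LinearMap.ker_eq_bot]
      exact (algebraMap (RatFunc k) K).injective)
    exact hli
  · intro z hz
    obtain ⟨a, b, rfl⟩ := exists_decomp hdeg hy z
    have hab : ∀ P : Place k (RatFunc k), P.1 a ≤ exp (nn f P) ∧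
        P.1 b ≤ exp (nn f P - poleHalf f P) := fun P =>
      (regular_iff h2 hdeg y hy f heq hodd' F φ hφ P a b).1 (fun Q _ => hz Q)
    have hb0 : b = 0 := by
      obtain ⟨A, hA, hbA⟩ := poly_of_bounds b 0 (fun P hX => by
        have := (hab P).2
        rwa [nn, if_pos hX, sub_self, exp_zero] at this) (fun P hX => by
        have := (hab P).2
        rw [S.nn_inf P hX] at this
        refine this.trans ?_
        rw [exp_le_exp]
        have := poleHalf_nonneg (f := f) P
        push_cast
        omega)
      have hA0 : A = 0 := by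
        by_contra hne
        rw [degree_eq_natDegree hne] at hA
        exact absurd hA (by simp)
      rw [hbA, hA0, map_zero]
    have hamem : a ∈ Submodule.span k (Set.range (famE B d)) := by
      refine mem_span S.h0 S.hd a ?_ ?_ ?_
      · intro P α hα hlt
        have := (hab P).1
        rwa [nn, if_pos (val_X_le_one_of_sub P hlt), S.poleHalf_at P hα hlt] at this
      · intro P hX hB
        have := (hab P).1
        rwa [nn, if_pos hX, S.poleHalf_else P hB, exp_zero] at this
      · intro P hX
        have := (hab P).1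
        rwa [S.nn_inf P hX] at this
    rw [hb0, map_zero, zero_mul, add_zero]
    have h3 := Submodule.apply_mem_span_image_of_mem_span J hamem
    rw [← Set.range_comp] at h3
    exact h3

end main

end Groth.Agent.Lib.Helper63.ASBasisK
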