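import Groth.Agent.Lib.Helper63.SumEF

/-! Conorm of divisors in finite extensions of function fields: evaluation, degree,
compatibility with principal divisors (helper63). -/

set_option autoImplicit false
set_option linter.style.haveILetI false

namespace Groth.Agent.Lib.Helper63.Conorm

open WithZero IntermediateField FunFld Groth.Agent.Lib.Helper55 Groth.Agent.Lib.Helper63.FunFldExt
  Groth.Agent.Lib.Helper63.FundIneq Groth.Agent.Lib.Helper63.ConstField
  Groth.Agent.Lib.Helper63.SumEF

variable {k K K' : Type*} [Field k] [Field K] [Field K'] [Algebra k K] [Algebra K K']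
  [Algebra k K']

theorem ramIdx_eq_zero {Q : Place k K'} {P : Place k K} (h : ¬ IsOver Q P) : ramIdx Q P = 0 := by
  unfold ramIdx
  rw [dif_neg h]

theorem cN_apply [FiniteDimensional K K'] (P : Place k K) (Q : Place k K') :
    (cN K' P) Q = ramIdx Q P := by
  classical
  unfold cN
  rw [Finsupp.finsetSum_apply]
  simp only [Finsupp.smul_apply, Finsupp.single_apply, smul_eq_mul]
  by_cases hQ : IsOver Q P
  · rw [Finset.sum_eq_single Q]
    · simp
    · intro Q' _ hne
      rw [if_neg hne, mul_zero]
    · intro hnot
      exact absurd ((finite_setOf_isOver (K' := K') P).mem_toFinset.2 hQ) hnot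
  · rw [ramIdx_eq_zero hQ, Nat.cast_zero]
    refine Finset.sum_eq_zero fun Q' hQ' => ?_
    have hQ'o : IsOver Q' P := (finite_setOf_isOver (K' := K') P).mem_toFinset.1 hQ'
    have hne : Q' ≠ Q := by
      rintro rfl
      exact hQ hQ'o
    rw [if_neg hne, mul_zero]

/-- The value of the conorm at `Q` is `e(Q|P) D(P)` for `P` below `Q`. -/
theorem conormHom_apply [FiniteDimensional K K'] (D : Divisor k K) {Q : Place k K'}
    {P : Place k K} (h : IsOver Q P) : conormHom K' D Q = D P * ramIdx Q P := by
  classical
  induction D using Finsupp.induction_linear with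
  | zero => simp
  | add D₁ D₂ h₁ h₂ => rw [map_add, Finsupp.add_apply, Finsupp.add_apply, h₁, h₂, add_mul]
  | single P' n =>
    rw [conormHom_single, Finsupp.smul_apply, cN_apply, Finsupp.single_apply, smul_eq_mul]
    by_cases hP : P' = P
    · subst hP
      rw [if_pos rfl]
    · rw [if_neg hP, zero_mul]
      have : ¬ IsOver Q P' := fun h' => hP (isOver_unique_below h' h)
      rw [ramIdx_eq_zero this, Nat.cast_zero, mul_zero]

/-- `deg N*(D) = [K':K] deg D` (degrees over `k`). -/
theorem deg_conormHom [IsScalarTower k K K'] [FiniteDimensional K K'] (hK : IsFunctionField k K)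
    (D : Divisor k K) : (conormHom K' D).deg = Module.finrank K K' * D.deg := by
  classical
  induction D using Finsupp.induction_linear with
  | zero => simp [ff_deg_zero]
  | add D₁ D₂ h₁ h₂ => rw [map_add, ff_deg_add, ff_deg_add, h₁, h₂, mul_add]
  | single P n =>
    rw [conormHom_single, ff_deg_single]
    have h1 : (n • cN K' P : Divisor k K').deg = n * (cN K' P).deg := by
      unfold Divisor.deg
      rw [Finsupp.sum_smul_index (fun _ => by simp), Finsupp.mul_sum]
      refine Finsupp.sum_congr fun Q _ => ?_
      rw [mul_assoc]
    rw [h1]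
    have h2 : (cN K' P).deg = ∑ Q ∈ (finite_setOf_isOver (K' := K') P).toFinset,
        ((ramIdx Q P * Q.deg : ℕ) : ℤ) := by
      unfold cN
      rw [ff_deg_sum]
      refine Finset.sum_congr rfl fun Q _ => ?_
      rw [Finsupp.smul_single, smul_eq_mul, mul_one, ff_deg_single]
      push_cast
      ring
    rw [h2, ← Nat.cast_sum, sum_ramIdx_mul_deg_eq hK P _
      (fun Q => (finite_setOf_isOver (K' := K') P).mem_toFinset)]
    push_cast
    ring

/-- Finitely many zeros and poles in a finite extension, for places over `k`. -/
theorem finite_support_ord [IsScalarTower k K K'] [FiniteDimensional K K']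
    (hK : IsFunctionField k K) (y : K') :
    (Function.support fun Q : Place k K' => Q.ord y).Finite := by
  have hK' := isFunctionField_algebraicClosure k K K' hK
  have h := ff_finite_support_ord hK' y
  refine (h.preimage ((toConst_injective (algebraicClosure k K')).injOn)).subset ?_
  intro Q hQ
  exact hQ

theorem div_apply [IsScalarTower k K K'] [FiniteDimensional K K'] (hK : IsFunctionField k K)
    (y : K') (Q : Place k K') : FunFld.div k y Q = Q.ord y := by
  unfold FunFld.div
  rw [dif_pos (finite_support_ord hK y)]
  rfl

/-- `(x)_{K'} = N*((x)_K)`. -/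
theorem div_algebraMap [IsScalarTower k K K'] [FiniteDimensional K K'] (hK : IsFunctionField k K)
    (x : K) : FunFld.div k (algebraMap K K' x) = conormHom K' (FunFld.div k x) := by
  ext Q
  obtain ⟨P, hP⟩ := exists_isOver_below (K := K) Q
  rw [div_apply hK, conormHom_apply _ hP, ff_div_apply hK, ord_algebraMap (isOverWith_ramIdx hP),
    mul_comm]

end Groth.Agent.Lib.Helper63.Conorm
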