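import Groth.Agent.Lib.Helper63.ASPoles
import Groth.Agent.Lib.Helper63.PurelyInsep
import Groth.Agent.Lib.Helper63.Conorm
import Groth.Agent.Lib.Helper55.FunFld.Apps

/-! The genus of an Artin-Schreier curve `y² + y = f(x)` in characteristic `2`, all poles of `f`
of odd order: `L(Con D) = L(D) ⊕ L(D - A) y` with `A = ∑ d_p p` (helper63). -/

set_option autoImplicit false
set_option linter.style.haveILetI false
set_option linter.unusedSectionVars false

namespace Groth.Agent.Lib.Helper63.ASGenus

open WithZero Polynomial IntermediateField FunFld Groth.Agent.Lib.Helper55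
  Groth.Agent.Lib.Helper63.FunFldExt Groth.Agent.Lib.Helper63.Hyperelliptic
  Groth.Agent.Lib.Helper63.Galois Groth.Agent.Lib.Helper63.RatFuncPlaces
  Groth.Agent.Lib.Helper63.ASLocal Groth.Agent.Lib.Helper63.HyperGenus
  Groth.Agent.Lib.Helper63.ASPoles Groth.Agent.Lib.Helper63.Conorm

local notation "ℤᵐ⁰" => WithZero (Multiplicative ℤ)

variable {k K : Type*} [Field k] [Field K] [Algebra k K] [Algebra (RatFunc k) K]
  [IsScalarTower k (RatFunc k) K]

local notation "jj" => algebraMap (RatFunc k) K

/-- The half pole divisor `A = ∑ d_p p` with `d_p = (1 - ord_p f) / 2` at the poles of `f`. -/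
noncomputable def poleHalf (f : RatFunc k) : Divisor k (RatFunc k) :=
  (FunFld.div k f).mapRange (fun n => if n < 0 then (1 - n) / 2 else 0) (by simp)

theorem poleHalf_apply (f : RatFunc k) (P : Place k (RatFunc k)) :
    poleHalf f P = if P.ord f < 0 then (1 - P.ord f) / 2 else 0 := by
  rw [poleHalf, Finsupp.mapRange_apply, ff_div_apply isFunctionField_ratFunc]

theorem deg_poleHalf (f : RatFunc k) :
    (poleHalf f).deg = ∑ P ∈ (FunFld.div k f).support with FunFld.div k f P < 0,
      (1 - FunFld.div k f P) / 2 * (P.deg : ℤ) := by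
  classical
  unfold Divisor.deg poleHalf
  rw [Finsupp.sum_mapRange_index (fun P => by simp), Finsupp.sum, Finset.sum_filter]
  refine Finset.sum_congr rfl fun P _ => ?_
  split_ifs <;> simp

/-- The local form of the decomposition `z = a + b y`. -/
theorem local_iff (h2 : ringChar k = 2) (hdeg : Module.finrank (RatFunc k) K = 2)
    (y : K) (hy : y ∉ Set.range (algebraMap (RatFunc k) K)) (f : RatFunc k)
    (heq : y ^ 2 + y = jj f)
    (P : Place k (RatFunc k)) (hodd : P.ord f < 0 → Odd (P.ord f)) (a b : RatFunc k) (n : ℤ) :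
    (∀ Q : Place k K, IsOver Q P → Q.1 (jj a + jj b * y) ≤ exp (n * (ramIdx Q P : ℤ))) ↔
      (P.1 a ≤ exp n ∧ P.1 b ≤ exp (n - poleHalf f P)) := by
  haveI := finiteDimensional_of_finrank (k := k) (K := K) hdeg
  haveI : CharP k 2 := by rw [← h2]; exact ringChar.charP k
  haveI : CharP (RatFunc k) 2 :=
    charP_of_injective_algebraMap (algebraMap k (RatFunc k)).injective 2
  rw [poleHalf_apply]
  by_cases hneg : P.ord f < 0
  · -- a pole of odd order
    rw [if_pos hneg]
    have hf0 : f ≠ 0 := by
      rintro rfl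
      rw [ff_ord_zero] at hneg
      exact lt_irrefl _ hneg
    have hoddP := hodd hneg
    set d : ℤ := (1 - P.ord f) / 2 with hd
    have hd1 : 1 ≤ d := by omega
    have hord : -P.ord f = 2 * d - 1 := by
      obtain ⟨m, hm⟩ := hoddP
      omega
    have hu : P.1 f = exp (2 * d - 1) := by rw [ff_val_eq_exp_neg_ord P hf0, hord]
    have hram := ((ArtinSchreier.ramification h2 hdeg y hy f heq P).1 ⟨hneg, hoddP⟩).2
    constructor
    · intro h
      obtain ⟨Q, hQ⟩ := Groth.Agent.Lib.Helper63.PurelyInsep.exists_isOver (K' := K)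
        isFunctionField_ratFunc P
      have he2 := (hram Q hQ).1
      have hz := h Q hQ
      rw [ramIdx_eq he2] at hz
      have hz' : Q.1 (jj a + jj b * y) ≤ exp (2 * n) := by
        refine hz.trans_eq ?_
        congr 1
        push_cast
        ring
      exact decomp_pole he2 heq hd1 hu hz'
    · rintro ⟨ha, hb⟩ Q hQ
      have he2 := (hram Q hQ).1
      rw [ramIdx_eq he2]
      refine (val_le_of_pole he2 heq hd1 hu ha hb).trans_eq ?_
      congr 1
      push_cast
      ring
  · -- `f` integral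
    rw [if_neg hneg, sub_zero]
    push Not at hneg
    have hfP : P.1 f ≤ 1 := by
      by_cases hf0 : f = 0
      · rw [hf0, map_zero]; exact zero_le
      · exact (ff_ord_nonneg_iff P hf0).1 hneg
    have hunr := (ArtinSchreier.ramification h2 hdeg y hy f heq P).2 hneg
    constructor
    · intro h
      obtain ⟨Q, hQ⟩ := Groth.Agent.Lib.Helper63.PurelyInsep.exists_isOver (K' := K)
        isFunctionField_ratFunc P
      have he1 := hunr Q hQ
      obtain ⟨σ, hσ⟩ := exists_involution hdeg heq hy
      have hz := h Q hQ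
      rw [ramIdx_eq he1] at hz
      have he1' := comapEquiv_isOverWith σ he1
      have hz' := h (comapEquiv σ Q) ⟨1, he1'⟩
      rw [ramIdx_eq he1', comapEquiv_apply] at hz'
      have hu : Q.1 (jj f) ≤ 1 := by rw [he1, pow_one]; exact hfP
      obtain ⟨h3, h4⟩ := decomp_integral σ heq hσ hu hz hz'
      rw [he1, pow_one] at h3 h4
      simp only [Nat.cast_one, mul_one] at h3 h4
      exact ⟨h3, h4⟩
    · rintro ⟨ha, hb⟩ Q hQ
      have he1 := hunr Q hQ
      rw [ramIdx_eq he1]
      simp only [Nat.cast_one, mul_one]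
      have hu : Q.1 (jj f) ≤ 1 := by rw [he1, pow_one]; exact hfP
      have hy1 := val_le_one heq hu
      refine (Q.1.map_add _ _).trans (max_le ?_ ?_)
      · rw [he1, pow_one]; exact ha
      · rw [map_mul, he1, pow_one]
        calc P.1 b * Q.1 y ≤ exp n * 1 := mul_le_mul' hb hy1
          _ = exp n := mul_one _

/-- `a + b y ∈ L(Con D)` iff `a ∈ L(D)` and `b ∈ L(D - A)`. -/
theorem mem_L_conorm_iff (h2 : ringChar k = 2) (hdeg : Module.finrank (RatFunc k) K = 2)
    (y : K) (hy : y ∉ Set.range (algebraMap (RatFunc k) K)) (f : RatFunc k)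
    (heq : y ^ 2 + y = jj f)
    (hodd : ∀ P : Place k (RatFunc k), P.ord f < 0 → Odd (P.ord f))
    (D : Divisor k (RatFunc k)) (a b : RatFunc k) :
    haveI := finiteDimensional_of_finrank (k := k) (K := K) hdeg
    jj a + jj b * y ∈ L (conormHom K D) ↔ a ∈ L D ∧ b ∈ L (D - poleHalf f) := by
  haveI := finiteDimensional_of_finrank (k := k) (K := K) hdeg
  constructor
  · intro hz
    have key : ∀ P : Place k (RatFunc k), P.1 a ≤ exp (D P) ∧
        P.1 b ≤ exp (D P - poleHalf f P) := by
      intro P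
      rw [← local_iff h2 hdeg y hy f heq P (hodd P) a b (D P)]
      intro Q hQ
      have := hz Q
      rwa [conormHom_apply D hQ] at this
    exact ⟨fun P => (key P).1, fun P => by rw [Finsupp.sub_apply]; exact (key P).2⟩
  · rintro ⟨ha, hb⟩ Q
    obtain ⟨P, hQ⟩ := exists_isOver_below (K := RatFunc k) Q
    rw [conormHom_apply D hQ]
    have hb' := hb P
    rw [Finsupp.sub_apply] at hb'
    exact (local_iff h2 hdeg y hy f heq P (hodd P) a b (D P)).2 ⟨ha P, hb'⟩ Q hQ

/-- `ℓ(Con D) = ℓ(D) + ℓ(D - A)`. -/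
theorem ell_conorm (h2 : ringChar k = 2) (hdeg : Module.finrank (RatFunc k) K = 2)
    (y : K) (hy : y ∉ Set.range (algebraMap (RatFunc k) K)) (f : RatFunc k)
    (heq : y ^ 2 + y = jj f)
    (hodd : ∀ P : Place k (RatFunc k), P.ord f < 0 → Odd (P.ord f))
    (D : Divisor k (RatFunc k)) :
    haveI := finiteDimensional_of_finrank (k := k) (K := K) hdeg
    ell (conormHom K D) = ell D + ell (D - poleHalf f) := by
  haveI := finiteDimensional_of_finrank (k := k) (K := K) hdeg
  have hE : IsFunctionField k (RatFunc k) := isFunctionField_ratFunc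
  let J : RatFunc k →ₗ[k] K := (IsScalarTower.toAlgHom k (RatFunc k) K).toLinearMap
  have hJ : ∀ r, J r = jj r := fun r => rfl
  let Φ : (L D × L (D - poleHalf f)) →ₗ[k] K :=
    LinearMap.coprod (J ∘ₗ (L D).subtype)
      ((LinearMap.mulRight k y) ∘ₗ J ∘ₗ (L (D - poleHalf f)).subtype)
  have hΦ : ∀ p, Φ p = jj (p.1 : RatFunc k) + jj (p.2 : RatFunc k) * y := fun p => rfl
  have hΦL : ∀ p, Φ p ∈ L (conormHom K D) := by
    intro p
    rw [hΦ]
    exact (mem_L_conorm_iff h2 hdeg y hy f heq hodd D _ _).2 ⟨p.1.2, p.2.2⟩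
  let Φ' : (L D × L (D - poleHalf f)) →ₗ[k] L (conormHom K D) :=
    Φ.codRestrict (L (conormHom K D)) hΦL
  have hinj : Function.Injective Φ' := by
    rw [← LinearMap.ker_eq_bot, LinearMap.ker_eq_bot']
    intro p hp
    have h0 : Φ p = 0 := congrArg Subtype.val hp
    rw [hΦ] at h0
    have hB0 : (p.2 : RatFunc k) = 0 := by
      by_contra hne
      have hne' : jj (p.2 : RatFunc k) ≠ 0 := by
        rw [Ne, map_eq_zero_iff _ (algebraMap (RatFunc k) K).injective]
        exact hne
      apply hy
      refine ⟨-(p.1 : RatFunc k) / (p.2 : RatFunc k), ?_⟩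
      rw [map_div₀, map_neg, div_eq_iff hne']
      linear_combination -h0
    have hA0 : (p.1 : RatFunc k) = 0 := by
      rw [hB0, map_zero, zero_mul, add_zero,
        map_eq_zero_iff _ (algebraMap (RatFunc k) K).injective] at h0
      exact h0
    exact Prod.ext (Subtype.ext hA0) (Subtype.ext hB0)
  have hsurj : Function.Surjective Φ' := by
    rintro ⟨z, hz⟩
    obtain ⟨a, b, rfl⟩ := exists_decomp hdeg hy z
    obtain ⟨ha, hb⟩ := (mem_L_conorm_iff h2 hdeg y hy f heq hodd D a b).1 hz
    exact ⟨(⟨a, ha⟩, ⟨b, hb⟩), Subtype.ext rfl⟩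
  haveI := ff_L_finiteDimensional hE D
  haveI := ff_L_finiteDimensional hE (D - poleHalf f)
  have e := LinearEquiv.ofBijective Φ' ⟨hinj, hsurj⟩
  unfold ell
  rw [← LinearEquiv.finrank_eq e, Module.finrank_prod]

theorem genus_ratFunc : genus k (RatFunc k) = 0 := by
  have hE : IsFunctionField k (RatFunc k) := isFunctionField_ratFunc
  have hxtr : Transcendental k (RatFunc.X : RatFunc k) := by
    have := transcendental_x (k := k) (K := RatFunc k)
    simpa using this
  apply ff_genus_eq_zero_of_finrank_eq_one hE hxtr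
  rw [RatFunc.adjoin_X, IntermediateField.finrank_top]

/-- The genus: `g = deg A - 1`. -/
theorem genus_eq (h2 : ringChar k = 2) (hdeg : Module.finrank (RatFunc k) K = 2)
    (hK : IsFunctionField k K)
    (y : K) (hy : y ∉ Set.range (algebraMap (RatFunc k) K)) (f : RatFunc k)
    (heq : y ^ 2 + y = jj f)
    (hodd : ∀ P : Place k (RatFunc k), P.ord f < 0 → Odd (P.ord f)) :
    (genus k K : ℤ) = -1 + (poleHalf f).deg := by
  haveI := finiteDimensional_of_finrank (k := k) (K := K) hdeg
  have hE : IsFunctionField k (RatFunc k) := isFunctionField_ratFunc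
  have hgE : genus k (RatFunc k) = 0 := genus_ratFunc
  have hxtr : Transcendental k (RatFunc.X : RatFunc k) := by
    have := transcendental_x (k := k) (K := RatFunc k)
    simpa using this
  have hD1 : (ff_poleDiv (RatFunc.X : RatFunc k) : Divisor k (RatFunc k)).deg = 1 := by
    rw [ff_deg_poleDiv hE hxtr, RatFunc.adjoin_X, IntermediateField.finrank_top]
    rfl
  set n : ℕ := (max (poleHalf f).deg (genus k K : ℤ)).toNat with hn
  have hn1 : (poleHalf f).deg ≤ n := (le_max_left _ _).trans (Int.self_le_toNat _)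
  have hn2 : (genus k K : ℤ) ≤ n := (le_max_right _ _).trans (Int.self_le_toNat _)
  set D : Divisor k (RatFunc k) := n • (ff_poleDiv (RatFunc.X : RatFunc k)) with hD
  have hDdeg : D.deg = n := by rw [hD, ff_deg_nsmul, hD1, mul_one]
  have h1 := ff_ell_eq_of_deg_ge hE D (by rw [hgE, hDdeg]; push_cast; omega)
  have h3 := ff_ell_eq_of_deg_ge hE (D - poleHalf f) (by
    rw [hgE, ff_deg_sub, hDdeg]; push_cast; omega)
  have h4 := ff_ell_eq_of_deg_ge hK (conormHom K D) (by
    rw [deg_conormHom hE, hdeg, hDdeg]; push_cast; omega)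
  rw [ell_conorm h2 hdeg y hy f heq hodd D, deg_conormHom hE, hdeg, hDdeg] at h4
  rw [hgE, hDdeg] at h1
  rw [hgE, ff_deg_sub, hDdeg] at h3
  push_cast at h1 h3 h4
  linarith

end Groth.Agent.Lib.Helper63.ASGenus
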