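import Groth.Agent.Lib.Helper63.Unramified
import Groth.Agent.Lib.Helper63.FundIneq
import Mathlib.RingTheory.Localization.Integral
import Mathlib.FieldTheory.IntermediateField.Adjoin.Basic

/-! Unramifiedness criterion for places of function fields: if `K' = K(α)` with `α` a root of a
polynomial over `O_P` whose reduction mod `P` is squarefree, then `e(Q|P) = 1` for every `Q | P`
(helper63). -/

set_option autoImplicit false
set_option linter.style.haveILetI false

namespace Groth.Agent.Lib.Helper63.UnramifiedFF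

open WithZero Polynomial IntermediateField FunFld IsLocalRing
  Groth.Agent.Lib.Helper63.FunFldExt Groth.Agent.Lib.Helper63.FundIneq
  Groth.Agent.Lib.Helper63.Unramified

local notation "ℤᵐ⁰" => WithZero (Multiplicative ℤ)

variable {k K K' : Type*} [Field k] [Field K] [Field K'] [Algebra k K] [Algebra K K']
  [Algebra k K']

/-- Values of `G(α)`, `G ∈ O_P[T]`, are powers of `exp (-e)`. -/
theorem val_eval₂_eq {Q : Place k K'} {P : Place k K} {e : ℕ} (he : IsOverWith Q P e)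
    {α : K'} (hα : Q.1 α ≤ 1) {g : (P.O)[X]}
    (hroot : eval₂ ((algebraMap K K').comp P.O.subtype) α g = 0)
    (hsq : Squarefree (g.map (residue P.O))) (G : (P.O)[X])
    (hG : eval₂ ((algebraMap K K').comp P.O.subtype) α G ≠ 0) :
    ∃ n : ℕ, Q.1 (eval₂ ((algebraMap K K').comp P.O.subtype) α G) = exp (-((e * n : ℕ) : ℤ)) := by
  have he0 := isOverWith_ne_zero he
  obtain ⟨t₀, ht₀⟩ := P.2.2 (exp (-1))
  have ht₀1 : P.1 t₀ ≤ 1 := by rw [ht₀, ← exp_zero, exp_le_exp]; omega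
  have ht₀0 : t₀ ≠ 0 := by
    rintro rfl
    rw [map_zero] at ht₀
    exact exp_ne_zero ht₀.symm
  set φ : P.O →+* K' := (algebraMap K K').comp P.O.subtype with hφdef
  have hφ : ∀ r, Q.1 (φ r) ≤ 1 := fun r => val_le_one_of_isOverWith he r.2
  have hφv : ∀ r : P.O, Q.1 (φ r) = P.1 (r : K) ^ e := fun r => he r.1
  have hlt : ∀ r : P.O, Q.1 (φ r) < 1 ↔ P.1 (r : K) < 1 := by
    intro r
    rw [hφv]
    exact pow_lt_one_iff_of_nonneg zero_le he0
  have hker : ∀ r : P.O, residue P.O r = 0 ↔ Q.1 (φ r) < 1 := by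
    intro r
    rw [hlt, residue_eq_zero_iff, Valuation.mem_maximalIdeal_iff]
  have ht : ∀ r : P.O, Q.1 (φ r) < 1 → (⟨t₀, ht₀1⟩ : P.O) ∣ r := by
    intro r hr
    rw [hlt] at hr
    have h1 := le_exp_neg_one_of_lt_one hr
    refine ⟨⟨(r : K) / t₀, ?_⟩, ?_⟩
    · change P.1 ((r : K) / t₀) ≤ 1
      rw [map_div₀, ht₀, div_le_iff₀ exp_pos, one_mul]
      exact h1
    · apply Subtype.ext
      change (r : K) = t₀ * ((r : K) / t₀)
      field_simp
  have ht1 : Q.1 (φ ⟨t₀, ht₀1⟩) < 1 := by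
    rw [hlt]; change P.1 t₀ < 1
    rw [ht₀, ← exp_zero, exp_lt_exp]; omega
  have ht0 : φ ⟨t₀, ht₀1⟩ ≠ 0 := by
    change algebraMap K K' t₀ ≠ 0
    rw [Ne, map_eq_zero_iff _ (algebraMap K K').injective]
    exact ht₀0
  obtain ⟨n, hn⟩ := exists_val_eq_pow Q.1 φ (residue P.O) hφ residue_surjective hker ht ht1 ht0
    hα hroot hsq G hG
  refine ⟨n, ?_⟩
  rw [hn, hφv]
  change (P.1 t₀ ^ e) ^ n = _
  rw [ht₀, ← pow_mul, ← exp_nsmul]
  congr 1
  simp

/-- Unramifiedness criterion. -/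
theorem eq_one_of_squarefree {Q : Place k K'} {P : Place k K} {e : ℕ} (he : IsOverWith Q P e)
    {α : K'} (hgen : K⟮α⟯ = ⊤) (hα : Q.1 α ≤ 1) {g : (P.O)[X]}
    (hroot : eval₂ ((algebraMap K K').comp P.O.subtype) α g = 0)
    (hsq : Squarefree (g.map (residue P.O))) : e = 1 := by
  have he0 := isOverWith_ne_zero he
  -- values of `r(α)`, `r ∈ K[T]`
  have key : ∀ r : K[X], aeval α r ≠ 0 → ∃ m : ℤ, Q.1 (aeval α r) = exp ((e : ℤ) * m) := by
    intro r hr
    obtain ⟨b, hb, hbr⟩ := IsLocalization.integerNormalization_spec (nonZeroDivisors P.O) r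
    set G := IsLocalization.integerNormalization (nonZeroDivisors P.O) r with hGdef
    have hb0 : (b : K) ≠ 0 := by
      intro h
      exact (nonZeroDivisors.ne_zero hb) (Subtype.ext h)
    have hev : eval₂ ((algebraMap K K').comp P.O.subtype) α G =
        algebraMap K K' (b : K) * aeval α r := by
      have h1 : eval₂ ((algebraMap K K').comp P.O.subtype) α G =
          eval₂ (algebraMap K K') α (G.map (algebraMap P.O K)) := by
        rw [eval₂_map]; rfl
      rw [h1, hbr, aeval_def, Algebra.smul_def, eval₂_mul]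
      congr 1
      change eval₂ (algebraMap K K') α (C ((b : K))) = _
      rw [eval₂_C]
    have hbK : algebraMap K K' (b : K) ≠ 0 := by
      rw [Ne, map_eq_zero_iff _ (algebraMap K K').injective]; exact hb0
    have hG0 : eval₂ ((algebraMap K K').comp P.O.subtype) α G ≠ 0 := by
      rw [hev]; exact mul_ne_zero hbK hr
    obtain ⟨n, hn⟩ := val_eval₂_eq he hα hroot hsq G hG0
    obtain ⟨a, ha⟩ : ∃ a : ℤ, P.1 (b : K) = exp a :=
      ⟨_, (exp_log ((Valuation.ne_zero_iff _).2 hb0)).symm⟩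
    rw [hev, map_mul, he, ha, ← exp_nsmul] at hn
    refine ⟨-(n : ℤ) - a, ?_⟩
    have h2 : Q.1 (aeval α r) = exp (-((e * n : ℕ) : ℤ)) / exp (e • a) := by
      rw [← hn, mul_div_cancel_left₀ _ exp_ne_zero]
    rw [h2, ← exp_sub]
    congr 1
    push_cast
    simp only [nsmul_eq_mul]
    ring
  obtain ⟨z, hz⟩ := Q.2.2 (exp (-1))
  have hzmem : z ∈ K⟮α⟯ := by rw [hgen]; exact IntermediateField.mem_top
  obtain ⟨r, s, hrs⟩ := (IntermediateField.mem_adjoin_simple_iff K z).1 hzmem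
  have hz0 : z ≠ 0 := by
    rintro rfl
    rw [map_zero] at hz
    exact exp_ne_zero hz.symm
  have hr0 : aeval α r ≠ 0 := by
    intro h
    rw [h, zero_div] at hrs
    exact hz0 hrs
  have hs0 : aeval α s ≠ 0 := by
    intro h
    rw [h, div_zero] at hrs
    exact hz0 hrs
  obtain ⟨m₁, hm₁⟩ := key r hr0
  obtain ⟨m₂, hm₂⟩ := key s hs0
  rw [hrs, map_div₀, hm₁, hm₂, ← exp_sub, exp_inj] at hz
  have h1 : (e : ℤ) * (m₂ - m₁) = 1 := by linarith
  have h2 : (e : ℤ) ∣ 1 := ⟨_, h1.symm⟩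
  have h3 := Int.eq_one_of_dvd_one (Int.natCast_nonneg e) h2
  exact_mod_cast h3

end Groth.Agent.Lib.Helper63.UnramifiedFF
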