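import Groth.Agent.Lib.Helper63.RatFuncPlaces
import Groth.Agent.Lib.Helper63.UnramifiedFF
import Groth.Agent.Lib.Helper63.InertiaField

/-! Hyperelliptic function fields `y² = f(x)`, `char ≠ 2` (helper63). -/

set_option autoImplicit false
set_option linter.style.haveILetI false
set_option linter.unusedSectionVars false

namespace Groth.Agent.Lib.Helper63.Hyperelliptic

open WithZero Polynomial IntermediateField FunFld IsLocalRing Groth.Agent.Lib.Helper55
  Groth.Agent.Lib.Helper63.FunFldExt Groth.Agent.Lib.Helper63.FundIneq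
  Groth.Agent.Lib.Helper63.SumEF Groth.Agent.Lib.Helper63.RatFuncPlaces
  Groth.Agent.Lib.Helper63.InertiaField Groth.Agent.Lib.Helper63.Conorm

local notation "ℤᵐ⁰" => WithZero (Multiplicative ℤ)

section general

variable {k K K' : Type*} [Field k] [Field K] [Field K'] [Algebra k K] [Algebra K K']
  [Algebra k K'] [IsScalarTower k K K']

theorem deg_dvd_deg {Q : Place k K'} {P : Place k K} {e : ℕ} (he : IsOverWith Q P e) :
    P.deg ∣ Q.deg := by
  letI := algO he
  haveI : IsLocalHom (algebraMap P.O Q.O) := isLocalHom_algebraMap he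
  exact ⟨_, deg_eq_mul he⟩

/-- In a quadratic extension, a place all of whose extensions have even ramification index
is totally ramified. -/
theorem unique_of_even [FiniteDimensional K K'] (hK : IsFunctionField k K)
    (hdeg : Module.finrank K K' = 2) (P : Place k K)
    (heven : ∀ (Q : Place k K') (e : ℕ), IsOverWith Q P e → Even e) :
    (∃! Q : Place k K', IsOver Q P) ∧
      ∀ Q : Place k K', IsOver Q P → IsOverWith Q P 2 ∧ Q.deg = P.deg := by
  classical
  have hfin := finite_setOf_isOver (K' := K') P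
  have hsum := sum_ramIdx_mul_deg_eq hK P hfin.toFinset (fun Q => hfin.mem_toFinset)
  rw [hdeg] at hsum
  have hPpos : 0 < P.deg := ff_deg_pos hK P
  have hterm : ∀ Q : Place k K', IsOver Q P → 2 ≤ ramIdx Q P ∧ P.deg ≤ Q.deg := by
    intro Q hQ
    have he := isOverWith_ramIdx hQ
    have h1 := heven Q _ he
    have h2 := isOverWith_ne_zero he
    refine ⟨?_, Nat.le_of_dvd (deg_pos_of_finite hK Q) (deg_dvd_deg he)⟩
    obtain ⟨m, hm⟩ := h1
    omega
  have hterm' : ∀ Q : Place k K', IsOver Q P → 2 * P.deg ≤ ramIdx Q P * Q.deg := fun Q hQ =>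
    Nat.mul_le_mul (hterm Q hQ).1 (hterm Q hQ).2
  have hne : hfin.toFinset.Nonempty := by
    by_contra h
    rw [Finset.not_nonempty_iff_eq_empty] at h
    rw [h, Finset.sum_empty] at hsum
    omega
  obtain ⟨Q₀, hQ₀⟩ := hne
  have hQ₀' : IsOver Q₀ P := hfin.mem_toFinset.1 hQ₀
  have huniq : ∀ Q : Place k K', IsOver Q P → Q = Q₀ := by
    intro Q hQ
    by_contra hne
    have hQm : Q ∈ hfin.toFinset := hfin.mem_toFinset.2 hQ
    have hsub : ({Q, Q₀} : Finset (Place k K')) ⊆ hfin.toFinset := by
      intro R hR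
      rw [Finset.mem_insert, Finset.mem_singleton] at hR
      rcases hR with rfl | rfl
      · exact hQm
      · exact hQ₀
    have h1 := Finset.sum_le_sum_of_subset (f := fun Q => ramIdx Q P * Q.deg) hsub
    rw [Finset.sum_pair hne, hsum] at h1
    have h2 := hterm' Q hQ
    have h3 := hterm' Q₀ hQ₀'
    omega
  refine ⟨⟨Q₀, hQ₀', huniq⟩, fun Q hQ => ?_⟩
  have h1 : ramIdx Q P * Q.deg ≤ 2 * P.deg := by
    rw [← hsum]
    exact Finset.single_le_sum (f := fun Q => ramIdx Q P * Q.deg) (fun _ _ => Nat.zero_le _)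
      (hfin.mem_toFinset.2 hQ)
  obtain ⟨h2, h3⟩ := hterm Q hQ
  have h4 : Q.deg = P.deg := by
    by_contra hne
    have : P.deg + 1 ≤ Q.deg := by omega
    have : 2 * (P.deg + 1) ≤ ramIdx Q P * Q.deg := Nat.mul_le_mul h2 this
    omega
  have h5 : ramIdx Q P = 2 := by
    rw [h4] at h1
    have : ramIdx Q P ≤ 2 := Nat.le_of_mul_le_mul_right h1 hPpos
    omega
  refine ⟨?_, h4⟩
  rw [← h5]
  exact isOverWith_ramIdx hQ

omit [IsScalarTower k K K'] in
/-- A quadratic Kummer extension `α² = u` is unramified at places where `u` is a unit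
(`char ≠ 2`). -/
theorem unramified_of_sq_unit {Q : Place k K'} {P : Place k K} {e : ℕ} (he : IsOverWith Q P e)
    {α : K'} {u : K} (hu : P.1 u = 1) (hα : α ^ 2 = algebraMap K K' u) (hgen : K⟮α⟯ = ⊤)
    (h2 : (2 : k) ≠ 0) : e = 1 := by
  have he0 := isOverWith_ne_zero he
  have hα1 : Q.1 α ≤ 1 := by
    have h1 := congrArg Q.1 hα
    rw [map_pow, he, hu, one_pow] at h1
    exact ((pow_eq_one_iff_of_nonneg zero_le two_ne_zero).1 h1).le
  refine Groth.Agent.Lib.Helper63.UnramifiedFF.eq_one_of_squarefree he hgen hα1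
    (g := X ^ 2 - C (⟨u, hu.le⟩ : P.O)) ?_ ?_
  · rw [eval₂_sub, eval₂_pow, eval₂_X, eval₂_C, hα]
    exact sub_self _
  · rw [Polynomial.map_sub, Polynomial.map_pow, map_X, map_C]
    apply Separable.squarefree
    apply separable_X_pow_sub_C
    · have h3 : ((2 : ℕ) : ResidueField P.O) = algebraMap k (ResidueField P.O) 2 := by
        rw [map_ofNat]; rfl
      rw [h3, Ne, map_eq_zero_iff _ (algebraMap k (ResidueField P.O)).injective]
      exact h2
    · rw [Ne, residue_eq_zero_iff, Valuation.mem_maximalIdeal_iff]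
      change ¬ P.1 u < 1
      rw [hu]
      exact lt_irrefl _

omit [Algebra k K] [Algebra k K'] [IsScalarTower k K K'] in
/-- In an extension of prime degree, any element outside the base field generates. -/
theorem adjoin_eq_top_of_prime (hp : (Module.finrank K K').Prime) {α : K'}
    (hα : α ∉ Set.range (algebraMap K K')) : K⟮α⟯ = ⊤ := by
  haveI := IntermediateField.isSimpleOrder_of_finrank_prime K K' hp
  rcases eq_bot_or_eq_top K⟮α⟯ with h | h
  · exfalso
    apply hα
    have : α ∈ K⟮α⟯ := mem_adjoin_simple_self K α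
    rw [h, IntermediateField.mem_bot] at this
    exact this
  · exact h

end general

section hyper

variable {k K : Type*} [Field k] [Field K] [Algebra k K] [Algebra (RatFunc k) K]
  [IsScalarTower k (RatFunc k) K]

theorem finiteDimensional_of_finrank (hdeg : Module.finrank (RatFunc k) K = 2) :
    FiniteDimensional (RatFunc k) K :=
  Module.finite_of_finrank_pos (by rw [hdeg]; norm_num)

/-- If `v_P₀(f)^e = v_Q(y)^2` with `v_P₀(f) = exp (-1)` then `e` is even. -/
theorem even_of_sq {Q : Place k K} {P₀ : Place k (RatFunc k)} {e : ℕ}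
    (he : IsOverWith Q P₀ e) {y : K} {r : RatFunc k} (heq : y ^ 2 = algebraMap (RatFunc k) K r)
    {d : ℤ} (hd : Odd d) (hr : P₀.1 r = exp d) : Even e := by
  have h1 := congrArg Q.1 heq
  rw [map_pow, he, hr] at h1
  have hy0 : Q.1 y ≠ 0 := by
    intro h
    rw [h, zero_pow two_ne_zero] at h1
    exact pow_ne_zero _ exp_ne_zero h1.symm
  obtain ⟨m, hm⟩ : ∃ m : ℤ, Q.1 y = exp m := ⟨_, (exp_log hy0).symm⟩
  rw [hm, ← exp_nsmul, ← exp_nsmul, exp_inj] at h1
  simp only [nsmul_eq_mul] at h1
  have h2 : Even ((e : ℤ) * d) := ⟨m, by rw [← h1]; push_cast; ring⟩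
  rcases Int.even_mul.1 h2 with h | h
  · exact_mod_cast h
  · exact absurd h (Int.not_even_iff_odd.2 hd)

/-- S11034: places above an irreducible factor of `f`. -/
theorem finite_ramified (hdeg : Module.finrank (RatFunc k) K = 2) (y : K) (f : Polynomial k)
    (hf : Squarefree f)
    (heq : y ^ 2 = algebraMap (RatFunc k) K (algebraMap (Polynomial k) (RatFunc k) f))
    (p : Polynomial k) (hp : Irreducible p) (hpf : p ∣ f)
    (P₀ : FunFld.Place k (RatFunc k)) (hP₀ : P₀.1 (algebraMap (Polynomial k) (RatFunc k) p) < 1) :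
    (∃! P : FunFld.Place k K, FunFld.IsOver P P₀) ∧
    ∀ P : FunFld.Place k K, FunFld.IsOver P P₀ → FunFld.IsOverWith P P₀ 2 ∧ P.deg = P₀.deg := by
  haveI := finiteDimensional_of_finrank hdeg
  apply unique_of_even isFunctionField_ratFunc hdeg P₀
  intro Q e he
  exact even_of_sq he heq (d := -1) (by decide) (val_squarefree P₀ hp hf hpf hP₀)

omit [Algebra k K] [IsScalarTower k (RatFunc k) K] in
/-- `y` is not a rational function. -/
theorem not_mem_range {y : K} {f : Polynomial k} (hf : Squarefree f) (hd : 1 ≤ f.natDegree)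
    (heq : y ^ 2 = algebraMap (RatFunc k) K (algebraMap (Polynomial k) (RatFunc k) f)) :
    y ∉ Set.range (algebraMap (RatFunc k) K) := by
  rintro ⟨r, rfl⟩
  rw [← map_pow] at heq
  have hr := (algebraMap (RatFunc k) K).injective heq
  have hint : IsIntegral (Polynomial k) r := by
    refine ⟨X ^ 2 - C f, monic_X_pow_sub_C f two_ne_zero, ?_⟩
    rw [eval₂_sub, eval₂_pow, eval₂_X, eval₂_C, hr, sub_self]
  obtain ⟨a, rfl⟩ := IsIntegrallyClosed.isIntegral_iff.1 hint
  rw [← map_pow] at hr
  have ha := RatFunc.algebraMap_injective k hr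
  have hu : IsUnit a := hf a ⟨1, by rw [← ha]; ring⟩
  have hdeg : f.natDegree = 0 := by
    rw [← ha, natDegree_pow, natDegree_eq_zero_of_isUnit hu, mul_zero]
  omega

/-- A unit multiple of `y` generates `K`. -/
theorem adjoin_mul_eq_top (hdeg : Module.finrank (RatFunc k) K = 2) {y : K} {f : Polynomial k}
    (hf : Squarefree f) (hd : 1 ≤ f.natDegree)
    (heq : y ^ 2 = algebraMap (RatFunc k) K (algebraMap (Polynomial k) (RatFunc k) f))
    {c : RatFunc k} (hc : c ≠ 0) : (RatFunc k)⟮y * algebraMap (RatFunc k) K c⟯ = ⊤ := by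
  apply adjoin_eq_top_of_prime (by rw [hdeg]; exact Nat.prime_two)
  rintro ⟨r, hr⟩
  apply not_mem_range hf hd heq
  refine ⟨r / c, ?_⟩
  have hc' : algebraMap (RatFunc k) K c ≠ 0 := by
    rw [Ne, map_eq_zero_iff _ (algebraMap (RatFunc k) K).injective]; exact hc
  rw [map_div₀, hr, mul_div_assoc, div_self hc', mul_one]

theorem one_lt_of_ord_neg (P : Place k (RatFunc k)) (h : P.ord (RatFunc.X : RatFunc k) < 0) :
    1 < P.1 RatFunc.X := (ff_ord_neg_iff P RatFunc.X_ne_zero).1 h

/-- S12516: the infinite place in a hyperelliptic field. -/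
theorem infinite_place (h2 : ringChar k ≠ 2) (hdeg : Module.finrank (RatFunc k) K = 2) (y : K)
    (f : Polynomial k) (hf : Squarefree f) (hd : 1 ≤ f.natDegree)
    (heq : y ^ 2 = algebraMap (RatFunc k) K (algebraMap (Polynomial k) (RatFunc k) f))
    (Pinf : FunFld.Place k (RatFunc k)) (hinf : Pinf.ord (RatFunc.X : RatFunc k) < 0) :
    (Odd f.natDegree → (∃! P : FunFld.Place k K, FunFld.IsOver P Pinf) ∧
      ∀ P : FunFld.Place k K, FunFld.IsOver P Pinf → FunFld.IsOverWith P Pinf 2 ∧ P.deg = 1) ∧
    (Even f.natDegree → (FunFld.conorm K (Finsupp.single Pinf 1)).deg = 2 ∧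
      ∀ P : FunFld.Place k K, FunFld.IsOver P Pinf → FunFld.IsOverWith P Pinf 1) := by
  haveI := finiteDimensional_of_finrank (k := k) (K := K) hdeg
  have hX := one_lt_of_ord_neg Pinf hinf
  have hf0 : f ≠ 0 := by
    rintro rfl
    simp at hd
  have hvf := val_poly_inf' Pinf hX hf0
  have hdeg1 := deg_inf Pinf hX
  constructor
  · intro hodd
    have h := unique_of_even (K' := K) isFunctionField_ratFunc hdeg Pinf (fun Q e he =>
      even_of_sq he heq (d := (f.natDegree : ℤ)) (by exact_mod_cast hodd) hvf)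
    refine ⟨h.1, fun P hP => ?_⟩
    obtain ⟨h3, h4⟩ := h.2 P hP
    exact ⟨h3, by rw [h4, hdeg1]⟩
  · intro heven
    constructor
    · rw [conorm_eq_conormHom, deg_conormHom isFunctionField_ratFunc, hdeg, ff_deg_single, hdeg1]
      norm_num
    · intro P hP
      have he := isOverWith_ramIdx hP
      obtain ⟨m, hm⟩ := heven
      have hX0 : (RatFunc.X : RatFunc k) ≠ 0 := RatFunc.X_ne_zero
      have hXm : ((RatFunc.X : RatFunc k) ^ m)⁻¹ ≠ 0 := inv_ne_zero (pow_ne_zero _ hX0)
      set α := y * algebraMap (RatFunc k) K ((RatFunc.X ^ m)⁻¹) with hα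
      set u : RatFunc k := algebraMap (Polynomial k) (RatFunc k) f * ((RatFunc.X ^ m)⁻¹) ^ 2
        with hu
      have hαu : α ^ 2 = algebraMap (RatFunc k) K u := by
        rw [hα, mul_pow, heq, hu, map_mul, map_pow]
      have huv : Pinf.1 u = 1 := by
        rw [hu, map_mul, hvf, map_pow, map_inv₀, map_pow, val_X_inf Pinf hX, hm, ← exp_nsmul,
          ← exp_neg, ← exp_nsmul, ← exp_add, ← exp_zero]
        congr 1
        simp only [nsmul_eq_mul]
        push_cast
        ring
      have h1 := unramified_of_sq_unit he huv hαu (adjoin_mul_eq_top hdeg hf hd heq hXm)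
        (Ring.two_ne_zero h2)
      rw [← h1]
      exact he

omit [Algebra (RatFunc k) K] [Algebra k K] [IsScalarTower k (RatFunc k) K] in
/-- A polynomial of value `< 1` at a finite place has an irreducible factor of value `< 1`. -/
theorem exists_irreducible_factor_val_lt (P₀ : Place k (RatFunc k))
    (hX : P₀.1 RatFunc.X ≤ 1) (g : Polynomial k) (hg0 : g ≠ 0)
    (hg : P₀.1 (algebraMap (Polynomial k) (RatFunc k) g) < 1) :
    ∃ p : Polynomial k, Irreducible p ∧ p ∣ g ∧
      P₀.1 (algebraMap (Polynomial k) (RatFunc k) p) < 1 := by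
  induction g using WfDvdMonoid.induction_on_irreducible with
  | zero => exact absurd rfl hg0
  | unit u hu =>
    exfalso
    obtain ⟨c, hc, rfl⟩ := Polynomial.isUnit_iff.1 hu
    have : algebraMap (Polynomial k) (RatFunc k) (C c) = algebraMap k (RatFunc k) c := rfl
    rw [this, ff_val_const P₀ hc.ne_zero] at hg
    exact lt_irrefl _ hg
  | mul a i ha0 hi ih =>
    rw [map_mul, map_mul] at hg
    by_cases h1 : P₀.1 (algebraMap (Polynomial k) (RatFunc k) i) < 1
    · exact ⟨i, hi, dvd_mul_right _ _, h1⟩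
    · push Not at h1
      have h2 : P₀.1 (algebraMap (Polynomial k) (RatFunc k) i) = 1 :=
        le_antisymm (val_poly_le_one P₀ hX i) h1
      rw [h2, one_mul] at hg
      obtain ⟨p, hp, hpa, hpv⟩ := ih ha0 hg
      exact ⟨p, hp, hpa.mul_left _, hpv⟩

/-- S12535: the zeros of `y`. -/
theorem ord_y_pos_iff (hdeg : Module.finrank (RatFunc k) K = 2) (y : K)
    (f : Polynomial k) (hf : Squarefree f) (hd : 1 ≤ f.natDegree)
    (heq : y ^ 2 = algebraMap (RatFunc k) K (algebraMap (Polynomial k) (RatFunc k) f))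
    (P : FunFld.Place k K) :
    (0 < P.ord y → P.ord y = 1) ∧
    (0 < P.ord y ↔ ∃ P₀ : FunFld.Place k (RatFunc k), FunFld.IsOver P P₀ ∧
      0 ≤ P₀.ord (RatFunc.X : RatFunc k) ∧
      0 < P₀.ord (algebraMap (Polynomial k) (RatFunc k) f)) := by
  haveI := finiteDimensional_of_finrank (k := k) (K := K) hdeg
  have hf0 : f ≠ 0 := by
    rintro rfl
    simp at hd
  have hf0' : algebraMap (Polynomial k) (RatFunc k) f ≠ 0 := by
    rw [Ne, map_eq_zero_iff _ (RatFunc.algebraMap_injective k)]; exact hf0
  have hordy : ∀ {P₀ : Place k (RatFunc k)} {e : ℕ}, IsOverWith P P₀ e →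
      2 * P.ord y = e * P₀.ord (algebraMap (Polynomial k) (RatFunc k) f) := by
    intro P₀ e he
    rw [← ord_algebraMap he, ← heq]
    unfold Place.ord
    rw [map_pow, log_pow]
    simp
  have key : ∀ {P₀ : Place k (RatFunc k)} {e : ℕ}, IsOverWith P P₀ e → 0 < P.ord y →
      0 ≤ P₀.ord (RatFunc.X : RatFunc k) ∧
      0 < P₀.ord (algebraMap (Polynomial k) (RatFunc k) f) ∧ P.ord y = 1 := by
    intro P₀ e he hpos
    have h1 := hordy he
    have he0 : 0 < e := Nat.pos_of_ne_zero (isOverWith_ne_zero he)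
    have h2 : 0 < P₀.ord (algebraMap (Polynomial k) (RatFunc k) f) := by
      by_contra h
      push Not at h
      have : (e : ℤ) * P₀.ord (algebraMap (Polynomial k) (RatFunc k) f) ≤ 0 :=
        mul_nonpos_of_nonneg_of_nonpos (by positivity) h
      omega
    have h3 := (ff_ord_pos_iff P₀ hf0').1 h2
    have hX := val_X_le_one_of_poly P₀ hf0 h3
    refine ⟨(ff_ord_nonneg_iff P₀ RatFunc.X_ne_zero).2 hX, h2, ?_⟩
    obtain ⟨p, hp, hpf, hpv⟩ := exists_irreducible_factor_val_lt P₀ hX f hf0 h3
    have h4 := (finite_ramified hdeg y f hf heq p hp hpf P₀ hpv).2 P ⟨e, he⟩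
    have h5 := hordy h4.1
    have h6 : P₀.ord (algebraMap (Polynomial k) (RatFunc k) f) = 1 := by
      unfold Place.ord
      rw [val_squarefree P₀ hp hf hpf hpv, log_exp]
      simp
    rw [h6] at h5
    push_cast at h5
    omega
  obtain ⟨P₀, hP₀⟩ := exists_isOver_below (K := RatFunc k) P
  have he := isOverWith_ramIdx hP₀
  refine ⟨fun hpos => (key he hpos).2.2, ⟨fun hpos => ⟨P₀, hP₀, (key he hpos).1, (key he hpos).2.1⟩,
    ?_⟩⟩
  rintro ⟨P₀', ⟨e', he'⟩, -, h2⟩
  have h1 := hordy he'
  have he0 : 0 < e' := Nat.pos_of_ne_zero (isOverWith_ne_zero he')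
  have : 0 < (e' : ℤ) * P₀'.ord (algebraMap (Polynomial k) (RatFunc k) f) :=
    mul_pos (by exact_mod_cast he0) h2
  omega

omit [Algebra (RatFunc k) K] [IsScalarTower k (RatFunc k) K] in
/-- The two descriptions of the map `k(X) → K`, `X ↦ x`. -/
theorem algEquiv_coe_eq [Algebra (RatFunc k) K] [IsScalarTower k (RatFunc k) K] {x : K}
    (hx : Transcendental k x) (hX : algebraMap (RatFunc k) K RatFunc.X = x) (r : RatFunc k) :
    ((RatFunc.algEquivOfTranscendental x hx r : k⟮x⟯) : K) = algebraMap (RatFunc k) K r := by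
  have hpoly : ∀ g : Polynomial k,
      algebraMap (RatFunc k) K (algebraMap (Polynomial k) (RatFunc k) g) = aeval x g := by
    intro g
    have h1 : ((IsScalarTower.toAlgHom k (RatFunc k) K).comp
        (IsScalarTower.toAlgHom k (Polynomial k) (RatFunc k))) = aeval x := by
      apply Polynomial.algHom_ext
      simp only [AlgHom.coe_comp, Function.comp_apply, IsScalarTower.coe_toAlgHom', aeval_X]
      rw [RatFunc.algebraMap_X, hX]
    exact DFunLike.congr_fun h1 g
  rw [RatFunc.algEquivOfTranscendental_apply]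
  conv_rhs => rw [← RatFunc.num_div_denom r, map_div₀, hpoly, hpoly]

omit [IsScalarTower k (RatFunc k) K] in
/-- Linear independence over `k(x)` transfers to `RatFunc k`. -/
theorem linearIndependent_ratFunc [IsScalarTower k (RatFunc k) K] {x : K}
    (hx : Transcendental k x) (hX : algebraMap (RatFunc k) K RatFunc.X = x) {ι : Type*}
    {v : ι → K} (hv : LinearIndependent k⟮x⟯ v) : LinearIndependent (RatFunc k) v := by
  rw [linearIndependent_iff'] at hv ⊢
  intro s g hg i hi
  have h1 := hv s (fun i => RatFunc.algEquivOfTranscendental x hx (g i)) (by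
    rw [← hg]
    refine Finset.sum_congr rfl fun i _ => ?_
    rw [Algebra.smul_def, Algebra.smul_def]
    congr 1
    exact algEquiv_coe_eq hx hX (g i)) i hi
  exact (map_eq_zero_iff _ (RatFunc.algEquivOfTranscendental x hx).injective).1 h1

/-- `k` is algebraically closed in a hyperelliptic field. -/
theorem mem_range_of_isAlgebraic (h2 : ringChar k ≠ 2) (hdeg : Module.finrank (RatFunc k) K = 2)
    (y : K) (f : Polynomial k) (hf : Squarefree f) (hd : 1 ≤ f.natDegree)
    (heq : y ^ 2 = algebraMap (RatFunc k) K (algebraMap (Polynomial k) (RatFunc k) f))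
    (z : K) (hz : IsAlgebraic k z) : z ∈ Set.range (algebraMap k K) := by
  classical
  by_contra hzk
  haveI := finiteDimensional_of_finrank (k := k) (K := K) hdeg
  -- `z` is not in `k(x)`
  have hzF : z ∉ Set.range (algebraMap (RatFunc k) K) := by
    rintro ⟨r, rfl⟩
    have hr : IsAlgebraic k r :=
      (isAlgebraic_algHom_iff (IsScalarTower.toAlgHom k (RatFunc k) K)
        (algebraMap (RatFunc k) K).injective).1 hz
    obtain ⟨c, hc⟩ := (isFunctionField_ratFunc (k := k)).2 r hr
    exact hzk ⟨c, by rw [← hc, ← IsScalarTower.algebraMap_apply]⟩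
  have hgen := adjoin_eq_top_of_prime (by rw [hdeg]; exact Nat.prime_two) hzF
  have hint : IsIntegral k z := hz.isIntegral
  set g₀ := minpoly k z with hg₀
  have h2le : 2 ≤ g₀.natDegree := (minpoly.two_le_natDegree_iff hint).2 (by
    intro h; exact hzk (RingHom.mem_range.1 h))
  -- linear disjointness gives `deg g₀ ≤ 2`
  set x : K := algebraMap (RatFunc k) K RatFunc.X with hxdef
  have hx : Transcendental k x := by
    have h1 : Transcendental k (RatFunc.X : RatFunc k) := by
      obtain ⟨⟨x₀, hx₀, -⟩, halg⟩ := isFunctionField_ratFunc (k := k)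
      intro hX
      obtain ⟨c, hc⟩ := halg _ hX
      have := congrArg RatFunc.num hc
      rw [RatFunc.num_X] at this
      have h3 : (algebraMap k (RatFunc k) c).num = C c := RatFunc.num_C c
      rw [h3] at this
      have h4 := congrArg Polynomial.natDegree this
      rw [natDegree_X, natDegree_C] at h4
      exact one_ne_zero h4.symm
    exact (transcendental_algebraMap_iff (algebraMap (RatFunc k) K).injective).2 h1
  have hle2 : g₀.natDegree ≤ 2 := by
    haveI : Algebra.IsAlgebraic k k⟮z⟯ := IntermediateField.isAlgebraic_adjoin_simple hint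
    have hx' : Transcendental k⟮z⟯ x := by
      rw [← Algebra.IsAlgebraic.transcendental_iff (R := k)]
      exact hx
    have hli := Groth.Agent.Lib.Helper63.ConstField.linearIndependent_adjoin_of_transcendental
      (k' := k⟮z⟯) hx' _ (IntermediateField.adjoin.powerBasis hint).basis.linearIndependent
    have hli' := linearIndependent_ratFunc hx rfl hli
    have := hli'.fintype_card_le_finrank
    rw [hdeg, Fintype.card_fin, IntermediateField.adjoin.powerBasis_dim] at this
    exact this
  have hm : g₀.natDegree = 2 := le_antisymm hle2 h2le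
  have hirr : Irreducible g₀ := minpoly.irreducible hint
  have hsep : g₀.Separable := by
    rw [separable_iff_derivative_ne_zero hirr]
    intro h
    have h1 := congrArg (fun q => q.coeff 1) h
    simp only [coeff_derivative, coeff_zero] at h1
    have h3 : g₀.coeff 2 = 1 := by
      have := (minpoly.monic hint).coeff_natDegree
      rwa [hm] at this
    rw [show (1 : ℕ) + 1 = 2 from rfl, h3, one_mul] at h1
    have h4 : (2 : k) ≠ 0 := Ring.two_ne_zero h2
    apply h4
    exact_mod_cast h1
  -- a ramified place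
  obtain ⟨p, hp, hpf⟩ := exists_irreducible_of_natDegree_pos (f := f) (by omega)
  have hptr : Transcendental k (algebraMap (Polynomial k) (RatFunc k) p) := by
    apply RatFunc.transcendental_of_ne_C
    rintro ⟨c, hc⟩
    have h1 : p = C c := RatFunc.algebraMap_injective k hc
    rw [h1] at hp
    by_cases hc0 : c = 0
    · rw [hc0, map_zero] at hp
      exact not_irreducible_zero hp
    · exact hp.not_isUnit (isUnit_C.2 (IsUnit.mk0 c hc0))
  obtain ⟨P₀, hP₀⟩ := ff_exists_zero isFunctionField_ratFunc hptr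
  obtain ⟨⟨P, hP, -⟩, hall⟩ := finite_ramified hdeg y f hf heq p hp hpf P₀ hP₀
  have he2 := (hall P hP).1
  have hα : P.1 z ≤ 1 := val_le_one_of_isIntegral P.1 P.2.1 hint
  have h21 : 2 = 1 := by
    refine Groth.Agent.Lib.Helper63.UnramifiedFF.eq_one_of_squarefree he2 hgen hα
      (g := g₀.map (algebraMap k P₀.O)) ?_ ?_
    · rw [eval₂_map]
      have : ((algebraMap (RatFunc k) K).comp P₀.O.subtype).comp (algebraMap k P₀.O) =
          algebraMap k K := by
        ext c
        exact (IsScalarTower.algebraMap_apply k (RatFunc k) K c).symm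
      rw [this, ← aeval_def, hg₀, minpoly.aeval]
    · rw [Polynomial.map_map]
      exact (hsep.map).squarefree
  omega

end hyper

section fromGenerators

variable {k K : Type*} [Field k] [Field K] [Algebra k K]

/-- Version of S11019 with a given `RatFunc k`-algebra structure. -/
theorem isFunctionField_of_generators' [Algebra (RatFunc k) K] [IsScalarTower k (RatFunc k) K]
    (h2 : ringChar k ≠ 2) (x y : K) (hx : Transcendental k x)
    (hX : algebraMap (RatFunc k) K RatFunc.X = x)
    (hxy : IntermediateField.adjoin k ({x, y} : Set K) = ⊤)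
    (f : Polynomial k) (hf : Squarefree f) (hd : 1 ≤ f.natDegree)
    (heq : y ^ 2 = Polynomial.aeval x f) : FunFld.IsFunctionField k K := by
  classical
  have hpoly : ∀ g : Polynomial k,
      algebraMap (RatFunc k) K (algebraMap (Polynomial k) (RatFunc k) g) = aeval x g := by
    intro g
    have h1 : ((IsScalarTower.toAlgHom k (RatFunc k) K).comp
        (IsScalarTower.toAlgHom k (Polynomial k) (RatFunc k))) = aeval x := by
      apply Polynomial.algHom_ext
      simp only [AlgHom.coe_comp, Function.comp_apply, IsScalarTower.coe_toAlgHom', aeval_X]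
      rw [RatFunc.algebraMap_X, hX]
    exact DFunLike.congr_fun h1 g
  have heq' : y ^ 2 = algebraMap (RatFunc k) K (algebraMap (Polynomial k) (RatFunc k) f) := by
    rw [hpoly, heq]
  have hynot := not_mem_range hf hd heq'
  -- `K = k(x)(y)`
  have htop : (RatFunc k)⟮y⟯ = ⊤ := by
    rw [← IntermediateField.restrictScalars_eq_top_iff (K := k), eq_top_iff, ← hxy,
      IntermediateField.adjoin_le_iff]
    intro w hw
    rcases hw with rfl | hw
    · change w ∈ (RatFunc k)⟮y⟯
      rw [← hX]
      exact (RatFunc k)⟮y⟯.algebraMap_mem _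
    · rw [Set.mem_singleton_iff] at hw
      subst hw
      change w ∈ (RatFunc k)⟮w⟯
      exact mem_adjoin_simple_self (RatFunc k) w
  have hint : IsIntegral (RatFunc k) y := by
    refine ⟨X ^ 2 - C (algebraMap (Polynomial k) (RatFunc k) f),
      monic_X_pow_sub_C _ two_ne_zero, ?_⟩
    rw [eval₂_sub, eval₂_pow, eval₂_X, eval₂_C, heq', sub_self]
  have hdeg : Module.finrank (RatFunc k) K = 2 := by
    rw [← IntermediateField.finrank_top', ← htop, IntermediateField.adjoin.finrank hint]
    apply le_antisymm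
    · have hdvd : minpoly (RatFunc k) y ∣ X ^ 2 - C (algebraMap (Polynomial k) (RatFunc k) f) := by
        apply minpoly.dvd
        rw [map_sub, map_pow, aeval_X, aeval_C, heq', sub_self]
      have := natDegree_le_of_dvd hdvd (monic_X_pow_sub_C _ two_ne_zero).ne_zero
      rwa [natDegree_X_pow_sub_C] at this
    · exact (minpoly.two_le_natDegree_iff hint).2 (fun h => hynot (RingHom.mem_range.1 h))
  haveI := finiteDimensional_of_finrank (k := k) (K := K) hdeg
  refine ⟨⟨x, hx, ?_⟩, fun z hz => mem_range_of_isAlgebraic h2 hdeg y f hf hd heq' z hz⟩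
  exact Module.Finite.of_equiv_equiv (A₁ := RatFunc k) (B₁ := K) (A₂ := k⟮x⟯) (B₂ := K)
    (RatFunc.algEquivOfTranscendental x hx).toRingEquiv (RingEquiv.refl K) (by
      ext r
      exact algEquiv_coe_eq hx hX r)

/-- S11019: a hyperelliptic field `k(x, y)`, `y² = f(x)`, is a function field of one variable
with constant field `k`. -/
theorem isFunctionField_of_generators (h2 : ringChar k ≠ 2) (x y : K) (hx : Transcendental k x)
    (hxy : IntermediateField.adjoin k ({x, y} : Set K) = ⊤)
    (f : Polynomial k) (hf : Squarefree f) (hd : 1 ≤ f.natDegree)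
    (heq : y ^ 2 = Polynomial.aeval x f) : FunFld.IsFunctionField k K := by
  let ψ : RatFunc k →ₐ[k] K :=
    (k⟮x⟯.val).comp (RatFunc.algEquivOfTranscendental x hx).toAlgHom
  letI : Algebra (RatFunc k) K := ψ.toRingHom.toAlgebra
  haveI : IsScalarTower k (RatFunc k) K :=
    IsScalarTower.of_algebraMap_eq (fun c => (ψ.commutes c).symm)
  have hX : algebraMap (RatFunc k) K RatFunc.X = x := by
    change ((RatFunc.algEquivOfTranscendental x hx RatFunc.X : k⟮x⟯) : K) = x
    rw [RatFunc.algEquivOfTranscendental_X]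
  exact isFunctionField_of_generators' h2 x y hx hX hxy f hf hd heq

end fromGenerators

end Groth.Agent.Lib.Helper63.Hyperelliptic
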