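import Groth.Agent.Lib.Helper63.RatFuncPlaces
import Groth.Agent.Lib.Helper63.Hyperelliptic
import Groth.Agent.Lib.Helper63.FiniteRamified
import Groth.Agent.Lib.Helper55.FunFld.Residue

/-! Artin-Schreier normal form in characteristic two over a perfect field (helper63). -/

set_option autoImplicit false
set_option linter.style.haveILetI false
set_option linter.unusedSectionVars false

namespace Groth.Agent.Lib.Helper63.ASNormal

open FunFld WithZero IsLocalRing Polynomial
open Groth.Agent.Lib.Helper55 Groth.Agent.Lib.Helper63.RatFuncPlaces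

section general

variable {k K : Type*} [Field k] [Field K] [Algebra k K]

/-- Over a perfect field of characteristic two, units of `O_P` are squares modulo the maximal
ideal. -/
theorem exists_sq_sub_lt [PerfectField k] [CharP k 2] (hK : IsFunctionField k K) (P : Place k K)
    (u : K) (hu : P.1 u ≤ 1) : ∃ w : K, P.1 w ≤ 1 ∧ P.1 (u - w ^ 2) < 1 := by
  haveI : @Module.Finite k (ResidueField P.O) _ _ (@Algebra.toModule _ _ _ _ (Place.algRes P)) :=
    ff_finiteDimensional_residueField hK P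
  haveI : Algebra.IsAlgebraic k (ResidueField P.O) := Algebra.IsAlgebraic.of_finite _ _
  haveI : PerfectField (ResidueField P.O) := Algebra.IsAlgebraic.perfectField (K := k)
  haveI : CharP (ResidueField P.O) 2 :=
    charP_of_injective_algebraMap (algebraMap k (ResidueField P.O)).injective 2
  haveI : PerfectRing (ResidueField P.O) 2 := PerfectField.toPerfectRing 2
  obtain ⟨a, ha⟩ := surjective_frobenius (ResidueField P.O) 2 (residue P.O ⟨u, hu⟩)
  obtain ⟨w, rfl⟩ := residue_surjective a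
  refine ⟨w.1, w.2, ?_⟩
  rw [frobenius_def, ← map_pow, eq_comm, ← sub_eq_zero, ← map_sub, residue_eq_zero_iff,
    Valuation.mem_maximalIdeal_iff] at ha
  exact ha

end general

section ratfunc

variable {k : Type*} [Field k]

local notation "ι" => algebraMap k[X] (RatFunc k)

/-- The value of a rational function at the infinite place. -/
theorem val_inf (P : Place k (RatFunc k)) (hX : 1 < P.1 RatFunc.X) {r : RatFunc k} (hr : r ≠ 0) :
    P.1 r = exp ((r.num.natDegree : ℤ) - r.denom.natDegree) := by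
  conv_lhs => rw [← RatFunc.num_div_denom r]
  rw [map_div₀, val_poly_inf' P hX (RatFunc.num_ne_zero hr),
    val_poly_inf' P hX (RatFunc.denom_ne_zero r), ← exp_sub]

theorem mul_denom (r : RatFunc k) : r * ι r.denom = ι r.num := by
  have hd0 : ι r.denom ≠ 0 := by
    rw [Ne, map_eq_zero_iff _ (RatFunc.algebraMap_injective k)]
    exact RatFunc.denom_ne_zero r
  conv_lhs => rw [← RatFunc.num_div_denom r]
  have : (ι r.num / ι r.denom).denom = r.denom := by rw [RatFunc.num_div_denom r]
  rw [this, div_mul_cancel₀ _ hd0]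

/-- The infinite place is unique. -/
theorem place_eq_of_inf (P P' : Place k (RatFunc k)) (hX : 1 < P.1 RatFunc.X)
    (hX' : 1 < P'.1 RatFunc.X) : P' = P := by
  apply Subtype.ext
  ext r
  by_cases hr : r = 0
  · rw [hr, map_zero, map_zero]
  · rw [val_inf P hX hr, val_inf P' hX' hr]

/-- If `p` is irreducible of value `< 1` at `P` then the denominator of an element of `O_P` is
prime to `p`. -/
theorem not_dvd_denom (P : Place k (RatFunc k)) {p : k[X]} (hp : Irreducible p)
    (hpv : P.1 (ι p) < 1) {r : RatFunc k} (hr : P.1 r ≤ 1) : ¬ p ∣ r.denom := by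
  intro hdvd
  have hX := val_X_le_one_of_poly P hp.ne_zero hpv
  by_cases hr0 : r = 0
  · rw [hr0, RatFunc.denom_zero] at hdvd
    exact hp.not_isUnit (isUnit_of_dvd_one hdvd)
  have hnum : ¬ p ∣ r.num := by
    intro h2
    exact hp.not_isUnit ((RatFunc.isCoprime_num_denom r).isUnit_of_dvd' h2 hdvd)
  have h1 : P.1 (ι r.num) = 1 :=
    val_poly_eq_one_of_isCoprime P hp.ne_zero hpv ((hp.coprime_iff_not_dvd).2 hnum)
  have h2 : P.1 (ι r.denom) < 1 := by
    obtain ⟨q, hq⟩ := hdvd
    rw [hq, map_mul, map_mul]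
    calc P.1 (ι p) * P.1 (ι q) ≤ P.1 (ι p) * 1 := mul_le_mul' le_rfl (val_poly_le_one P hX q)
      _ = P.1 (ι p) := mul_one _
      _ < 1 := hpv
  have h3 : P.1 r * P.1 (ι r.denom) = 1 := by
    rw [← map_mul, mul_denom, h1]
  have h4 : P.1 r * P.1 (ι r.denom) < 1 := by
    calc P.1 r * P.1 (ι r.denom) ≤ 1 * P.1 (ι r.denom) := mul_le_mul' hr le_rfl
      _ = P.1 (ι r.denom) := one_mul _
      _ < 1 := h2
  rw [h3] at h4
  exact lt_irrefl _ h4

/-- A finite place is determined by its irreducible polynomial. -/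
theorem place_eq_of_irreducible (P P' : Place k (RatFunc k)) {p : k[X]} (hp : Irreducible p)
    (hpv : P.1 (ι p) < 1) (hpv' : P'.1 (ι p) < 1) : P' = P := by
  symm
  apply ff_place_eq_of_O_le
  intro r hr
  have hr' : P.1 r ≤ 1 := hr
  show P'.1 r ≤ 1
  have hX' := val_X_le_one_of_poly P' hp.ne_zero hpv'
  have hnd := not_dvd_denom P hp hpv hr'
  have h1 : P'.1 (ι r.denom) = 1 :=
    val_poly_eq_one_of_isCoprime P' hp.ne_zero hpv' ((hp.coprime_iff_not_dvd).2 hnd)
  conv_lhs => rw [← RatFunc.num_div_denom r]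
  rw [map_div₀, h1, div_one]
  exact val_poly_le_one P' hX' _

/-- Elements of `O_P` at a finite place are congruent to polynomials of small degree. -/
theorem exists_poly_rep (P : Place k (RatFunc k)) {p : k[X]} (hp : Irreducible p)
    (hpv : P.1 (ι p) < 1) {w : RatFunc k} (hw : P.1 w ≤ 1) :
    ∃ c : k[X], (c = 0 ∨ c.natDegree < p.natDegree) ∧ P.1 (w - ι c) < 1 := by
  have hX := val_X_le_one_of_poly P hp.ne_zero hpv
  have hnd := not_dvd_denom P hp hpv hw
  have hcop : IsCoprime p w.denom := (hp.coprime_iff_not_dvd).2 hnd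
  obtain ⟨s, t, hst⟩ := hcop
  have hd1 : P.1 (ι w.denom) = 1 := val_poly_eq_one_of_isCoprime P hp.ne_zero hpv ⟨s, t, hst⟩
  have hd0 : ι w.denom ≠ 0 := by
    rw [Ne, map_eq_zero_iff _ (RatFunc.algebraMap_injective k)]
    exact RatFunc.denom_ne_zero w
  set c₀ := w.num * t with hc₀
  have h1 : w - ι c₀ = ι (w.num * s) * ι p / ι w.denom := by
    rw [eq_div_iff hd0, sub_mul, mul_denom, ← map_mul, ← map_mul, ← map_sub, hc₀]
    congr 1
    linear_combination (-w.num) * hst
  have h2 : P.1 (w - ι c₀) < 1 := by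
    rw [h1, map_div₀, hd1, div_one, map_mul]
    calc P.1 (ι (w.num * s)) * P.1 (ι p) ≤ 1 * P.1 (ι p) :=
          mul_le_mul' (val_poly_le_one P hX _) le_rfl
      _ = P.1 (ι p) := one_mul _
      _ < 1 := hpv
  refine ⟨c₀ % p, ?_, ?_⟩
  · by_cases h0 : c₀ % p = 0
    · exact Or.inl h0
    · right
      exact Polynomial.natDegree_lt_natDegree h0 (EuclideanDomain.mod_lt c₀ hp.ne_zero)
  · have h3 : w - ι (c₀ % p) = (w - ι c₀) + ι p * ι (c₀ / p) := by
      rw [← map_mul, sub_add, ← map_sub]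
      congr 2
      have := EuclideanDomain.div_add_mod c₀ p
      linear_combination this
    rw [h3]
    refine lt_of_le_of_lt (P.1.map_add _ _) (max_lt h2 ?_)
    rw [map_mul]
    calc P.1 (ι p) * P.1 (ι (c₀ / p)) ≤ P.1 (ι p) * 1 :=
          mul_le_mul' le_rfl (val_poly_le_one P hX _)
      _ = P.1 (ι p) := mul_one _
      _ < 1 := hpv

/-- At the infinite place elements of `O_P` are congruent to constants. -/
theorem exists_const_rep_inf (P : Place k (RatFunc k)) (hX : 1 < P.1 RatFunc.X)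
    {w : RatFunc k} (hw : P.1 w ≤ 1) : ∃ c : k, P.1 (w - algebraMap k (RatFunc k) c) < 1 := by
  have hdeg : Module.finrank k (ResidueField P.O) = 1 := deg_inf P hX
  rw [finrank_eq_one_iff_of_nonzero' (1 : ResidueField P.O) one_ne_zero] at hdeg
  obtain ⟨c, hc⟩ := hdeg (residue P.O ⟨w, hw⟩)
  refine ⟨c, ?_⟩
  have h1 : c • (1 : ResidueField P.O) = residue P.O ⟨algebraMap k (RatFunc k) c, P.2.1 c⟩ := by
    rw [← map_one (residue P.O), ff_residue_smul, mul_one]
  have h2 : residue P.O ⟨w, hw⟩ = residue P.O ⟨algebraMap k (RatFunc k) c, P.2.1 c⟩ :=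
    hc.symm.trans h1
  rw [← sub_eq_zero, ← map_sub, residue_eq_zero_iff, Valuation.mem_maximalIdeal_iff] at h2
  exact h2

end ratfunc

section step

variable {k : Type*} [Field k] [PerfectField k] [CharP k 2]

local notation "ι" => algebraMap k[X] (RatFunc k)

instance : CharP (RatFunc k) 2 :=
  charP_of_injective_algebraMap (algebraMap k (RatFunc k)).injective 2

theorem val_add_sq_add_lt (P : Place k (RatFunc k)) {f π c : RatFunc k} {m : ℕ} (hm : 1 ≤ m)
    (hπ : P.1 π = exp (-1)) (hf : P.1 f = exp (2 * (m : ℤ))) (hc : P.1 c ≤ 1)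
    (hu : P.1 (f * π ^ (2 * m) - c ^ 2) < 1) :
    P.1 (f + (c / π ^ m) ^ 2 + c / π ^ m) < P.1 f := by
  have hπ0 : π ≠ 0 := by
    intro h
    rw [h, map_zero] at hπ
    exact exp_ne_zero hπ.symm
  have h1 : f + (c / π ^ m) ^ 2 = (f * π ^ (2 * m) - c ^ 2) / π ^ (2 * m) := by
    rw [CharTwo.sub_eq_add, div_pow, ← pow_mul, mul_comm m 2]
    field_simp
  have hpm : ∀ n : ℕ, P.1 (π ^ n) = exp (-(n : ℤ)) := by
    intro n
    rw [map_pow, hπ, ← exp_nsmul, nsmul_eq_mul, mul_neg, mul_one]
  refine lt_of_le_of_lt (P.1.map_add _ _) (max_lt ?_ ?_)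
  · rw [h1, map_div₀, hpm, hf, div_lt_iff₀ exp_pos]
    calc P.1 (f * π ^ (2 * m) - c ^ 2) < 1 := hu
      _ = exp (2 * (m : ℤ)) * exp (-((2 * m : ℕ) : ℤ)) := by
        rw [← exp_add, ← exp_zero]
        congr 1
        push_cast
        ring
  · rw [map_div₀, hpm, hf, div_lt_iff₀ exp_pos, ← exp_add]
    refine lt_of_le_of_lt hc ?_
    rw [← exp_zero, exp_lt_exp]
    omega

theorem step_finite (P : Place k (RatFunc k)) (hX : P.1 RatFunc.X ≤ 1) {f : RatFunc k} {m : ℕ}
    (hm : 1 ≤ m) (hf : P.1 f = exp (2 * (m : ℤ))) :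
    ∃ g : RatFunc k, P.1 (f + g ^ 2 + g) < P.1 f ∧
      ∀ P' : Place k (RatFunc k), P' ≠ P → P'.1 g ≤ 1 := by
  obtain ⟨r, hr⟩ := P.2.2 (exp (-1))
  have hr0 : r ≠ 0 := by
    intro h
    rw [h, map_zero] at hr
    exact exp_ne_zero hr.symm
  have hnum0 : r.num ≠ 0 := RatFunc.num_ne_zero hr0
  have hlt : P.1 (ι r.num) < 1 := by
    rw [← mul_denom, map_mul, hr]
    calc exp (-1) * P.1 (ι r.denom) ≤ exp (-1) * 1 := mul_le_mul' le_rfl (val_poly_le_one P hX _)
      _ = exp (-1) := mul_one _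
      _ < 1 := by rw [← exp_zero, exp_lt_exp]; omega
  obtain ⟨p, hp, -, hpv⟩ :=
    Groth.Agent.Lib.Helper63.Hyperelliptic.exists_irreducible_factor_val_lt P hX r.num hnum0 hlt
  have hπ := val_irreducible P hp hpv
  set u := f * (ι p) ^ (2 * m) with hu
  have hu1 : P.1 u = 1 := by
    rw [hu, map_mul, map_pow, hπ, hf, ← exp_nsmul, ← exp_add, ← exp_zero]
    congr 1
    rw [nsmul_eq_mul]
    push_cast
    ring
  obtain ⟨w, hw1, hw2⟩ := exists_sq_sub_lt isFunctionField_ratFunc P u hu1.le
  obtain ⟨c, hcdeg, hc⟩ := exists_poly_rep P hp hpv hw1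
  have hc1 : P.1 (ι c) ≤ 1 := val_poly_le_one P hX c
  have huc : P.1 (u - (ι c) ^ 2) < 1 := by
    have : u - (ι c) ^ 2 = (u - w ^ 2) + (w - ι c) * (w + ι c) := by ring
    rw [this]
    refine lt_of_le_of_lt (P.1.map_add _ _) (max_lt hw2 ?_)
    rw [map_mul]
    calc P.1 (w - ι c) * P.1 (w + ι c) ≤ P.1 (w - ι c) * 1 :=
          mul_le_mul' le_rfl (le_trans (P.1.map_add _ _) (max_le hw1 hc1))
      _ = P.1 (w - ι c) := mul_one _
      _ < 1 := hc
  refine ⟨ι c / (ι p) ^ m, val_add_sq_add_lt P hm hπ hf hc1 huc, ?_⟩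
  intro P' hne
  by_cases hX' : P'.1 RatFunc.X ≤ 1
  · have hp1 : P'.1 (ι p) = 1 := by
      refine le_antisymm (val_poly_le_one P' hX' p) ?_
      by_contra hlt'
      exact hne (place_eq_of_irreducible P P' hp hpv (not_le.1 hlt'))
    rw [map_div₀, map_pow, hp1, one_pow, div_one]
    exact val_poly_le_one P' hX' c
  · push Not at hX'
    by_cases hc0 : c = 0
    · rw [hc0]
      simp
    · have hlt' := hcdeg.resolve_left hc0
      rw [map_div₀, map_pow, val_poly_inf' P' hX' hc0, val_poly_inf' P' hX' hp.ne_zero,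
        ← exp_nsmul, div_le_iff₀ exp_pos, one_mul, exp_le_exp, nsmul_eq_mul]
      have : (c.natDegree : ℤ) < p.natDegree := by exact_mod_cast hlt'
      have hm' : (1 : ℤ) ≤ m := by exact_mod_cast hm
      nlinarith

theorem step_inf (P : Place k (RatFunc k)) (hX : 1 < P.1 RatFunc.X) {f : RatFunc k} {m : ℕ}
    (hm : 1 ≤ m) (hf : P.1 f = exp (2 * (m : ℤ))) :
    ∃ g : RatFunc k, P.1 (f + g ^ 2 + g) < P.1 f ∧
      ∀ P' : Place k (RatFunc k), P' ≠ P → P'.1 g ≤ 1 := by
  have hπ : P.1 (RatFunc.X : RatFunc k)⁻¹ = exp (-1) := by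
    rw [map_inv₀, val_X_inf P hX, exp_neg]
  set u := f * ((RatFunc.X : RatFunc k)⁻¹) ^ (2 * m) with hu
  have hu1 : P.1 u = 1 := by
    rw [hu, map_mul, map_pow, hπ, hf, ← exp_nsmul, ← exp_add, ← exp_zero]
    congr 1
    rw [nsmul_eq_mul]
    push_cast
    ring
  obtain ⟨w, hw1, hw2⟩ := exists_sq_sub_lt isFunctionField_ratFunc P u hu1.le
  obtain ⟨c, hc⟩ := exists_const_rep_inf P hX hw1
  have hc1 : P.1 (algebraMap k (RatFunc k) c) ≤ 1 := P.2.1 c
  have huc : P.1 (u - (algebraMap k (RatFunc k) c) ^ 2) < 1 := by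
    have : u - (algebraMap k (RatFunc k) c) ^ 2 =
        (u - w ^ 2) + (w - algebraMap k (RatFunc k) c) * (w + algebraMap k (RatFunc k) c) := by ring
    rw [this]
    refine lt_of_le_of_lt (P.1.map_add _ _) (max_lt hw2 ?_)
    rw [map_mul]
    calc P.1 (w - algebraMap k (RatFunc k) c) * P.1 (w + algebraMap k (RatFunc k) c)
        ≤ P.1 (w - algebraMap k (RatFunc k) c) * 1 :=
          mul_le_mul' le_rfl (le_trans (P.1.map_add _ _) (max_le hw1 hc1))
      _ = P.1 (w - algebraMap k (RatFunc k) c) := mul_one _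
      _ < 1 := hc
  refine ⟨algebraMap k (RatFunc k) c / ((RatFunc.X : RatFunc k)⁻¹) ^ m,
    val_add_sq_add_lt P hm hπ hf hc1 huc, ?_⟩
  intro P' hne
  have hX' : P'.1 RatFunc.X ≤ 1 := by
    by_contra h
    exact hne (place_eq_of_inf P P' hX (not_le.1 h))
  rw [map_div₀, map_pow, map_inv₀, inv_pow, div_inv_eq_mul]
  exact mul_le_one' (P'.2.1 c) (pow_le_one₀ zero_le hX')

end step

section measure

variable {k : Type*} [Field k]

/-- The pole order of `f` at `P`. -/
noncomputable def pn (P : Place k (RatFunc k)) (f : RatFunc k) : ℕ := (log (P.1 f)).toNat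

theorem pn_eq_zero_of_le {P : Place k (RatFunc k)} {f : RatFunc k} (h : P.1 f ≤ 1) :
    pn P f = 0 := by
  unfold pn
  rw [Int.toNat_eq_zero]
  by_cases h0 : P.1 f = 0
  · rw [h0, log_zero]
  · rw [log_le_iff_le_exp h0, exp_zero]
    exact h

theorem pn_le_of_le {P : Place k (RatFunc k)} {f f' : RatFunc k}
    (h : P.1 f' ≤ max (P.1 f) 1) : pn P f' ≤ pn P f := by
  by_cases h1 : P.1 f' ≤ 1
  · rw [pn_eq_zero_of_le h1]
    exact Nat.zero_le _
  · push Not at h1
    have h2 : P.1 f' ≤ P.1 f := by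
      rcases le_max_iff.1 h with h | h
      · exact h
      · exact absurd h (not_le.2 h1)
    unfold pn
    apply Int.toNat_le_toNat
    rw [log_le_log (ne_of_gt (lt_trans zero_lt_one h1))
      (ne_of_gt (lt_of_lt_of_le (lt_trans zero_lt_one h1) h2))]
    exact h2

theorem pn_lt_of_lt {P : Place k (RatFunc k)} {f f' : RatFunc k} {m : ℕ} (hm : 1 ≤ m)
    (hf : P.1 f = exp (2 * (m : ℤ))) (h : P.1 f' < P.1 f) : pn P f' < pn P f := by
  have h2 : pn P f = 2 * m := by
    unfold pn
    rw [hf, log_exp]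
    omega
  rw [h2]
  by_cases h0 : P.1 f' = 0
  · unfold pn
    rw [h0, log_zero]
    simp
    omega
  · unfold pn
    have : log (P.1 f') < 2 * (m : ℤ) := by
      rw [log_lt_iff_lt_exp h0, ← hf]
      exact h
    omega

/-- The total pole order. -/
noncomputable def mu (f : RatFunc k) : ℕ := ∑ᶠ P : Place k (RatFunc k), pn P f

theorem finite_support_pn (f : RatFunc k) :
    (Function.support fun P : Place k (RatFunc k) => pn P f).Finite :=
  (Groth.Agent.Lib.Helper63.FiniteRamified.finite_poles isFunctionField_ratFunc f).subset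
    (fun P hP => by
      by_contra h
      exact hP (pn_eq_zero_of_le (not_lt.1 h)))

theorem mu_lt {f f' : RatFunc k} {P : Place k (RatFunc k)} {m : ℕ} (hm : 1 ≤ m)
    (hf : P.1 f = exp (2 * (m : ℤ))) (h1 : P.1 f' < P.1 f)
    (h2 : ∀ P' : Place k (RatFunc k), P' ≠ P → P'.1 f' ≤ max (P'.1 f) 1) : mu f' < mu f := by
  classical
  set s := (finite_support_pn f).toFinset ∪ (finite_support_pn f').toFinset with hs
  rw [mu, mu, finsum_eq_sum_of_support_subset _ (s := s) (by
      intro P' hP'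
      rw [hs, Finset.coe_union, Set.Finite.coe_toFinset, Set.Finite.coe_toFinset]
      exact Or.inr hP'),
    finsum_eq_sum_of_support_subset _ (s := s) (by
      intro P' hP'
      rw [hs, Finset.coe_union, Set.Finite.coe_toFinset, Set.Finite.coe_toFinset]
      exact Or.inl hP')]
  apply Finset.sum_lt_sum
  · intro P' _
    by_cases hP : P' = P
    · subst hP
      exact (pn_lt_of_lt hm hf h1).le
    · exact pn_le_of_le (h2 P' hP)
  · refine ⟨P, ?_, pn_lt_of_lt hm hf h1⟩
    rw [hs, Finset.mem_union, Set.Finite.mem_toFinset]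
    left
    rw [Function.mem_support]
    have := pn_lt_of_lt hm hf h1
    omega

theorem exists_good [PerfectField k] [CharP k 2] (f : RatFunc k) :
    ∃ g : RatFunc k, ∀ P : Place k (RatFunc k),
      P.ord (f + g ^ 2 + g) < 0 → Odd (P.ord (f + g ^ 2 + g)) := by
  induction h : mu f using Nat.strong_induction_on generalizing f with
  | _ N ih =>
  by_cases hgood : ∀ P : Place k (RatFunc k), P.ord f < 0 → Odd (P.ord f)
  · exact ⟨0, by simpa using hgood⟩
  · push Not at hgood
    obtain ⟨P, hneg, hodd⟩ := hgood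
    rw [Int.not_odd_iff_even] at hodd
    obtain ⟨r, hr⟩ := hodd
    have hf0 : f ≠ 0 := by
      rintro rfl
      rw [ff_ord_zero] at hneg
      exact lt_irrefl _ hneg
    obtain ⟨m, hm⟩ : ∃ m : ℕ, (m : ℤ) = -r := ⟨(-r).toNat, Int.toNat_of_nonneg (by omega)⟩
    have hm1 : 1 ≤ m := by omega
    have hf : P.1 f = exp (2 * (m : ℤ)) := by
      rw [ff_val_eq_exp_neg_ord P hf0]
      congr 1
      omega
    obtain ⟨g₁, hg1, hg2⟩ : ∃ g : RatFunc k, P.1 (f + g ^ 2 + g) < P.1 f ∧
        ∀ P' : Place k (RatFunc k), P' ≠ P → P'.1 g ≤ 1 := by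
      by_cases hX : P.1 RatFunc.X ≤ 1
      · exact step_finite P hX hm1 hf
      · exact step_inf P (not_le.1 hX) hm1 hf
    have hlt : mu (f + g₁ ^ 2 + g₁) < mu f := by
      refine mu_lt hm1 hf hg1 (fun P' hP' => ?_)
      have hg' := hg2 P' hP'
      rw [add_assoc]
      refine le_trans (P'.1.map_add _ _) (max_le_max le_rfl ?_)
      refine le_trans (P'.1.map_add _ _) (max_le ?_ hg')
      rw [map_pow]
      exact pow_le_one₀ zero_le hg'
    obtain ⟨g₂, hg₂⟩ := ih _ (h ▸ hlt) (f + g₁ ^ 2 + g₁) rfl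
    refine ⟨g₁ + g₂, ?_⟩
    have : f + (g₁ + g₂) ^ 2 + (g₁ + g₂) = f + g₁ ^ 2 + g₁ + g₂ ^ 2 + g₂ := by
      rw [CharTwo.add_sq]
      ring
    rw [this]
    exact hg₂

end measure

section generator

variable {E K : Type*} [Field E] [Field K] [Algebra E K] [CharP E 2]

open IntermediateField in
/-- A separable quadratic extension in characteristic two is Artin-Schreier. -/
theorem exists_as_generator (hdeg : Module.finrank E K = 2) [Algebra.IsSeparable E K] :
    ∃ (y : K) (f : E), y ^ 2 + y = algebraMap E K f ∧ y ∉ Set.range (algebraMap E K) := by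
  haveI : FiniteDimensional E K := Module.finite_of_finrank_pos (by omega)
  haveI : CharP K 2 := charP_of_injective_algebraMap (algebraMap E K).injective 2
  obtain ⟨z, hz⟩ : ∃ z : K, z ∉ Set.range (algebraMap E K) := by
    by_contra hall
    push Not at hall
    have hbij : Function.Bijective (algebraMap E K) := ⟨(algebraMap E K).injective, hall⟩
    have := (Algebra.finrank_eq_one_iff_bijective_algebraMap).2 hbij
    omega
  have hgen : E⟮z⟯ = ⊤ :=
    Groth.Agent.Lib.Helper63.Hyperelliptic.adjoin_eq_top_of_prime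
      (by rw [hdeg]; exact Nat.prime_two) hz
  have hint : IsIntegral E z := Algebra.IsIntegral.isIntegral z
  have hnat : (minpoly E z).natDegree = 2 := by
    rw [← IntermediateField.adjoin.finrank hint, hgen, IntermediateField.finrank_top', hdeg]
  have hmonic := minpoly.monic hint
  set a := (minpoly E z).coeff 1 with ha
  set b := (minpoly E z).coeff 0 with hb
  have hc2 : (minpoly E z).coeff 2 = 1 := by
    have := hmonic.coeff_natDegree
    rwa [hnat] at this
  have hrel : z ^ 2 + algebraMap E K a * z + algebraMap E K b = 0 := by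
    have h := minpoly.aeval E z
    rw [aeval_eq_sum_range, hnat, Finset.sum_range_succ, Finset.sum_range_succ,
      Finset.sum_range_one, hc2, ← ha, ← hb, pow_zero, pow_one, one_smul, Algebra.smul_def,
      Algebra.smul_def, mul_one] at h
    rw [← h]
    ring
  have ha0 : a ≠ 0 := by
    intro ha0
    have hsep : (minpoly E z).Separable := Algebra.IsSeparable.isSeparable E z
    have hder : derivative (minpoly E z) = 0 := by
      ext n
      rw [coeff_derivative, coeff_zero]
      rcases n with _ | _ | n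
      · rw [zero_add, ← ha, ha0, zero_mul]
      · rw [hc2]
        have : (1 : E) + 1 = 0 := CharTwo.add_self_eq_zero 1
        simp [this]
      · rw [coeff_eq_zero_of_natDegree_lt (by rw [hnat]; omega), zero_mul]
    rw [Polynomial.Separable, hder, isCoprime_zero_right] at hsep
    exact minpoly.not_isUnit E z hsep
  have ha0' : algebraMap E K a ≠ 0 := by
    rw [Ne, map_eq_zero_iff _ (algebraMap E K).injective]
    exact ha0
  refine ⟨z / algebraMap E K a, b / a ^ 2, ?_, ?_⟩
  · rw [map_div₀, map_pow, div_pow, eq_div_iff (pow_ne_zero 2 ha0')]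
    have h1 : algebraMap E K b = -(z ^ 2 + algebraMap E K a * z) := by
      rw [eq_neg_iff_add_eq_zero, add_comm]
      exact hrel
    rw [h1, CharTwo.neg_eq]
    field_simp
  · rintro ⟨c, hc⟩
    apply hz
    refine ⟨c * a, ?_⟩
    rw [map_mul, hc, div_mul_cancel₀ _ ha0']

end generator

end Groth.Agent.Lib.Helper63.ASNormal
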