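import Groth.Agent.Lib.Helper63.HyperGenus
import Groth.Agent.Lib.Helper63.LocResBasic

/-! Orders of `dx` in a hyperelliptic function field `y² = f(x)`, `char ≠ 2`, read through Laurent
expansions (helper63). -/

set_option autoImplicit false
set_option linter.style.haveILetI false
set_option linter.unusedSectionVars false

namespace Groth.Agent.Lib.Helper63.HyperDiff

open LaurentSeries HahnSeries WithZero Polynomial IntermediateField FunFld Groth.Agent.Lib.Helper55
  Groth.Agent.Lib.Helper63.RatFuncPlaces Groth.Agent.Lib.Helper63.Hyperelliptic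
  Groth.Agent.Lib.Helper63.HyperGenus Groth.Agent.Lib.Helper63.LocResBasic
  Groth.Agent.Lib.Helper63.FunFldExt

section general

variable {k K F : Type*} [Field k] [Field K] [Algebra k K] [Field F] [Algebra k F]

/-- The derivative of the expansion of a polynomial expression. -/
theorem D_aeval (φ : K →ₐ[k] F⸨X⸩) (x : K) (p : k[X]) :
    LocRes.D F (φ (aeval x p)) = φ (aeval x (derivative p)) * LocRes.D F (φ x) := by
  letI := φ.toRingHom.toAlgebra
  haveI : IsScalarTower k K F⸨X⸩ := LocRes.isScalarTower_exp φ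
  exact (LocRes.dExp φ).map_aeval p x

theorem D_sq (φ : K →ₐ[k] F⸨X⸩) (y : K) :
    LocRes.D F (φ (y ^ 2)) = φ (2 * y) * LocRes.D F (φ y) := by
  rw [pow_two, map_mul, Derivation.leibniz, map_mul, smul_eq_mul, map_ofNat]
  ring

theorem val_two (h2 : ringChar k ≠ 2) (P : Place k K) : P.1 (2 : K) = 1 := by
  have h22 : algebraMap k K 2 = 2 := by rw [map_ofNat]
  rw [← h22]
  exact ff_val_const P (Ring.two_ne_zero h2)

theorem eq_exp_of_sq_eq {a : ℤᵐ⁰} {n : ℤ} (h : a ^ 2 = exp (2 * n)) : a = exp n := by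
  have ha0 : a ≠ 0 := by
    rintro rfl
    rw [zero_pow two_ne_zero] at h
    exact exp_ne_zero h.symm
  obtain ⟨m, rfl⟩ : ∃ m : ℤ, a = exp m := ⟨_, (exp_log ha0).symm⟩
  rw [← exp_nsmul, exp_inj] at h
  simp only [nsmul_eq_mul] at h
  congr 1
  push_cast at h
  omega

theorem eq_one_of_mul_eq_one {a b : ℤᵐ⁰} (ha : a ≤ 1) (hb : b ≤ 1) (h : a * b = 1) : b = 1 := by
  apply le_antisymm hb
  by_contra hlt
  push Not at hlt
  have : a * b < 1 := lt_of_le_of_lt (mul_le_mul' ha le_rfl) (by rwa [one_mul])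
  rw [h] at this
  exact lt_irrefl _ this

end general

section hyper

variable {k K F : Type*} [Field k] [Field K] [Algebra k K] [Algebra (RatFunc k) K]
  [IsScalarTower k (RatFunc k) K] [Field F] [Algebra k F]

local notation "ι" => algebraMap k[X] (RatFunc k)
local notation "jj" => algebraMap (RatFunc k) K

/-- A finite place of `k(X)` is the place of an irreducible polynomial. -/
theorem exists_irreducible_val_lt (P₀ : Place k (RatFunc k)) (hX : P₀.1 RatFunc.X ≤ 1) :
    ∃ p : k[X], Irreducible p ∧ P₀.1 (ι p) < 1 := by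
  obtain ⟨r, hr⟩ := P₀.2.2 (exp (-1))
  have hr0 : r ≠ 0 := by
    rintro rfl
    rw [map_zero] at hr
    exact exp_ne_zero hr.symm
  have hnum : r.num ≠ 0 := RatFunc.num_ne_zero hr0
  have hden : ι r.denom ≠ 0 := by
    rw [Ne, map_eq_zero_iff _ (RatFunc.algebraMap_injective k)]
    exact RatFunc.denom_ne_zero r
  have h1 : P₀.1 (ι r.num) = P₀.1 r * P₀.1 (ι r.denom) := by
    rw [← map_mul]
    congr 1
    conv_rhs => rw [← RatFunc.num_div_denom r]
    have : (ι r.num / ι r.denom).denom = r.denom := by rw [RatFunc.num_div_denom r]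
    rw [this, div_mul_cancel₀ _ hden]
  have h2 : P₀.1 (ι r.num) < 1 := by
    rw [h1, hr]
    calc exp (-1) * P₀.1 (ι r.denom) ≤ exp (-1) * 1 :=
          mul_le_mul' le_rfl (val_poly_le_one P₀ hX _)
      _ = exp (-1) := mul_one _
      _ < 1 := by rw [← exp_zero, exp_lt_exp]; omega
  obtain ⟨p, hp, -, hpv⟩ := exists_irreducible_factor_val_lt P₀ hX r.num hnum h2
  exact ⟨p, hp, hpv⟩

/-- At a finite place, `dx` has the same order as `y`. -/
theorem val_D_x_finite (h2 : ringChar k ≠ 2) (hdeg : Module.finrank (RatFunc k) K = 2)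
    {y : K} {f : k[X]} (hf : Squarefree f) (hd : 1 ≤ f.natDegree) (heq : y ^ 2 = jj (ι f))
    (P : Place k K) (φ : K →ₐ[k] F⸨X⸩) (hφ : LocRes.IsExpansionAt P.1 φ)
    (hx : P.1 (jj RatFunc.X) ≤ 1) :
    Valued.v (LocRes.D F (φ (jj RatFunc.X))) = P.1 y := by
  haveI := finiteDimensional_of_finrank (k := k) (K := K) hdeg
  obtain ⟨hv, -, -, -⟩ := hφ
  set x := jj RatFunc.X with hxdef
  obtain ⟨P₀, hP₀⟩ := exists_isOver_below (K := RatFunc k) P
  have he := isOverWith_ramIdx hP₀
  have he0 := isOverWith_ne_zero he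
  have hf0 : f ≠ 0 := hf.ne_zero
  have hX : P₀.1 RatFunc.X ≤ 1 := by
    have h1 := he RatFunc.X
    rw [← hxdef] at h1
    rw [h1] at hx
    exact (pow_le_one_iff_of_nonneg zero_le he0).1 hx
  have hDx1 : Valued.v (LocRes.D F (φ x)) ≤ 1 := by
    have h2' : Valued.v (φ x) ≤ exp (-(0 : ℤ)) := by rw [hv]; simpa using hx
    simpa using val_D_le_of_cast_eq_zero h2' (by simp)
  have hyf : P.1 y ^ 2 = P₀.1 (ι f) ^ ramIdx P P₀ := by
    rw [← map_pow, heq, he]
  by_cases hy1 : P.1 y = 1
  · -- unramified case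
    have hu : P₀.1 (ι f) = 1 := by
      rw [hy1, one_pow] at hyf
      exact (pow_eq_one_iff_of_nonneg zero_le he0).1 hyf.symm
    have hgen : (RatFunc k)⟮y⟯ = ⊤ :=
      adjoin_eq_top_of_prime (by rw [hdeg]; exact Nat.prime_two) (not_mem_range hf hd heq)
    have he1 : ramIdx P P₀ = 1 := unramified_of_sq_unit he hu heq hgen (Ring.two_ne_zero h2)
    obtain ⟨p, hp, hpv⟩ := exists_irreducible_val_lt P₀ hX
    have hpu : P.1 (aeval x p) = exp (-1) := by
      rw [← j_poly, he, he1, pow_one, val_irreducible P₀ hp hpv]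
    have h1 := val_D_uniformizer P.1 φ hv hpu
    rw [D_aeval, map_mul, hv] at h1
    rw [hy1]
    exact eq_one_of_mul_eq_one
      (Groth.Agent.Lib.Helper63.ZerosBound.val_aeval_le_one P.1 P.2.1 hx _) hDx1 h1
  · -- ramified case
    have hylt : P.1 y < 1 := lt_of_le_of_ne (val_y_le_one heq P hx) hy1
    have hflt : P₀.1 (ι f) < 1 := by
      by_contra hge
      push Not at hge
      have : (1 : ℤᵐ⁰) ≤ P.1 y ^ 2 := by
        rw [hyf]
        exact one_le_pow₀ hge
      exact absurd ((pow_lt_one_iff_of_nonneg zero_le two_ne_zero).2 hylt) (not_lt.2 this)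
    obtain ⟨p, hp, hpf, hpv⟩ := exists_irreducible_factor_val_lt P₀ hX f hf0 hflt
    have he2 := ((finite_ramified hdeg y f hf heq p hp hpf P₀ hpv).2 P hP₀).1
    have hfv := val_squarefree P₀ hp hf hpf hpv
    have hyv : P.1 y = exp (-1) := by
      apply eq_exp_of_sq_eq
      rw [← map_pow, heq, he2, hfv, ← exp_nsmul]
      congr 1
    have h1 := val_D_uniformizer P.1 φ hv hyv
    have h3 : LocRes.D F (φ (y ^ 2)) = LocRes.D F (φ (aeval x f)) := by
      rw [heq, j_poly]
    rw [D_sq, D_aeval] at h3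
    have h4 := congrArg Valued.v h3
    rw [Valuation.map_mul, Valuation.map_mul, hv, hv, h1, mul_one, Valuation.map_mul,
      val_two h2, one_mul, hyv] at h4
    -- the value of f'(x)
    have h5 : P.1 (aeval x (derivative f)) = 1 := by
      rw [← j_poly, he2]
      have hle : P₀.1 (ι (derivative f)) ≤ 1 := val_poly_le_one P₀ hX _
      rcases hle.lt_or_eq with hlt | heq1
      · exfalso
        have h6 := Groth.Agent.Lib.Helper63.FundIneq.le_exp_neg_one_of_lt_one hlt
        have h7 : P.1 (aeval x (derivative f)) ≤ exp (-2) := by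
          rw [← j_poly, he2]
          calc P₀.1 (ι (derivative f)) ^ 2 ≤ exp (-1) ^ 2 := pow_le_pow_left₀ zero_le h6 2
            _ = exp (-2) := by rw [← exp_nsmul]; congr 1
        have h8 : exp (-1) ≤ exp (-2) * 1 := by
          rw [h4]
          exact mul_le_mul' h7 hDx1
        rw [mul_one, exp_le_exp] at h8
        omega
      · rw [heq1, one_pow]
    rw [h5, one_mul] at h4
    rw [← h4, hyv]

/-- At an infinite place, `dx/y` has order `(g-1) e` where `e` is the pole order of `x`. -/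
theorem val_D_x_infinite (hK : IsFunctionField k K) (h2 : ringChar k ≠ 2)
    (hdeg : Module.finrank (RatFunc k) K = 2)
    {y : K} {f : k[X]} (hf : Squarefree f) (hd : 1 ≤ f.natDegree) (heq : y ^ 2 = jj (ι f))
    (P : Place k K) (φ : K →ₐ[k] F⸨X⸩) (hφ : LocRes.IsExpansionAt P.1 φ)
    (hx : 1 < P.1 (jj RatFunc.X)) :
    ∃ e : ℤ, 0 < e ∧ P.1 (jj RatFunc.X) = exp e ∧
      Valued.v (LocRes.D F (φ (jj RatFunc.X))) =
        P.1 y * exp (-(((genus k K : ℤ) - 1) * e)) := by
  haveI := finiteDimensional_of_finrank (k := k) (K := K) hdeg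
  obtain ⟨hv, -, -, -⟩ := hφ
  set x := jj RatFunc.X with hxdef
  obtain ⟨P₀, hP₀⟩ := exists_isOver_below (K := RatFunc k) P
  have he := isOverWith_ramIdx hP₀
  have hf0 : f ≠ 0 := hf.ne_zero
  have hX : 1 < P₀.1 RatFunc.X := by
    by_contra hle
    push Not at hle
    have h1 := he RatFunc.X
    rw [← hxdef] at h1
    rw [h1] at hx
    exact absurd hx (not_lt.2 (pow_le_one₀ zero_le hle))
  have hinf : P₀.ord (RatFunc.X : RatFunc k) < 0 := (ff_ord_neg_iff P₀ RatFunc.X_ne_zero).2 hX
  have hip := infinite_place h2 hdeg y f hf hd heq P₀ hinf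
  have hvf := val_poly_inf' P₀ hX hf0
  have hvX := val_X_inf P₀ hX
  have hg := genus_eq' hK h2 hdeg hf hd heq
  have h2F : (2 : F) ≠ 0 := by
    have h22 : algebraMap k F 2 = 2 := by rw [map_ofNat]
    rw [← h22, Ne, map_eq_zero_iff _ (algebraMap k F).injective]
    exact Ring.two_ne_zero h2
  rcases Nat.even_or_odd f.natDegree with heven | hodd
  · have he1 := (hip.2 heven).2 P hP₀
    obtain ⟨m, hm⟩ := heven
    have hxv : P.1 x = exp 1 := by rw [hxdef, he1, hvX, pow_one]
    have hyv : P.1 y = exp (m : ℤ) := by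
      apply eq_exp_of_sq_eq
      rw [← map_pow, heq, he1, hvf, pow_one, hm]
      congr 1
      push_cast
      ring
    refine ⟨1, one_pos, hxv, ?_⟩
    have h1 : Valued.v (φ x) = exp (-(-1 : ℤ)) := by rw [hv, hxv]; congr 1
    rw [val_D_eq h1 (by simp), hyv, ← exp_add]
    congr 1
    have hgz : (genus k K : ℤ) = (m : ℤ) - 1 := by
      have : genus k K = m - 1 := by rw [hg]; omega
      rw [this]
      have hm1 : 1 ≤ m := by omega
      push_cast [Nat.cast_sub hm1]
      ring
    rw [hgz]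
    ring
  · have he2 := ((hip.1 hodd).2 P hP₀).1
    obtain ⟨m, hm⟩ := hodd
    have hxv : P.1 x = exp 2 := by
      rw [hxdef, he2, hvX, ← exp_nsmul]
      congr 1
    have hyv : P.1 y = exp (f.natDegree : ℤ) := by
      apply eq_exp_of_sq_eq
      rw [← map_pow, heq, he2, hvf, ← exp_nsmul]
      congr 1
    refine ⟨2, by norm_num, hxv, ?_⟩
    have h1 : Valued.v (φ x) = exp (-(-2 : ℤ)) := by rw [hv, hxv]; congr 1
    have h2' : (((-2 : ℤ)) : F) ≠ 0 := by
      push_cast
      exact neg_ne_zero.2 h2F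
    rw [val_D_eq h1 h2', hyv, ← exp_add]
    congr 1
    have hgz : (genus k K : ℤ) = (m : ℤ) := by
      have : genus k K = m := by rw [hg]; omega
      rw [this]
    rw [hgz, hm]
    push_cast
    ring

/-- `L((m-1) (x)_∞)` consists of polynomials in `x` of degree `< m` when `2 (m-1) < deg f`. -/
theorem L_le_poly (hK : IsFunctionField k K) (h2 : ringChar k ≠ 2)
    (hdeg : Module.finrank (RatFunc k) K = 2) {y : K} {f : k[X]} (hf : Squarefree f)
    (heq : y ^ 2 = jj (ι f)) (hy : y ∉ Set.range jj) (m : ℕ) (hm : 2 * (m - 1) < f.natDegree)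
    (hm1 : 1 ≤ m) :
    L ((m - 1) • (ff_poleDiv (jj RatFunc.X) : Divisor k K)) ≤
      Submodule.map (aeval (jj RatFunc.X)).toLinearMap (degreeLT k m) := by
  set x := jj (RatFunc.X : RatFunc k) with hx
  intro z hz
  obtain ⟨a, b, rfl⟩ := exists_decomp hdeg heq hy z
  obtain ⟨ha, hb⟩ := components_mem_L hK h2 hdeg heq hy (m - 1) hz
  have hb2 : jj (b ^ 2 * ι f) ∈ L ((2 * (m - 1)) • (ff_poleDiv x : Divisor k K)) := by
    have h3 : jj b * y * (jj b * y) ∈ L ((m - 1) • (ff_poleDiv x : Divisor k K) +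
        (m - 1) • (ff_poleDiv x : Divisor k K)) := by
      intro Q
      rw [map_mul, Finsupp.add_apply, WithZero.exp_add]
      exact mul_le_mul' (hb Q) (hb Q)
    have e1 : jj (b ^ 2 * ι f) = jj b * y * (jj b * y) := by
      rw [map_mul, map_pow, ← heq]
      ring
    have e2 : (2 * (m - 1)) • (ff_poleDiv x : Divisor k K) =
        (m - 1) • (ff_poleDiv x : Divisor k K) + (m - 1) • (ff_poleDiv x : Divisor k K) := by
      rw [two_mul, add_smul]
    rw [e1, e2]
    exact h3
  obtain ⟨W, hW, hbW⟩ := ratFunc_mem_L hK _ _ hb2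
  have hb0 : b = 0 := eq_zero_of_sq_mul hf hbW (by omega)
  obtain ⟨A, hA, haA⟩ := ratFunc_mem_L hK _ _ ha
  refine ⟨A, ?_, ?_⟩
  · rw [SetLike.mem_coe, mem_degreeLT]
    refine lt_of_le_of_lt degree_le_natDegree ?_
    exact_mod_cast (by omega : A.natDegree < m)
  · rw [hb0, map_zero, zero_mul, add_zero, haA, j_poly]
    rfl

end hyper

section main

universe u v w

variable {k : Type u} {K : Type v} [Field k] [Field K] [Algebra k K] [Algebra (RatFunc k) K]
  [IsScalarTower k (RatFunc k) K]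

local notation "ι" => algebraMap k[X] (RatFunc k)
local notation "jj" => algebraMap (RatFunc k) K

theorem le_exp_of_mul_exp_neg_le_one {a : ℤᵐ⁰} {n : ℤ} (h : a * exp (-n) ≤ 1) : a ≤ exp n := by
  calc a = a * exp (-n) * exp n := by
        rw [mul_assoc, ← exp_add, neg_add_cancel, exp_zero, mul_one]
    _ ≤ 1 * exp n := mul_le_mul' h le_rfl
    _ = exp n := one_mul _

/-- S12584: the regular differentials of a hyperelliptic function field. -/
theorem main (hK : IsFunctionField k K) (hdeg : Module.finrank (RatFunc k) K = 2)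
    (h2 : ringChar k ≠ 2) (y : K) (f : k[X]) (hf : Squarefree f) (hd : 1 ≤ f.natDegree)
    (heq : y ^ 2 = jj (ι f))
    (F : Place k K → Type w) [∀ P, Field (F P)] [∀ P, Algebra k (F P)]
    (φ : ∀ P, K →ₐ[k] LaurentSeries (F P)) (hφ : ∀ P, LocRes.IsExpansionAt P.1 (φ P)) :
    (∀ i : ℕ, i < genus k K → ∀ P,
      LocRes.vDiff (φ P) (jj RatFunc.X ^ i / y) (jj RatFunc.X) ≤ 1) ∧
    ∀ z : K, (∀ P, LocRes.vDiff (φ P) z (jj RatFunc.X) ≤ 1) →
      ∃ a : k[X], a.degree < (genus k K : WithBot ℕ) ∧ z = jj (ι a) / y := by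
  set x := jj (RatFunc.X : RatFunc k) with hxdef
  have hf0 : f ≠ 0 := hf.ne_zero
  have hy0 : y ≠ 0 := by
    intro h0
    rw [h0, zero_pow two_ne_zero] at heq
    have h1 := (map_eq_zero_iff _ (algebraMap (RatFunc k) K).injective).1 heq.symm
    exact hf0 ((map_eq_zero_iff _ (RatFunc.algebraMap_injective k)).1 h1)
  have hyv0 : ∀ P : Place k K, P.1 y ≠ 0 := fun P => (Valuation.ne_zero_iff _).2 hy0
  have hynot := not_mem_range hf hd heq
  have hg := genus_eq' hK h2 hdeg hf hd heq
  have hvd : ∀ (P : Place k K) (u : K), LocRes.vDiff (φ P) u x =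
      P.1 u * Valued.v (LocRes.D (F P) (φ P x)) := by
    intro P u
    rw [LocRes.vDiff, Valuation.map_mul, (hφ P).1]
  constructor
  · intro i hi P
    rw [hvd, map_div₀, map_pow]
    by_cases hx : P.1 x ≤ 1
    · rw [val_D_x_finite h2 hdeg hf hd heq P (φ P) (hφ P) hx, div_mul_cancel₀ _ (hyv0 P)]
      exact pow_le_one₀ zero_le hx
    · push Not at hx
      obtain ⟨e, he0, hxe, hD⟩ := val_D_x_infinite hK h2 hdeg hf hd heq P (φ P) (hφ P) hx
      rw [hD, ← mul_assoc, div_mul_cancel₀ _ (hyv0 P), hxe, ← exp_nsmul, ← exp_add, ← exp_zero,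
        exp_le_exp, nsmul_eq_mul]
      have h1 : (i : ℤ) + 1 ≤ (genus k K : ℤ) := by exact_mod_cast hi
      have h3 : ((i : ℤ) + 1 - (genus k K : ℤ)) * e ≤ 0 :=
        mul_nonpos_of_nonpos_of_nonneg (by omega) he0.le
      have h4 : (i : ℤ) * e + -(((genus k K : ℤ) - 1) * e) = ((i : ℤ) + 1 - (genus k K : ℤ)) * e := by
        ring
      rw [h4]
      exact h3
  · intro z hz
    have hfin : ∀ P : Place k K, P.1 x ≤ 1 → P.1 (z * y) ≤ 1 := by
      intro P hx
      have h1 := hz P
      rw [hvd, val_D_x_finite h2 hdeg hf hd heq P (φ P) (hφ P) hx] at h1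
      rwa [map_mul]
    have hinf : ∀ P : Place k K, 1 < P.1 x → ∃ e : ℤ, 0 < e ∧ P.1 x = exp e ∧
        P.1 (z * y) ≤ exp (((genus k K : ℤ) - 1) * e) := by
      intro P hx
      obtain ⟨e, he0, hxe, hD⟩ := val_D_x_infinite hK h2 hdeg hf hd heq P (φ P) (hφ P) hx
      refine ⟨e, he0, hxe, ?_⟩
      have h1 := hz P
      rw [hvd, hD, ← mul_assoc, ← map_mul] at h1
      exact le_exp_of_mul_exp_neg_le_one h1
    have hxtr : Transcendental k x := transcendental_x
    rcases Nat.eq_zero_or_pos (genus k K) with hg0 | hgpos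
    · -- genus zero: z = 0
      have hmem : z * y ∈ L ((1 - 1) • (ff_poleDiv x : Divisor k K)) := by
        intro P
        rw [Nat.sub_self, zero_smul, Finsupp.zero_apply, exp_zero]
        by_cases hx : P.1 x ≤ 1
        · exact hfin P hx
        · push Not at hx
          obtain ⟨e, he0, -, hle⟩ := hinf P hx
          refine hle.trans ?_
          rw [← exp_zero, exp_le_exp, hg0]
          simp only [Nat.cast_zero, zero_sub, neg_mul, one_mul]
          omega
      obtain ⟨a, ha, haz⟩ := L_le_poly hK h2 hdeg hf heq hynot 1 (by omega) le_rfl hmem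
      rw [SetLike.mem_coe, mem_degreeLT] at ha
      have ha' : a.degree ≤ 0 := by
        have : a.degree < ((1 : ℕ) : WithBot ℕ) := ha
        exact Nat.WithBot.lt_one_iff_le_zero.1 (by simpa using this)
      have haC := eq_C_of_degree_le_zero ha'
      have hzc : z * y = algebraMap k K (a.coeff 0) := by
        rw [← haz]
        change aeval x a = _
        rw [haC, aeval_C, coeff_C_zero]
      obtain ⟨P, hP⟩ := ff_exists_zero hK (ff_transcendental_inv hxtr)
      have hx0 : x ≠ 0 := fun h => hxtr (h ▸ isAlgebraic_zero)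
      have hPx0 : 0 < P.1 x := zero_lt_iff.2 ((Valuation.ne_zero_iff _).2 hx0)
      have hxP : 1 < P.1 x := by
        rw [map_inv₀] at hP
        exact (inv_lt_one₀ hPx0).1 hP
      obtain ⟨e, he0, -, hle⟩ := hinf P hxP
      have hlt : P.1 (z * y) < 1 := by
        refine lt_of_le_of_lt hle ?_
        rw [← exp_zero, exp_lt_exp, hg0]
        simp only [Nat.cast_zero, zero_sub, neg_mul, one_mul]
        omega
      have hc0 : a.coeff 0 = 0 := by
        by_contra hne
        rw [hzc, ff_val_const P hne] at hlt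
        exact lt_irrefl _ hlt
      have hz0 : z = 0 := by
        rw [hc0, map_zero] at hzc
        exact (mul_eq_zero.1 hzc).resolve_right hy0
      refine ⟨0, ?_, ?_⟩
      · rw [degree_zero]
        exact WithBot.bot_lt_coe _
      · rw [hz0, map_zero, map_zero, zero_div]
    · -- positive genus
      have hmem : z * y ∈ L ((genus k K - 1) • (ff_poleDiv x : Divisor k K)) := by
        intro P
        rw [Finsupp.smul_apply]
        by_cases hx : P.1 x ≤ 1
        · rw [poleDiv_eq_zero hK hx, smul_zero, exp_zero]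
          exact hfin P hx
        · push Not at hx
          obtain ⟨e, he0, hxe, hle⟩ := hinf P hx
          have h1 := exp_poleDiv_of_pole hK hx
          rw [hxe, exp_inj] at h1
          rw [h1, nsmul_eq_mul]
          have h3 : ((genus k K - 1 : ℕ) : ℤ) = (genus k K : ℤ) - 1 := by
            push_cast [Nat.cast_sub hgpos]
            ring
          rw [h3]
          exact hle
      obtain ⟨a, ha, haz⟩ := L_le_poly hK h2 hdeg hf heq hynot (genus k K) (by omega) hgpos hmem
      rw [SetLike.mem_coe, mem_degreeLT] at ha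
      refine ⟨a, ha, ?_⟩
      rw [eq_div_iff hy0, j_poly, ← haz]
      rfl

end main

end Groth.Agent.Lib.Helper63.HyperDiff
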