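import Groth.Agent.Lib.Helper63.Hyperelliptic
import Groth.Agent.Lib.Helper63.FiniteRamified

/-! Artin-Schreier extensions `y² + y = f(x)` in characteristic `2` (helper63). -/

set_option autoImplicit false
set_option linter.style.haveILetI false
set_option linter.unusedSectionVars false

namespace Groth.Agent.Lib.Helper63.ArtinSchreier

open WithZero Polynomial IntermediateField FunFld IsLocalRing Groth.Agent.Lib.Helper55
  Groth.Agent.Lib.Helper63.FunFldExt Groth.Agent.Lib.Helper63.FundIneq
  Groth.Agent.Lib.Helper63.SumEF Groth.Agent.Lib.Helper63.RatFuncPlaces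
  Groth.Agent.Lib.Helper63.InertiaField Groth.Agent.Lib.Helper63.Conorm
  Groth.Agent.Lib.Helper63.Hyperelliptic

local notation "ℤᵐ⁰" => WithZero (Multiplicative ℤ)

section general

variable {k K K' : Type*} [Field k] [Field K] [Field K'] [Algebra k K] [Algebra K K']
  [Algebra k K'] [IsScalarTower k K K']

omit [IsScalarTower k K K'] in
/-- An Artin-Schreier extension `α² + α = u` in characteristic `2` is unramified at places where
`u` is integral. -/
theorem unramified_of_integral [CharP k 2] {Q : Place k K'} {P : Place k K} {e : ℕ}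
    (he : IsOverWith Q P e) {α : K'} {u : K} (hu : P.1 u ≤ 1)
    (hα : α ^ 2 + α = algebraMap K K' u) (hgen : K⟮α⟯ = ⊤) : e = 1 := by
  have he0 := isOverWith_ne_zero he
  have hmonic : (X ^ 2 + X - C (⟨u, hu⟩ : P.O) : (P.O)[X]).Monic := by
    have h1 : (X ^ 2 + X - C (⟨u, hu⟩ : P.O) : (P.O)[X]) = X ^ 2 + (X - C (⟨u, hu⟩ : P.O)) := by
      ring
    rw [h1]
    apply monic_X_pow_add
    rw [degree_X_sub_C]
    norm_num
  have hroot : eval₂ ((algebraMap K K').comp P.O.subtype) α
      (X ^ 2 + X - C (⟨u, hu⟩ : P.O) : (P.O)[X]) = 0 := by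
    rw [eval₂_sub, eval₂_add, eval₂_pow, eval₂_X, eval₂_C, hα]
    exact sub_self _
  have hα1 : Q.1 α ≤ 1 := Groth.Agent.Lib.Helper63.FiniteRamified.val_le_one_of_eval₂_monic Q.1
    ((algebraMap K K').comp P.O.subtype) (fun r => val_le_one_of_isOverWith he r.2) hmonic hroot
  refine Groth.Agent.Lib.Helper63.UnramifiedFF.eq_one_of_squarefree he hgen hα1 hroot ?_
  apply Separable.squarefree
  rw [Polynomial.map_sub, Polynomial.map_add, Polynomial.map_pow, map_X, map_C]
  haveI : CharP (ResidueField P.O) 2 :=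
    charP_of_injective_algebraMap (algebraMap k (ResidueField P.O)).injective 2
  refine ⟨0, 1, ?_⟩
  rw [zero_mul, zero_add, one_mul, derivative_sub, derivative_add, derivative_X_pow,
    derivative_X, derivative_C, sub_zero]
  have h2 : ((2 : ℕ) : (ResidueField P.O)[X]) = 0 := by
    rw [← map_natCast (C : ResidueField P.O →+* _), CharP.cast_eq_zero, map_zero]
  rw [show (C ((2 : ℕ) : ResidueField P.O) : (ResidueField P.O)[X]) = ((2 : ℕ) : _) from
    map_natCast _ _, h2, zero_mul, zero_add]

/-- If `α² + α = u` and `u` has a pole of odd order at `P` then `e(Q|P)` is even. -/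
theorem even_of_odd_pole {Q : Place k K'} {P : Place k K} {e : ℕ}
    (he : IsOverWith Q P e) {α : K'} {u : K} {m : ℤ} (hu : P.1 u = exp m) (hm : 0 < m)
    (hodd : Odd m) (hα : α ^ 2 + α = algebraMap K K' u) : Even e := by
  have he0 := isOverWith_ne_zero he
  have h1 : Q.1 (α ^ 2 + α) = exp ((e : ℤ) * m) := by
    rw [hα, he, hu, ← exp_nsmul, nsmul_eq_mul]
  have hpos : 1 < Q.1 (α ^ 2 + α) := by
    rw [h1, ← exp_zero, exp_lt_exp]
    have : 0 < (e : ℤ) := by exact_mod_cast Nat.pos_of_ne_zero he0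
    positivity
  have hα1 : 1 < Q.1 α := by
    by_contra h
    push Not at h
    have : Q.1 (α ^ 2 + α) ≤ 1 := by
      refine (Q.1.map_add _ _).trans (max_le ?_ h)
      rw [map_pow]
      exact pow_le_one₀ zero_le h
    exact absurd hpos (not_lt.2 this)
  have h2 : Q.1 (α ^ 2 + α) = Q.1 α ^ 2 := by
    rw [← map_pow]
    apply Valuation.map_add_eq_of_lt_left
    rw [map_pow, pow_two]
    exact lt_mul_of_one_lt_left (zero_lt_one.trans hα1) hα1
  have hα0 : Q.1 α ≠ 0 := (zero_lt_one.trans hα1).ne'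
  obtain ⟨a, ha⟩ : ∃ a : ℤ, Q.1 α = exp a := ⟨_, (exp_log hα0).symm⟩
  rw [h2, ha, ← exp_nsmul, exp_inj, nsmul_eq_mul] at h1
  have h3 : Even ((e : ℤ) * m) := ⟨a, by rw [← h1]; push_cast; ring⟩
  rcases Int.even_mul.1 h3 with h | h
  · exact_mod_cast h
  · exact absurd h (Int.not_even_iff_odd.2 hodd)

end general

section AS

variable {k K : Type*} [Field k] [Field K] [Algebra k K] [Algebra (RatFunc k) K]
  [IsScalarTower k (RatFunc k) K]

/-- S12519: ramification in Artin-Schreier extensions of `k(x)`, characteristic `2`. -/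
theorem ramification (h2 : ringChar k = 2) (hdeg : Module.finrank (RatFunc k) K = 2)
    (y : K) (hy : y ∉ Set.range (algebraMap (RatFunc k) K))
    (f : RatFunc k) (heq : y ^ 2 + y = algebraMap (RatFunc k) K f)
    (P₀ : FunFld.Place k (RatFunc k)) :
    ((P₀.ord f < 0 ∧ Odd (P₀.ord f)) → (∃! P : FunFld.Place k K, FunFld.IsOver P P₀) ∧
      ∀ P : FunFld.Place k K, FunFld.IsOver P P₀ → FunFld.IsOverWith P P₀ 2 ∧ P.deg = P₀.deg) ∧
    (0 ≤ P₀.ord f → ∀ P : FunFld.Place k K, FunFld.IsOver P P₀ → FunFld.IsOverWith P P₀ 1) := by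
  haveI := finiteDimensional_of_finrank (k := k) (K := K) hdeg
  haveI : CharP k 2 := by rw [← h2]; exact ringChar.charP k
  have hgen : (RatFunc k)⟮y⟯ = ⊤ :=
    adjoin_eq_top_of_prime (by rw [hdeg]; exact Nat.prime_two) hy
  constructor
  · rintro ⟨hneg, hodd⟩
    have hf0 : f ≠ 0 := by
      rintro rfl
      rw [ff_ord_zero] at hneg
      exact lt_irrefl _ hneg
    apply unique_of_even isFunctionField_ratFunc hdeg P₀
    intro Q e he
    refine even_of_odd_pole he (u := f) (m := -P₀.ord f) ?_ (by omega) hodd.neg heq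
    rw [ff_val_eq_exp_neg_ord P₀ hf0]
  · intro hnn P hP
    have he := isOverWith_ramIdx hP
    have hu : P₀.1 f ≤ 1 := by
      by_cases hf0 : f = 0
      · rw [hf0, map_zero]; exact zero_le
      · exact (ff_ord_nonneg_iff P₀ hf0).1 hnn
    have h1 := unramified_of_integral he hu heq hgen
    rw [← h1]
    exact he

end AS

end Groth.Agent.Lib.Helper63.ArtinSchreier
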