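import Groth.Agent.Lib.Helper63.LocResRam
import Groth.Agent.Lib.Helper63.ArtinSchreier
import Mathlib.FieldTheory.RatFunc.IntermediateField

/-! Different exponent at the ramified places of an Artin–Schreier extension of `k(x)` in
characteristic two, through Laurent expansions (helper63). -/

set_option autoImplicit false
set_option linter.style.haveILetI false
set_option linter.unusedSectionVars false

namespace Groth.Agent.Lib.Helper63.LocResAS

open LaurentSeries HahnSeries WithZero Polynomial IntermediateField FunFld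
  Groth.Agent.Lib.Helper63.LocResBasic Groth.Agent.Lib.Helper63.FunFldExt

universe u v

/-- Rank one of `Ω[K⁄k]` from a separating element. -/
theorem exists_smul_D_eq_of_separating {k : Type u} {K : Type v} [Field k] [Field K] [Algebra k K]
    (x₀ : K) (hx₀ : Transcendental k x₀) [hsep : Algebra.IsSeparable k⟮x₀⟯ K] {x : K}
    (hx : KaehlerDifferential.D k K x ≠ 0) (y : K) :
    ∃ g : K, KaehlerDifferential.D k K y = g • KaehlerDifferential.D k K x := by
  have hai : AlgebraicIndependent k (fun _ : Unit => x₀) :=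
    algebraicIndependent_unique_type_iff.2 hx₀
  haveI : Algebra.IsSeparable (adjoin k (Set.range fun _ : Unit => x₀)) K := by
    rw [Set.range_const]; exact hsep
  obtain ⟨b, hb⟩ := Groth.Agent.Lib.Helper86.exists_basis_D_of_isSeparable
    (fun _ : Unit => x₀) hai
  have hrep : ∀ ω : Ω[K⁄k], ω = b.repr ω () • KaehlerDifferential.D k K x₀ := by
    intro ω
    conv_lhs => rw [← b.sum_repr ω]
    simp [hb]
  have ha : b.repr (KaehlerDifferential.D k K x) () ≠ 0 := by
    intro h0
    apply hx
    rw [hrep (KaehlerDifferential.D k K x), h0, zero_smul]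
  set a := b.repr (KaehlerDifferential.D k K x) () with ha_def
  set c := b.repr (KaehlerDifferential.D k K y) () with hc_def
  have h1 : KaehlerDifferential.D k K x = a • KaehlerDifferential.D k K x₀ := hrep _
  have h2 : KaehlerDifferential.D k K y = c • KaehlerDifferential.D k K x₀ := hrep _
  refine ⟨c / a, ?_⟩
  rw [h2, h1, smul_smul, div_mul_cancel₀ _ ha]

/-- Rank one of the differentials of `k(X)`. -/
theorem exists_smul_D_eq_ratFunc {k : Type u} [Field k] {x : RatFunc k}
    (hx : KaehlerDifferential.D k (RatFunc k) x ≠ 0) (y : RatFunc k) :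
    ∃ g : RatFunc k, KaehlerDifferential.D k (RatFunc k) y =
      g • KaehlerDifferential.D k (RatFunc k) x := by
  haveI : Algebra.IsSeparable k⟮(RatFunc.X : RatFunc k)⟯ (RatFunc k) := by
    refine ⟨fun z => ?_⟩
    have hz : z ∈ k⟮(RatFunc.X : RatFunc k)⟯ := by rw [RatFunc.adjoin_X]; trivial
    exact isSeparable_algebraMap (⟨z, hz⟩ : k⟮(RatFunc.X : RatFunc k)⟯)
  exact exists_smul_D_eq_of_separating RatFunc.X
    (RatFunc.transcendental_X (K := k)) hx y

section Local

variable {k : Type*} {K : Type*} {K' : Type*} {F : Type*} {F' : Type*} [Field k] [Field K]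
  [Field K'] [Field F] [Field F'] [Algebra k K] [Algebra K K'] [Algebra k K']
  [IsScalarTower k K K'] [Algebra k F] [Algebra k F']

theorem cast_ne_zero_of_odd (R : Type*) [Field R] [CharP R 2] {m : ℤ} (hm : Odd m) :
    ((-m : ℤ) : R) ≠ 0 := by
  obtain ⟨j, rfl⟩ := hm
  have h2 : (2 : R) = 0 := CharTwo.two_eq_zero
  push_cast
  rw [h2, zero_mul, zero_add]
  simp

/-- The local computation at a ramified place of an Artin–Schreier extension. -/
theorem diffExp_artinSchreier [CharP k 2] (w : Valuation K ℤᵐ⁰) (w' : Valuation K' ℤᵐ⁰)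
    (he : ∀ z : K, w' (algebraMap K K' z) = w z ^ 2)
    (φ : K →ₐ[k] F⸨X⸩) (hφ : ∀ f : K, Valued.v (φ f) = w f)
    (ψ : K' →ₐ[k] F'⸨X⸩) (hψ : ∀ f : K', Valued.v (ψ f) = w' f)
    {f : K} {y : K'} (heq : y ^ 2 + y = algebraMap K K' f) {m : ℤ} (hm : 0 < m) (hodd : Odd m)
    (hf : w f = exp m) :
    LocRes.vDiff φ 1 f ≠ 0 ∧ LocRes.vDiff ψ 1 (algebraMap K K' f) ≠ 0 ∧
      LocRes.diffExp φ ψ 2 f = m + 1 := by
  haveI : CharP F 2 := charP_of_injective_algebraMap (algebraMap k F).injective 2
  haveI : CharP F' 2 := charP_of_injective_algebraMap (algebraMap k F').injective 2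
  haveI : CharP F'⸨X⸩ 2 := charP_of_injective_algebraMap (algebraMap F' F'⸨X⸩).injective 2
  -- valuation of y
  have hval : w' (y ^ 2 + y) = exp (2 * m) := by
    rw [heq, he, hf, ← exp_nsmul]; simp
  have hy1 : 1 < w' y := by
    by_contra hcon
    rw [not_lt] at hcon
    have h1 : w' (y ^ 2 + y) ≤ 1 := by
      refine (w'.map_add _ _).trans (max_le ?_ hcon)
      rw [map_pow]; exact pow_le_one' hcon 2
    rw [hval, ← exp_zero, exp_le_exp] at h1
    omega
  have hy0 : w' y ≠ 0 := (zero_lt_one.trans hy1).ne'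
  have hy : w' y = exp m := by
    have h1 : w' (y ^ 2 + y) = w' y ^ 2 := by
      rw [← map_pow]
      apply Valuation.map_add_eq_of_lt_left
      rw [map_pow, pow_two]
      calc w' y = w' y * 1 := (mul_one _).symm
        _ < w' y * w' y := by
          exact mul_lt_mul_of_pos_left hy1 (zero_lt_iff.2 hy0)
    rw [hval] at h1
    have h2 := congrArg log h1
    rw [log_exp, log_pow] at h2
    simp only [nsmul_eq_mul, Nat.cast_ofNat] at h2
    rw [← exp_log hy0]
    congr 1
    omega
  -- orders of the derivatives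
  have h1 : Valued.v (φ f) = exp (-(-m)) := by rw [hφ, hf, neg_neg]
  have h2 := val_D_eq h1 (cast_ne_zero_of_odd F hodd)
  have h3 : Valued.v (ψ y) = exp (-(-m)) := by rw [hψ, hy, neg_neg]
  have h4 := val_D_eq h3 (cast_ne_zero_of_odd F' hodd)
  have h5 : LocRes.D F' (ψ (algebraMap K K' f)) = LocRes.D F' (ψ y) := by
    rw [← heq, map_add, map_pow, map_add, Derivation.leibniz_pow]
    have : (2 : ℕ) • (ψ y ^ (2 - 1) • (LocRes.D F') (ψ y)) = 0 := by
      rw [two_nsmul]; exact CharTwo.add_self_eq_zero _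
    rw [this, zero_add]
  refine ⟨?_, ?_, ?_⟩
  · rw [vDiff_one, h2]; exact exp_ne_zero
  · rw [vDiff_one, h5, h4]; exact exp_ne_zero
  · rw [LocRes.diffExp, ordDiff_one, ordDiff_one, h5, h4, h2, log_exp]
    push_cast
    ring

end Local

end Groth.Agent.Lib.Helper63.LocResAS
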