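import Groth.Agent.Lib.Helper63.Wronsk
import Groth.Agent.Lib.Helper63.ASGenus
import Groth.Agent.Lib.Helper63.HyperDiff
import Groth.Agent.Lib.Helper63.LocResAS
import Groth.Agent.Lib.Helper63.ASNormal

/-! The order of `dx` at the places of an Artin-Schreier curve `y² + y = f(x)` in characteristic
`2`, through Laurent expansions (helper63). -/

set_option autoImplicit false
set_option linter.style.haveILetI false
set_option linter.unusedSectionVars false

namespace Groth.Agent.Lib.Helper63.ASDiff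

open LaurentSeries HahnSeries WithZero Polynomial IntermediateField FunFld
  Groth.Agent.Lib.Helper55
  Groth.Agent.Lib.Helper63.FunFldExt Groth.Agent.Lib.Helper63.Hyperelliptic
  Groth.Agent.Lib.Helper63.RatFuncPlaces Groth.Agent.Lib.Helper63.LocResBasic
  Groth.Agent.Lib.Helper63.ASLocal Groth.Agent.Lib.Helper63.HyperGenus
  Groth.Agent.Lib.Helper63.HyperDiff Groth.Agent.Lib.Helper63.Wronsk

local notation "ℤᵐ⁰" => WithZero (Multiplicative ℤ)

section quotient

variable {k K F : Type*} [Field k] [Field K] [Algebra k K] [Algebra (RatFunc k) K]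
  [IsScalarTower k (RatFunc k) K] [Field F] [Algebra k F]

local notation "ι" => algebraMap k[X] (RatFunc k)
local notation "jj" => algebraMap (RatFunc k) K

/-- The quotient rule through an expansion. -/
theorem D_ratFunc (ψ : K →ₐ[k] F⸨X⸩) (f : RatFunc k) :
    ψ (aeval (jj RatFunc.X) f.denom) ^ 2 * LocRes.D F (ψ (jj f)) =
      ψ (aeval (jj RatFunc.X) (derivative f.num * f.denom - f.num * derivative f.denom)) *
        LocRes.D F (ψ (jj RatFunc.X)) := by
  set x := jj RatFunc.X with hx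
  have h1 : ψ (jj f) * ψ (aeval x f.denom) = ψ (aeval x f.num) := by
    rw [← map_mul, ← j_poly, ← j_poly, ← map_mul, Groth.Agent.Lib.Helper63.ASNormal.mul_denom]
  have h2 := congrArg (LocRes.D F) h1
  rw [Derivation.leibniz, D_aeval, D_aeval, smul_eq_mul, smul_eq_mul] at h2
  rw [map_sub, map_mul, map_mul, map_sub, map_mul, map_mul]
  linear_combination ψ (aeval x f.denom) * h2 -
    ψ (aeval x (derivative f.denom)) * LocRes.D F (ψ x) * h1

/-- In characteristic two, `d(y² + y) = dy`. -/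
theorem D_as [CharP k 2] (ψ : K →ₐ[k] F⸨X⸩) (y : K) :
    LocRes.D F (ψ (y ^ 2 + y)) = LocRes.D F (ψ y) := by
  haveI : CharP K 2 := charP_of_injective_algebraMap (algebraMap k K).injective 2
  rw [map_add, map_add, D_sq]
  have h2 : (2 : K) = 0 := CharTwo.two_eq_zero
  rw [h2, zero_mul, map_zero, zero_mul, zero_add]

end quotient

section base

variable {k : Type*} [Field k]

local notation "ι" => algebraMap k[X] (RatFunc k)

/-- Values of the denominator and the Wronskian at a finite pole. -/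
theorem val_wronsk_finite [PerfectField k] (P : Place k (RatFunc k)) (hX : P.1 RatFunc.X ≤ 1)
    {f : RatFunc k} {m : ℕ} (hm : 1 ≤ m) (hmk : (m : k) ≠ 0) (hf : P.1 f = exp (m : ℤ)) :
    P.1 (ι f.denom) = exp (-(m : ℤ)) ∧
      P.1 (ι (derivative f.num * f.denom - f.num * derivative f.denom)) =
        exp (-((m : ℤ) - 1)) := by
  obtain ⟨p, hp, hpv⟩ := exists_irreducible_val_lt P hX
  have hpv1 := val_irreducible P hp hpv
  have hp0 : p ≠ 0 := hp.ne_zero
  have hB0 : f.denom ≠ 0 := RatFunc.denom_ne_zero f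
  have hrel : P.1 (ι f.num) = P.1 f * P.1 (ι f.denom) := by
    rw [← map_mul, Groth.Agent.Lib.Helper63.ASNormal.mul_denom]
  have hBlt : P.1 (ι f.denom) < 1 := by
    by_contra hge
    push Not at hge
    have h1 : P.1 (ι f.denom) = 1 := le_antisymm (val_poly_le_one P hX _) hge
    rw [h1, mul_one, hf] at hrel
    have h2 := val_poly_le_one P hX f.num
    rw [hrel, ← exp_zero, exp_le_exp] at h2
    omega
  have hpB : p ∣ f.denom := by
    by_contra hnd
    have := val_poly_eq_one_of_isCoprime P hp0 hpv ((hp.coprime_iff_not_dvd).2 hnd)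
    rw [this] at hBlt
    exact lt_irrefl _ hBlt
  have hpA : ¬ p ∣ f.num := by
    intro hA
    have hcop : IsCoprime f.num f.denom := RatFunc.isCoprime_num_denom f
    exact hp.not_isUnit (hcop.isUnit_of_dvd' hA hpB)
  have hA1 : P.1 (ι f.num) = 1 :=
    val_poly_eq_one_of_isCoprime P hp0 hpv ((hp.coprime_iff_not_dvd).2 hpA)
  have hBv : P.1 (ι f.denom) = exp (-(m : ℤ)) := by
    rw [hA1, hf] at hrel
    have : P.1 (ι f.denom) = (exp (m : ℤ))⁻¹ :=
      eq_inv_of_mul_eq_one_right hrel.symm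
    rw [this, ← exp_neg]
  obtain ⟨a, B₁, hB₁, hBeq⟩ := WfDvdMonoid.max_power_factor hB0 hp
  have hB₁v : P.1 (ι B₁) = 1 :=
    val_poly_eq_one_of_isCoprime P hp0 hpv ((hp.coprime_iff_not_dvd).2 hB₁)
  have ham : a = m := by
    have h1 : P.1 (ι f.denom) = exp (-(a : ℤ)) := by
      rw [hBeq, map_mul, map_pow, map_mul, map_pow, hpv1, hB₁v, mul_one, ← exp_nsmul]
      simp
    rw [hBv, exp_inj] at h1
    omega
  subst ham
  refine ⟨hBv, ?_⟩
  have hp' : derivative p ≠ 0 :=
    (separable_iff_derivative_ne_zero hp).1 (PerfectField.separable_of_irreducible hp)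
  have hR := not_dvd_wronsk_factor hp hp' hpA hB₁ a hmk
  have hRv := val_poly_eq_one_of_isCoprime P hp0 hpv ((hp.coprime_iff_not_dvd).2 hR)
  rw [hBeq, wronsk_pow_mul _ _ _ a hm, map_mul, map_pow, map_mul, map_pow, hpv1, hRv, mul_one,
    ← exp_nsmul]
  congr 1
  simp only [nsmul_eq_mul]
  push_cast [Nat.cast_sub hm]
  ring

/-- Values of the denominator and the Wronskian at an infinite pole. -/
theorem val_wronsk_inf (P : Place k (RatFunc k)) (hX : 1 < P.1 RatFunc.X)
    {f : RatFunc k} {m : ℕ} (hmk : (m : k) ≠ 0) (hf : P.1 f = exp (m : ℤ)) :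
    ∃ β : ℕ, P.1 (ι f.denom) = exp (β : ℤ) ∧
      P.1 (ι (derivative f.num * f.denom - f.num * derivative f.denom)) =
        exp ((m : ℤ) + 2 * β - 1) := by
  have hf0 : f ≠ 0 := by
    rintro rfl
    rw [map_zero] at hf
    exact exp_ne_zero hf.symm
  have hA0 : f.num ≠ 0 := RatFunc.num_ne_zero hf0
  have hB0 : f.denom ≠ 0 := RatFunc.denom_ne_zero f
  have hdeg : (f.num.natDegree : ℤ) - f.denom.natDegree = m := by
    have := Groth.Agent.Lib.Helper63.ASNormal.val_inf P hX hf0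
    rw [hf, exp_inj] at this
    exact this.symm
  have hne : ((f.num.natDegree : k) - (f.denom.natDegree : k)) ≠ 0 := by
    have h1 : ((f.num.natDegree : k) - (f.denom.natDegree : k)) =
        (((f.num.natDegree : ℤ) - f.denom.natDegree : ℤ) : k) := by push_cast; ring
    rw [h1, hdeg]
    exact_mod_cast hmk
  obtain ⟨hW, hpos, hW0⟩ := natDegree_wronsk hA0 hB0 hne
  refine ⟨f.denom.natDegree, val_poly_inf' P hX hB0, ?_⟩
  rw [val_poly_inf' P hX hW0, hW]
  congr 1
  push_cast [Nat.cast_sub hpos]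
  omega

end base

section places

variable {k K F : Type*} [Field k] [Field K] [Algebra k K] [Algebra (RatFunc k) K]
  [IsScalarTower k (RatFunc k) K] [Field F] [Algebra k F]

local notation "ι" => algebraMap k[X] (RatFunc k)
local notation "jj" => algebraMap (RatFunc k) K

/-- `dx` has order `0` at unramified finite places. -/
theorem val_D_x_unram_finite {Q : Place k K} {P : Place k (RatFunc k)} (he : IsOverWith Q P 1)
    (hX : P.1 RatFunc.X ≤ 1) (ψ : K →ₐ[k] F⸨X⸩) (hψ : LocRes.IsExpansionAt Q.1 ψ) :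
    Valued.v (LocRes.D F (ψ (jj RatFunc.X))) = 1 := by
  obtain ⟨hv, -, -, -⟩ := hψ
  set x := jj RatFunc.X with hxdef
  have hx : Q.1 x ≤ 1 := by rw [hxdef, he, pow_one]; exact hX
  have hDx1 : Valued.v (LocRes.D F (ψ x)) ≤ 1 := by
    have h2' : Valued.v (ψ x) ≤ exp (-(0 : ℤ)) := by rw [hv]; simpa using hx
    simpa using val_D_le_of_cast_eq_zero h2' (by simp)
  obtain ⟨p, hp, hpv⟩ := exists_irreducible_val_lt P hX
  have hpu : Q.1 (aeval x p) = exp (-1) := by
    rw [← j_poly, he, pow_one, val_irreducible P hp hpv]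
  have h1 := val_D_uniformizer Q.1 ψ hv hpu
  rw [D_aeval, map_mul, hv] at h1
  exact eq_one_of_mul_eq_one
    (Groth.Agent.Lib.Helper63.ZerosBound.val_aeval_le_one Q.1 Q.2.1 hx _) hDx1 h1

/-- `dx` has order `-2` at unramified infinite places. -/
theorem val_D_x_unram_inf {Q : Place k K} {P : Place k (RatFunc k)} (he : IsOverWith Q P 1)
    (hX : 1 < P.1 RatFunc.X) (ψ : K →ₐ[k] F⸨X⸩) (hψ : LocRes.IsExpansionAt Q.1 ψ) :
    Q.1 (jj RatFunc.X) = exp 1 ∧ Valued.v (LocRes.D F (ψ (jj RatFunc.X))) = exp 2 := by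
  obtain ⟨hv, -, -, -⟩ := hψ
  have hxv : Q.1 (jj RatFunc.X) = exp 1 := by rw [he, pow_one, val_X_inf P hX]
  refine ⟨hxv, ?_⟩
  have h1 : Valued.v (ψ (jj RatFunc.X)) = exp (-(-1 : ℤ)) := by rw [hv, hxv]; congr 1
  rw [val_D_eq h1 (by simp)]
  congr 1

/-- The common part of the computation at a ramified pole of odd order `m`. -/
theorem val_D_x_pole_aux [CharP k 2] {Q : Place k K} {P : Place k (RatFunc k)}
    (he : IsOverWith Q P 2) {y : K} {f : RatFunc k} (heq : y ^ 2 + y = jj f)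
    {m : ℕ} (hmodd : Odd m) (hu : P.1 f = exp (m : ℤ))
    (ψ : K →ₐ[k] F⸨X⸩) (hψ : LocRes.IsExpansionAt Q.1 ψ) :
    (P.1 (ι f.denom) ^ 2) ^ 2 * exp ((m : ℤ) + 1) =
      P.1 (ι (derivative f.num * f.denom - f.num * derivative f.denom)) ^ 2 *
        Valued.v (LocRes.D F (ψ (jj RatFunc.X))) := by
  obtain ⟨hv, -, -, -⟩ := hψ
  haveI : CharP F 2 := charP_of_injective_algebraMap (algebraMap k F).injective 2
  obtain ⟨j, hj⟩ := hmodd
  have hyv : Q.1 y = exp (m : ℤ) := by
    have h1 := val_of_odd_pole he heq (d := (j : ℤ) + 1) (by omega) (by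
      rw [hu]; congr 1; rw [hj]; push_cast; ring)
    rw [h1]
    congr 1
    rw [hj]; push_cast; ring
  have hDy : Valued.v (LocRes.D F (ψ y)) = exp ((m : ℤ) + 1) := by
    have h1 : Valued.v (ψ y) = exp (-(-(m : ℤ))) := by rw [hv, hyv, neg_neg]
    have hmodd' : Odd (m : ℤ) := ⟨j, by rw [hj]; push_cast; ring⟩
    rw [val_D_eq h1 (Groth.Agent.Lib.Helper63.LocResAS.cast_ne_zero_of_odd F hmodd')]
    congr 1
    ring
  have h3 := D_ratFunc ψ f
  rw [← heq, D_as] at h3
  have h4 := congrArg Valued.v h3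
  rw [Valuation.map_mul, Valuation.map_mul, Valuation.map_pow, hv, hv, hDy, ← j_poly, ← j_poly,
    he, he] at h4
  exact h4

/-- `dx` has order `m + 1` at a ramified finite pole of odd order `m`. -/
theorem val_D_x_pole_finite [PerfectField k] [CharP k 2] {Q : Place k K}
    {P : Place k (RatFunc k)}
    (he : IsOverWith Q P 2) (hX : P.1 RatFunc.X ≤ 1) {y : K} {f : RatFunc k}
    (heq : y ^ 2 + y = jj f) {m : ℕ} (hmodd : Odd m) (hu : P.1 f = exp (m : ℤ))
    (ψ : K →ₐ[k] F⸨X⸩) (hψ : LocRes.IsExpansionAt Q.1 ψ) :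
    Valued.v (LocRes.D F (ψ (jj RatFunc.X))) = exp (-((m : ℤ) + 1)) := by
  have hm1 : 1 ≤ m := hmodd.pos
  have hmk : (m : k) ≠ 0 := by
    obtain ⟨j, hj⟩ := hmodd
    have h2 : (2 : k) = 0 := CharTwo.two_eq_zero
    rw [hj]
    push_cast
    rw [h2, zero_mul, zero_add]
    exact one_ne_zero
  obtain ⟨hB, hW⟩ := val_wronsk_finite P hX hm1 hmk hu
  have h := val_D_x_pole_aux he heq hmodd hu ψ hψ
  rw [hB, hW] at h
  have hv0 : Valued.v (LocRes.D F (ψ (jj RatFunc.X))) ≠ 0 := by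
    intro h0
    rw [h0, mul_zero] at h
    exact mul_ne_zero (pow_ne_zero _ (pow_ne_zero _ exp_ne_zero)) exp_ne_zero h
  obtain ⟨c, hc⟩ : ∃ c : ℤ, Valued.v (LocRes.D F (ψ (jj RatFunc.X))) = exp c :=
    ⟨_, (exp_log hv0).symm⟩
  rw [hc] at h ⊢
  rw [← exp_nsmul, ← exp_nsmul, ← exp_nsmul, ← exp_add, ← exp_add, exp_inj] at h
  simp only [nsmul_eq_mul] at h
  push_cast at h
  congr 1
  omega

/-- `dx` has order `m - 3` at a ramified infinite pole of odd order `m`. -/
theorem val_D_x_pole_inf [CharP k 2] {Q : Place k K} {P : Place k (RatFunc k)}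
    (he : IsOverWith Q P 2) (hX : 1 < P.1 RatFunc.X) {y : K} {f : RatFunc k}
    (heq : y ^ 2 + y = jj f) {m : ℕ} (hmodd : Odd m) (hu : P.1 f = exp (m : ℤ))
    (ψ : K →ₐ[k] F⸨X⸩) (hψ : LocRes.IsExpansionAt Q.1 ψ) :
    Q.1 (jj RatFunc.X) = exp 2 ∧
      Valued.v (LocRes.D F (ψ (jj RatFunc.X))) = exp (3 - (m : ℤ)) := by
  have hmk : (m : k) ≠ 0 := by
    obtain ⟨j, hj⟩ := hmodd
    have h2 : (2 : k) = 0 := CharTwo.two_eq_zero
    rw [hj]
    push_cast
    rw [h2, zero_mul, zero_add]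
    exact one_ne_zero
  have hxv : Q.1 (jj RatFunc.X) = exp 2 := by
    rw [he, val_X_inf P hX, ← exp_nsmul]
    congr 1
  refine ⟨hxv, ?_⟩
  obtain ⟨β, hB, hW⟩ := val_wronsk_inf P hX hmk hu
  have h := val_D_x_pole_aux he heq hmodd hu ψ hψ
  rw [hB, hW] at h
  have hv0 : Valued.v (LocRes.D F (ψ (jj RatFunc.X))) ≠ 0 := by
    intro h0
    rw [h0, mul_zero] at h
    exact mul_ne_zero (pow_ne_zero _ (pow_ne_zero _ exp_ne_zero)) exp_ne_zero h
  obtain ⟨c, hc⟩ : ∃ c : ℤ, Valued.v (LocRes.D F (ψ (jj RatFunc.X))) = exp c :=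
    ⟨_, (exp_log hv0).symm⟩
  rw [hc] at h ⊢
  rw [← exp_nsmul, ← exp_nsmul, ← exp_nsmul, ← exp_add, ← exp_add, exp_inj] at h
  simp only [nsmul_eq_mul] at h
  push_cast at h
  congr 1
  omega

end places

end Groth.Agent.Lib.Helper63.ASDiff
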