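import Groth.Agent.Lib.Helper63.ArtinSchreier
import Groth.Agent.Lib.Helper63.Galois

/-! Local analysis of Artin-Schreier extensions `α² + α = u` in characteristic `2`: values of
`α`, the involution, and the decomposition `z = a + b α` (helper63). -/

set_option autoImplicit false
set_option linter.style.haveILetI false
set_option linter.unusedSectionVars false

namespace Groth.Agent.Lib.Helper63.ASLocal

open WithZero Polynomial IntermediateField FunFld Groth.Agent.Lib.Helper55
  Groth.Agent.Lib.Helper63.FunFldExt Groth.Agent.Lib.Helper63.Hyperelliptic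
  Groth.Agent.Lib.Helper63.Galois

local notation "ℤᵐ⁰" => WithZero (Multiplicative ℤ)

section order

theorem eq_exp_of_sq_eq {a : ℤᵐ⁰} {n : ℤ} (h : a ^ 2 = exp (2 * n)) : a = exp n := by
  have ha0 : a ≠ 0 := by
    rintro rfl
    rw [zero_pow two_ne_zero] at h
    exact exp_ne_zero h.symm
  obtain ⟨m, rfl⟩ : ∃ m : ℤ, a = exp m := ⟨_, (exp_log ha0).symm⟩
  rw [← exp_nsmul, exp_inj] at h
  simp only [nsmul_eq_mul] at h
  congr 1
  push_cast at h
  omega

theorem le_exp_of_sq_le {a : ℤᵐ⁰} {n : ℤ} (h : a ^ 2 ≤ exp (2 * n)) : a ≤ exp n := by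
  obtain rfl | ha0 := eq_or_ne a 0
  · exact zero_le
  obtain ⟨m, rfl⟩ : ∃ m : ℤ, a = exp m := ⟨_, (exp_log ha0).symm⟩
  rw [← exp_nsmul, exp_le_exp] at h
  simp only [nsmul_eq_mul] at h
  rw [exp_le_exp]
  push_cast at h
  omega

theorem le_exp_of_sq_mul_le {b : ℤᵐ⁰} {n d : ℤ} (h : b ^ 2 * exp (2 * d - 1) ≤ exp (2 * n)) :
    b ≤ exp (n - d) := by
  obtain rfl | hb0 := eq_or_ne b 0
  · exact zero_le
  obtain ⟨m, rfl⟩ : ∃ m : ℤ, b = exp m := ⟨_, (exp_log hb0).symm⟩
  rw [← exp_nsmul, ← exp_add, exp_le_exp] at h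
  simp only [nsmul_eq_mul] at h
  rw [exp_le_exp]
  push_cast at h
  omega

theorem sq_ne_sq_mul {a b : ℤᵐ⁰} {d : ℤ} (hab : ¬ (a = 0 ∧ b = 0)) :
    a ^ 2 ≠ b ^ 2 * exp (2 * d - 1) := by
  intro h
  by_cases ha : a = 0
  · rw [ha, zero_pow two_ne_zero] at h
    have := (mul_eq_zero.1 h.symm).resolve_right exp_ne_zero
    exact hab ⟨ha, (pow_eq_zero_iff two_ne_zero).1 this⟩
  by_cases hb : b = 0
  · rw [hb, zero_pow two_ne_zero, zero_mul] at h
    exact ha ((pow_eq_zero_iff two_ne_zero).1 h)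
  obtain ⟨m, rfl⟩ : ∃ m : ℤ, a = exp m := ⟨_, (exp_log ha).symm⟩
  obtain ⟨m', rfl⟩ : ∃ m : ℤ, b = exp m := ⟨_, (exp_log hb).symm⟩
  rw [← exp_nsmul, ← exp_nsmul, ← exp_add, exp_inj] at h
  simp only [nsmul_eq_mul] at h
  push_cast at h
  omega

end order

section quadratic

variable {E K : Type*} [Field E] [Field K] [Algebra E K]

/-- In a quadratic extension every element is `a + b y` for any `y` outside the base. -/
theorem exists_decomp (hdeg : Module.finrank E K = 2) {y : K}
    (hy : y ∉ Set.range (algebraMap E K)) (z : K) :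
    ∃ a b : E, z = algebraMap E K a + algebraMap E K b * y := by
  haveI : FiniteDimensional E K := Module.finite_of_finrank_pos (by rw [hdeg]; norm_num)
  have hint : IsIntegral E y := Algebra.IsIntegral.isIntegral y
  have htop : E⟮y⟯ = ⊤ := adjoin_eq_top_of_prime (by rw [hdeg]; exact Nat.prime_two) hy
  have hx : Algebra.adjoin E ({y} : Set K) = ⊤ := by
    rw [← IntermediateField.adjoin_simple_toSubalgebra_of_isAlgebraic hint.isAlgebraic, htop,
      IntermediateField.top_toSubalgebra]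
  have hz : z ∈ Algebra.adjoin E ({y} : Set K) := by
    rw [hx]
    exact Algebra.mem_top
  rw [Algebra.adjoin_singleton_eq_range_aeval] at hz
  obtain ⟨q, rfl⟩ := hz
  set g : E[X] := minpoly E y with hg
  have hgm : g.Monic := minpoly.monic hint
  have hgd : g.natDegree = 2 := by
    rw [hg, ← IntermediateField.adjoin.finrank hint, htop, IntermediateField.finrank_top', hdeg]
  have hg1 : g ≠ 1 := by
    intro h
    have := congrArg natDegree h
    rw [hgd, natDegree_one] at this
    omega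
  have hgy : aeval y g = 0 := minpoly.aeval E y
  have hdeg' : (q %ₘ g).natDegree ≤ 1 := by
    have := natDegree_modByMonic_lt q hgm hg1
    rw [hgd] at this
    omega
  have h1 := eq_X_add_C_of_natDegree_le_one hdeg'
  refine ⟨(q %ₘ g).coeff 0, (q %ₘ g).coeff 1, ?_⟩
  show aeval y q = _
  conv_lhs => rw [← modByMonic_add_div q g]
  rw [map_add, map_mul, hgy, zero_mul, add_zero]
  conv_lhs => rw [h1]
  rw [map_add, map_mul, aeval_C, aeval_C, aeval_X]
  ring

/-- The Artin-Schreier involution `y ↦ y + 1`. -/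
theorem exists_involution [CharP E 2] (hdeg : Module.finrank E K = 2) {y : K} {r : E}
    (heq : y ^ 2 + y = algebraMap E K r) (hy : y ∉ Set.range (algebraMap E K)) :
    ∃ σ : K ≃ₐ[E] K, σ y = y + 1 := by
  haveI : Algebra.IsQuadraticExtension E K := ⟨hdeg⟩
  haveI : FiniteDimensional E K := Module.finite_of_finrank_pos (by rw [hdeg]; norm_num)
  haveI : CharP K 2 := charP_of_injective_algebraMap (algebraMap E K).injective 2
  have hint : IsIntegral E y := Algebra.IsIntegral.isIntegral y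
  have hmonic : (X ^ 2 + X - C r : E[X]).Monic := by
    have h1 : (X ^ 2 + X - C r : E[X]) = X ^ 2 + (X - C r) := by ring
    rw [h1]
    apply Monic.add_of_left (monic_X_pow 2)
    rw [degree_X_pow, degree_X_sub_C]
    norm_num
  have hnd : (X ^ 2 + X - C r : E[X]).natDegree = 2 := by
    have h1 : (X ^ 2 + X - C r : E[X]) = X ^ 2 + (X - C r) := by ring
    rw [h1, natDegree_add_eq_left_of_natDegree_lt]
    · exact natDegree_X_pow 2
    · rw [natDegree_X_pow, natDegree_X_sub_C]
      norm_num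
  have hmin : minpoly E y = X ^ 2 + X - C r := by
    have hdvd : minpoly E y ∣ X ^ 2 + X - C r :=
      minpoly.dvd _ _ (by rw [map_sub, map_add, map_pow, aeval_X, aeval_C, heq, sub_self])
    have h2 : 2 ≤ (minpoly E y).natDegree :=
      (minpoly.two_le_natDegree_iff hint).2 (fun h => hy (RingHom.mem_range.1 h))
    exact (Polynomial.eq_of_monic_of_dvd_of_natDegree_le (minpoly.monic hint) hmonic hdvd
      (by rw [hnd]; exact h2)).symm
  obtain ⟨σ, hσ⟩ := minpoly.exists_algEquiv_of_root' (x := y + 1) (y := y) hint.isAlgebraic (by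
    rw [hmin, map_sub, map_add, map_pow, aeval_X, aeval_C, ← heq]
    have h2 : (2 : K) = 0 := CharTwo.two_eq_zero
    linear_combination (y + 1) * h2)
  exact ⟨σ, hσ⟩

end quadratic

section loc

variable {k K K' : Type*} [Field k] [Field K] [Field K'] [Algebra k K] [Algebra K K']
  [Algebra k K']

/-- `α` is integral wherever `u = α² + α` is. -/
theorem val_le_one {Q : Place k K'} {α : K'} {u : K}
    (hα : α ^ 2 + α = algebraMap K K' u) (hu : Q.1 (algebraMap K K' u) ≤ 1) : Q.1 α ≤ 1 := by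
  by_contra h
  push Not at h
  have h2 : Q.1 (α ^ 2 + α) = Q.1 α ^ 2 := by
    rw [← map_pow]
    apply Valuation.map_add_eq_of_lt_left
    rw [map_pow, pow_two]
    exact lt_mul_of_one_lt_left (zero_lt_one.trans h) h
  rw [hα] at h2
  rw [h2] at hu
  exact absurd hu (not_le.2 (one_lt_pow₀ h two_ne_zero))

/-- At a pole of `u`, `α` has a pole with `v(α)² = v(u)`. -/
theorem val_sq_of_pole {Q : Place k K'} {α : K'} {u : K}
    (hα : α ^ 2 + α = algebraMap K K' u) (hu : 1 < Q.1 (algebraMap K K' u)) :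
    1 < Q.1 α ∧ Q.1 α ^ 2 = Q.1 (algebraMap K K' u) := by
  have hα1 : 1 < Q.1 α := by
    by_contra h
    push Not at h
    have : Q.1 (α ^ 2 + α) ≤ 1 := by
      refine (Q.1.map_add _ _).trans (max_le ?_ h)
      rw [map_pow]
      exact pow_le_one₀ zero_le h
    rw [hα] at this
    exact absurd hu (not_lt.2 this)
  refine ⟨hα1, ?_⟩
  rw [← hα, ← map_pow]
  symm
  apply Valuation.map_add_eq_of_lt_left
  rw [map_pow, pow_two]
  exact lt_mul_of_one_lt_left (zero_lt_one.trans hα1) hα1

/-- At a ramified pole of odd order `2d - 1`, `v_Q(α) = exp (2d - 1)`. -/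
theorem val_of_odd_pole {Q : Place k K'} {P : Place k K} (he : IsOverWith Q P 2) {α : K'} {u : K}
    (hα : α ^ 2 + α = algebraMap K K' u) {d : ℤ} (hd : 1 ≤ d) (hu : P.1 u = exp (2 * d - 1)) :
    Q.1 α = exp (2 * d - 1) := by
  have h1 : Q.1 (algebraMap K K' u) = exp (2 * (2 * d - 1)) := by
    rw [he, hu, ← exp_nsmul]
    congr 1
  have h2 : 1 < Q.1 (algebraMap K K' u) := by
    rw [h1, ← exp_zero, exp_lt_exp]
    omega
  apply eq_exp_of_sq_eq
  rw [(val_sq_of_pole hα h2).2, h1]

/-- The decomposition at a ramified pole of odd order. -/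
theorem decomp_pole {Q : Place k K'} {P : Place k K} (he : IsOverWith Q P 2) {α : K'} {u : K}
    (hα : α ^ 2 + α = algebraMap K K' u) {d : ℤ} (hd : 1 ≤ d) (hu : P.1 u = exp (2 * d - 1))
    {a b : K} {n : ℤ} (hz : Q.1 (algebraMap K K' a + algebraMap K K' b * α) ≤ exp (2 * n)) :
    P.1 a ≤ exp n ∧ P.1 b ≤ exp (n - d) := by
  have hαv := val_of_odd_pole he hα hd hu
  by_cases hab : P.1 a = 0 ∧ P.1 b = 0
  · rw [hab.1, hab.2]
    exact ⟨zero_le, zero_le⟩
  have hne : Q.1 (algebraMap K K' a) ≠ Q.1 (algebraMap K K' b * α) := by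
    rw [map_mul, he, he, hαv]
    exact sq_ne_sq_mul hab
  rw [Valuation.map_add_of_distinct_val _ hne, max_le_iff, map_mul, he, he, hαv] at hz
  exact ⟨le_exp_of_sq_le hz.1, le_exp_of_sq_mul_le hz.2⟩

/-- The converse at a ramified pole. -/
theorem val_le_of_pole {Q : Place k K'} {P : Place k K} (he : IsOverWith Q P 2) {α : K'} {u : K}
    (hα : α ^ 2 + α = algebraMap K K' u) {d : ℤ} (hd : 1 ≤ d) (hu : P.1 u = exp (2 * d - 1))
    {a b : K} {n : ℤ} (ha : P.1 a ≤ exp n) (hb : P.1 b ≤ exp (n - d)) :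
    Q.1 (algebraMap K K' a + algebraMap K K' b * α) ≤ exp (2 * n) := by
  have hαv := val_of_odd_pole he hα hd hu
  refine (Q.1.map_add _ _).trans (max_le ?_ ?_)
  · rw [he]
    calc P.1 a ^ 2 ≤ exp n ^ 2 := pow_le_pow_left₀ zero_le ha 2
      _ = exp (2 * n) := by rw [← exp_nsmul]; congr 1
  · rw [map_mul, he, hαv]
    calc P.1 b ^ 2 * exp (2 * d - 1) ≤ exp (n - d) ^ 2 * exp (2 * d - 1) :=
          mul_le_mul' (pow_le_pow_left₀ zero_le hb 2) le_rfl
      _ = exp (2 * n - 1) := by
          rw [← exp_nsmul, ← exp_add]; congr 1; simp only [nsmul_eq_mul]; push_cast; ring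
      _ ≤ exp (2 * n) := by rw [exp_le_exp]; omega

/-- The decomposition at places where `u` is integral, by the trace. -/
theorem decomp_integral (σ : K' ≃ₐ[K] K') {Q : Place k K'} {α : K'} {u : K}
    (hα : α ^ 2 + α = algebraMap K K' u) (hσ : σ α = α + 1)
    (hu : Q.1 (algebraMap K K' u) ≤ 1)
    {a b : K} {B : ℤᵐ⁰} (hz : Q.1 (algebraMap K K' a + algebraMap K K' b * α) ≤ B)
    (hz' : Q.1 (σ (algebraMap K K' a + algebraMap K K' b * α)) ≤ B) :
    Q.1 (algebraMap K K' a) ≤ B ∧ Q.1 (algebraMap K K' b) ≤ B := by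
  have hα1 := val_le_one hα hu
  have hb : Q.1 (algebraMap K K' b) ≤ B := by
    have h1 : algebraMap K K' b = σ (algebraMap K K' a + algebraMap K K' b * α) -
        (algebraMap K K' a + algebraMap K K' b * α) := by
      rw [map_add, map_mul, σ.commutes, σ.commutes, hσ]
      ring
    rw [h1]
    exact (Valuation.map_sub _ _ _).trans (max_le hz' hz)
  refine ⟨?_, hb⟩
  have h2 : algebraMap K K' a = (algebraMap K K' a + algebraMap K K' b * α) -
      algebraMap K K' b * α := by ring
  rw [h2]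
  refine (Valuation.map_sub _ _ _).trans (max_le hz ?_)
  rw [map_mul]
  calc Q.1 (algebraMap K K' b) * Q.1 α ≤ B * 1 := mul_le_mul' hb hα1
    _ = B := mul_one _

end loc

end Groth.Agent.Lib.Helper63.ASLocal
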