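import Groth.Agent.Lib.Helper63.Hyperelliptic
import Groth.Agent.Lib.Helper63.Galois
import Groth.Agent.Lib.Helper55.FunFld.Apps

/-! The genus of a hyperelliptic function field `y² = f(x)`, `char ≠ 2` (helper63). -/

set_option autoImplicit false
set_option linter.style.haveILetI false
set_option linter.unusedSectionVars false

namespace Groth.Agent.Lib.Helper63.HyperGenus

open WithZero Polynomial IntermediateField FunFld Groth.Agent.Lib.Helper55
  Groth.Agent.Lib.Helper63.RatFuncPlaces Groth.Agent.Lib.Helper63.Hyperelliptic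
  Groth.Agent.Lib.Helper63.Galois

section

variable {k K : Type*} [Field k] [Field K] [Algebra k K] [Algebra (RatFunc k) K]
  [IsScalarTower k (RatFunc k) K]

local notation "ι" => algebraMap k[X] (RatFunc k)
local notation "jj" => algebraMap (RatFunc k) K

theorem j_poly (g : k[X]) : jj (ι g) = aeval (jj RatFunc.X) g := by
  have h1 : ((IsScalarTower.toAlgHom k (RatFunc k) K).comp
      (IsScalarTower.toAlgHom k (Polynomial k) (RatFunc k))) = aeval (jj RatFunc.X) := by
    apply Polynomial.algHom_ext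
    simp only [AlgHom.coe_comp, Function.comp_apply, IsScalarTower.coe_toAlgHom', aeval_X]
    rw [RatFunc.algebraMap_X]
  exact DFunLike.congr_fun h1 g

theorem transcendental_x : Transcendental k (jj (RatFunc.X : RatFunc k)) := by
  have h1 : Transcendental k (RatFunc.X : RatFunc k) := by
    apply RatFunc.transcendental_of_ne_C
    rintro ⟨c, hc⟩
    have := congrArg RatFunc.num hc
    rw [RatFunc.num_X, RatFunc.num_C] at this
    have h4 := congrArg Polynomial.natDegree this
    rw [natDegree_X, natDegree_C] at h4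
    omega
  exact (transcendental_algebraMap_iff (algebraMap (RatFunc k) K).injective).2 h1

theorem transcendental_poly {B : k[X]} (hB : 0 < B.natDegree) : Transcendental k (jj (ι B)) := by
  have h1 : Transcendental k (ι B) := by
    apply RatFunc.transcendental_of_ne_C
    rintro ⟨c, hc⟩
    have h1 : B = C c := RatFunc.algebraMap_injective k (by
      rw [RatFunc.algebraMap_C]
      exact hc)
    rw [h1, natDegree_C] at hB
    exact lt_irrefl _ hB
  exact (transcendental_algebraMap_iff (algebraMap (RatFunc k) K).injective).2 h1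

/-- The pole divisor of `x` vanishes at places where `x` is integral. -/
theorem poleDiv_eq_zero (hK : IsFunctionField k K) {t : K} {P : Place k K} (h : P.1 t ≤ 1) :
    (ff_poleDiv t : Divisor k K) P = 0 := by
  rw [ff_poleDiv_apply hK]
  by_cases ht : t = 0
  · rw [ht, ff_ord_zero]
    simp
  · have := (ff_ord_nonneg_iff P ht).2 h
    omega

theorem exp_poleDiv_of_pole (hK : IsFunctionField k K) {t : K} {P : Place k K} (h : 1 < P.1 t) :
    exp ((ff_poleDiv t : Divisor k K) P) = P.1 t := by
  have ht : t ≠ 0 := by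
    rintro rfl
    rw [map_zero] at h
    exact not_lt_zero h
  rw [ff_poleDiv_apply hK, ff_val_eq_exp_neg_ord P ht]
  have := (ff_ord_neg_iff P ht).2 h
  congr 1
  omega

/-- Rational functions in `L(N (x)_∞)` are polynomials of degree at most `N`. -/
theorem ratFunc_mem_L (hK : IsFunctionField k K) (N : ℕ) (r : RatFunc k)
    (hr : jj r ∈ L (N • (ff_poleDiv (jj RatFunc.X) : Divisor k K))) :
    ∃ A : k[X], A.natDegree ≤ N ∧ r = ι A := by
  set x := jj (RatFunc.X : RatFunc k) with hx
  have hxtr : Transcendental k x := transcendental_x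
  by_cases hr0 : r = 0
  · exact ⟨0, by simp, by rw [hr0, map_zero]⟩
  have hB0 : r.denom ≠ 0 := RatFunc.denom_ne_zero r
  have hA0 : r.num ≠ 0 := RatFunc.num_ne_zero hr0
  have hrel : jj r * aeval x r.denom = aeval x r.num := by
    rw [← j_poly, ← j_poly, ← map_mul]
    congr 1
    conv_lhs => rw [← RatFunc.num_div_denom r]
    have : (ι r.num / ι r.denom).denom = r.denom := by rw [RatFunc.num_div_denom r]
    rw [this, div_mul_cancel₀]
    rw [Ne, map_eq_zero_iff _ (RatFunc.algebraMap_injective k)]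
    exact hB0
  have hdenom : r.denom.natDegree = 0 := by
    by_contra hpos
    have hpos' : 0 < r.denom.natDegree := Nat.pos_of_ne_zero hpos
    obtain ⟨P, hP⟩ := ff_exists_zero hK (transcendental_poly (K := K) hpos')
    rw [j_poly] at hP
    have hxP : P.1 x ≤ 1 := val_le_one_of_val_aeval_lt_one P.1 P.2.1 hB0 hP
    have hA1 : P.1 (aeval x r.num) = 1 :=
      val_aeval_eq_one_of_isCoprime P.1 P.2.1 hB0 hP (RatFunc.isCoprime_num_denom r).symm
    have hle := hr P
    rw [Finsupp.smul_apply, poleDiv_eq_zero hK hxP, smul_zero, exp_zero] at hle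
    have h1 := congrArg P.1 hrel
    rw [map_mul, hA1] at h1
    have h2 : P.1 (jj r) * P.1 (aeval x r.denom) < 1 := by
      calc P.1 (jj r) * P.1 (aeval x r.denom) ≤ 1 * P.1 (aeval x r.denom) :=
            mul_le_mul' hle le_rfl
        _ = P.1 (aeval x r.denom) := one_mul _
        _ < 1 := hP
    rw [h1] at h2
    exact lt_irrefl _ h2
  have hden1 : r.denom = 1 := by
    have h1 := eq_C_of_natDegree_eq_zero hdenom
    have h2 := RatFunc.monic_denom r
    rw [h1, Monic, leadingCoeff_C] at h2
    rw [h1, h2, map_one]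
  have hrA : r = ι r.num := by
    have := RatFunc.num_div_denom r
    rw [hden1, map_one, div_one] at this
    exact this.symm
  refine ⟨r.num, ?_, hrA⟩
  obtain ⟨P, hP⟩ := ff_exists_zero hK (ff_transcendental_inv hxtr)
  have hx0 : x ≠ 0 := fun h => hxtr (h ▸ isAlgebraic_zero)
  have hPx0 : 0 < P.1 x := zero_lt_iff.2 ((Valuation.ne_zero_iff _).2 hx0)
  have hxP : 1 < P.1 x := by
    rw [map_inv₀] at hP
    exact (inv_lt_one₀ hPx0).1 hP
  have hle := hr P
  rw [hrA, j_poly, val_aeval_of_one_lt P.1 P.2.1 hxP hA0, Finsupp.smul_apply, exp_nsmul,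
    exp_poleDiv_of_pole hK hxP] at hle
  exact (pow_le_pow_iff_right₀ hxP).1 hle

/-- If `b² f` is a polynomial of degree less than `deg f` and `f` is squarefree then `b = 0`. -/
theorem eq_zero_of_sq_mul {f W : k[X]} (hf : Squarefree f) {b : RatFunc k}
    (h : b ^ 2 * ι f = ι W) (hW : W.natDegree < f.natDegree) : b = 0 := by
  by_contra hb0
  have hu0 : b.num ≠ 0 := RatFunc.num_ne_zero hb0
  have hv0 : b.denom ≠ 0 := RatFunc.denom_ne_zero b
  have hf0 : f ≠ 0 := hf.ne_zero
  have hv0' : ι b.denom ≠ 0 := by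
    rw [Ne, map_eq_zero_iff _ (RatFunc.algebraMap_injective k)]
    exact hv0
  have hb : b * ι b.denom = ι b.num := by
    conv_lhs => rw [← RatFunc.num_div_denom b]
    have : (ι b.num / ι b.denom).denom = b.denom := by rw [RatFunc.num_div_denom b]
    rw [this, div_mul_cancel₀ _ hv0']
  have hpoly : b.num ^ 2 * f = W * b.denom ^ 2 := by
    apply RatFunc.algebraMap_injective k
    rw [map_mul, map_mul, map_pow, map_pow, ← hb, ← h]
    ring
  have hcop : IsCoprime (b.denom ^ 2) (b.num ^ 2) := (RatFunc.isCoprime_num_denom b).symm.pow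
  have hdvd : b.denom ^ 2 ∣ f := by
    apply hcop.dvd_of_dvd_mul_left
    rw [hpoly]
    exact dvd_mul_left _ _
  have hunit : IsUnit b.denom := hf b.denom (by rw [← pow_two]; exact hdvd)
  have hvdeg : b.denom.natDegree = 0 := natDegree_eq_zero_of_isUnit hunit
  have h1 := congrArg natDegree hpoly
  have hW0 : W ≠ 0 := by
    rintro rfl
    rw [zero_mul] at hpoly
    exact mul_ne_zero (pow_ne_zero 2 hu0) hf0 hpoly
  rw [natDegree_mul (pow_ne_zero 2 hu0) hf0, natDegree_mul hW0 (pow_ne_zero 2 hv0),
    natDegree_pow, natDegree_pow, hvdeg] at h1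
  omega

end

section hyper

variable {k K : Type*} [Field k] [Field K] [Algebra k K] [Algebra (RatFunc k) K]
  [IsScalarTower k (RatFunc k) K]

local notation "ι" => algebraMap k[X] (RatFunc k)
local notation "jj" => algebraMap (RatFunc k) K

/-- The hyperelliptic involution. -/
theorem exists_involution (hdeg : Module.finrank (RatFunc k) K = 2) {y : K} {r : RatFunc k}
    (heq : y ^ 2 = jj r) (hy : y ∉ Set.range jj) : ∃ σ : K ≃ₐ[RatFunc k] K, σ y = -y := by
  haveI : Algebra.IsQuadraticExtension (RatFunc k) K := ⟨hdeg⟩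
  haveI := finiteDimensional_of_finrank (k := k) (K := K) hdeg
  have hint : IsIntegral (RatFunc k) y := Algebra.IsIntegral.isIntegral y
  have hmin : minpoly (RatFunc k) y = X ^ 2 - C r := by
    have hdvd : minpoly (RatFunc k) y ∣ X ^ 2 - C r :=
      minpoly.dvd _ _ (by rw [map_sub, map_pow, aeval_X, aeval_C, heq, sub_self])
    have h2 : 2 ≤ (minpoly (RatFunc k) y).natDegree :=
      (minpoly.two_le_natDegree_iff hint).2 (fun h => hy (RingHom.mem_range.1 h))
    exact (Polynomial.eq_of_monic_of_dvd_of_natDegree_le (minpoly.monic hint)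
      (monic_X_pow_sub_C _ two_ne_zero) hdvd (by rw [natDegree_X_pow_sub_C]; exact h2)).symm
  obtain ⟨σ, hσ⟩ := minpoly.exists_algEquiv_of_root' (x := -y) (y := y) hint.isAlgebraic (by
    rw [hmin, map_sub, map_pow, aeval_X, aeval_C, neg_sq, heq, sub_self])
  exact ⟨σ, hσ⟩

/-- Every element is `a + b y`. -/
theorem exists_decomp (hdeg : Module.finrank (RatFunc k) K = 2) {y : K} {r : RatFunc k}
    (heq : y ^ 2 = jj r) (hy : y ∉ Set.range jj) (z : K) :
    ∃ a b : RatFunc k, z = jj a + jj b * y := by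
  haveI := finiteDimensional_of_finrank (k := k) (K := K) hdeg
  have hint : IsIntegral (RatFunc k) y := Algebra.IsIntegral.isIntegral y
  have htop : (RatFunc k)⟮y⟯ = ⊤ :=
    adjoin_eq_top_of_prime (by rw [hdeg]; exact Nat.prime_two) hy
  have hx : Algebra.adjoin (RatFunc k) ({y} : Set K) = ⊤ := by
    rw [← IntermediateField.adjoin_simple_toSubalgebra_of_isAlgebraic hint.isAlgebraic, htop,
      IntermediateField.top_toSubalgebra]
  have hz : z ∈ Algebra.adjoin (RatFunc k) ({y} : Set K) := by
    rw [hx]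
    exact Algebra.mem_top
  rw [Algebra.adjoin_singleton_eq_range_aeval] at hz
  obtain ⟨q, rfl⟩ := hz
  set g : (RatFunc k)[X] := X ^ 2 - C r with hg
  have hgm : g.Monic := monic_X_pow_sub_C _ two_ne_zero
  have hg1 : g ≠ 1 := by
    intro h
    have := congrArg natDegree h
    rw [hg, natDegree_X_pow_sub_C, natDegree_one] at this
    omega
  have hgy : aeval y g = 0 := by rw [hg, map_sub, map_pow, aeval_X, aeval_C, heq, sub_self]
  have hdeg' : (q %ₘ g).natDegree ≤ 1 := by
    have := natDegree_modByMonic_lt q hgm hg1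
    have hgd : g.natDegree = 2 := by rw [hg, natDegree_X_pow_sub_C]
    rw [hgd] at this
    omega
  have h1 := eq_X_add_C_of_natDegree_le_one hdeg'
  refine ⟨(q %ₘ g).coeff 0, (q %ₘ g).coeff 1, ?_⟩
  show aeval y q = _
  conv_lhs => rw [← modByMonic_add_div q g]
  rw [map_add, map_mul, hgy, zero_mul, add_zero]
  conv_lhs => rw [h1]
  rw [map_add, map_mul, aeval_C, aeval_C, aeval_X]
  ring

/-- `L(N (x)_∞)` is stable under automorphisms over `k(x)`. -/
theorem sigma_mem_L (hK : IsFunctionField k K) (σ : K ≃ₐ[RatFunc k] K) (N : ℕ) {z : K}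
    (hz : z ∈ L (N • (ff_poleDiv (jj RatFunc.X) : Divisor k K))) :
    σ z ∈ L (N • (ff_poleDiv (jj RatFunc.X) : Divisor k K)) := by
  intro P
  have h1 := hz (comapEquiv σ P)
  rw [comapEquiv_apply] at h1
  have h2 : (ff_poleDiv (jj RatFunc.X) : Divisor k K) (comapEquiv σ P) =
      (ff_poleDiv (jj RatFunc.X) : Divisor k K) P := by
    rw [ff_poleDiv_apply hK, ff_poleDiv_apply hK, Place.ord, Place.ord, comapEquiv_apply,
      σ.commutes]
  rw [Finsupp.smul_apply, h2] at h1
  rwa [Finsupp.smul_apply]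

theorem finrank_degreeLT (n : ℕ) : Module.finrank k (degreeLT k n) = n := by
  rw [LinearEquiv.finrank_eq (degreeLTEquiv k n), Module.finrank_fin_fun]

/-- Components of an element of `L(N (x)_∞)`. -/
theorem components_mem_L (hK : IsFunctionField k K) (h2 : ringChar k ≠ 2)
    (hdeg : Module.finrank (RatFunc k) K = 2) {y : K} {r : RatFunc k}
    (heq : y ^ 2 = jj r) (hy : y ∉ Set.range jj) (N : ℕ) {a b : RatFunc k}
    (hz : jj a + jj b * y ∈ L (N • (ff_poleDiv (jj RatFunc.X) : Divisor k K))) :
    jj a ∈ L (N • (ff_poleDiv (jj RatFunc.X) : Divisor k K)) ∧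
      jj b * y ∈ L (N • (ff_poleDiv (jj RatFunc.X) : Divisor k K)) := by
  obtain ⟨σ, hσ⟩ := exists_involution hdeg heq hy
  have hσz := sigma_mem_L hK σ N hz
  rw [map_add, map_mul, σ.commutes, σ.commutes, hσ] at hσz
  have h2' : (2 : k) ≠ 0 := Ring.two_ne_zero h2
  have h2K : (algebraMap k K 2) ≠ 0 := by
    rw [Ne, map_eq_zero_iff _ (algebraMap k K).injective]
    exact h2'
  have h22 : algebraMap k K 2 = 2 := by rw [map_ofNat]
  have h2K' : (2 : K) ≠ 0 := by rw [← h22]; exact h2K
  constructor
  · have h3 := (L (N • (ff_poleDiv (jj RatFunc.X) : Divisor k K))).smul_mem (2 : k)⁻¹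
      (add_mem hz hσz)
    convert h3 using 1
    rw [Algebra.smul_def, map_inv₀, h22]
    field_simp
    ring
  · have h3 := (L (N • (ff_poleDiv (jj RatFunc.X) : Divisor k K))).smul_mem (2 : k)⁻¹
      (sub_mem hz hσz)
    convert h3 using 1
    rw [Algebra.smul_def, map_inv₀, h22]
    field_simp
    ring

end hyper

section genus

variable {k K : Type*} [Field k] [Field K] [Algebra k K] [Algebra (RatFunc k) K]
  [IsScalarTower k (RatFunc k) K]

local notation "ι" => algebraMap k[X] (RatFunc k)
local notation "jj" => algebraMap (RatFunc k) K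

instance (n : ℕ) : FiniteDimensional k (degreeLT k n) :=
  Module.Finite.equiv (degreeLTEquiv k n).symm

/-- Lower bound for the genus: `L((m-1) (x)_∞)` consists of polynomials in `x`. -/
theorem ell_le (hK : IsFunctionField k K) (h2 : ringChar k ≠ 2)
    (hdeg : Module.finrank (RatFunc k) K = 2) {y : K} {f : k[X]} (hf : Squarefree f)
    (heq : y ^ 2 = jj (ι f)) (hy : y ∉ Set.range jj) (m : ℕ) (hm : 2 * (m - 1) < f.natDegree)
    (hm1 : 1 ≤ m) :
    ell ((m - 1) • (ff_poleDiv (jj RatFunc.X) : Divisor k K)) ≤ m := by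
  set x := jj (RatFunc.X : RatFunc k) with hx
  have hsub : L ((m - 1) • (ff_poleDiv x : Divisor k K)) ≤
      Submodule.map (aeval x).toLinearMap (degreeLT k m) := by
    intro z hz
    obtain ⟨a, b, rfl⟩ := exists_decomp hdeg heq hy z
    obtain ⟨ha, hb⟩ := components_mem_L hK h2 hdeg heq hy (m - 1) hz
    have hb2 : jj (b ^ 2 * ι f) ∈ L ((2 * (m - 1)) • (ff_poleDiv x : Divisor k K)) := by
      have h3 : jj b * y * (jj b * y) ∈ L ((m - 1) • (ff_poleDiv x : Divisor k K) +
          (m - 1) • (ff_poleDiv x : Divisor k K)) := by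
        intro Q
        rw [map_mul, Finsupp.add_apply, WithZero.exp_add]
        exact mul_le_mul' (hb Q) (hb Q)
      have e1 : jj (b ^ 2 * ι f) = jj b * y * (jj b * y) := by
        rw [map_mul, map_pow, ← heq]
        ring
      have e2 : (2 * (m - 1)) • (ff_poleDiv x : Divisor k K) =
          (m - 1) • (ff_poleDiv x : Divisor k K) + (m - 1) • (ff_poleDiv x : Divisor k K) := by
        rw [two_mul, add_smul]
      rw [e1, e2]
      exact h3
    obtain ⟨W, hW, hbW⟩ := ratFunc_mem_L hK _ _ hb2
    have hb0 : b = 0 := eq_zero_of_sq_mul hf hbW (by omega)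
    obtain ⟨A, hA, haA⟩ := ratFunc_mem_L hK _ _ ha
    refine ⟨A, ?_, ?_⟩
    · rw [SetLike.mem_coe, mem_degreeLT]
      refine lt_of_le_of_lt degree_le_natDegree ?_
      exact_mod_cast (by omega : A.natDegree < m)
    · rw [hb0, map_zero, zero_mul, add_zero, haA, j_poly]
      rfl
  calc ell ((m - 1) • (ff_poleDiv x : Divisor k K))
      ≤ Module.finrank k (Submodule.map (aeval x).toLinearMap (degreeLT k m)) :=
        Submodule.finrank_mono hsub
    _ ≤ Module.finrank k (degreeLT k m) := Submodule.finrank_map_le _ _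
    _ = m := finrank_degreeLT m

theorem val_y_le_one {y : K} {f : k[X]} (heq : y ^ 2 = jj (ι f)) (P : Place k K)
    (hx : P.1 (jj RatFunc.X) ≤ 1) : P.1 y ≤ 1 := by
  have h1 := congrArg P.1 heq
  rw [map_pow, j_poly] at h1
  have h2 : P.1 (aeval (jj RatFunc.X) f) ≤ 1 :=
    Groth.Agent.Lib.Helper63.ZerosBound.val_aeval_le_one P.1 P.2.1 hx f
  rw [← h1] at h2
  exact (pow_le_one_iff_of_nonneg zero_le two_ne_zero).1 h2

/-- Upper bound for the genus: explicit elements of `L(n (x)_∞)`. -/
theorem le_ell (hK : IsFunctionField k K) {y : K} {f : k[X]} (hf0 : f ≠ 0)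
    (heq : y ^ 2 = jj (ι f)) (hy : y ∉ Set.range jj) (n m : ℕ) (hm : f.natDegree ≤ 2 * m)
    (hmn : m ≤ n) :
    (n + 1) + (n - m + 1) ≤ ell (n • (ff_poleDiv (jj RatFunc.X) : Divisor k K)) := by
  set x := jj (RatFunc.X : RatFunc k) with hx
  set D : Divisor k K := n • (ff_poleDiv x : Divisor k K) with hD
  have hD0 : ∀ P : Place k K, (1 : ℤᵐ⁰) ≤ exp (D P) := by
    intro P
    rw [← exp_zero, exp_le_exp, hD, Finsupp.smul_apply]
    exact smul_nonneg (Nat.zero_le n) (ff_poleDiv_nonneg x P)
  have hDpole : ∀ P : Place k K, 1 < P.1 x → exp (D P) = P.1 x ^ n := by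
    intro P hP
    rw [hD, Finsupp.smul_apply, exp_nsmul, exp_poleDiv_of_pole hK hP]
  have hA : ∀ A : k[X], A.natDegree ≤ n → aeval x A ∈ L D := by
    intro A hA P
    by_cases hP : P.1 x ≤ 1
    · exact le_trans (Groth.Agent.Lib.Helper63.ZerosBound.val_aeval_le_one P.1 P.2.1 hP A) (hD0 P)
    · push Not at hP
      by_cases hA0 : A = 0
      · rw [hA0, map_zero, map_zero]
        exact zero_le
      rw [val_aeval_of_one_lt P.1 P.2.1 hP hA0, hDpole P hP]
      exact pow_le_pow_right₀ hP.le hA
  have hB : ∀ B : k[X], B.natDegree ≤ n - m → aeval x B * y ∈ L D := by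
    intro B hB P
    by_cases hP : P.1 x ≤ 1
    · rw [map_mul]
      exact le_trans (mul_le_one' (Groth.Agent.Lib.Helper63.ZerosBound.val_aeval_le_one P.1 P.2.1 hP B)
        (val_y_le_one heq P hP)) (hD0 P)
    · push Not at hP
      by_cases hB0 : B = 0
      · rw [hB0, map_zero, zero_mul, map_zero]
        exact zero_le
      have hy2 : P.1 y ^ 2 = P.1 x ^ f.natDegree := by
        rw [← map_pow, heq, j_poly, val_aeval_of_one_lt P.1 P.2.1 hP hf0]
      have hBv : P.1 (aeval x B) = P.1 x ^ B.natDegree :=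
        val_aeval_of_one_lt P.1 P.2.1 hP hB0
      rw [hDpole P hP, ← pow_le_pow_iff_left₀ zero_le zero_le two_ne_zero, map_mul, mul_pow,
        hy2, hBv, ← pow_mul, ← pow_mul, ← pow_add]
      exact pow_le_pow_right₀ hP.le (by omega)
  -- the parametrisation
  let Φ : (degreeLT k (n + 1) × degreeLT k (n - m + 1)) →ₗ[k] K :=
    LinearMap.coprod ((aeval x).toLinearMap ∘ₗ (degreeLT k (n + 1)).subtype)
      ((LinearMap.mulRight k y) ∘ₗ (aeval x).toLinearMap ∘ₗ (degreeLT k (n - m + 1)).subtype)
  have hΦ : ∀ p, Φ p = aeval x (p.1 : k[X]) + aeval x (p.2 : k[X]) * y := fun p => rfl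
  have hdegLT : ∀ (N : ℕ) (A : degreeLT k (N + 1)), (A : k[X]).natDegree ≤ N := by
    intro N A
    have h1 := mem_degreeLT.1 A.2
    by_cases hA0 : (A : k[X]) = 0
    · rw [hA0, natDegree_zero]
      exact Nat.zero_le _
    · rw [degree_eq_natDegree hA0] at h1
      have : (A : k[X]).natDegree < N + 1 := by exact_mod_cast h1
      omega
  have hΦL : ∀ p, Φ p ∈ L D := by
    intro p
    rw [hΦ]
    exact add_mem (hA _ (hdegLT n p.1)) (hB _ (hdegLT (n - m) p.2))
  let Φ' : (degreeLT k (n + 1) × degreeLT k (n - m + 1)) →ₗ[k] L D := Φ.codRestrict (L D) hΦL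
  have hinj : Function.Injective Φ' := by
    rw [← LinearMap.ker_eq_bot, LinearMap.ker_eq_bot']
    intro p hp
    have h0 : Φ p = 0 := congrArg Subtype.val hp
    rw [hΦ, ← j_poly, ← j_poly] at h0
    have hB0 : (p.2 : k[X]) = 0 := by
      by_contra hne
      have hne' : jj (ι (p.2 : k[X])) ≠ 0 := by
        rw [Ne, map_eq_zero_iff _ (algebraMap (RatFunc k) K).injective,
          map_eq_zero_iff _ (RatFunc.algebraMap_injective k)]
        exact hne
      apply hy
      refine ⟨-(ι (p.1 : k[X])) / ι (p.2 : k[X]), ?_⟩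
      rw [map_div₀, map_neg, div_eq_iff hne']
      linear_combination -h0
    have hA0 : (p.1 : k[X]) = 0 := by
      rw [hB0, map_zero, map_zero, zero_mul, add_zero,
        map_eq_zero_iff _ (algebraMap (RatFunc k) K).injective,
        map_eq_zero_iff _ (RatFunc.algebraMap_injective k)] at h0
      exact h0
    exact Prod.ext (Subtype.ext hA0) (Subtype.ext hB0)
  haveI := ff_L_finiteDimensional hK D
  have h1 := LinearMap.finrank_le_finrank_of_injective hinj
  rw [Module.finrank_prod, finrank_degreeLT, finrank_degreeLT] at h1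
  exact h1

end genus

section final

variable {k K : Type*} [Field k] [Field K] [Algebra k K]

local notation "ι" => algebraMap k[X] (RatFunc k)

/-- The genus of `y² = f(x)` with a given `RatFunc k`-algebra structure. -/
theorem genus_eq' [Algebra (RatFunc k) K] [IsScalarTower k (RatFunc k) K]
    (hK : IsFunctionField k K) (h2 : ringChar k ≠ 2) (hdeg : Module.finrank (RatFunc k) K = 2)
    {y : K} {f : k[X]} (hf : Squarefree f) (hd : 1 ≤ f.natDegree)
    (heq : y ^ 2 = algebraMap (RatFunc k) K (ι f)) :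
    genus k K = (f.natDegree - 1) / 2 := by
  have hy := not_mem_range hf hd heq
  set x : K := algebraMap (RatFunc k) K RatFunc.X with hx
  have hxtr : Transcendental k x := transcendental_x
  have hfin : Module.finrank k⟮x⟯ K = 2 := by
    rw [← hdeg]
    symm
    refine Algebra.finrank_eq_of_equiv_equiv
      (RatFunc.algEquivOfTranscendental x hxtr).toRingEquiv (RingEquiv.refl K) ?_
    ext r
    exact algEquiv_coe_eq hxtr rfl r
  have hD : (ff_poleDiv x : Divisor k K).deg = 2 := by
    rw [ff_deg_poleDiv hK hxtr, hfin]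
    rfl
  set m := (f.natDegree + 1) / 2 with hm
  have hf0 : f ≠ 0 := hf.ne_zero
  -- lower bound
  have hlow := ff_delta_le_genus hK ((m - 1) • (ff_poleDiv x : Divisor k K))
  have hl := ell_le hK h2 hdeg hf heq hy m (by omega) (by omega)
  rw [ff_deg_nsmul, hD] at hlow
  -- upper bound
  obtain ⟨N, hN⟩ := ff_riemann hK
  set n := max m N.toNat with hn
  have hup := hN (n • (ff_poleDiv x : Divisor k K)) (by
    rw [ff_deg_nsmul, hD]
    have := Int.self_le_toNat N
    have h3 : N.toNat ≤ n := le_max_right _ _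
    omega)
  have hu := le_ell hK hf0 heq hy n m (by omega) (le_max_left _ _)
  rw [ff_deg_nsmul, hD] at hup
  have hmn : m ≤ n := le_max_left _ _
  have hl' : (ell ((m - 1) • (ff_poleDiv x : Divisor k K)) : ℤ) ≤ m := by exact_mod_cast hl
  have hu' : ((n : ℤ) + 1) + ((n : ℤ) - m + 1) ≤
      (ell (n • (ff_poleDiv x : Divisor k K)) : ℤ) := by
    have : ((n + 1 + (n - m + 1) : ℕ) : ℤ) ≤ (ell (n • (ff_poleDiv x : Divisor k K)) : ℤ) := by
      exact_mod_cast hu
    have e : ((n + 1 + (n - m + 1) : ℕ) : ℤ) = ((n : ℤ) + 1) + ((n : ℤ) - m + 1) := by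
      push_cast [Nat.cast_sub hmn]
      ring
    rw [e] at this
    exact this
  have hm1 : 1 ≤ m := by omega
  have e1 : (((m - 1 : ℕ) : ℤ)) = (m : ℤ) - 1 := by
    push_cast [Nat.cast_sub hm1]
    ring
  rw [e1] at hlow
  have hg : (genus k K : ℤ) = (m : ℤ) - 1 := by
    apply le_antisymm
    · linarith
    · linarith
  omega

/-- S11014. -/
theorem genus_eq (hK : IsFunctionField k K) (h2 : ringChar k ≠ 2) (x y : K)
    (hx : Transcendental k x) (hxy : IntermediateField.adjoin k ({x, y} : Set K) = ⊤)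
    (f : Polynomial k) (hf : Squarefree f) (hd : 1 ≤ f.natDegree)
    (heq : y ^ 2 = Polynomial.aeval x f) : genus k K = (f.natDegree - 1) / 2 := by
  let ψ : RatFunc k →ₐ[k] K :=
    (k⟮x⟯.val).comp (RatFunc.algEquivOfTranscendental x hx).toAlgHom
  letI : Algebra (RatFunc k) K := ψ.toRingHom.toAlgebra
  haveI : IsScalarTower k (RatFunc k) K :=
    IsScalarTower.of_algebraMap_eq (fun c => (ψ.commutes c).symm)
  have hX : algebraMap (RatFunc k) K RatFunc.X = x := by
    change ((RatFunc.algEquivOfTranscendental x hx RatFunc.X : k⟮x⟯) : K) = x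
    rw [RatFunc.algEquivOfTranscendental_X]
  have heq' : y ^ 2 = algebraMap (RatFunc k) K (ι f) := by
    rw [j_poly, hX, heq]
  have hynot := not_mem_range hf hd heq'
  have htop : (RatFunc k)⟮y⟯ = ⊤ := by
    rw [← IntermediateField.restrictScalars_eq_top_iff (K := k), eq_top_iff, ← hxy,
      IntermediateField.adjoin_le_iff]
    intro w hw
    rcases hw with rfl | hw
    · change w ∈ (RatFunc k)⟮y⟯
      rw [← hX]
      exact (RatFunc k)⟮y⟯.algebraMap_mem _
    · rw [Set.mem_singleton_iff] at hw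
      subst hw
      change w ∈ (RatFunc k)⟮w⟯
      exact mem_adjoin_simple_self (RatFunc k) w
  have hint : IsIntegral (RatFunc k) y := by
    refine ⟨X ^ 2 - C (ι f), monic_X_pow_sub_C _ two_ne_zero, ?_⟩
    rw [eval₂_sub, eval₂_pow, eval₂_X, eval₂_C, heq', sub_self]
  have hdeg : Module.finrank (RatFunc k) K = 2 := by
    rw [← IntermediateField.finrank_top', ← htop, IntermediateField.adjoin.finrank hint]
    apply le_antisymm
    · have hdvd : minpoly (RatFunc k) y ∣ X ^ 2 - C (ι f) := by
        apply minpoly.dvd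
        rw [map_sub, map_pow, aeval_X, aeval_C, heq', sub_self]
      have := natDegree_le_of_dvd hdvd (monic_X_pow_sub_C _ two_ne_zero).ne_zero
      rwa [natDegree_X_pow_sub_C] at this
    · exact (minpoly.two_le_natDegree_iff hint).2 (fun h => hynot (RingHom.mem_range.1 h))
  exact genus_eq' hK h2 hdeg hf hd heq'

end final

end Groth.Agent.Lib.Helper63.HyperGenus
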