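import Groth.Agent.Lib.Helper63.ASLocal
import Groth.Agent.Lib.Helper63.HyperGenus

/-! Artin-Schreier curves `y² + y = f(x)` in characteristic `2` with `f` having odd poles at
`x = β`, `β ∈ B`, and integral elsewhere: values of `x - α` and `y` (helper63). -/

set_option autoImplicit false
set_option linter.style.haveILetI false
set_option linter.unusedSectionVars false

namespace Groth.Agent.Lib.Helper63.ASPoles

open WithZero Polynomial IntermediateField FunFld Groth.Agent.Lib.Helper55
  Groth.Agent.Lib.Helper63.FunFldExt Groth.Agent.Lib.Helper63.Hyperelliptic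
  Groth.Agent.Lib.Helper63.Galois Groth.Agent.Lib.Helper63.RatFuncPlaces
  Groth.Agent.Lib.Helper63.ASLocal Groth.Agent.Lib.Helper63.HyperGenus

local notation "ℤᵐ⁰" => WithZero (Multiplicative ℤ)

variable {k K : Type*} [Field k] [Field K] [Algebra k K] [Algebra (RatFunc k) K]
  [IsScalarTower k (RatFunc k) K]

local notation "ι" => algebraMap k[X] (RatFunc k)
local notation "jj" => algebraMap (RatFunc k) K

theorem jj_X_sub_C (α : k) :
    jj ((RatFunc.X : RatFunc k) - RatFunc.C α) = jj RatFunc.X - algebraMap k K α := by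
  rw [map_sub, ← RatFunc.algebraMap_eq_C, ← IsScalarTower.algebraMap_apply]

theorem ι_X_sub_C (α : k) :
    ι (X - C α) = (RatFunc.X : RatFunc k) - RatFunc.C α := by
  rw [map_sub, RatFunc.algebraMap_X, RatFunc.algebraMap_C]

/-- The place below, with the values of `x - α` compared. -/
theorem val_X_sub_C_below {P : Place k K} {p : Place k (RatFunc k)} {e : ℕ}
    (he : IsOverWith P p e) (α : k) :
    P.1 (jj RatFunc.X - algebraMap k K α) = p.1 ((RatFunc.X : RatFunc k) - RatFunc.C α) ^ e := by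
  rw [← jj_X_sub_C, he]

theorem exists_pole_x (hK : IsFunctionField k K) : ∃ P : Place k K, 1 < P.1 (jj RatFunc.X) := by
  have hxtr : Transcendental k (jj (RatFunc.X : RatFunc k)) := transcendental_x
  obtain ⟨P, hP⟩ := ff_exists_zero hK (ff_transcendental_inv hxtr)
  have hx0 : jj (RatFunc.X : RatFunc k) ≠ 0 := fun h => hxtr (h ▸ isAlgebraic_zero)
  have hPx0 : 0 < P.1 (jj (RatFunc.X : RatFunc k)) :=
    zero_lt_iff.2 ((Valuation.ne_zero_iff _).2 hx0)
  refine ⟨P, ?_⟩
  rw [map_inv₀] at hP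
  exact (inv_lt_one₀ hPx0).1 hP

section poles

/-- At a place over `x = α` where `f` has an odd pole of order `d`. -/
theorem val_at_pole (h2 : ringChar k = 2) (hdeg : Module.finrank (RatFunc k) K = 2)
    (y : K) (hy : y ∉ Set.range (algebraMap (RatFunc k) K)) (f : RatFunc k)
    (heq : y ^ 2 + y = jj f) {P : Place k K} {α : k} {d : ℕ} (hd : Odd d)
    (hpole : ∀ p : Place k (RatFunc k),
      p.1 ((RatFunc.X : RatFunc k) - RatFunc.C α) < 1 → p.ord f = -(d : ℤ))
    (hP : P.1 (jj RatFunc.X - algebraMap k K α) < 1) :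
    P.1 (jj RatFunc.X - algebraMap k K α) = exp (-2) ∧ P.1 y = exp (d : ℤ) ∧
      ∃ p : Place k (RatFunc k), IsOverWith P p 2 ∧
        p.1 ((RatFunc.X : RatFunc k) - RatFunc.C α) = exp (-1) ∧ p.1 f = exp (d : ℤ) := by
  haveI := finiteDimensional_of_finrank (k := k) (K := K) hdeg
  obtain ⟨p, hp⟩ := exists_isOver_below (K := RatFunc k) P
  have he := isOverWith_ramIdx hp
  have he0 := isOverWith_ne_zero he
  have hpv : p.1 ((RatFunc.X : RatFunc k) - RatFunc.C α) < 1 := by
    rw [val_X_sub_C_below he α] at hP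
    exact (pow_lt_one_iff_of_nonneg zero_le he0).1 hP
  have hord := hpole p hpv
  have hdpos : 0 < d := hd.pos
  have hf0 : f ≠ 0 := by
    rintro rfl
    rw [ff_ord_zero] at hord
    omega
  have hram := (ArtinSchreier.ramification h2 hdeg y hy f heq p).1
    ⟨by rw [hord]; omega, by rw [hord]; exact Odd.neg (by exact_mod_cast hd)⟩
  have he2 := (hram.2 P hp).1
  have hpv' : p.1 ((RatFunc.X : RatFunc k) - RatFunc.C α) = exp (-1) := by
    rw [← ι_X_sub_C] at hpv ⊢
    exact val_irreducible p (irreducible_X_sub_C α) hpv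
  have hfv : p.1 f = exp (d : ℤ) := by
    rw [ff_val_eq_exp_neg_ord p hf0, hord, neg_neg]
  refine ⟨?_, ?_, p, he2, hpv', hfv⟩
  · rw [val_X_sub_C_below he2 α, hpv', ← exp_nsmul]
    congr 1
  · have h1 : P.1 (jj f) = exp (2 * (d : ℤ)) := by
      rw [he2, hfv, ← exp_nsmul]
      congr 1
    have h3 : 1 < P.1 (jj f) := by
      rw [h1, ← exp_zero, exp_lt_exp]
      omega
    apply eq_exp_of_sq_eq
    rw [(val_sq_of_pole heq h3).2, h1]

/-- At a place where `f` is integral below. -/
theorem val_at_integral (h2 : ringChar k = 2) (hdeg : Module.finrank (RatFunc k) K = 2)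
    (y : K) (hy : y ∉ Set.range (algebraMap (RatFunc k) K)) (f : RatFunc k)
    (heq : y ^ 2 + y = jj f) {P : Place k K} {p : Place k (RatFunc k)} (hp : IsOver P p)
    (hf : p.1 f ≤ 1) : IsOverWith P p 1 ∧ P.1 y ≤ 1 := by
  haveI := finiteDimensional_of_finrank (k := k) (K := K) hdeg
  have hnn : 0 ≤ p.ord f := by
    by_cases hf0 : f = 0
    · rw [hf0, ff_ord_zero]
    · exact (ff_ord_nonneg_iff p hf0).2 hf
  have he1 := (ArtinSchreier.ramification h2 hdeg y hy f heq p).2 hnn P hp
  refine ⟨he1, val_le_one heq ?_⟩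
  rw [he1, pow_one]
  exact hf

theorem ord_mul_zpow (P : Place k K) {y t : K} {a b : ℤ} (hy : P.1 y = exp a)
    (ht : P.1 t = exp b) (j : ℤ) : P.ord (y * t ^ j) = -(a + j * b) := by
  unfold Place.ord
  rw [map_mul, map_zpow₀, hy, ht, ← exp_zsmul, ← exp_add, log_exp, smul_eq_mul]

/-- The value of `x - α` at a place where `x - β` is small, `β ≠ α`. -/
theorem val_sub_of_ne (P : Place k K) {x : K} {α β : k} (hne : β ≠ α)
    (hβ : P.1 (x - algebraMap k K β) < 1) : P.1 (x - algebraMap k K α) = 1 := by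
  have h1 : x - algebraMap k K α = (x - algebraMap k K β) + algebraMap k K (β - α) := by
    rw [map_sub]; ring
  rw [h1, Valuation.map_add_eq_of_lt_right]
  · exact ff_val_const P (sub_ne_zero.2 hne)
  · rw [ff_val_const P (sub_ne_zero.2 hne)]
    exact hβ

/-- The value of `x - α` at a pole of `x`. -/
theorem val_sub_of_pole (P : Place k K) {x : K} (α : k) (hx : 1 < P.1 x) :
    P.1 (x - algebraMap k K α) = P.1 x :=
  Valuation.map_sub_eq_of_lt_left _ (lt_of_le_of_lt (P.2.1 α) hx)

/-- Places over infinity when `f` is integral there. -/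
theorem val_at_inf (h2 : ringChar k = 2) (hdeg : Module.finrank (RatFunc k) K = 2)
    (y : K) (hy : y ∉ Set.range (algebraMap (RatFunc k) K)) (f : RatFunc k)
    (heq : y ^ 2 + y = jj f)
    (hint : ∀ p : Place k (RatFunc k), 1 < p.1 RatFunc.X → p.1 f ≤ 1)
    {P : Place k K} (hP : 1 < P.1 (jj RatFunc.X)) :
    P.1 (jj RatFunc.X) = exp 1 ∧ P.1 y ≤ 1 := by
  haveI := finiteDimensional_of_finrank (k := k) (K := K) hdeg
  obtain ⟨p, hp⟩ := exists_isOver_below (K := RatFunc k) P
  have he := isOverWith_ramIdx hp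
  have hX : 1 < p.1 RatFunc.X := by
    by_contra hle
    push Not at hle
    rw [he] at hP
    exact absurd hP (not_lt.2 (pow_le_one₀ zero_le hle))
  obtain ⟨he1, hy1⟩ := val_at_integral h2 hdeg y hy f heq hp (hint p hX)
  refine ⟨?_, hy1⟩
  rw [he1, pow_one, val_X_inf p hX]

/-- S19045. -/
theorem s19045 [CharP k 2] (hdeg : Module.finrank (RatFunc k) K = 2)
    (y : K) (hy : y ∉ Set.range (algebraMap (RatFunc k) K)) (f : RatFunc k)
    (heq : y ^ 2 + y = algebraMap (RatFunc k) K f)
    (B : Finset k) (d : k → ℕ) (hd : ∀ β ∈ B, Odd (d β))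
    (hpole : ∀ (p : FunFld.Place k (RatFunc k)) (β : k), β ∈ B →
      p.1 ((RatFunc.X : RatFunc k) - RatFunc.C β) < 1 → p.ord f = -(d β : ℤ))
    (hint : ∀ p : FunFld.Place k (RatFunc k),
      (∀ β ∈ B, 1 ≤ p.1 ((RatFunc.X : RatFunc k) - RatFunc.C β)) → p.1 f ≤ 1)
    (hinfex : ∃ P : Place k K, 1 < P.1 (jj RatFunc.X)) :
    (∀ P : FunFld.Place k K, 1 < P.1 (algebraMap (RatFunc k) K RatFunc.X) → 0 ≤ P.ord y) ∧
    (∃ P : FunFld.Place k K, 1 < P.1 (algebraMap (RatFunc k) K RatFunc.X) ∧ P.ord y = 0) ∧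
    ∀ (α : k), α ∈ B → ∀ (j : ℤ) (P : FunFld.Place k K),
      (P.1 ((algebraMap (RatFunc k) K RatFunc.X) - (algebraMap k K α)) < 1 →
        max (-(P.ord (y * ((algebraMap (RatFunc k) K RatFunc.X) - (algebraMap k K α)) ^ j))) 0 =
          max ((d α : ℤ) - 2 * j) 0) ∧
      (∀ β : k, β ∈ B → β ≠ α →
        P.1 ((algebraMap (RatFunc k) K RatFunc.X) - (algebraMap k K β)) < 1 →
        P.ord (y * ((algebraMap (RatFunc k) K RatFunc.X) - (algebraMap k K α)) ^ j) =
          -(d β : ℤ)) ∧
      (1 < P.1 (algebraMap (RatFunc k) K RatFunc.X) →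
        max (-(P.ord (y * ((algebraMap (RatFunc k) K RatFunc.X) - (algebraMap k K α)) ^ j))) 0 =
          max (j - P.ord y) 0) ∧
      (P.1 (algebraMap (RatFunc k) K RatFunc.X) ≤ 1 →
        (∀ β : k, β ∈ B → 1 ≤ P.1 ((algebraMap (RatFunc k) K RatFunc.X) - (algebraMap k K β))) →
        0 ≤ P.ord (y * ((algebraMap (RatFunc k) K RatFunc.X) - (algebraMap k K α)) ^ j)) := by
  haveI := finiteDimensional_of_finrank (k := k) (K := K) hdeg
  have h2 : ringChar k = 2 := ringChar.eq k 2
  haveI : CharP (RatFunc k) 2 :=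
    charP_of_injective_algebraMap (algebraMap k (RatFunc k)).injective 2
  set x := jj RatFunc.X with hxdef
  have hy0 : y ≠ 0 := fun h => hy ⟨0, by rw [map_zero, h]⟩
  have hint' : ∀ p : Place k (RatFunc k), 1 < p.1 RatFunc.X → p.1 f ≤ 1 := by
    intro p hX
    apply hint
    intro β _
    rw [Valuation.map_sub_eq_of_lt_left]
    · exact hX.le
    · rw [← RatFunc.algebraMap_eq_C]
      exact lt_of_le_of_lt (p.2.1 β) hX
  have hinf : ∀ P : Place k K, 1 < P.1 x → P.1 x = exp 1 ∧ P.1 y ≤ 1 := fun P hP =>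
    val_at_inf h2 hdeg y hy f heq hint' hP
  refine ⟨fun P hP => (ff_ord_nonneg_iff P hy0).2 (hinf P hP).2, ?_, ?_⟩
  · obtain ⟨P, hP⟩ := hinfex
    by_cases h1 : P.1 y = 1
    · refine ⟨P, hP, ?_⟩
      rw [Place.ord, h1, log_one, neg_zero]
    · have hlt : P.1 y < 1 := lt_of_le_of_ne (hinf P hP).2 h1
      obtain ⟨σ, hσ⟩ := exists_involution hdeg heq hy
      refine ⟨comapEquiv σ P, ?_, ?_⟩
      · rw [comapEquiv_apply, σ.commutes]
        exact hP
      · have h3 : (comapEquiv σ P).1 y = 1 := by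
          rw [comapEquiv_apply, hσ, Valuation.map_add_eq_of_lt_right, map_one]
          rw [map_one]
          exact hlt
        rw [Place.ord, h3, log_one, neg_zero]
  · intro α hα j P
    refine ⟨?_, ?_, ?_, ?_⟩
    · intro hP
      obtain ⟨h1, h3, -⟩ := val_at_pole h2 hdeg y hy f heq (hd α hα)
        (fun p hp => hpole p α hα hp) hP
      rw [ord_mul_zpow P h3 h1 j]
      congr 1
      ring
    · intro β hβ hne hP
      obtain ⟨-, h3, -⟩ := val_at_pole h2 hdeg y hy f heq (hd β hβ)
        (fun p hp => hpole p β hβ hp) hP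
      have h1 : P.1 (x - algebraMap k K α) = exp 0 := by
        rw [exp_zero]
        exact val_sub_of_ne P hne hP
      rw [ord_mul_zpow P h3 h1 j]
      ring
    · intro hP
      obtain ⟨h1, -⟩ := hinf P hP
      have h3 : P.1 (x - algebraMap k K α) = exp 1 := by
        rw [val_sub_of_pole P α hP, h1]
      rw [ord_mul_zpow P (ff_val_eq_exp_neg_ord P hy0) h3 j]
      congr 1
      ring
    · intro hP hB
      obtain ⟨p, hp⟩ := exists_isOver_below (K := RatFunc k) P
      have he := isOverWith_ramIdx hp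
      have he0 := isOverWith_ne_zero he
      have hfp : p.1 f ≤ 1 := by
        apply hint
        intro β hβ
        have h1 := hB β hβ
        rw [val_X_sub_C_below he β] at h1
        by_contra hlt
        push Not at hlt
        exact absurd h1 (not_le.2 ((pow_lt_one_iff_of_nonneg zero_le he0).2 hlt))
      obtain ⟨-, hy1⟩ := val_at_integral h2 hdeg y hy f heq hp hfp
      have h1 : P.1 (x - algebraMap k K α) = exp 0 := by
        rw [exp_zero]
        apply le_antisymm _ (hB α hα)
        exact (Valuation.map_sub _ _ _).trans (max_le hP (P.2.1 α))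
      rw [ord_mul_zpow P (ff_val_eq_exp_neg_ord P hy0) h1 j]
      have := (ff_ord_nonneg_iff P hy0).2 hy1
      linarith

end poles

end Groth.Agent.Lib.Helper63.ASPoles
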