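import Groth.Agent.Lib.Helper63.ASDiff

/-! Regular differentials on an Artin-Schreier curve `y² + y = f(x)` in characteristic `2`
(helper63). -/

set_option autoImplicit false
set_option linter.style.haveILetI false
set_option linter.unusedSectionVars false

namespace Groth.Agent.Lib.Helper63.ASRegDiff

open LaurentSeries HahnSeries WithZero Polynomial IntermediateField FunFld
  Groth.Agent.Lib.Helper55
  Groth.Agent.Lib.Helper63.FunFldExt Groth.Agent.Lib.Helper63.Hyperelliptic
  Groth.Agent.Lib.Helper63.RatFuncPlaces Groth.Agent.Lib.Helper63.LocResBasic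
  Groth.Agent.Lib.Helper63.ASLocal Groth.Agent.Lib.Helper63.HyperGenus
  Groth.Agent.Lib.Helper63.HyperDiff Groth.Agent.Lib.Helper63.ASGenus
  Groth.Agent.Lib.Helper63.ASDiff Groth.Agent.Lib.Helper63.ASPoles

local notation "ℤᵐ⁰" => WithZero (Multiplicative ℤ)

section base

variable {k : Type*} [Field k]

local notation "ι" => algebraMap k[X] (RatFunc k)

theorem exists_inf : ∃ P : Place k (RatFunc k), 1 < P.1 RatFunc.X := by
  obtain ⟨P, hP⟩ := exists_pole_x (k := k) (K := RatFunc k) isFunctionField_ratFunc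
  exact ⟨P, by simpa using hP⟩

/-- A rational function integral at all finite places and with a pole of order at most `g - 1`
at infinity is a polynomial of degree `< g`. -/
theorem poly_of_bounds (r : RatFunc k) (g : ℕ)
    (h1 : ∀ P : Place k (RatFunc k), P.1 RatFunc.X ≤ 1 → P.1 r ≤ 1)
    (h2 : ∀ P : Place k (RatFunc k), 1 < P.1 RatFunc.X → P.1 r ≤ exp ((g : ℤ) - 1)) :
    ∃ A : k[X], A.degree < (g : WithBot ℕ) ∧ r = ι A := by
  have hE : IsFunctionField k (RatFunc k) := isFunctionField_ratFunc
  have hmem : algebraMap (RatFunc k) (RatFunc k) r ∈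
      L (g • (ff_poleDiv (algebraMap (RatFunc k) (RatFunc k) RatFunc.X) :
        Divisor k (RatFunc k))) := by
    intro P
    simp only [Algebra.algebraMap_self, RingHom.id_apply]
    rw [Finsupp.smul_apply]
    by_cases hX : P.1 RatFunc.X ≤ 1
    · rw [poleDiv_eq_zero hE hX, smul_zero, exp_zero]
      exact h1 P hX
    · push Not at hX
      have h3 := exp_poleDiv_of_pole hE hX
      rw [val_X_inf P hX, exp_inj] at h3
      rw [h3]
      refine (h2 P hX).trans ?_
      rw [exp_le_exp]
      simp
  obtain ⟨A, hA, hrA⟩ := ratFunc_mem_L hE g r hmem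
  refine ⟨A, ?_, hrA⟩
  by_cases hA0 : A = 0
  · rw [hA0, degree_zero]
    exact WithBot.bot_lt_coe _
  obtain ⟨P, hP⟩ := exists_inf (k := k)
  have h3 := h2 P hP
  rw [hrA, val_poly_inf' P hP hA0, exp_le_exp] at h3
  rw [degree_eq_natDegree hA0]
  have : A.natDegree < g := by omega
  exact_mod_cast this

end base

section main

universe u v w

variable {k : Type u} {K : Type v} [Field k] [Field K] [Algebra k K] [Algebra (RatFunc k) K]
  [IsScalarTower k (RatFunc k) K]

local notation "ι" => algebraMap k[X] (RatFunc k)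
local notation "jj" => algebraMap (RatFunc k) K

/-- The divisor of `dx` pulled down to `k(x)`: `N(P) = d_P` at finite places, `d_∞ - 2` at
infinity. -/
noncomputable def nn (f : RatFunc k) (P : Place k (RatFunc k)) : ℤ :=
  if P.1 RatFunc.X ≤ 1 then poleHalf f P else poleHalf f P - 2

/-- The order of `dx` at every place. -/
theorem val_D_x [PerfectField k] (h2 : ringChar k = 2)
    (hdeg : Module.finrank (RatFunc k) K = 2)
    (y : K) (hy : y ∉ Set.range (algebraMap (RatFunc k) K)) (f : RatFunc k)
    (heq : y ^ 2 + y = jj f)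
    (hodd : ∀ P : Place k (RatFunc k), P.ord f < 0 → Odd (P.ord f))
    {F : Type w} [Field F] [Algebra k F]
    {Q : Place k K} {P : Place k (RatFunc k)} (hQ : IsOver Q P)
    (ψ : K →ₐ[k] F⸨X⸩) (hψ : LocRes.IsExpansionAt Q.1 ψ) :
    Valued.v (LocRes.D F (ψ (jj RatFunc.X))) = exp (-(nn f P * (ramIdx Q P : ℤ))) := by
  haveI := finiteDimensional_of_finrank (k := k) (K := K) hdeg
  haveI : CharP k 2 := by rw [← h2]; exact ringChar.charP k
  have hram := ArtinSchreier.ramification h2 hdeg y hy f heq P
  unfold nn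
  rw [poleHalf_apply]
  by_cases hneg : P.ord f < 0
  · have hoddP := hodd P hneg
    have he2 := ((hram.1 ⟨hneg, hoddP⟩).2 Q hQ).1
    have hf0 : f ≠ 0 := by
      rintro rfl
      rw [ff_ord_zero] at hneg
      exact lt_irrefl _ hneg
    obtain ⟨m, hm⟩ : ∃ m : ℕ, (m : ℤ) = -P.ord f := ⟨(-P.ord f).toNat, Int.toNat_of_nonneg (by omega)⟩
    have hmodd : Odd m := by
      have : Odd (m : ℤ) := by rw [hm]; exact hoddP.neg
      exact_mod_cast this
    have hu : P.1 f = exp (m : ℤ) := by rw [ff_val_eq_exp_neg_ord P hf0, hm]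
    rw [ramIdx_eq he2, if_pos hneg]
    obtain ⟨j, hj⟩ := hmodd
    have hhalf : (1 - P.ord f) / 2 = (j : ℤ) + 1 := by
      have : P.ord f = -(m : ℤ) := by omega
      rw [this, hj]
      push_cast
      omega
    rw [hhalf]
    by_cases hX : P.1 RatFunc.X ≤ 1
    · rw [if_pos hX, val_D_x_pole_finite he2 hX heq ⟨j, hj⟩ hu ψ hψ]
      congr 1
      rw [hj]
      push_cast
      ring
    · rw [if_neg hX]
      push Not at hX
      rw [(val_D_x_pole_inf he2 hX heq ⟨j, hj⟩ hu ψ hψ).2]
      congr 1
      rw [hj]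
      push_cast
      ring
  · rw [if_neg hneg]
    push Not at hneg
    have he1 := hram.2 hneg Q hQ
    rw [ramIdx_eq he1]
    by_cases hX : P.1 RatFunc.X ≤ 1
    · rw [if_pos hX, val_D_x_unram_finite he1 hX ψ hψ]
      simp
    · rw [if_neg hX]
      push Not at hX
      rw [(val_D_x_unram_inf he1 hX ψ hψ).2]
      congr 1

theorem mul_exp_neg_le_one_iff {a : ℤᵐ⁰} {n : ℤ} : a * exp (-n) ≤ 1 ↔ a ≤ exp n := by
  constructor
  · exact le_exp_of_mul_exp_neg_le_one
  · intro h
    calc a * exp (-n) ≤ exp n * exp (-n) := mul_le_mul' h le_rfl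
      _ = 1 := by rw [← exp_add, add_neg_cancel, exp_zero]

/-- Regularity of `(a + b y) dx` above a place `P` of `k(x)`. -/
theorem regular_iff [PerfectField k] (h2 : ringChar k = 2)
    (hdeg : Module.finrank (RatFunc k) K = 2)
    (y : K) (hy : y ∉ Set.range (algebraMap (RatFunc k) K)) (f : RatFunc k)
    (heq : y ^ 2 + y = jj f)
    (hodd : ∀ P : Place k (RatFunc k), P.ord f < 0 → Odd (P.ord f))
    (F : Place k K → Type w) [∀ P, Field (F P)] [∀ P, Algebra k (F P)]
    (φ : ∀ P, K →ₐ[k] LaurentSeries (F P)) (hφ : ∀ P, LocRes.IsExpansionAt P.1 (φ P))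
    (P : Place k (RatFunc k)) (a b : RatFunc k) :
    (∀ Q : Place k K, IsOver Q P →
        LocRes.vDiff (φ Q) (jj a + jj b * y) (jj RatFunc.X) ≤ 1) ↔
      (P.1 a ≤ exp (nn f P) ∧ P.1 b ≤ exp (nn f P - poleHalf f P)) := by
  rw [← local_iff h2 hdeg y hy f heq P (hodd P) a b (nn f P)]
  refine forall_congr' fun Q => forall_congr' fun hQ => ?_
  rw [LocRes.vDiff, Valuation.map_mul, (hφ Q).1,
    val_D_x h2 hdeg y hy f heq hodd hQ (φ Q) (hφ Q), mul_exp_neg_le_one_iff]

/-- S12587. -/
theorem s12587 [PerfectField k] (hK : IsFunctionField k K)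
    (hdeg : Module.finrank (RatFunc k) K = 2) (h2 : ringChar k = 2)
    (y : K) (hy : y ∉ Set.range (algebraMap (RatFunc k) K)) (f : RatFunc k)
    (heq : y ^ 2 + y = jj f)
    (hodd : ∀ p : Place k (RatFunc k), 1 < p.1 f → Odd (p.ord f))
    (q : k[X]) (hq0 : q ≠ 0)
    (hq : ∀ p : Place k (RatFunc k), p.1 RatFunc.X ≤ 1 →
      p.ord (ι q) = if 1 < p.1 f then (1 - p.ord f) / 2 else 0)
    (F : Place k K → Type w) [∀ P, Field (F P)] [∀ P, Algebra k (F P)]
    (φ : ∀ P, K →ₐ[k] LaurentSeries (F P)) (hφ : ∀ P, LocRes.IsExpansionAt P.1 (φ P)) :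
    (∀ i : ℕ, i < genus k K → ∀ P,
      LocRes.vDiff (φ P) (jj (RatFunc.X ^ i / ι q)) (jj RatFunc.X) ≤ 1) ∧
    ∀ z : K, (∀ P, LocRes.vDiff (φ P) z (jj RatFunc.X) ≤ 1) →
      ∃ a : k[X], a.degree < (genus k K : WithBot ℕ) ∧ z = jj (ι a / ι q) := by
  classical
  haveI := finiteDimensional_of_finrank (k := k) (K := K) hdeg
  have hE : IsFunctionField k (RatFunc k) := isFunctionField_ratFunc
  have hpole_iff : ∀ P : Place k (RatFunc k), 1 < P.1 f ↔ P.ord f < 0 := by
    intro P
    by_cases hf0 : f = 0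
    · rw [hf0, map_zero, ff_ord_zero]
      simp
    · exact (ff_ord_neg_iff P hf0).symm
  have hodd' : ∀ P : Place k (RatFunc k), P.ord f < 0 → Odd (P.ord f) :=
    fun P hP => hodd P ((hpole_iff P).2 hP)
  have hιq0 : ι q ≠ 0 := by
    rw [Ne, map_eq_zero_iff _ (RatFunc.algebraMap_injective k)]
    exact hq0
  -- the value of `q` at finite places
  have hqfin : ∀ P : Place k (RatFunc k), P.1 RatFunc.X ≤ 1 →
      P.1 (ι q) = exp (-poleHalf f P) := by
    intro P hX
    rw [ff_val_eq_exp_neg_ord P hιq0, hq P hX, poleHalf_apply]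
    congr 2
    simp only [hpole_iff P]
  -- the infinite place and the degree identity
  obtain ⟨Pinf, hPinf⟩ := exists_inf (k := k)
  have hinf_unique : ∀ P : Place k (RatFunc k), 1 < P.1 RatFunc.X → P = Pinf :=
    fun P hP => Groth.Agent.Lib.Helper63.ASNormal.place_eq_of_inf Pinf P hPinf hP
  have hqinf : Pinf.1 (ι q) = exp (q.natDegree : ℤ) := val_poly_inf' Pinf hPinf hq0
  have hdegA : (poleHalf f).deg = poleHalf f Pinf + q.natDegree := by
    have hdiv : poleHalf f = FunFld.div k (ι q) +
        Finsupp.single Pinf (poleHalf f Pinf + q.natDegree) := by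
      ext P
      rw [Finsupp.add_apply, ff_div_apply hE, Finsupp.single_apply]
      by_cases hP : Pinf = P
      · subst hP
        rw [if_pos rfl, Place.ord, hqinf, log_exp]
        ring
      · rw [if_neg hP, add_zero]
        have hX : P.1 RatFunc.X ≤ 1 := by
          by_contra hX
          push Not at hX
          exact hP (hinf_unique P hX).symm
        rw [hq P hX, poleHalf_apply]
        simp only [hpole_iff P]
    have h3 := congrArg Divisor.deg hdiv
    rw [ff_deg_add, ff_deg_div hE, ff_deg_single, deg_inf Pinf hPinf] at h3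
    rw [h3]
    simp
  have hgenus : (genus k K : ℤ) = -1 + (poleHalf f Pinf + q.natDegree) := by
    rw [genus_eq h2 hdeg hK y hy f heq hodd', hdegA]
  have hnn_fin : ∀ P : Place k (RatFunc k), P.1 RatFunc.X ≤ 1 → nn f P = poleHalf f P :=
    fun P hX => by rw [nn, if_pos hX]
  have hnn_inf : nn f Pinf = poleHalf f Pinf - 2 := by rw [nn, if_neg (not_le.2 hPinf)]
  have hdecomp : ∀ z : K, ∃ a b : RatFunc k, z = jj a + jj b * y := exists_decomp hdeg hy
  constructor
  · intro i hi Q
    obtain ⟨P, hQ⟩ := exists_isOver_below (K := RatFunc k) Q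
    have h := (regular_iff h2 hdeg y hy f heq hodd' F φ hφ P (RatFunc.X ^ i / ι q) 0).2 ?_ Q hQ
    · rwa [map_zero, zero_mul, add_zero] at h
    · refine ⟨?_, by rw [map_zero]; exact zero_le⟩
      rw [map_div₀, map_pow]
      by_cases hX : P.1 RatFunc.X ≤ 1
      · rw [hnn_fin P hX, hqfin P hX, exp_neg, div_inv_eq_mul]
        calc P.1 RatFunc.X ^ i * exp (poleHalf f P) ≤ 1 * exp (poleHalf f P) :=
              mul_le_mul' (pow_le_one₀ zero_le hX) le_rfl
          _ = exp (poleHalf f P) := one_mul _
      · push Not at hX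
        have hP := hinf_unique P hX
        subst hP
        rw [hnn_inf, hqinf, val_X_inf P hX, ← exp_nsmul, ← exp_sub, exp_le_exp, nsmul_eq_mul]
        have : (i : ℤ) + 1 ≤ genus k K := by exact_mod_cast hi
        omega
  · intro z hz
    obtain ⟨a, b, rfl⟩ := hdecomp z
    have hab : ∀ P : Place k (RatFunc k), P.1 a ≤ exp (nn f P) ∧
        P.1 b ≤ exp (nn f P - poleHalf f P) := fun P =>
      (regular_iff h2 hdeg y hy f heq hodd' F φ hφ P a b).1 (fun Q _ => hz Q)
    -- `b = 0`
    have hb0 : b = 0 := by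
      obtain ⟨A, hA, hbA⟩ := poly_of_bounds b 0 (fun P hX => by
        have := (hab P).2
        rwa [hnn_fin P hX, sub_self, exp_zero] at this) (fun P hX => by
        have hP := hinf_unique P hX
        subst hP
        have := (hab P).2
        rw [hnn_inf] at this
        refine this.trans ?_
        rw [exp_le_exp]
        push_cast
        omega)
      have hA0 : A = 0 := by
        by_contra hne
        rw [degree_eq_natDegree hne] at hA
        exact absurd hA (by simp)
      rw [hbA, hA0, map_zero]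
    -- `a q` is a polynomial of degree `< g`
    obtain ⟨A, hA, haA⟩ := poly_of_bounds (a * ι q) (genus k K) (fun P hX => by
        rw [map_mul, hqfin P hX]
        have := (hab P).1
        rw [hnn_fin P hX] at this
        calc P.1 a * exp (-poleHalf f P) ≤ exp (poleHalf f P) * exp (-poleHalf f P) :=
              mul_le_mul' this le_rfl
          _ = 1 := by rw [← exp_add, add_neg_cancel, exp_zero])
      (fun P hX => by
        have hP := hinf_unique P hX
        subst hP
        rw [map_mul, hqinf]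
        have := (hab P).1
        rw [hnn_inf] at this
        calc P.1 a * exp (q.natDegree : ℤ) ≤ exp (poleHalf f P - 2) * exp (q.natDegree : ℤ) :=
              mul_le_mul' this le_rfl
          _ = exp ((genus k K : ℤ) - 1) := by
              rw [← exp_add, hgenus]
              congr 1
              ring)
    refine ⟨A, hA, ?_⟩
    rw [hb0, map_zero, zero_mul, add_zero, ← haA, mul_div_cancel_right₀ _ hιq0]

end main

end Groth.Agent.Lib.Helper63.ASRegDiff
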