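import Groth.Agent.Lib.Helper63.SepGen
import Mathlib.RingTheory.TensorProduct.Quotient
import Mathlib.RingTheory.TensorProduct.MvPolynomial
import Mathlib.RingTheory.KrullDimension.Polynomial
import Mathlib.RingTheory.KrullDimension.NonZeroDivisors
import Mathlib.RingTheory.Jacobson.Ring
import Mathlib.RingTheory.AdjoinRoot

/-! S11008: geometric function fields and absolutely irreducible plane curves (helper63). -/

set_option autoImplicit false
set_option linter.style.haveILetI false
set_option linter.unusedSectionVars false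

namespace Groth.Agent.Lib.Helper63.AbsIrred

open IntermediateField FunFld TensorProduct Groth.Agent.Lib.Helper55

universe u v

section tensor

variable {k : Type*} [Field k] (k' : Type*) [Field k'] [Algebra k k'] {σ : Type*}
  (f : MvPolynomial σ k)

/-- Base change of the coordinate ring of a hypersurface. -/
noncomputable def tensorQuotEquiv :
    (k' ⊗[k] (MvPolynomial σ k ⧸ Ideal.span {f})) ≃+*
      (MvPolynomial σ k' ⧸ Ideal.span {MvPolynomial.map (algebraMap k k') f}) :=
  (Algebra.TensorProduct.tensorQuotientEquiv (R := k) k' (MvPolynomial σ k) k'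
      (Ideal.span {f})).toRingEquiv.trans
    (Ideal.quotientEquiv _ _ (MvPolynomial.algebraTensorAlgEquiv k k').toRingEquiv (by
      rw [Ideal.map_span, Ideal.map_span, Set.image_singleton, Set.image_singleton]
      congr 2
      change _ = (MvPolynomial.algebraTensorAlgEquiv k k') ((1 : k') ⊗ₜ[k] f)
      rw [MvPolynomial.algebraTensorAlgEquiv_tmul, one_smul]))

theorem isDomain_quot_map (h : IsDomain (k' ⊗[k] (MvPolynomial σ k ⧸ Ideal.span {f}))) :
    IsDomain (MvPolynomial σ k' ⧸ Ideal.span {MvPolynomial.map (algebraMap k k') f}) := by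
  let e := (tensorQuotEquiv k' f).symm
  let g : (MvPolynomial σ k' ⧸ Ideal.span {MvPolynomial.map (algebraMap k k') f}) →+*
    (k' ⊗[k] (MvPolynomial σ k ⧸ Ideal.span {f})) := e.toRingHom
  exact Function.Injective.isDomain g e.injective

theorem isDomain_tensor_quot
    (h : IsDomain (MvPolynomial σ k' ⧸ Ideal.span {MvPolynomial.map (algebraMap k k') f})) :
    IsDomain (k' ⊗[k] (MvPolynomial σ k ⧸ Ideal.span {f})) := by
  let e := tensorQuotEquiv k' f
  let g : (k' ⊗[k] (MvPolynomial σ k ⧸ Ideal.span {f})) →+*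
    (MvPolynomial σ k' ⧸ Ideal.span {MvPolynomial.map (algebraMap k k') f}) := e.toRingHom
  exact Function.Injective.isDomain g e.injective

end tensor

section algclosed

variable {k : Type u} {K : Type v} [Field k] [Field K] [Algebra k K]

/-- In a geometric extension the ground field is algebraically closed. -/
theorem mem_range_of_isAlgebraic (hg : IsGeometric k K) (y : K) (hy : IsAlgebraic k y) :
    y ∈ Set.range (algebraMap k K) := by
  have hint : IsIntegral k y := hy.isIntegral
  set p := minpoly k y with hp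
  have hirr : Irreducible p := minpoly.irreducible hint
  haveI : Fact (Irreducible p) := ⟨hirr⟩
  have hp0 : p ≠ 0 := minpoly.ne_zero hint
  let pb := AdjoinRoot.powerBasis hp0
  haveI : FiniteDimensional k (AdjoinRoot p) := pb.finite
  have hfield := hg (AdjoinRoot p) inferInstance
  letI := hfield.toField
  let j : AdjoinRoot p →ₐ[k] K := AdjoinRoot.liftAlgHom p (Algebra.ofId k K) y (by
    rw [hp]; exact minpoly.aeval k y)
  let m : AdjoinRoot p ⊗[k] K →ₐ[k] K := Algebra.TensorProduct.productMap j (AlgHom.id k K)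
  have hminj : Function.Injective m := m.toRingHom.injective
  have heq : (AdjoinRoot.root p) ⊗ₜ[k] (1 : K) = (1 : AdjoinRoot p) ⊗ₜ[k] y := by
    apply hminj
    simp [m, j]
  by_contra hny
  have hdeg : 2 ≤ p.natDegree := by
    by_contra hlt
    have h1 : p.natDegree = 1 := by
      have hpos : 0 < p.natDegree := minpoly.natDegree_pos hint
      omega
    exact hny ((minpoly.natDegree_eq_one_iff).1 h1)
  have hdim : pb.dim = p.natDegree := rfl
  let i0 : Fin pb.dim := ⟨0, by omega⟩
  let i1 : Fin pb.dim := ⟨1, by omega⟩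
  have hb0 : pb.basis i0 = 1 := by
    rw [pb.basis_eq_pow]; exact pow_zero _
  have hb1 : pb.basis i1 = AdjoinRoot.root p := by
    rw [pb.basis_eq_pow]; exact pow_one _
  let L : AdjoinRoot p ⊗[k] K →ₗ[k] K :=
    (TensorProduct.lid k K).toLinearMap.comp (LinearMap.rTensor K (pb.basis.coord i1))
  have h2 := congrArg L heq
  have h01 : i0 ≠ i1 := by
    intro h
    have := congrArg Fin.val h
    simp [i0, i1] at this
  simp only [L, LinearMap.comp_apply, LinearMap.rTensor_tmul, LinearEquiv.coe_coe,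
    TensorProduct.lid_tmul, ← hb0, ← hb1, Module.Basis.coord_apply, Module.Basis.repr_self,
    Finsupp.single_eq_same, Finsupp.single_eq_of_ne h01.symm,
    one_smul, zero_smul] at h2
  exact one_ne_zero h2

end algclosed


section principal

open scoped nonZeroDivisors

/-- A prime strictly containing a principal prime has coheight at least two. -/
theorem ringKrullDim_add_two_le {R : Type*} [CommRing R] [IsDomain R] (f : R) (hf : Prime f)
    (p : Ideal R) [p.IsPrime] (hfp : f ∈ p) (hne : p ≠ Ideal.span {f}) :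
    ringKrullDim (R ⧸ p) + 1 + 1 ≤ ringKrullDim R := by
  set I : Ideal R := Ideal.span {f} with hI
  haveI : I.IsPrime := (Ideal.span_singleton_prime hf.ne_zero).2 hf
  have hIp : I ≤ p := (Ideal.span_singleton_le_iff_mem _).2 hfp
  obtain ⟨a, hap, haI⟩ : ∃ a ∈ p, a ∉ I := by
    by_contra hcon
    push Not at hcon
    exact hne (le_antisymm hcon hIp)
  have h1 : ringKrullDim (R ⧸ p) + 1 ≤ ringKrullDim (R ⧸ I) := by
    refine ringKrullDim_succ_le_of_surjective (Ideal.Quotient.factor hIp)
      (Ideal.Quotient.factor_surjective hIp) (r := Ideal.Quotient.mk I a) ?_ ?_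
    · apply mem_nonZeroDivisors_of_ne_zero
      rw [Ne, Ideal.Quotient.eq_zero_iff_mem]
      exact haI
    · rw [Ideal.Quotient.factor_mk, Ideal.Quotient.eq_zero_iff_mem]
      exact hap
  have h2 : ringKrullDim (R ⧸ I) + 1 ≤ ringKrullDim R :=
    ringKrullDim_quotient_succ_le_of_nonZeroDivisor (mem_nonZeroDivisors_of_ne_zero hf.ne_zero)
  exact (add_le_add_left h1 1).trans h2

theorem le_zero_of_add_two_le_two {d : WithBot ℕ∞} (h : d + 1 + 1 ≤ 2) : d ≤ 0 := by
  induction d with
  | bot => exact bot_le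
  | coe n =>
    induction n with
    | top =>
      exfalso
      have h3 : ((⊤ : ℕ∞) : WithBot ℕ∞) + 1 + 1 = ((⊤ : ℕ∞) : WithBot ℕ∞) := by
        rfl
      rw [h3] at h
      have h4 : ((2 : ℕ∞) : WithBot ℕ∞) = 2 := rfl
      rw [← h4, WithBot.coe_le_coe] at h
      simp at h
    | coe m =>
      have h3 : (((m : ℕ∞) : WithBot ℕ∞)) + 1 + 1 = (((m + 2 : ℕ) : ℕ∞) : WithBot ℕ∞) := by
        rw [add_assoc, one_add_one_eq_two, Nat.cast_add, WithBot.coe_add]
        rfl
      have h4 : ((((2 : ℕ) : ℕ∞)) : WithBot ℕ∞) = 2 := rfl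
      rw [h3, ← h4, WithBot.coe_le_coe, Nat.cast_le] at h
      have h5 : m = 0 := by omega
      rw [h5]
      rfl

variable {k : Type*} [Field k]

/-- A non-maximal prime of `k[X, Y]` containing an irreducible polynomial is generated by it. -/
theorem eq_span_of_not_isMaximal (p : Ideal (MvPolynomial (Fin 2) k)) [p.IsPrime]
    (f : MvPolynomial (Fin 2) k) (hf : Irreducible f) (hfp : f ∈ p) (hmax : ¬ p.IsMaximal) :
    p = Ideal.span {f} := by
  by_contra hne
  have h1 := ringKrullDim_add_two_le f hf.prime p hfp hne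
  have hR : ringKrullDim (MvPolynomial (Fin 2) k) = 2 := by
    rw [MvPolynomial.ringKrullDim_of_isNoetherianRing, ringKrullDim_eq_zero_of_field]
    simp
  rw [hR] at h1
  have h2 := le_zero_of_add_two_le_two h1
  haveI : Ring.KrullDimLE 0 (MvPolynomial (Fin 2) k ⧸ p) := Ring.krullDimLE_iff.2 h2
  have h3 : IsField (MvPolynomial (Fin 2) k ⧸ p) := Ring.KrullDimLE.isField_of_isDomain
  exact hmax (Ideal.Quotient.maximal_of_isField p h3)

end principal


section forward

variable {k : Type u} {K : Type v} [Field k] [Field K] [Algebra k K]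

open scoped IntermediateField.algebraAdjoinAdjoin in
theorem isAlgebraic_algebra_adjoin (x : K) [FiniteDimensional k⟮x⟯ K] :
    Algebra.IsAlgebraic (Algebra.adjoin k ({x} : Set K)) K := by
  haveI : Algebra.IsAlgebraic k⟮x⟯ K := Algebra.IsAlgebraic.of_finite _ _
  exact Algebra.IsAlgebraic.trans (Algebra.adjoin k ({x} : Set K)) k⟮x⟯ K

/-- `x, y` are algebraically dependent when `y` is algebraic over `k[x]`. -/
theorem ker_ne_bot (x y : K) (hy : IsAlgebraic (Algebra.adjoin k ({x} : Set K)) y) :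
    RingHom.ker (MvPolynomial.aeval ![x, y] : MvPolynomial (Fin 2) k →ₐ[k] K) ≠ ⊥ := by
  intro hbot
  have hinj : Function.Injective
      (MvPolynomial.aeval ![x, y] : MvPolynomial (Fin 2) k →ₐ[k] K) :=
    (RingHom.injective_iff_ker_eq_bot _).2 hbot
  have hai : AlgebraicIndependent k ![x, y] := algebraicIndependent_iff_injective_aeval.2 hinj
  have h1 := hai.transcendental_adjoin (s := {0}) (i := 1) (by simp)
  rw [Set.image_singleton] at h1
  exact h1 hy

theorem exists_irreducible_mem {R : Type*} [CommRing R] [IsDomain R]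
    [UniqueFactorizationMonoid R] (p : Ideal R) [hp : p.IsPrime] (hne : p ≠ ⊥) :
    ∃ f ∈ p, Irreducible f := by
  obtain ⟨g, hgp, hg0⟩ := Submodule.exists_mem_ne_zero_of_ne_bot hne
  obtain ⟨s, hs, u, hu⟩ := UniqueFactorizationMonoid.exists_prime_factors g hg0
  have hprod : s.prod ∈ p := by
    rw [← hu] at hgp
    rcases hp.mem_or_mem hgp with h1 | h1
    · exact h1
    · exact absurd (Ideal.eq_top_of_isUnit_mem p h1 u.isUnit) hp.ne_top
  obtain ⟨f, hfs, hfp⟩ := (hp.multiset_prod_mem_iff_exists_mem s).1 hprod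
  exact ⟨f, hfp, (hs f hfs).irreducible⟩

/-- If `k' ⊗ K` is a field and the relation ideal of `x, y` is `(f)`, then `f` stays irreducible
over `k'`. -/
theorem irreducible_map_of_isField_tensor (x y : K) (f : MvPolynomial (Fin 2) k) (hf0 : f ≠ 0)
    (hker : RingHom.ker (MvPolynomial.aeval ![x, y] : MvPolynomial (Fin 2) k →ₐ[k] K) =
      Ideal.span {f})
    (k' : Type u) [Field k'] [Algebra k k'] (hfield : IsField (k' ⊗[k] K)) :
    Irreducible (MvPolynomial.map (algebraMap k k') f) := by
  let ψ : (MvPolynomial (Fin 2) k ⧸ Ideal.span {f}) →ₐ[k] K :=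
    Ideal.Quotient.liftₐ (Ideal.span {f}) (MvPolynomial.aeval ![x, y])
      (fun a ha => by rw [← hker] at ha; exact ha)
  have hψ : Function.Injective ψ := by
    rw [injective_iff_map_eq_zero]
    intro b hb
    obtain ⟨a, rfl⟩ := Ideal.Quotient.mk_surjective b
    rw [Ideal.Quotient.eq_zero_iff_mem, ← hker]
    exact hb
  letI := hfield.toField
  let ι : k' ⊗[k] (MvPolynomial (Fin 2) k ⧸ Ideal.span {f}) →ₐ[k] k' ⊗[k] K :=
    Algebra.TensorProduct.map (AlgHom.id k k') ψ
  have hι : Function.Injective ι := by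
    have h1 : (ι : k' ⊗[k] (MvPolynomial (Fin 2) k ⧸ Ideal.span {f}) → k' ⊗[k] K) =
        LinearMap.lTensor k' ψ.toLinearMap := by
      ext t
      induction t using TensorProduct.induction_on with
      | zero => simp
      | tmul a b => rfl
      | add a b ha hb => simp only [map_add, ha, hb]
    rw [h1]
    exact Module.Flat.lTensor_preserves_injective_linearMap _ hψ
  haveI : IsDomain (k' ⊗[k] (MvPolynomial (Fin 2) k ⧸ Ideal.span {f})) :=
    hι.isDomain ι.toRingHom
  haveI : IsDomain (MvPolynomial (Fin 2) k' ⧸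
      Ideal.span {MvPolynomial.map (algebraMap k k') f}) :=
    isDomain_quot_map k' f inferInstance
  have hprime : (Ideal.span {MvPolynomial.map (algebraMap k k') f}).IsPrime :=
    (Ideal.Quotient.isDomain_iff_prime _).1 inferInstance
  have hf'0 : MvPolynomial.map (algebraMap k k') f ≠ 0 := by
    intro h0
    apply hf0
    apply MvPolynomial.map_injective _ (algebraMap k k').injective
    rw [h0, map_zero]
  exact ((Ideal.span_singleton_prime hf'0).1 hprime).irreducible

theorem forward (hK : IsFunctionField k K) (hg : IsGeometric k K) :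
    ∃ (x y : K) (f : MvPolynomial (Fin 2) k),
      IntermediateField.adjoin k ({x, y} : Set K) = ⊤ ∧
      (∀ (k' : Type u) [Field k'] [Algebra k k'], FiniteDimensional k k' →
        Irreducible (MvPolynomial.map (algebraMap k k') f)) ∧
      RingHom.ker (MvPolynomial.aeval ![x, y] : MvPolynomial (Fin 2) k →ₐ[k] K) =
        Ideal.span {f} := by
  obtain ⟨x, hx, hsep⟩ := SepGen.exists_separating hK hg
  haveI hfin : FiniteDimensional k⟮x⟯ K := ff_finite_of_transcendental hK hx
  obtain ⟨y, hy⟩ := Field.exists_primitive_element k⟮x⟯ K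
  have hadj : IntermediateField.adjoin k ({x, y} : Set K) = ⊤ := by
    have h1 := IntermediateField.adjoin_adjoin_left k ({x} : Set K) ({y} : Set K)
    rw [hy, IntermediateField.restrictScalars_top, Set.singleton_union] at h1
    exact h1.symm
  haveI hprime : (RingHom.ker
      (MvPolynomial.aeval ![x, y] : MvPolynomial (Fin 2) k →ₐ[k] K)).IsPrime :=
    RingHom.ker_isPrime _
  have hne := ker_ne_bot x y ((isAlgebraic_algebra_adjoin (k := k) x).isAlgebraic y)
  obtain ⟨f, hfp, hf⟩ := exists_irreducible_mem _ hne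
  have hmax : ¬ (RingHom.ker
      (MvPolynomial.aeval ![x, y] : MvPolynomial (Fin 2) k →ₐ[k] K)).IsMaximal := by
    intro hmax
    letI := Ideal.Quotient.field (RingHom.ker
      (MvPolynomial.aeval ![x, y] : MvPolynomial (Fin 2) k →ₐ[k] K))
    haveI : Algebra.FiniteType k (MvPolynomial (Fin 2) k ⧸ RingHom.ker
        (MvPolynomial.aeval ![x, y] : MvPolynomial (Fin 2) k →ₐ[k] K)) :=
      Algebra.FiniteType.of_surjective (Ideal.Quotient.mkₐ k _)
        (Ideal.Quotient.mkₐ_surjective _ _)
    haveI := finite_of_finite_type_of_isJacobsonRing k (MvPolynomial (Fin 2) k ⧸ RingHom.ker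
        (MvPolynomial.aeval ![x, y] : MvPolynomial (Fin 2) k →ₐ[k] K))
    let ψ : (MvPolynomial (Fin 2) k ⧸ RingHom.ker
        (MvPolynomial.aeval ![x, y] : MvPolynomial (Fin 2) k →ₐ[k] K)) →ₐ[k] K :=
      Ideal.Quotient.liftₐ _ (MvPolynomial.aeval ![x, y]) (fun a ha => ha)
    have h1 : IsIntegral k (Ideal.Quotient.mk (RingHom.ker
        (MvPolynomial.aeval ![x, y] : MvPolynomial (Fin 2) k →ₐ[k] K)) (MvPolynomial.X 0)) :=
      Algebra.IsIntegral.isIntegral _
    have h2 := h1.map ψ
    have h3 : ψ (Ideal.Quotient.mk _ (MvPolynomial.X 0)) = x := by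
      change MvPolynomial.aeval ![x, y] (MvPolynomial.X 0) = x
      rw [MvPolynomial.aeval_X]
      rfl
    rw [h3] at h2
    exact hx h2.isAlgebraic
  have hker := eq_span_of_not_isMaximal _ f hf hfp hmax
  refine ⟨x, y, f, hadj, ?_, hker⟩
  intro k' _ _ hfin'
  exact irreducible_map_of_isField_tensor x y f hf.ne_zero hker k' (hg k' hfin')

end forward


section backward

variable {k : Type u} {K : Type v} [Field k] [Field K] [Algebra k K]

/-- The ideal `(X - a, Y - b)` is not generated by an element vanishing at `(a, b)`. -/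
theorem not_dvd_pair (a b : k) (f g h : MvPolynomial (Fin 2) k)
    (hfv : MvPolynomial.aeval ![a, b] f = 0)
    (h1 : MvPolynomial.X 0 - MvPolynomial.C a = f * g)
    (h2 : MvPolynomial.X 1 - MvPolynomial.C b = f * h) : False := by
  have h01 : (0 : Fin 2) ≠ 1 := by decide
  have d00 := congrArg (fun p => MvPolynomial.aeval ![a, b] (MvPolynomial.pderiv 0 p)) h1
  have d01 := congrArg (fun p => MvPolynomial.aeval ![a, b] (MvPolynomial.pderiv 1 p)) h1
  have d11 := congrArg (fun p => MvPolynomial.aeval ![a, b] (MvPolynomial.pderiv 1 p)) h2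
  simp only [map_sub, MvPolynomial.pderiv_X_self, MvPolynomial.pderiv_C, Derivation.leibniz,
    MvPolynomial.pderiv_X_of_ne h01,
    map_add, smul_eq_mul, map_mul, hfv, zero_mul, zero_add, sub_zero, map_one, map_zero]
    at d00 d01 d11
  have hg : MvPolynomial.aeval ![a, b] g ≠ 0 := by
    intro h0
    rw [h0, zero_mul] at d00
    exact one_ne_zero d00
  have hf1 : MvPolynomial.aeval ![a, b] (MvPolynomial.pderiv 1 f) = 0 := by
    rcases mul_eq_zero.1 d01.symm with h3 | h3
    · exact absurd h3 hg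
    · exact h3
  rw [hf1, mul_zero] at d11
  exact one_ne_zero d11

theorem aeval_const (a b : k) (p : MvPolynomial (Fin 2) k) :
    MvPolynomial.aeval ![algebraMap k K a, algebraMap k K b] p =
      algebraMap k K (MvPolynomial.aeval ![a, b] p) := by
  have h1 := MvPolynomial.comp_aeval_apply (f := ![a, b]) (Algebra.ofId k K) p
  have h2 : (fun i => Algebra.ofId k K (![a, b] i)) = ![algebraMap k K a, algebraMap k K b] := by
    funext i
    fin_cases i <;> rfl
  rw [h2] at h1
  exact h1.symm

/-- One of the two generators is transcendental. -/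
theorem not_both_algebraic (hcl : ∀ z : K, IsAlgebraic k z → z ∈ Set.range (algebraMap k K))
    (x y : K) (f : MvPolynomial (Fin 2) k)
    (hker : RingHom.ker (MvPolynomial.aeval ![x, y] : MvPolynomial (Fin 2) k →ₐ[k] K) =
      Ideal.span {f})
    (hx : IsAlgebraic k x) (hy : IsAlgebraic k y) : False := by
  obtain ⟨a, rfl⟩ := hcl x hx
  obtain ⟨b, rfl⟩ := hcl y hy
  have hf : f ∈ RingHom.ker (MvPolynomial.aeval ![algebraMap k K a, algebraMap k K b] :
      MvPolynomial (Fin 2) k →ₐ[k] K) := by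
    rw [hker]; exact Ideal.mem_span_singleton_self f
  rw [RingHom.mem_ker, aeval_const] at hf
  have hfv : MvPolynomial.aeval ![a, b] f = 0 := (algebraMap k K).injective (by rw [hf, map_zero])
  have h1 : MvPolynomial.X 0 - MvPolynomial.C a ∈ RingHom.ker
      (MvPolynomial.aeval ![algebraMap k K a, algebraMap k K b] :
        MvPolynomial (Fin 2) k →ₐ[k] K) := by
    rw [RingHom.mem_ker, aeval_const]
    simp
  have h2 : MvPolynomial.X 1 - MvPolynomial.C b ∈ RingHom.ker
      (MvPolynomial.aeval ![algebraMap k K a, algebraMap k K b] :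
        MvPolynomial (Fin 2) k →ₐ[k] K) := by
    rw [RingHom.mem_ker, aeval_const]
    simp
  rw [hker, Ideal.mem_span_singleton] at h1 h2
  obtain ⟨g, hg⟩ := h1
  obtain ⟨h, hh⟩ := h2
  exact not_dvd_pair a b f g h hfv hg hh

/-- If `x` is transcendental and `x, y` satisfy a nontrivial relation, `y` is algebraic over
`k[x]`. -/
theorem isAlgebraic_of_ker_ne_bot (x y : K) (hx : Transcendental k x)
    (hne : RingHom.ker (MvPolynomial.aeval ![x, y] : MvPolynomial (Fin 2) k →ₐ[k] K) ≠ ⊥) :
    IsAlgebraic (Algebra.adjoin k ({x} : Set K)) y := by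
  by_contra hy
  apply hne
  have h0 : AlgebraicIndepOn k ![x, y] ({0} : Set (Fin 2)) :=
    (algebraicIndependent_singleton_iff (⟨0, rfl⟩ : ({0} : Set (Fin 2)))).2 hx
  have h1 : AlgebraicIndepOn k ![x, y] (insert 1 ({0} : Set (Fin 2))) := by
    apply h0.insert
    rw [Set.image_singleton]
    exact hy
  have h2 : insert 1 ({0} : Set (Fin 2)) = Set.univ := by
    ext i
    fin_cases i <;> simp
  rw [h2, AlgebraicIndepOn.univ] at h1
  exact (RingHom.injective_iff_ker_eq_bot _).1 (algebraicIndependent_iff_injective_aeval.1 h1)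

open scoped IntermediateField.algebraAdjoinAdjoin in
theorem finiteDimensional_of_isAlgebraic (t u : K)
    (hadj : IntermediateField.adjoin k ({t, u} : Set K) = ⊤)
    (hu : IsAlgebraic (Algebra.adjoin k ({t} : Set K)) u) : FiniteDimensional k⟮t⟯ K := by
  have hu' : IsAlgebraic k⟮t⟯ u :=
    hu.extendScalars (FaithfulSMul.algebraMap_injective (Algebra.adjoin k ({t} : Set K)) k⟮t⟯)
  haveI : FiniteDimensional k⟮t⟯ k⟮t⟯⟮u⟯ :=
    IntermediateField.adjoin.finiteDimensional hu'.isIntegral
  have htop : k⟮t⟯⟮u⟯ = ⊤ := by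
    have h1 := IntermediateField.adjoin_adjoin_left k ({t} : Set K) ({u} : Set K)
    rw [Set.singleton_union, hadj] at h1
    apply IntermediateField.restrictScalars_injective k
    rw [h1, IntermediateField.restrictScalars_top]
  rw [htop] at this
  exact Module.Finite.equiv (IntermediateField.topEquiv (F := k⟮t⟯) (E := K)).toLinearEquiv


/-- Every element of `K = k(x, y)` is a quotient of polynomial expressions. -/
theorem exists_mul_eq (x y : K) (hadj : IntermediateField.adjoin k ({x, y} : Set K) = ⊤) (z : K) :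
    ∃ a s : MvPolynomial (Fin 2) k, MvPolynomial.aeval ![x, y] s ≠ 0 ∧
      MvPolynomial.aeval ![x, y] s * z = MvPolynomial.aeval ![x, y] a := by
  have hz : z ∈ IntermediateField.adjoin k (Set.range ![x, y]) := by
    have hr : Set.range ![x, y] = ({x, y} : Set K) := by
      simp [Set.pair_comm]
    rw [hr, hadj]
    trivial
  obtain ⟨r, s, hrs⟩ := (IntermediateField.mem_adjoin_range_iff k ![x, y] z).1 hz
  by_cases hs : MvPolynomial.aeval ![x, y] s = 0
  · refine ⟨0, 1, by simp, ?_⟩
    rw [hrs, hs, div_zero, mul_zero, map_zero]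
  · refine ⟨r, s, hs, ?_⟩
    rw [hrs, mul_div_cancel₀ _ hs]

set_option backward.isDefEq.respectTransparency false in
theorem tensor_mul_eq_zero {A B : Type*} [CommRing A] [CommRing B] [Algebra k A] [Algebra k B]
    (hdom : IsDomain (A ⊗[k] B)) (a b : A ⊗[k] B) (h : a * b = 0) : a = 0 ∨ b = 0 :=
  mul_eq_zero.1 h

/-- If `f` stays irreducible over `k'`, then `k' ⊗ K` is a field. -/
theorem isField_tensor_of_irreducible_map (x y : K) (f : MvPolynomial (Fin 2) k)
    (hadj : IntermediateField.adjoin k ({x, y} : Set K) = ⊤)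
    (hker : RingHom.ker (MvPolynomial.aeval ![x, y] : MvPolynomial (Fin 2) k →ₐ[k] K) =
      Ideal.span {f})
    (k' : Type u) [Field k'] [Algebra k k'] [FiniteDimensional k k']
    (hirr : Irreducible (MvPolynomial.map (algebraMap k k') f)) : IsField (k' ⊗[k] K) := by
  let ψ : (MvPolynomial (Fin 2) k ⧸ Ideal.span {f}) →ₐ[k] K :=
    Ideal.Quotient.liftₐ (Ideal.span {f}) (MvPolynomial.aeval ![x, y])
      (fun a ha => by rw [← hker] at ha; exact ha)
  have hψmk : ∀ a, ψ (Ideal.Quotient.mk _ a) = MvPolynomial.aeval ![x, y] a := fun a => rfl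
  have hψ : Function.Injective ψ := by
    rw [injective_iff_map_eq_zero]
    intro b hb
    obtain ⟨a, rfl⟩ := Ideal.Quotient.mk_surjective b
    rw [Ideal.Quotient.eq_zero_iff_mem, ← hker]
    exact hb
  let ι : k' ⊗[k] (MvPolynomial (Fin 2) k ⧸ Ideal.span {f}) →ₐ[k] k' ⊗[k] K :=
    Algebra.TensorProduct.map (AlgHom.id k k') ψ
  have hι : Function.Injective ι := by
    have h1 : (ι : k' ⊗[k] (MvPolynomial (Fin 2) k ⧸ Ideal.span {f}) → k' ⊗[k] K) =
        LinearMap.lTensor k' ψ.toLinearMap := by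
      ext t
      induction t using TensorProduct.induction_on with
      | zero => simp
      | tmul a b => rfl
      | add a b ha hb => simp only [map_add, ha, hb]
    rw [h1]
    exact Module.Flat.lTensor_preserves_injective_linearMap _ hψ
  have hf'0 : MvPolynomial.map (algebraMap k k') f ≠ 0 := hirr.ne_zero
  haveI hprime : (Ideal.span {MvPolynomial.map (algebraMap k k') f}).IsPrime :=
    (Ideal.span_singleton_prime hf'0).2 hirr.prime
  haveI hdomB : IsDomain (k' ⊗[k] (MvPolynomial (Fin 2) k ⧸ Ideal.span {f})) :=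
    isDomain_tensor_quot k' f (Ideal.Quotient.isDomain _)
  -- clearing denominators
  have hclear : ∀ ξ : k' ⊗[k] K, ∃ s : MvPolynomial (Fin 2) k,
      MvPolynomial.aeval ![x, y] s ≠ 0 ∧
      ∃ η : k' ⊗[k] (MvPolynomial (Fin 2) k ⧸ Ideal.span {f}),
        ((1 : k') ⊗ₜ[k] (MvPolynomial.aeval ![x, y] s)) * ξ = ι η := by
    intro ξ
    induction ξ using TensorProduct.induction_on with
    | zero => exact ⟨1, by simp, 0, by simp⟩
    | tmul c z =>
      obtain ⟨a, s, hs, haz⟩ := exists_mul_eq x y hadj z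
      refine ⟨s, hs, c ⊗ₜ[k] (Ideal.Quotient.mk _ a), ?_⟩
      rw [Algebra.TensorProduct.tmul_mul_tmul, one_mul, haz]
      rfl
    | add ξ₁ ξ₂ h₁ h₂ =>
      obtain ⟨s₁, hs₁, η₁, hη₁⟩ := h₁
      obtain ⟨s₂, hs₂, η₂, hη₂⟩ := h₂
      refine ⟨s₁ * s₂, by rw [map_mul]; exact mul_ne_zero hs₁ hs₂,
        ((1 : k') ⊗ₜ[k] (Ideal.Quotient.mk _ s₂)) * η₁ +
          ((1 : k') ⊗ₜ[k] (Ideal.Quotient.mk _ s₁)) * η₂, ?_⟩
      have e1 : ι ((1 : k') ⊗ₜ[k] (Ideal.Quotient.mk (Ideal.span {f}) s₂)) =
          (1 : k') ⊗ₜ[k] (MvPolynomial.aeval ![x, y] s₂) := rfl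
      have e2 : ι ((1 : k') ⊗ₜ[k] (Ideal.Quotient.mk (Ideal.span {f}) s₁)) =
          (1 : k') ⊗ₜ[k] (MvPolynomial.aeval ![x, y] s₁) := rfl
      have e3 : (1 : k') ⊗ₜ[k] (MvPolynomial.aeval ![x, y] (s₁ * s₂)) =
          ((1 : k') ⊗ₜ[k] (MvPolynomial.aeval ![x, y] s₁)) *
            ((1 : k') ⊗ₜ[k] (MvPolynomial.aeval ![x, y] s₂)) := by
        rw [Algebra.TensorProduct.tmul_mul_tmul, one_mul, map_mul]
      have hL : ι (((1 : k') ⊗ₜ[k] (Ideal.Quotient.mk (Ideal.span {f}) s₂)) * η₁ +
          ((1 : k') ⊗ₜ[k] (Ideal.Quotient.mk (Ideal.span {f}) s₁)) * η₂) =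
          ι ((1 : k') ⊗ₜ[k] (Ideal.Quotient.mk (Ideal.span {f}) s₂)) * ι η₁ +
          ι ((1 : k') ⊗ₜ[k] (Ideal.Quotient.mk (Ideal.span {f}) s₁)) * ι η₂ := by
        rw [map_add, map_mul, map_mul]
      rw [hL, e1, e2, ← hη₁, ← hη₂, e3]
      ring
  have hunit : ∀ s : MvPolynomial (Fin 2) k, MvPolynomial.aeval ![x, y] s ≠ 0 →
      ∀ ξ : k' ⊗[k] K, ((1 : k') ⊗ₜ[k] (MvPolynomial.aeval ![x, y] s)) * ξ = 0 → ξ = 0 := by
    intro s hs ξ hξ
    have h1 : ((1 : k') ⊗ₜ[k] (MvPolynomial.aeval ![x, y] s)⁻¹) *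
        (((1 : k') ⊗ₜ[k] (MvPolynomial.aeval ![x, y] s)) * ξ) = ξ := by
      rw [← mul_assoc, Algebra.TensorProduct.tmul_mul_tmul, one_mul, inv_mul_cancel₀ hs]
      exact one_mul ξ
    rw [← h1, hξ, mul_zero]
  haveI hnt : Nontrivial (k' ⊗[k] K) := hι.nontrivial
  haveI hnzd : NoZeroDivisors (k' ⊗[k] K) := by
    refine ⟨fun {ξ₁ ξ₂} h12 => ?_⟩
    obtain ⟨s₁, hs₁, η₁, hη₁⟩ := hclear ξ₁
    obtain ⟨s₂, hs₂, η₂, hη₂⟩ := hclear ξ₂
    have h3 : ι (η₁ * η₂) = 0 := by
      rw [map_mul, ← hη₁, ← hη₂]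
      have h4 : (1 : k') ⊗ₜ[k] (MvPolynomial.aeval ![x, y] s₁) * ξ₁ *
          ((1 : k') ⊗ₜ[k] (MvPolynomial.aeval ![x, y] s₂) * ξ₂) =
          (1 : k') ⊗ₜ[k] (MvPolynomial.aeval ![x, y] s₁) *
            ((1 : k') ⊗ₜ[k] (MvPolynomial.aeval ![x, y] s₂)) * (ξ₁ * ξ₂) := by ring
      rw [h4, h12, mul_zero]
    have h5 : η₁ * η₂ = 0 := hι (by rw [h3, map_zero])
    rcases tensor_mul_eq_zero hdomB _ _ h5 with h6 | h6
    · left
      apply hunit s₁ hs₁
      rw [hη₁, h6, map_zero]
    · right
      apply hunit s₂ hs₂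
      rw [hη₂, h6, map_zero]
  haveI : IsDomain (k' ⊗[k] K) := NoZeroDivisors.to_isDomain _
  let e : K ⊗[k] k' ≃ₐ[k] k' ⊗[k] K := Algebra.TensorProduct.comm k K k'
  haveI : IsDomain (K ⊗[k] k') := e.toMulEquiv.isDomain
  haveI : Module.Finite K (K ⊗[k] k') := inferInstance
  haveI : Algebra.IsIntegral K (K ⊗[k] k') := Algebra.IsIntegral.of_finite K _
  have h2 : IsField (K ⊗[k] k') := by
    have := isField_of_isIntegral_of_isField' (R := K) (S := K ⊗[k] k') (Field.toIsField K)
    exact ⟨this.exists_pair_ne, this.mul_comm, this.mul_inv_cancel⟩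
  exact e.symm.toMulEquiv.isField h2


theorem backward (x y : K) (f : MvPolynomial (Fin 2) k)
    (hadj : IntermediateField.adjoin k ({x, y} : Set K) = ⊤)
    (habs : ∀ (k' : Type u) [Field k'] [Algebra k k'], FiniteDimensional k k' →
      Irreducible (MvPolynomial.map (algebraMap k k') f))
    (hker : RingHom.ker (MvPolynomial.aeval ![x, y] : MvPolynomial (Fin 2) k →ₐ[k] K) =
      Ideal.span {f}) :
    IsFunctionField k K ∧ IsGeometric k K := by
  have hgeo : IsGeometric k K := by
    intro k' _ _ hfin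
    haveI := hfin
    exact isField_tensor_of_irreducible_map x y f hadj hker k' (habs k' hfin)
  have hcl := mem_range_of_isAlgebraic hgeo
  have hf : Irreducible f := by
    have h1 := habs k inferInstance
    rwa [Algebra.algebraMap_self, MvPolynomial.map_id] at h1
  have hne : RingHom.ker (MvPolynomial.aeval ![x, y] : MvPolynomial (Fin 2) k →ₐ[k] K) ≠ ⊥ := by
    rw [hker]
    intro h
    exact hf.ne_zero (Ideal.span_singleton_eq_bot.1 h)
  refine ⟨⟨?_, hcl⟩, hgeo⟩
  by_cases hx : IsAlgebraic k x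
  · have hy : Transcendental k y := fun hy => not_both_algebraic hcl x y f hker hx hy
    refine ⟨y, hy, ?_⟩
    apply finiteDimensional_of_isAlgebraic y x (by rw [Set.pair_comm]; exact hadj)
    exact hx.extendScalars (algebraMap k (Algebra.adjoin k ({y} : Set K))).injective
  · exact ⟨x, hx, finiteDimensional_of_isAlgebraic x y hadj
      (isAlgebraic_of_ker_ne_bot x y hx hne)⟩

/-- S11008. -/
theorem main (k : Type u) (K : Type v) [Field k] [Field K] [Algebra k K] :
    (FunFld.IsFunctionField k K ∧ FunFld.IsGeometric k K) ↔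
      ∃ (x y : K) (f : MvPolynomial (Fin 2) k),
        IntermediateField.adjoin k ({x, y} : Set K) = ⊤ ∧
        (∀ (k' : Type u) [Field k'] [Algebra k k'], FiniteDimensional k k' →
          Irreducible (MvPolynomial.map (algebraMap k k') f)) ∧
        RingHom.ker (MvPolynomial.aeval ![x, y] : MvPolynomial (Fin 2) k →ₐ[k] K) =
          Ideal.span {f} := by
  constructor
  · rintro ⟨hK, hg⟩
    exact forward hK hg
  · rintro ⟨x, y, f, hadj, habs, hker⟩
    exact backward x y f hadj habs hker

end backward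

end Groth.Agent.Lib.Helper63.AbsIrred
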