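import Groth.Agent.Lib.Helper63.GapQuotCompl

/-! S16098: strong approximation in adelic form (helper63). -/

set_option autoImplicit false
set_option linter.style.haveILetI false
set_option linter.unusedSectionVars false

namespace Groth.Agent.Lib.Helper63.AdeleApprox

open WithZero FunFld Module Groth.Agent.Lib.Helper55

universe u

variable {k K : Type u} [Field k] [Field K] [Algebra k K]

/-- Every element of the completion is congruent to an element of `K` modulo the integers. -/
theorem exists_sub_mem_Ov (P : Place k K) (y : AdFn.Kv P) :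
    ∃ x : K, y - AdFn.toKv P x ∈ AdFn.Ov P := by
  have hopen : IsOpen {z : AdFn.Kv P | y - z ∈ (AdFn.Ov P : Set (AdFn.Kv P))} :=
    (AdFn.isOpen_Ov P).preimage (continuous_const.sub continuous_id)
  have hy : y ∈ {z : AdFn.Kv P | y - z ∈ (AdFn.Ov P : Set (AdFn.Kv P))} := by
    change y - y ∈ (AdFn.Ov P : Set (AdFn.Kv P))
    rw [sub_self]
    exact zero_mem _
  have hdense : DenseRange (AdFn.toKv P) := by
    have h0 : DenseRange ((↑) : WithVal P.1 → P.1.Completion) :=
      UniformSpace.Completion.denseRange_coe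
    have h1 : Set.range (AdFn.toKv P) = Set.range ((↑) : WithVal P.1 → P.1.Completion) := by
      ext w
      constructor
      · rintro ⟨x, rfl⟩
        exact ⟨WithVal.toVal P.1 x, rfl⟩
      · rintro ⟨x, rfl⟩
        exact ⟨WithVal.ofVal x, rfl⟩
    unfold DenseRange
    rw [h1]
    exact h0
  obtain ⟨x, hz⟩ := hdense.exists_mem_open hopen ⟨y, hy⟩
  exact ⟨x, hz⟩

theorem main (hK : IsFunctionField k K) [AdFn.HasFinitePoles k K]
    (S : Set (Place k K)) (hS : S.Nonempty) :
    (∀ a : AdFn.AdeleRing k K, ∃ f : K, ∀ v : Place k K, v ∉ S →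
        AdFn.AdeleRing.proj v (a - AdFn.AdeleRing.diag f) ∈ AdFn.Ov v) ∧
    (∀ b : AdFn.AdeleRing k K, (∀ v : Place k K, v ∉ S → AdFn.AdeleRing.proj v b = 0) →
        ((∃ f : K, ∀ v : Place k K,
            AdFn.AdeleRing.proj v (b - AdFn.AdeleRing.diag f) ∈ AdFn.Ov v) ↔
          ∃ f ∈ AdFn.SInt S, ∀ v ∈ S,
            AdFn.AdeleRing.proj v b - AdFn.toKv v f ∈ AdFn.Ov v)) := by
  classical
  refine ⟨?_, ?_⟩
  · intro a
    obtain ⟨Pinf, hPinf⟩ := hS
    have hfin : {v : Place k K | ¬ a.1 v ∈ (AdFn.Ov v : Set (AdFn.Kv v))}.Finite := by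
      have := a.2
      rw [Filter.eventually_cofinite] at this
      exact this
    set s : Finset (Place k K) := hfin.toFinset.filter (fun v => v ∉ S) with hs
    have hinf : Pinf ∉ s := by
      intro h
      rw [hs, Finset.mem_filter] at h
      exact h.2 hPinf
    choose y hy using fun v : Place k K => exists_sub_mem_Ov v (a.1 v)
    obtain ⟨z, hz1, hz2⟩ := ff_strong_approx_le hK s Pinf hinf y (fun _ => 0)
    refine ⟨z, fun v hv => ?_⟩
    rw [map_sub, AdFn.AdeleRing.proj_diag]
    change a.1 v - AdFn.toKv v z ∈ AdFn.Ov v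
    by_cases hvs : v ∈ s
    · have h1 : AdFn.toKv v (z - y v) ∈ AdFn.Ov v := by
        rw [AdFn.toKv_mem_Ov]
        have := hz1 v hvs
        rwa [exp_zero] at this
      have h2 : a.1 v - AdFn.toKv v z = (a.1 v - AdFn.toKv v (y v)) - AdFn.toKv v (z - y v) := by
        rw [map_sub]; ring
      rw [h2]
      exact sub_mem (hy v) h1
    · have h1 : a.1 v ∈ AdFn.Ov v := by
        by_contra hna
        apply hvs
        rw [hs, Finset.mem_filter]
        exact ⟨hfin.mem_toFinset.2 hna, hv⟩
      have h2 : AdFn.toKv v z ∈ AdFn.Ov v := by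
        rw [AdFn.toKv_mem_Ov]
        exact hz2 v hvs (fun h => hv (h ▸ hPinf))
      exact sub_mem h1 h2
  · intro b hb
    constructor
    · rintro ⟨f, hf⟩
      refine ⟨f, ?_, fun v _ => ?_⟩
      · rw [AdFn.mem_SInt]
        intro v hv
        have h1 := hf v
        rw [map_sub, AdFn.AdeleRing.proj_diag, hb v hv, zero_sub] at h1
        have h2 : AdFn.toKv v f ∈ AdFn.Ov v := by
          have := neg_mem h1
          rwa [neg_neg] at this
        exact (AdFn.toKv_mem_Ov v f).1 h2
      · have h1 := hf v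
        rw [map_sub, AdFn.AdeleRing.proj_diag] at h1
        exact h1
    · rintro ⟨f, hfS, hf⟩
      refine ⟨f, fun v => ?_⟩
      rw [map_sub, AdFn.AdeleRing.proj_diag]
      by_cases hv : v ∈ S
      · exact hf v hv
      · rw [hb v hv, zero_sub]
        exact neg_mem ((AdFn.toKv_mem_Ov v f).2 (hfS v hv))

end Groth.Agent.Lib.Helper63.AdeleApprox
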