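import Groth.Agent.Lib.Helper21.AnTop
import Mathlib.AlgebraicGeometry.AffineScheme
import Mathlib.AlgebraicGeometry.AffineSpace
import Mathlib.Topology.Algebra.MvPolynomial
import Mathlib.RingTheory.Ideal.Maps

/-!
# The complex topology on the ℂ-points of an affine scheme

For an affine scheme `X` over `ℂ` the topology on `An.Pts X` is induced by the evaluations of the
GLOBAL sections; if `s₁, …, sₙ` generate `Γ(X, ⊤)` as a `ℂ`-algebra then `x ↦ (sᵢ(x))` is a closed
embedding into `ℂⁿ` whose range is the zero locus of the relations.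
-/

set_option autoImplicit false
set_option linter.style.haveILetI false
set_option linter.unusedSectionVars false
set_option linter.unusedVariables false

open AlgebraicGeometry CategoryTheory TopologicalSpace Opposite

namespace Groth.Agent.Lib.Helper63.AnAffine

open Groth.Agent.Lib.Helper21

variable {X : Scheme.{0}} [X.Over An.SC]

/-- Evaluation at a ℂ-point, as a ring homomorphism. -/
noncomputable def evHom (x : An.Pts X) (U : X.Opens) (h : x.pt ∈ U) : Γ(X, U) →+* ℂ :=
  (Scheme.ΓSpecIso (CommRingCat.of ℂ)).hom.hom.comp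
    (x.1.appLE U ⊤ (An.Pts.top_le_preimage x h)).hom

lemma evHom_apply (x : An.Pts X) (U : X.Opens) (h : x.pt ∈ U) (f : Γ(X, U)) :
    evHom x U h f = x.ev U h f := rfl

lemma appLE_top_top (x : An.Pts X) (h) : x.1.appLE ⊤ ⊤ h = x.1.appTop :=
  Scheme.Hom.appLE_eq_app (f := x.1) (U := ⊤)

lemma evTop_eq (x : An.Pts X) (f : Γ(X, ⊤)) :
    x.evTop f = (Scheme.ΓSpecIso (CommRingCat.of ℂ)).hom (x.1.appTop f) := by
  change (Scheme.ΓSpecIso (CommRingCat.of ℂ)).hom (x.1.appLE ⊤ ⊤ _ f) = _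
  rw [appLE_top_top]

lemma evTop_strHom (x : An.Pts X) (c : ℂ) : x.evTop (An.strHom X c) = c := by
  rw [evTop_eq]
  have h1 : (X ↘ An.SC).appTop ≫ x.1.appTop = 𝟙 _ := by
    rw [← Scheme.Hom.comp_appTop, x.2]
    rfl
  change (Scheme.ΓSpecIso (CommRingCat.of ℂ)).hom
    (((X ↘ An.SC).appTop ≫ x.1.appTop) ((Scheme.ΓSpecIso (CommRingCat.of ℂ)).inv c)) = c
  rw [h1]
  exact Iso.inv_hom_id_apply (C := CommRingCat) _ _

lemma mem_basicOpen_iff (x : An.Pts X) (g : Γ(X, ⊤)) :
    x.pt ∈ X.basicOpen g ↔ x.evTop g ≠ 0 := by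
  have key : x.1 ⁻¹ᵁ X.basicOpen g = An.SC.basicOpen (x.1.appTop g) :=
    Scheme.preimage_basicOpen_top _ _
  have hmem : x.pt ∈ X.basicOpen g ↔ An.cpt ∈ x.1 ⁻¹ᵁ X.basicOpen g := Iff.rfl
  rw [hmem, key, evTop_eq]
  by_cases h0 : (Scheme.ΓSpecIso (CommRingCat.of ℂ)).hom (x.1.appTop g) = 0
  · have ha : x.1.appTop g = 0 := by
      have := congrArg (Scheme.ΓSpecIso (CommRingCat.of ℂ)).inv h0
      rwa [Iso.hom_inv_id_apply, map_zero] at this
    rw [ha, Scheme.basicOpen_zero]
    simp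
  · have hu : IsUnit (x.1.appTop g) := by
      have h1 : IsUnit ((Scheme.ΓSpecIso (CommRingCat.of ℂ)).hom (x.1.appTop g)) :=
        Ne.isUnit h0
      have := h1.map (Scheme.ΓSpecIso (CommRingCat.of ℂ)).inv.hom
      rwa [← CommRingCat.comp_apply, Iso.hom_inv_id, CommRingCat.id_apply] at this
    rw [Scheme.basicOpen_of_isUnit _ hu]
    simp [h0]

/-- Sections over an open of an affine scheme are locally fractions `h / g ^ m` of global ones. -/
lemma exists_local_fraction [IsAffine X] (x : An.Pts X) (U : X.Opens) (hx : x.pt ∈ U)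
    (f : Γ(X, U)) :
    ∃ (g h : Γ(X, ⊤)) (m : ℕ), x.evTop g ≠ 0 ∧
      ∀ y : An.Pts X, y.evTop g ≠ 0 →
        ∃ hyU : y.pt ∈ U, y.ev U hyU f * (y.evTop g) ^ m = y.evTop h := by
  obtain ⟨g, hgU, hxg⟩ := (isAffineOpen_top X).exists_basicOpen_le (V := U) ⟨x.pt, hx⟩ trivial
  haveI : IsLocalization.Away g Γ(X, X.basicOpen g) :=
    (isAffineOpen_top X).isLocalization_basicOpen g
  obtain ⟨m, h, hmh⟩ := IsLocalization.Away.surj g (X.presheaf.map (homOfLE hgU).op f)
  refine ⟨g, h, m, (mem_basicOpen_iff x g).1 hxg, ?_⟩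
  intro y hy
  have hyg : y.pt ∈ X.basicOpen g := (mem_basicOpen_iff y g).2 hy
  refine ⟨hgU hyg, ?_⟩
  have e1 : y.ev U (hgU hyg) f = evHom y (X.basicOpen g) hyg (X.presheaf.map (homOfLE hgU).op f) :=
    (ev_restrict y hgU hyg f).symm
  have e2 : ∀ t : Γ(X, ⊤), y.evTop t =
      evHom y (X.basicOpen g) hyg (algebraMap Γ(X, ⊤) Γ(X, X.basicOpen g) t) := fun t =>
    (ev_restrict y (X.basicOpen_le g) hyg t).symm
  rw [e1, e2 g, e2 h, ← map_pow, ← map_mul, hmh]

lemma continuous_evTop (s : Γ(X, ⊤)) : Continuous (fun x : An.Pts X => x.evTop s) := by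
  refine continuous_def.2 fun V hV => ?_
  have : (fun x : An.Pts X => x.evTop s) ⁻¹' V = An.Pts.basicSet ⊤ s V := by
    ext x
    constructor
    · intro hx
      exact ⟨Opens.mem_top _, hx⟩
    · rintro ⟨h, hv⟩
      exact hv
  rw [this]
  exact An.Pts.isOpen_basicSet _ _ hV

/-- On an affine scheme the complex topology is induced by the global sections. -/
theorem isInducing_evTop [IsAffine X] :
    Topology.IsInducing (fun (x : An.Pts X) (s : Γ(X, ⊤)) => x.evTop s) := by
  refine ⟨le_antisymm ?_ ?_⟩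
  · exact (continuous_pi fun s => continuous_evTop s).le_induced
  · apply le_generateFrom
    rintro _ ⟨U, f, V, hV, rfl⟩
    rw [@isOpen_iff_forall_mem_open]
    rintro x ⟨hxU, hxV⟩
    obtain ⟨g, h, m, hxg, H⟩ := exists_local_fraction x U hxU f
    let N : Set (Γ(X, ⊤) → ℂ) := {φ | φ g ≠ 0} ∩ (fun φ => φ h / (φ g) ^ m) ⁻¹' V
    have hNopen : IsOpen N := by
      apply ContinuousOn.isOpen_inter_preimage
      · apply ContinuousOn.div
        · exact (continuous_apply h).continuousOn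
        · exact ((continuous_apply g).pow m).continuousOn
        · intro φ hφ
          exact pow_ne_zero _ hφ
      · exact isOpen_ne_fun (continuous_apply g) continuous_const
      · exact hV
    have hval : ∀ y : An.Pts X, (hy : y.evTop g ≠ 0) → ∀ hyU : y.pt ∈ U,
        y.ev U hyU f = y.evTop h / (y.evTop g) ^ m := by
      intro y hy hyU
      obtain ⟨_, e⟩ := H y hy
      rw [eq_div_iff (pow_ne_zero _ hy)]
      exact e
    refine ⟨(fun (x : An.Pts X) (s : Γ(X, ⊤)) => x.evTop s) ⁻¹' N, ?_, ?_, ?_⟩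
    · rintro y ⟨hyg, hyV⟩
      obtain ⟨hyU, _⟩ := H y hyg
      refine ⟨hyU, ?_⟩
      rw [hval y hyg hyU]
      exact hyV
    · exact isOpen_induced hNopen
    · refine ⟨hxg, ?_⟩
      change x.evTop h / (x.evTop g) ^ m ∈ V
      rw [← hval x hxg hxU]
      exact hxV

section generators

variable {n : ℕ} (s : Fin n → Γ(X, ⊤))

lemma evTop_eval₂Hom (x : An.Pts X) (p : MvPolynomial (Fin n) ℂ) :
    x.evTop (MvPolynomial.eval₂Hom (An.strHom X) s p) =
      MvPolynomial.eval (fun i => x.evTop (s i)) p := by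
  have : (evHom x ⊤ (Opens.mem_top _)).comp (MvPolynomial.eval₂Hom (An.strHom X) s) =
      MvPolynomial.eval (fun i => x.evTop (s i)) := by
    apply MvPolynomial.ringHom_ext
    · intro c
      simp only [RingHom.comp_apply, MvPolynomial.eval₂Hom_C, MvPolynomial.eval_C]
      exact evTop_strHom x c
    · intro i
      simp only [RingHom.comp_apply, MvPolynomial.eval₂Hom_X', MvPolynomial.eval_X]
      rfl
  exact RingHom.congr_fun this p

/-- A ring homomorphism `Γ(X, ⊤) → ℂ` which is a retraction of the structure map gives a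
ℂ-point of the affine scheme `X`. -/
lemma exists_pt_of_ringHom [IsAffine X] (φ : Γ(X, ⊤) →+* ℂ)
    (hφ : ∀ c, φ (An.strHom X c) = c) :
    ∃ x : An.Pts X, ∀ t, x.evTop t = φ t := by
  let φ' : Γ(X, ⊤) ⟶ CommRingCat.of ℂ := CommRingCat.ofHom φ
  let x₀ : An.SC ⟶ X := Spec.map φ' ≫ X.isoSpec.inv
  have hinv : X.isoSpec.inv.appTop = (Scheme.ΓSpecIso Γ(X, ⊤)).inv := by
    have h1 : X.toSpecΓ.appTop ≫ X.isoSpec.inv.appTop = 𝟙 _ := by
      rw [← Scheme.Hom.comp_appTop, Scheme.isoSpec_inv_toSpecΓ]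
      rfl
    rw [Scheme.toSpecΓ_appTop] at h1
    exact (Iso.hom_comp_eq_id _).1 h1
  have happ : x₀.appTop ≫ (Scheme.ΓSpecIso (CommRingCat.of ℂ)).hom = φ' := by
    change (X.isoSpec.inv.appTop ≫ (Spec.map φ').appTop) ≫ _ = _
    rw [hinv, Category.assoc, Scheme.ΓSpecIso_naturality, Iso.inv_hom_id_assoc]
  have hsec : x₀ ≫ (X ↘ An.SC) = 𝟙 An.SC := by
    apply ext_of_isAffine
    rw [Scheme.Hom.comp_appTop]
    have h2 : (Scheme.ΓSpecIso (CommRingCat.of ℂ)).inv ≫ ((X ↘ An.SC).appTop ≫ x₀.appTop) ≫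
        (Scheme.ΓSpecIso (CommRingCat.of ℂ)).hom = 𝟙 _ := by
      rw [Category.assoc, happ]
      ext c
      exact hφ c
    have h3 : ((X ↘ An.SC).appTop ≫ x₀.appTop) ≫ (Scheme.ΓSpecIso (CommRingCat.of ℂ)).hom =
        (Scheme.ΓSpecIso (CommRingCat.of ℂ)).hom := by
      rw [← cancel_epi (Scheme.ΓSpecIso (CommRingCat.of ℂ)).inv, h2, Iso.inv_hom_id]
    have h4 : (X ↘ An.SC).appTop ≫ x₀.appTop = 𝟙 _ := by
      rw [← cancel_mono (Scheme.ΓSpecIso (CommRingCat.of ℂ)).hom, h3, Category.id_comp]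
    rw [h4]
    rfl
  let xx : An.Pts X := ⟨x₀, hsec⟩
  refine ⟨xx, fun t => ?_⟩
  rw [evTop_eq]
  exact ConcreteCategory.congr_hom happ t

variable (hs : Function.Surjective (MvPolynomial.eval₂Hom (An.strHom X) s))

include hs in
lemma range_eq [IsAffine X] :
    Set.range (fun (x : An.Pts X) (i : Fin n) => x.evTop (s i)) =
      {v | ∀ p ∈ RingHom.ker (MvPolynomial.eval₂Hom (An.strHom X) s), MvPolynomial.eval v p = 0} := by
  ext v
  constructor
  · rintro ⟨x, rfl⟩ p hp
    rw [← evTop_eval₂Hom, (RingHom.mem_ker).1 hp]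
    exact map_zero (evHom x ⊤ (Opens.mem_top _))
  · intro hv
    let φ : Γ(X, ⊤) →+* ℂ :=
      (MvPolynomial.eval₂Hom (An.strHom X) s).liftOfSurjective hs
        ⟨MvPolynomial.eval v, fun p hp => (RingHom.mem_ker).2 (hv p hp)⟩
    have hφ : ∀ p, φ (MvPolynomial.eval₂Hom (An.strHom X) s p) = MvPolynomial.eval v p := fun p =>
      RingHom.liftOfSurjective_comp_apply _ hs _ p
    obtain ⟨x, hx⟩ := exists_pt_of_ringHom φ (fun c => by
      have := hφ (MvPolynomial.C c)
      rwa [MvPolynomial.eval₂Hom_C, MvPolynomial.eval_C] at this)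
    refine ⟨x, funext fun i => ?_⟩
    change x.evTop (s i) = v i
    rw [hx]
    have := hφ (MvPolynomial.X i)
    rwa [MvPolynomial.eval₂Hom_X', MvPolynomial.eval_X] at this

include hs in
/-- Generators of the coordinate ring give a closed embedding of the ℂ-points into `ℂⁿ`. -/
theorem isClosedEmbedding_of_generators [IsAffine X] :
    Topology.IsClosedEmbedding (fun (x : An.Pts X) (i : Fin n) => x.evTop (s i)) := by
  set G : An.Pts X → (Fin n → ℂ) := fun x i => x.evTop (s i) with hG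
  have hGc : Continuous G := continuous_pi fun i => continuous_evTop (s i)
  let Φ : (Fin n → ℂ) → (Γ(X, ⊤) → ℂ) := fun v t => MvPolynomial.eval v (Function.surjInv hs t)
  have hΦc : Continuous Φ := continuous_pi fun t => MvPolynomial.continuous_eval _
  have hcomp : Φ ∘ G = fun (x : An.Pts X) (t : Γ(X, ⊤)) => x.evTop t := by
    funext x t
    change MvPolynomial.eval (fun i => x.evTop (s i)) (Function.surjInv hs t) = x.evTop t
    rw [← evTop_eval₂Hom, Function.surjInv_eq hs]
  have hind : Topology.IsInducing G := by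
    apply Topology.IsInducing.of_comp hGc hΦc
    rw [hcomp]
    exact isInducing_evTop
  have hinj : Function.Injective G := by
    intro x y hxy
    have h1 : ∀ t : Γ(X, ⊤), x.evTop t = y.evTop t := by
      intro t
      have := congrFun (congrFun (congrArg (fun F => Φ ∘ F) (funext fun z => rfl : G = G)) x) t
      have hx := congrFun (congrFun hcomp x) t
      have hy := congrFun (congrFun hcomp y) t
      simp only [Function.comp_apply] at hx hy
      rw [← hx, ← hy, hxy]
    apply Subtype.ext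
    apply ext_of_isAffine
    ext t
    have h2 := h1 t
    rw [evTop_eq, evTop_eq] at h2
    have := congrArg (Scheme.ΓSpecIso (CommRingCat.of ℂ)).inv h2
    rwa [Iso.hom_inv_id_apply, Iso.hom_inv_id_apply] at this
  refine ⟨⟨hind, hinj⟩, ?_⟩
  rw [hG, range_eq s hs]
  have : {v : Fin n → ℂ | ∀ p ∈ RingHom.ker (MvPolynomial.eval₂Hom (An.strHom X) s),
      MvPolynomial.eval v p = 0} =
      ⋂ p ∈ RingHom.ker (MvPolynomial.eval₂Hom (An.strHom X) s),
        (fun v => MvPolynomial.eval v p) ⁻¹' {0} := by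
    ext v
    simp
  rw [this]
  exact isClosed_biInter fun p _ => isClosed_singleton.preimage (MvPolynomial.continuous_eval p)

end generators

end Groth.Agent.Lib.Helper63.AnAffine
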