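import Mathlib

/-!
# Points of finite type ℂ-algebras: lifting along integral maps, separation in fibres

Algebraic input for the density theorem (a nonempty Zariski open subset of an irreducible affine
complex variety is dense in the complex topology).
-/

set_option autoImplicit false
set_option linter.style.haveILetI false
set_option linter.unusedSectionVars false
set_option linter.unusedVariables false

namespace Groth.Agent.Lib.Helper63.AnDense

open Polynomial

variable {A : Type*} [CommRing A] [Algebra ℂ A] [Algebra.FiniteType ℂ A]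

/-- Lifting a point along an integral ring map into a finite type ℂ-algebra. -/
theorem exists_algHom_extending {B : Type*} [CommRing B] (j : B →+* A) (hj : j.IsIntegral)
    (ψ : B →+* ℂ) (hker : RingHom.ker j ≤ RingHom.ker ψ)
    (hc : ∀ c : ℂ, ∃ b, j b = algebraMap ℂ A c ∧ ψ b = c) :
    ∃ φ : A →ₐ[ℂ] ℂ, ∀ b, φ (j b) = ψ b := by
  have hsurj : Function.Surjective ψ := fun c => let ⟨b, _, hb⟩ := hc c; ⟨b, hb⟩
  haveI : (RingHom.ker ψ).IsMaximal := RingHom.ker_isMaximal_of_surjective ψ hsurj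
  letI : Algebra B A := j.toAlgebra
  haveI : Algebra.IsIntegral B A := ⟨hj⟩
  obtain ⟨m, hm, hmc⟩ := Ideal.exists_ideal_over_maximal_of_isIntegral (S := A) (RingHom.ker ψ) hker
  letI := Ideal.Quotient.field m
  haveI : Algebra.FiniteType ℂ (A ⧸ m) :=
    Algebra.FiniteType.of_surjective (Ideal.Quotient.mkₐ ℂ m) (Ideal.Quotient.mkₐ_surjective ℂ m)
  haveI : Module.Finite ℂ (A ⧸ m) := finite_of_finite_type_of_isJacobsonRing ℂ (A ⧸ m)
  have hbij : Function.Bijective (algebraMap ℂ (A ⧸ m)) :=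
    IsAlgClosed.algebraMap_bijective_of_isIntegral
  let e : ℂ ≃ₐ[ℂ] A ⧸ m := AlgEquiv.ofBijective (Algebra.ofId ℂ (A ⧸ m)) hbij
  let φ : A →ₐ[ℂ] ℂ := (e.symm : (A ⧸ m) →ₐ[ℂ] ℂ).comp (Ideal.Quotient.mkₐ ℂ m)
  refine ⟨φ, fun b => ?_⟩
  obtain ⟨b', hb'1, hb'2⟩ := hc (ψ b)
  have h1 : b - b' ∈ RingHom.ker ψ := by rw [RingHom.mem_ker, map_sub, hb'2, sub_self]
  rw [← hmc, Ideal.mem_comap, map_sub] at h1
  have h2 : j b - j b' ∈ m := h1
  have h3 : Ideal.Quotient.mk m (j b) = algebraMap ℂ (A ⧸ m) (ψ b) := by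
    have : Ideal.Quotient.mk m (j b) = Ideal.Quotient.mk m (j b') := Ideal.Quotient.eq.2 h2
    rw [this, hb'1]
    rfl
  change e.symm (Ideal.Quotient.mk m (j b)) = ψ b
  rw [h3]
  exact e.symm.commutes (ψ b)

/-- An algebra hom to ℂ is determined by its kernel. -/
lemma algHom_eq_of_ker_le {φ ψ : A →ₐ[ℂ] ℂ} (h : RingHom.ker (φ : A →+* ℂ) ≤ RingHom.ker (ψ : A →+* ℂ)) :
    φ = ψ := by
  ext a
  have h1 : a - algebraMap ℂ A (φ a) ∈ RingHom.ker (φ : A →+* ℂ) := by
    rw [RingHom.mem_ker, map_sub]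
    simp
  have h2 := h h1
  rw [RingHom.mem_ker, map_sub] at h2
  simp only [AlgHom.coe_toRingHom, AlgHom.commutes, Algebra.algebraMap_self, RingHom.id_apply] at h2
  exact (sub_eq_zero.1 h2).symm

section normalization

variable {d : ℕ} (ι : MvPolynomial (Fin d) ℂ →ₐ[ℂ] A)

/-- The projection of a point to `ℂ^d`. -/
noncomputable def proj (φ : A →ₐ[ℂ] ℂ) : Fin d → ℂ := fun j => φ (ι (MvPolynomial.X j))

lemma apply_ι (φ : A →ₐ[ℂ] ℂ) (p : MvPolynomial (Fin d) ℂ) :
    φ (ι p) = MvPolynomial.eval (proj ι φ) p := by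
  have : φ.comp ι = MvPolynomial.aeval (proj ι φ) := by
    apply MvPolynomial.algHom_ext
    intro j
    simp [proj]
  have h2 := AlgHom.congr_fun this p
  rw [AlgHom.comp_apply] at h2
  rw [h2]
  exact congrFun (congrArg DFunLike.coe (MvPolynomial.coe_aeval_eq_eval (proj ι φ))) p

/-- Evaluating a polynomial relation at a point. -/
lemma apply_aeval (φ : A →ₐ[ℂ] ℂ) (a : A) (F : Polynomial (MvPolynomial (Fin d) ℂ)) :
    φ (Polynomial.eval₂ (ι : MvPolynomial (Fin d) ℂ →+* A) a F) =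
      (F.map (MvPolynomial.eval (proj ι φ))).eval (φ a) := by
  change (φ : A →+* ℂ) _ = _
  rw [Polynomial.hom_eval₂, Polynomial.eval_map]
  congr 1
  apply RingHom.ext
  intro p
  exact apply_ι ι φ p

variable (hinj : Function.Injective ι) (hint : (ι : MvPolynomial (Fin d) ℂ →+* A).IsIntegral)

include hinj hint in
/-- Every point of `ℂ^d` lifts. -/
theorem exists_point_over (y : Fin d → ℂ) : ∃ φ : A →ₐ[ℂ] ℂ, proj ι φ = y := by
  obtain ⟨φ, hφ⟩ := exists_algHom_extending (ι : MvPolynomial (Fin d) ℂ →+* A) hint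
    (MvPolynomial.eval y)
    (by
      intro p hp
      have : p = 0 := by
        apply hinj
        rw [map_zero]
        exact (RingHom.mem_ker).1 hp
      rw [this]
      exact Ideal.zero_mem _)
    (fun c => ⟨MvPolynomial.C c, by simp, by simp⟩)
  refine ⟨φ, funext fun j => ?_⟩
  change φ (ι (MvPolynomial.X j)) = y j
  have := hφ (MvPolynomial.X j)
  simpa using this

include hint in
/-- Lifting a point of `ℂ^d` together with a root of the (specialised) minimal polynomial. -/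
theorem exists_point_over_root (h : A) (H : Polynomial (MvPolynomial (Fin d) ℂ))
    (hH : ∀ F : Polynomial (MvPolynomial (Fin d) ℂ),
      F.eval₂ (ι : MvPolynomial (Fin d) ℂ →+* A) h = 0 → H ∣ F)
    (y : Fin d → ℂ) (lam : ℂ) (hroot : (H.map (MvPolynomial.eval y)).eval lam = 0) :
    ∃ φ : A →ₐ[ℂ] ℂ, proj ι φ = y ∧ φ h = lam := by
  let j : Polynomial (MvPolynomial (Fin d) ℂ) →+* A :=
    Polynomial.eval₂RingHom (ι : MvPolynomial (Fin d) ℂ →+* A) h
  let ψ₀ : Polynomial (MvPolynomial (Fin d) ℂ) →+* ℂ :=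
    Polynomial.eval₂RingHom (MvPolynomial.eval y) lam
  have hjC : j.comp Polynomial.C = (ι : MvPolynomial (Fin d) ℂ →+* A) := by
    ext p <;> simp [j]
  have hjint : j.IsIntegral := by
    apply RingHom.IsIntegral.tower_top (Polynomial.C) j
    rw [hjC]
    exact hint
  have hker : RingHom.ker j ≤ RingHom.ker ψ₀ := by
    intro F hF
    obtain ⟨Q, rfl⟩ := hH F ((RingHom.mem_ker).1 hF)
    rw [RingHom.mem_ker, map_mul]
    have : ψ₀ H = 0 := by
      change Polynomial.eval₂ (MvPolynomial.eval y) lam H = 0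
      rw [← Polynomial.eval_map]
      exact hroot
    rw [this, zero_mul]
  obtain ⟨φ, hφ⟩ := exists_algHom_extending j hjint ψ₀ hker
    (fun c => ⟨Polynomial.C (MvPolynomial.C c), by simp [j], by simp [ψ₀]⟩)
  refine ⟨φ, funext fun k => ?_, ?_⟩
  · change φ (ι (MvPolynomial.X k)) = y k
    have := hφ (Polynomial.C (MvPolynomial.X k))
    simpa [j, ψ₀] using this
  · have := hφ Polynomial.X
    simpa [j, ψ₀] using this

include hint in
/-- A function vanishing at `φ₀` and at no other point of its fibre. -/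
theorem exists_separating (φ₀ : A →ₐ[ℂ] ℂ) :
    ∃ h : A, φ₀ h = 0 ∧
      ∀ φ : A →ₐ[ℂ] ℂ, proj ι φ = proj ι φ₀ → φ h = 0 → φ = φ₀ := by
  letI : Algebra (MvPolynomial (Fin d) ℂ) A := (ι : MvPolynomial (Fin d) ℂ →+* A).toAlgebra
  haveI : IsScalarTower ℂ (MvPolynomial (Fin d) ℂ) A :=
    IsScalarTower.of_algebraMap_eq (fun c => (ι.commutes c).symm)
  haveI : Algebra.IsIntegral (MvPolynomial (Fin d) ℂ) A := ⟨hint⟩
  haveI : Algebra.FiniteType (MvPolynomial (Fin d) ℂ) A :=
    Algebra.FiniteType.of_restrictScalars_finiteType ℂ (MvPolynomial (Fin d) ℂ) A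
  haveI : Module.Finite (MvPolynomial (Fin d) ℂ) A := Algebra.IsIntegral.finite
  let q : Ideal A := RingHom.ker (φ₀ : A →+* ℂ)
  haveI : q.IsPrime := RingHom.ker_isPrime _
  let p : Ideal (MvPolynomial (Fin d) ℂ) := q.under (MvPolynomial (Fin d) ℂ)
  haveI : p.IsPrime := Ideal.IsPrime.under _ q
  haveI : q.LiesOver p := ⟨rfl⟩
  obtain ⟨s, hsq, hs⟩ := Ideal.exists_not_mem_forall_mem_of_ne_of_liesOver p q
  refine ⟨s - algebraMap ℂ A (φ₀ s), by simp, fun φ hφ hφh => ?_⟩
  by_contra hne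
  have hker : RingHom.ker (φ : A →+* ℂ) ≠ q := fun hk => hne (algHom_eq_of_ker_le hk.le)
  have hlies : (RingHom.ker (φ : A →+* ℂ)).LiesOver p := by
    constructor
    ext x
    change φ₀ (ι x) = 0 ↔ φ (ι x) = 0
    rw [apply_ι, apply_ι, hφ]
  have h1 : s ∈ RingHom.ker (φ : A →+* ℂ) := hs _ (RingHom.ker_isPrime _) hker hlies
  have h2 : φ s = 0 := (RingHom.mem_ker).1 h1
  rw [map_sub, h2, zero_sub, neg_eq_zero, AlgHom.commutes] at hφh
  apply hsq
  change φ₀ s = 0
  exact hφh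

/-- If `F(a) = 0` and `φ a = 0` then the constant coefficient of `F` vanishes at `proj φ`. -/
lemma eval_coeff_zero_of_apply_eq_zero (F : Polynomial (MvPolynomial (Fin d) ℂ)) (a : A)
    (hF : F.eval₂ (ι : MvPolynomial (Fin d) ℂ →+* A) a = 0) (φ : A →ₐ[ℂ] ℂ) (hφ : φ a = 0) :
    MvPolynomial.eval (proj ι φ) (F.coeff 0) = 0 := by
  have h1 := apply_aeval ι φ a F
  rw [hF, map_zero, hφ, ← Polynomial.coeff_zero_eq_eval_zero, Polynomial.coeff_map] at h1
  exact h1.symm

/-- A monic complex polynomial has a root `λ` with `|λ|^deg ≤ |constant term|`. -/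
lemma exists_root_norm_pow_le (Q : Polynomial ℂ) (hQ : Q.Monic) (hdeg : 0 < Q.natDegree) :
    ∃ lam, Q.eval lam = 0 ∧ ‖lam‖ ^ Q.natDegree ≤ ‖Q.coeff 0‖ := by
  have hs := IsAlgClosed.splits Q
  have hcard := hs.natDegree_eq_card_roots
  have hne : Q.roots.toFinset.Nonempty := by
    rw [Finset.nonempty_iff_ne_empty]
    intro h
    rw [Multiset.toFinset_eq_empty] at h
    rw [h] at hcard
    simp at hcard
    omega
  obtain ⟨lam, hlam, hmin⟩ := Q.roots.toFinset.exists_min_image (fun x => ‖x‖₊) hne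
  refine ⟨lam, ?_, ?_⟩
  · rw [Multiset.mem_toFinset, Polynomial.mem_roots hQ.ne_zero] at hlam
    exact hlam
  · have h1 : ‖lam‖₊ ^ Multiset.card (Q.roots.map (fun x => ‖x‖₊)) ≤
        (Q.roots.map (fun x => ‖x‖₊)).prod := by
      apply Multiset.pow_card_le_prod
      intro x hx
      obtain ⟨z, hz, rfl⟩ := Multiset.mem_map.1 hx
      exact hmin z (Multiset.mem_toFinset.2 hz)
    rw [Multiset.card_map, ← hcard] at h1
    have h2 : (Q.roots.map (fun x => ‖x‖₊)).prod = ‖Q.roots.prod‖₊ :=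
      (map_multiset_prod (nnnormHom : ℂ →*₀ NNReal) Q.roots).symm
    have h3 : ‖Q.coeff 0‖₊ = ‖Q.roots.prod‖₊ := by
      rw [hs.coeff_zero_eq_prod_roots_of_monic hQ, nnnorm_mul, nnnorm_pow, nnnorm_neg, nnnorm_one,
        one_pow, one_mul]
    rw [h2, ← h3] at h1
    exact_mod_cast h1

include hint in
/-- Points over a bounded set are bounded. -/
theorem exists_bound (a : A) (y₀ : Fin d → ℂ) (R : ℝ) :
    ∃ C : ℝ, ∀ φ : A →ₐ[ℂ] ℂ, proj ι φ ∈ Metric.closedBall y₀ R → ‖φ a‖ ≤ C := by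
  obtain ⟨F, hFm, hF⟩ := hint a
  let M : (Fin d → ℂ) → ℝ := fun y =>
    ∑ k ∈ Finset.range F.natDegree, ‖MvPolynomial.eval y (F.coeff k)‖ + 1
  have hMc : Continuous M := by
    apply Continuous.add _ continuous_const
    apply continuous_finsetSum
    intro k _
    exact (MvPolynomial.continuous_eval _).norm
  obtain ⟨C, hC⟩ := (isCompact_closedBall y₀ R).exists_bound_of_continuousOn hMc.continuousOn
  refine ⟨C, fun φ hφ => ?_⟩
  have hroot : (F.map (MvPolynomial.eval (proj ι φ))).IsRoot (φ a) := by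
    rw [Polynomial.IsRoot.def, ← apply_aeval, hF, map_zero]
  have hmon : (F.map (MvPolynomial.eval (proj ι φ))).Monic := hFm.map _
  have hlt := hroot.norm_lt_cauchyBound hmon.ne_zero
  have hnd : (F.map (MvPolynomial.eval (proj ι φ))).natDegree = F.natDegree := hFm.natDegree_map _
  have hcb : Polynomial.cauchyBound (F.map (MvPolynomial.eval (proj ι φ))) ≤
      ∑ k ∈ Finset.range F.natDegree, ‖MvPolynomial.eval (proj ι φ) (F.coeff k)‖₊ + 1 := by
    unfold Polynomial.cauchyBound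
    rw [hmon.leadingCoeff, nnnorm_one, div_one, hnd]
    gcongr
    apply Finset.sup_le
    intro k hk
    rw [Polynomial.coeff_map]
    exact Finset.single_le_sum (f := fun k => ‖MvPolynomial.eval (proj ι φ) (F.coeff k)‖₊)
      (fun _ _ => zero_le) hk
  have h1 : ‖φ a‖ ≤ M (proj ι φ) := by
    have := (hlt.trans_le hcb).le
    have h2 : ((‖φ a‖₊ : NNReal) : ℝ) ≤
        ((∑ k ∈ Finset.range F.natDegree, ‖MvPolynomial.eval (proj ι φ) (F.coeff k)‖₊ + 1 : NNReal) : ℝ) :=
      NNReal.coe_le_coe.2 this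
    simpa [M] using h2
  have h2 := hC _ hφ
  rw [Real.norm_eq_abs] at h2
  exact h1.trans ((le_abs_self _).trans h2)

end normalization

end Groth.Agent.Lib.Helper63.AnDense
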