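import Groth.Agent.Lib.Helper63.AnDense1

/-!
# Density of Zariski-open subsets in the complex topology (algebraic form)

For a finite type ℂ-domain `A` and `g ≠ 0`, every point `φ₀ : A →ₐ[ℂ] ℂ` is a limit (for the
topology of pointwise convergence on `A → ℂ`) of points `φ` with `φ g ≠ 0`.
-/

set_option autoImplicit false
set_option linter.style.haveILetI false
set_option linter.unusedSectionVars false
set_option linter.unusedVariables false

namespace Groth.Agent.Lib.Helper63.AnDense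

open Filter Topology

variable {A : Type*} [CommRing A] [Algebra ℂ A]

/-- The functions `A → ℂ` which are `ℂ`-algebra homomorphisms. -/
def homSet (A : Type*) [CommRing A] [Algebra ℂ A] : Set (A → ℂ) :=
  {f | f 1 = 1 ∧ (∀ a b, f (a + b) = f a + f b) ∧ (∀ a b, f (a * b) = f a * f b) ∧
    ∀ c : ℂ, f (algebraMap ℂ A c) = c}

lemma isClosed_homSet : IsClosed (homSet A) := by
  have h1 : IsClosed {f : A → ℂ | f 1 = 1} := isClosed_eq (continuous_apply 1) continuous_const
  have h2 : IsClosed {f : A → ℂ | ∀ a b, f (a + b) = f a + f b} := by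
    simp only [Set.ofPred_forall]
    exact isClosed_iInter fun a => isClosed_iInter fun b =>
      isClosed_eq (continuous_apply (a + b)) ((continuous_apply a).add (continuous_apply b))
  have h3 : IsClosed {f : A → ℂ | ∀ a b, f (a * b) = f a * f b} := by
    simp only [Set.ofPred_forall]
    exact isClosed_iInter fun a => isClosed_iInter fun b =>
      isClosed_eq (continuous_apply (a * b)) ((continuous_apply a).mul (continuous_apply b))
  have h4 : IsClosed {f : A → ℂ | ∀ c : ℂ, f (algebraMap ℂ A c) = c} := by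
    simp only [Set.ofPred_forall]
    exact isClosed_iInter fun c => isClosed_eq (continuous_apply _) continuous_const
  exact h1.inter (h2.inter (h3.inter h4))

lemma coe_mem_homSet (φ : A →ₐ[ℂ] ℂ) : (φ : A → ℂ) ∈ homSet A :=
  ⟨map_one φ, map_add φ, map_mul φ, fun c => by simp⟩

/-- An element of `homSet` as an algebra homomorphism. -/
noncomputable def ofHomSet (f : A → ℂ) (hf : f ∈ homSet A) : A →ₐ[ℂ] ℂ :=
  { toFun := f
    map_one' := hf.1
    map_mul' := hf.2.2.1
    map_zero' := by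
      have := hf.2.2.2 0
      simpa using this
    map_add' := hf.2.1
    commutes' := fun c => by simpa using hf.2.2.2 c }

@[simp] lemma coe_ofHomSet (f : A → ℂ) (hf : f ∈ homSet A) : (ofHomSet f hf : A → ℂ) = f := rfl

/-- The complement of a hypersurface in `ℂ^d` is dense. -/
lemma mem_closure_ne_zero {d : ℕ} (a : MvPolynomial (Fin d) ℂ) (ha : a ≠ 0) (y₀ : Fin d → ℂ) :
    y₀ ∈ closure {y | MvPolynomial.eval y a ≠ 0} := by
  rw [Metric.mem_closure_iff]
  intro ε hε
  by_contra hcon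
  push Not at hcon
  apply ha
  apply MvPolynomial.funext_set (fun j => Metric.ball (y₀ j) ε)
    (fun j => infinite_of_mem_nhds (y₀ j) (Metric.ball_mem_nhds _ hε))
  intro x hx
  rw [map_zero]
  by_contra hne
  have h1 := hcon x hne
  have h2 : dist y₀ x < ε := by
    rw [dist_pi_lt_iff hε]
    intro j
    have := hx j (Set.mem_univ j)
    rw [Metric.mem_ball, dist_comm] at this
    exact this
  exact absurd h2 (not_lt.2 h1)

variable [Algebra.FiniteType ℂ A]

/-- **Density theorem** (algebraic form). -/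
theorem mem_closure_of_ne_zero [IsDomain A] (g : A) (hg : g ≠ 0) (φ₀ : A →ₐ[ℂ] ℂ) :
    (φ₀ : A → ℂ) ∈ closure ((fun φ : A →ₐ[ℂ] ℂ => (φ : A → ℂ)) '' {φ | φ g ≠ 0}) := by
  obtain ⟨d, ι, hinj, hint⟩ := exists_integral_inj_algHom_of_fg ℂ A
  letI : Algebra (MvPolynomial (Fin d) ℂ) A := (ι : MvPolynomial (Fin d) ℂ →+* A).toAlgebra
  haveI : IsScalarTower ℂ (MvPolynomial (Fin d) ℂ) A :=
    IsScalarTower.of_algebraMap_eq (fun c => (ι.commutes c).symm)
  haveI : Algebra.IsIntegral (MvPolynomial (Fin d) ℂ) A := ⟨hint⟩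
  haveI : Module.IsTorsionFree (MvPolynomial (Fin d) ℂ) A :=
    Module.isTorsionFree_iff_algebraMap_injective.2 hinj
  obtain ⟨h, hh0, hsep⟩ := exists_separating ι hint φ₀
  have hHint : IsIntegral (MvPolynomial (Fin d) ℂ) h := Algebra.IsIntegral.isIntegral h
  have hGint : IsIntegral (MvPolynomial (Fin d) ℂ) g := Algebra.IsIntegral.isIntegral g
  set H := minpoly (MvPolynomial (Fin d) ℂ) h with hHdef
  set Gp := minpoly (MvPolynomial (Fin d) ℂ) g with hGdef
  have hHdvd : ∀ F : Polynomial (MvPolynomial (Fin d) ℂ),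
      F.eval₂ (ι : MvPolynomial (Fin d) ℂ →+* A) h = 0 → H ∣ F := fun F hF =>
    minpoly.isIntegrallyClosed_dvd hHint hF
  have hHm : H.Monic := minpoly.monic hHint
  have hHdeg : 0 < H.natDegree := minpoly.natDegree_pos hHint
  have hHh : H.eval₂ (ι : MvPolynomial (Fin d) ℂ →+* A) h = 0 := minpoly.aeval _ h
  have hGg : Gp.eval₂ (ι : MvPolynomial (Fin d) ℂ →+* A) g = 0 := minpoly.aeval _ g
  have ha₀ : Gp.coeff 0 ≠ 0 := by
    intro h0
    obtain ⟨Q, hQ⟩ := Polynomial.X_dvd_iff.2 h0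
    have hQm : Q.Monic := by
      have := minpoly.monic hGint
      rw [← hGdef, hQ] at this
      exact Polynomial.Monic.of_mul_monic_left Polynomial.monic_X this
    have h1 : Polynomial.aeval g Gp = 0 := minpoly.aeval _ g
    rw [hQ, map_mul, Polynomial.aeval_X] at h1
    rcases mul_eq_zero.1 h1 with h2 | h2
    · exact hg h2
    · have h3 : Gp.natDegree ≤ Q.natDegree :=
        Polynomial.natDegree_le_natDegree (minpoly.min _ g hQm h2)
      have h4 : Gp.natDegree = 1 + Q.natDegree := by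
        rw [hQ, Polynomial.monic_X.natDegree_mul hQm, Polynomial.natDegree_X]
      omega
  set y₀ := proj ι φ₀ with hy₀
  have hb₀ : MvPolynomial.eval y₀ (H.coeff 0) = 0 :=
    eval_coeff_zero_of_apply_eq_zero ι H h hHh φ₀ hh0
  have hchoice : ∀ y : Fin d → ℂ, ∃ φ : A →ₐ[ℂ] ℂ, proj ι φ = y ∧
      ‖φ h‖ ^ H.natDegree ≤ ‖MvPolynomial.eval y (H.coeff 0)‖ := by
    intro y
    have hQm : (H.map (MvPolynomial.eval y)).Monic := hHm.map _
    have hQd : (H.map (MvPolynomial.eval y)).natDegree = H.natDegree := hHm.natDegree_map _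
    obtain ⟨lam, hlam, hle⟩ := exists_root_norm_pow_le (H.map (MvPolynomial.eval y)) hQm
      (by rw [hQd]; exact hHdeg)
    obtain ⟨φ, hφ1, hφ2⟩ := exists_point_over_root ι hint h H hHdvd y lam hlam
    refine ⟨φ, hφ1, ?_⟩
    rw [hφ2, ← hQd]
    rw [Polynomial.coeff_map] at hle
    exact hle
  choose Φ hΦ1 hΦ2 using hchoice
  let Ψ : (Fin d → ℂ) → (A → ℂ) := fun y => (Φ y : A → ℂ)
  choose C hC using fun a => exists_bound ι hint a y₀ 1
  let K : Set (A → ℂ) := Set.pi Set.univ (fun a => Metric.closedBall (0 : ℂ) (C a))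
  have hK : IsCompact K := isCompact_univ_pi (fun a => isCompact_closedBall _ _)
  let D : Set (Fin d → ℂ) := {y | MvPolynomial.eval y (Gp.coeff 0) ≠ 0}
  have hD : y₀ ∈ closure D := mem_closure_ne_zero _ ha₀ y₀
  haveI : (𝓝[D] y₀).NeBot := mem_closure_iff_nhdsWithin_neBot.1 hD
  let U : Ultrafilter (Fin d → ℂ) := Ultrafilter.of (𝓝[D] y₀)
  have hU : (U : Filter (Fin d → ℂ)) ≤ 𝓝[D] y₀ := Ultrafilter.of_le _
  have hev1 : ∀ᶠ y in (U : Filter (Fin d → ℂ)), y ∈ D := hU self_mem_nhdsWithin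
  have hev2 : ∀ᶠ y in (U : Filter (Fin d → ℂ)), y ∈ Metric.closedBall y₀ 1 :=
    hU (nhdsWithin_le_nhds (Metric.closedBall_mem_nhds y₀ one_pos))
  have hevK : ∀ᶠ y in (U : Filter (Fin d → ℂ)), Ψ y ∈ K := by
    filter_upwards [hev2] with y hy
    intro a _
    rw [mem_closedBall_zero_iff]
    exact hC a (Φ y) (by rw [hΦ1]; exact hy)
  obtain ⟨f, hfK, hf⟩ := hK.ultrafilter_le_nhds (U.map Ψ) (by
    rw [le_principal_iff]
    exact hevK)
  have htend : Tendsto Ψ (U : Filter (Fin d → ℂ)) (𝓝 f) := hf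
  have hfhom : f ∈ homSet A :=
    isClosed_homSet.mem_of_tendsto htend (Eventually.of_forall fun y => coe_mem_homSet (Φ y))
  have htend_a : ∀ a, Tendsto (fun y => Φ y a) (U : Filter (Fin d → ℂ)) (𝓝 (f a)) := fun a =>
    ((continuous_apply a).tendsto f).comp htend
  have hy₀tend : Tendsto id (U : Filter (Fin d → ℂ)) (𝓝 y₀) := hU.trans nhdsWithin_le_nhds
  have hproj : proj ι (ofHomSet f hfhom) = y₀ := by
    funext k
    have h1 := htend_a (ι (MvPolynomial.X k))
    have h2 : (fun y => Φ y (ι (MvPolynomial.X k))) = fun y => y k := by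
      funext y
      exact congrFun (hΦ1 y) k
    rw [h2] at h1
    have h3 : Tendsto (fun y : Fin d → ℂ => y k) (U : Filter (Fin d → ℂ)) (𝓝 (y₀ k)) :=
      ((continuous_apply k).tendsto y₀).comp hy₀tend
    exact tendsto_nhds_unique h1 h3
  have hh : ofHomSet f hfhom h = 0 := by
    have h1 : Tendsto (fun y => ‖Φ y h‖ ^ H.natDegree) (U : Filter (Fin d → ℂ))
        (𝓝 (‖f h‖ ^ H.natDegree)) := ((htend_a h).norm).pow _
    have h2 : Tendsto (fun y => ‖MvPolynomial.eval y (H.coeff 0)‖) (U : Filter (Fin d → ℂ))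
        (𝓝 0) := by
      have := ((MvPolynomial.continuous_eval (H.coeff 0)).norm.tendsto y₀).comp hy₀tend
      rw [hb₀, norm_zero] at this
      exact this
    have h3 : ‖f h‖ ^ H.natDegree ≤ 0 := le_of_tendsto_of_tendsto' h1 h2 (fun y => hΦ2 y)
    have h4 : ‖f h‖ ^ H.natDegree = 0 := le_antisymm h3 (by positivity)
    have h5 := (pow_eq_zero_iff hHdeg.ne').1 h4
    exact norm_eq_zero.1 h5
  have heq : ofHomSet f hfhom = φ₀ := hsep _ hproj hh
  have hf₀ : f = (φ₀ : A → ℂ) := by
    rw [← heq]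
    rfl
  rw [← hf₀]
  apply mem_closure_of_tendsto htend
  filter_upwards [hev1] with y hy
  refine ⟨Φ y, ?_, rfl⟩
  intro hg0
  apply hy
  have := eval_coeff_zero_of_apply_eq_zero ι Gp g hGg (Φ y) hg0
  rwa [hΦ1] at this

end Groth.Agent.Lib.Helper63.AnDense
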