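import Groth.Agent.Lib.Helper63.AnAffine
import Groth.Agent.S4196
import Mathlib.AlgebraicGeometry.Morphisms.FiniteType

set_option autoImplicit false
set_option linter.style.haveILetI false
set_option linter.unusedSectionVars false
set_option linter.unusedVariables false

open AlgebraicGeometry CategoryTheory TopologicalSpace Opposite

namespace Groth.Agent.Lib.Helper63.AnAffine

open Groth.Agent.Lib.Helper21

/-- For affine `X` of finite type over `ℂ`, there are finitely many generators. -/
lemma exists_generators (X : Scheme.{0}) [X.Over An.SC] [IsAffine X]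
    [LocallyOfFiniteType (X ↘ An.SC)] :
    ∃ (n : ℕ) (s : Fin n → Γ(X, ⊤)),
      Function.Surjective (MvPolynomial.eval₂Hom (An.strHom X) s) := by
  have h1 : RingHom.FiniteType (X ↘ An.SC).appTop.hom :=
    (HasRingHomProperty.iff_of_isAffine (P := @LocallyOfFiniteType)).1 inferInstance
  have h2 : RingHom.FiniteType (An.strHom X) := by
    unfold An.strHom
    apply RingHom.FiniteType.comp h1
    apply RingHom.FiniteType.of_surjective
    exact ((ConcreteCategory.isIso_iff_bijective
      (Scheme.ΓSpecIso (CommRingCat.of ℂ)).inv).1 inferInstance).2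
  letI : Algebra ℂ Γ(X, ⊤) := (An.strHom X).toAlgebra
  have h3 : Algebra.FiniteType ℂ Γ(X, ⊤) := h2
  obtain ⟨n, f, hf⟩ := Algebra.FiniteType.iff_quotient_mvPolynomial''.1 h3
  refine ⟨n, fun i => f (MvPolynomial.X i), ?_⟩
  have : (MvPolynomial.eval₂Hom (An.strHom X) fun i => f (MvPolynomial.X i)) = (f : _ →+* _) := by
    apply MvPolynomial.ringHom_ext
    · intro c
      rw [MvPolynomial.eval₂Hom_C]
      exact (f.commutes c).symm
    · intro i
      rw [MvPolynomial.eval₂Hom_X']
      rfl
  rw [this]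
  exact hf

lemma locallyCompactSpace_of_isAffine (X : Scheme.{0}) [X.Over An.SC] [IsAffine X]
    [LocallyOfFiniteType (X ↘ An.SC)] : LocallyCompactSpace (An.Pts X) := by
  obtain ⟨n, s, hs⟩ := exists_generators X
  exact (isClosedEmbedding_of_generators s hs).locallyCompactSpace

theorem locallyCompactSpace (X : Scheme.{0}) [X.Over An.SC] [LocallyOfFiniteType (X ↘ An.SC)] :
    LocallyCompactSpace (An.Pts X) := by
  refine ⟨fun x N hN => ?_⟩
  obtain ⟨U, hU, hxU, -⟩ := exists_isAffineOpen_mem_and_subset (x := x.pt) (U := ⊤) trivial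
  letI : U.toScheme.Over An.SC := ⟨U.ι ≫ X ↘ An.SC⟩
  haveI : U.ι.IsOver An.SC := ⟨rfl⟩
  haveI : LocallyOfFiniteType (U.toScheme ↘ An.SC) := by
    change LocallyOfFiniteType (U.ι ≫ X ↘ An.SC)
    infer_instance
  haveI : IsAffine U.toScheme := hU
  have hoe : Topology.IsOpenEmbedding (An.Pts.map U.ι) := Groth.Agent.S4196.result _ _ U.ι
  have hrange := range_map_of_injective U.ι U.ι.isOpenEmbedding.injective
  have hx : x ∈ Set.range (An.Pts.map U.ι) := by
    rw [hrange]
    change x.pt ∈ Set.range U.ι.base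
    rw [Scheme.Opens.range_ι]
    exact hxU
  obtain ⟨u, rfl⟩ := hx
  haveI := locallyCompactSpace_of_isAffine U.toScheme
  have hN' : An.Pts.map U.ι ⁻¹' N ∈ nhds u := hoe.continuous.continuousAt hN
  obtain ⟨K, hK, hKN, hKc⟩ := local_compact_nhds hN'
  refine ⟨An.Pts.map U.ι '' K, hoe.isOpenMap.image_mem_nhds hK, ?_, hKc.image hoe.continuous⟩
  rintro _ ⟨k, hk, rfl⟩
  exact hKN hk

end Groth.Agent.Lib.Helper63.AnAffine
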