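import Groth.Agent.Lib.Helper63.AnDense2
import Groth.Agent.Lib.Helper63.AnLocCompact

/-!
# Density of Zariski-open subsets of irreducible closed subsets of an affine scheme over ℂ,
in the complex topology
-/

set_option autoImplicit false
set_option linter.style.haveILetI false
set_option linter.unusedSectionVars false
set_option linter.unusedVariables false

open AlgebraicGeometry CategoryTheory TopologicalSpace Opposite

namespace Groth.Agent.Lib.Helper63.AnAffine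

open Groth.Agent.Lib.Helper21

variable {X : Scheme.{0}} [X.Over An.SC]

lemma finiteType_top [IsAffine X] [LocallyOfFiniteType (X ↘ An.SC)] :
    letI : Algebra ℂ Γ(X, ⊤) := (An.strHom X).toAlgebra
    Algebra.FiniteType ℂ Γ(X, ⊤) := by
  have h1 : RingHom.FiniteType (X ↘ An.SC).appTop.hom :=
    (HasRingHomProperty.iff_of_isAffine (P := @LocallyOfFiniteType)).1 inferInstance
  have h2 : RingHom.FiniteType (An.strHom X) := by
    unfold An.strHom
    apply RingHom.FiniteType.comp h1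
    apply RingHom.FiniteType.of_surjective
    exact ((ConcreteCategory.isIso_iff_bijective
      (Scheme.ΓSpecIso (CommRingCat.of ℂ)).inv).1 inferInstance).2
  exact h2

/-- **Density theorem** for an irreducible closed subset of an affine scheme of finite type
over ℂ. -/
theorem mem_closure_of_irreducible [IsAffine X] [LocallyOfFiniteType (X ↘ An.SC)]
    (Z : Set X) (hZ : IsIrreducible Z) (hZc : IsClosed Z) (W : X.Opens)
    (hne : (Z ∩ (W : Set X)).Nonempty) (x : An.Pts X) (hx : x.pt ∈ Z) :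
    x ∈ closure (An.Pts.pt ⁻¹' (Z ∩ (W : Set X)) : Set (An.Pts X)) := by
  letI : Algebra ℂ Γ(X, ⊤) := (An.strHom X).toAlgebra
  haveI : Algebra.FiniteType ℂ Γ(X, ⊤) := finiteType_top
  obtain ⟨ξ, hξ⟩ := QuasiSober.sober hZ hZc
  let p : Ideal Γ(X, ⊤) := Ideal.comap (X.presheaf.germ ⊤ ξ trivial).hom
    (IsLocalRing.maximalIdeal (X.presheaf.stalk ξ))
  haveI : p.IsPrime := Ideal.comap_isPrime _ _
  have hp : ∀ f : Γ(X, ⊤), f ∈ p ↔ ξ ∉ X.basicOpen f := by
    intro f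
    rw [Scheme.mem_basicOpen_top]
    change (X.presheaf.germ ⊤ ξ trivial).hom f ∈ IsLocalRing.maximalIdeal _ ↔ _
    rw [IsLocalRing.mem_maximalIdeal, mem_nonunits_iff]
  -- membership of ℂ-points in `Z`
  have hmemZ : ∀ y : An.Pts X, y.pt ∈ Z ↔ ∀ f ∈ p, y.evTop f = 0 := by
    intro y
    constructor
    · intro hy f hf
      by_contra hne0
      have h1 : y.pt ∈ X.basicOpen f := (mem_basicOpen_iff y f).2 hne0
      have h2 : ξ ∈ X.basicOpen f := (hξ.specializes hy).mem_open (X.basicOpen f).2 h1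
      exact (hp f).1 hf h2
    · intro hy
      rw [← hξ.def, mem_closure_iff]
      intro o ho hyo
      obtain ⟨f, hfo, hyf⟩ := (isAffineOpen_top X).exists_basicOpen_le (V := ⟨o, ho⟩)
        ⟨y.pt, hyo⟩ trivial
      have h1 : y.evTop f ≠ 0 := (mem_basicOpen_iff y f).1 hyf
      have h2 : f ∉ p := fun hf => h1 (hy f hf)
      rw [hp f, not_not] at h2
      exact ⟨ξ, hfo h2, rfl⟩
  -- the generic point lies in `W`
  obtain ⟨z, hzZ, hzW⟩ := hne
  have hξW : ξ ∈ W := (hξ.specializes hzZ).mem_open W.2 hzW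
  obtain ⟨g, hgW, hξg⟩ := (isAffineOpen_top X).exists_basicOpen_le (V := W) ⟨ξ, hξW⟩ trivial
  have hgp : g ∉ p := by
    rw [hp g, not_not]
    exact hξg
  -- the point `x` as an algebra hom
  let φx : Γ(X, ⊤) →ₐ[ℂ] ℂ :=
    { (evHom x ⊤ (Opens.mem_top _)) with commutes' := fun c => evTop_strHom x c }
  have hφx : ∀ a ∈ p, φx a = 0 := fun a ha => (hmemZ x).1 hx a ha
  let φ₀ : (Γ(X, ⊤) ⧸ p) →ₐ[ℂ] ℂ := Ideal.Quotient.liftₐ p φx hφx
  haveI : Algebra.FiniteType ℂ (Γ(X, ⊤) ⧸ p) :=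
    Algebra.FiniteType.of_surjective (Ideal.Quotient.mkₐ ℂ p) (Ideal.Quotient.mkₐ_surjective ℂ p)
  have hg0 : (Ideal.Quotient.mk p g) ≠ 0 := fun h => hgp (Ideal.Quotient.eq_zero_iff_mem.1 h)
  have hD := Groth.Agent.Lib.Helper63.AnDense.mem_closure_of_ne_zero (Ideal.Quotient.mk p g) hg0 φ₀
  -- precomposition with the quotient map
  let R : ((Γ(X, ⊤) ⧸ p) → ℂ) → (Γ(X, ⊤) → ℂ) := fun f a => f (Ideal.Quotient.mk p a)
  have hRc : Continuous R := continuous_pi fun a => continuous_apply _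
  let E : An.Pts X → (Γ(X, ⊤) → ℂ) := fun y s => y.evTop s
  have hmaps : Set.MapsTo R ((fun φ : (Γ(X, ⊤) ⧸ p) →ₐ[ℂ] ℂ => (φ : (Γ(X, ⊤) ⧸ p) → ℂ)) ''
      {φ | φ (Ideal.Quotient.mk p g) ≠ 0}) (E '' (An.Pts.pt ⁻¹' (Z ∩ (W : Set X)))) := by
    rintro _ ⟨φb, hφb, rfl⟩
    let φ : Γ(X, ⊤) →ₐ[ℂ] ℂ := φb.comp (Ideal.Quotient.mkₐ ℂ p)
    obtain ⟨y, hy⟩ := exists_pt_of_ringHom (φ : Γ(X, ⊤) →+* ℂ) (fun c => φ.commutes c)
    refine ⟨y, ⟨?_, ?_⟩, ?_⟩
    · rw [hmemZ]
      intro f hf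
      rw [hy]
      change φb (Ideal.Quotient.mk p f) = 0
      rw [Ideal.Quotient.eq_zero_iff_mem.2 hf, map_zero]
    · apply hgW
      rw [mem_basicOpen_iff, hy]
      exact hφb
    · funext a
      exact hy a
  have h1 := map_mem_closure hRc hD hmaps
  have h2 : R (φ₀ : (Γ(X, ⊤) ⧸ p) → ℂ) = E x := by
    funext a
    rfl
  rw [h2] at h1
  rw [isInducing_evTop.closure_eq_preimage_closure_image]
  exact h1

end Groth.Agent.Lib.Helper63.AnAffine
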