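import Groth.Agent.Lib.Helper63.AnDense3
import Mathlib.AlgebraicGeometry.Noetherian
import Mathlib.Topology.Constructible

/-!
# Closure of locally constructible subsets in the complex topology
-/

set_option autoImplicit false
set_option linter.style.haveILetI false
set_option linter.unusedSectionVars false
set_option linter.unusedVariables false

open AlgebraicGeometry CategoryTheory TopologicalSpace Opposite Topology

namespace Groth.Agent.Lib.Helper63.AnAffine

open Groth.Agent.Lib.Helper21

variable {X : Scheme.{0}} [X.Over An.SC]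

instance isLocallyNoetherian_SC : IsLocallyNoetherian An.SC :=
  inferInstanceAs (IsLocallyNoetherian (Spec (CommRingCat.of ℂ)))

lemma isLocallyNoetherian_of_lft [LocallyOfFiniteType (X ↘ An.SC)] : IsLocallyNoetherian X :=
  LocallyOfFiniteType.isLocallyNoetherian (X ↘ An.SC)

lemma noetherianSpace_of_affine [IsAffine X] [LocallyOfFiniteType (X ↘ An.SC)] :
    NoetherianSpace X := by
  haveI := isLocallyNoetherian_of_lft (X := X)
  haveI : IsNoetherian X := {}
  infer_instance

/-- Affine case, locally closed set `U \ V`. -/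
theorem mem_closure_sdiff_affine [IsAffine X] [LocallyOfFiniteType (X ↘ An.SC)]
    (U V : Set X) (hU : IsOpen U) (hV : IsOpen V) (x : An.Pts X) (hx : x.pt ∈ closure (U \ V)) :
    x ∈ closure (An.Pts.pt ⁻¹' (U \ V) : Set (An.Pts X)) := by
  haveI := noetherianSpace_of_affine (X := X)
  obtain ⟨S, hSf, hSc, hSi, hS⟩ :=
    NoetherianSpace.exists_finite_set_isClosed_irreducible (isClosed_compl_iff.2 hV)
  have h1 : U \ V = ⋃ t ∈ S, (t ∩ U) := by
    rw [Set.sdiff_eq, Set.inter_comm, hS, Set.sUnion_eq_biUnion, Set.iUnion₂_inter]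
  rw [h1, hSf.closure_biUnion] at hx
  obtain ⟨t, htS, hxt⟩ := Set.mem_iUnion₂.1 hx
  have hne : (t ∩ U).Nonempty := by
    by_contra hempty
    rw [Set.not_nonempty_iff_eq_empty] at hempty
    rw [hempty, closure_empty] at hxt
    exact hxt
  have hxt' : x.pt ∈ t := by
    have : closure (t ∩ U) ⊆ t := closure_minimal Set.inter_subset_left (hSc t htS)
    exact this hxt
  have h2 := mem_closure_of_irreducible t (hSi t htS) (hSc t htS) ⟨U, hU⟩ hne x hxt'
  refine closure_mono ?_ h2
  apply Set.preimage_mono
  rw [h1]
  exact Set.subset_biUnion_of_mem (u := fun t => t ∩ U) htS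

/-- Affine case, constructible sets. -/
theorem mem_closure_constructible_affine [IsAffine X] [LocallyOfFiniteType (X ↘ An.SC)]
    (T : Set X) (hT : IsConstructible T) (x : An.Pts X) (hx : x.pt ∈ closure T) :
    x ∈ closure (An.Pts.pt ⁻¹' T : Set (An.Pts X)) := by
  haveI := noetherianSpace_of_affine (X := X)
  revert x
  induction T, hT using IsConstructible.induction_of_isTopologicalBasis
    (ι := Opens X) (b := fun U => (U : Set X)) with
  | basis =>
    apply isTopologicalBasis_of_isOpen_of_nhds
    · rintro _ ⟨U, rfl⟩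
      exact U.2
    · intro a u hau hu
      exact ⟨u, ⟨⟨u, hu⟩, rfl⟩, hau, subset_rfl⟩
  | isCompact_basis U => exact NoetherianSpace.isCompact _
  | sdiff U s hs =>
    intro x hx
    exact mem_closure_sdiff_affine _ _ U.2 (isOpen_biUnion fun j _ => j.2) x hx
  | union s hs t ht ihs iht =>
    intro x hx
    rw [closure_union] at hx
    rw [Set.preimage_union, closure_union]
    rcases hx with hx | hx
    · exact Or.inl (ihs x hx)
    · exact Or.inr (iht x hx)

/-- Points of an affine open neighbourhood: every ℂ-point of `X` comes from a ℂ-point of an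
affine open `U` (with its induced structure over ℂ). -/
theorem exists_affine_chart [LocallyOfFiniteType (X ↘ An.SC)] (x : An.Pts X) :
    ∃ (U : X.Opens) (_ : IsAffineOpen U) (_ : U.toScheme.Over An.SC) (_ : U.ι.IsOver An.SC)
      (_ : LocallyOfFiniteType (U.toScheme ↘ An.SC)) (u : An.Pts U.toScheme),
      An.Pts.map U.ι u = x := by
  obtain ⟨U, hU, hxU, -⟩ := exists_isAffineOpen_mem_and_subset (x := x.pt) (U := ⊤) trivial
  letI : U.toScheme.Over An.SC := ⟨U.ι ≫ X ↘ An.SC⟩
  haveI : U.ι.IsOver An.SC := ⟨rfl⟩
  haveI : LocallyOfFiniteType (U.toScheme ↘ An.SC) := by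
    change LocallyOfFiniteType (U.ι ≫ X ↘ An.SC)
    infer_instance
  have hrange := range_map_of_injective U.ι U.ι.isOpenEmbedding.injective
  have hx : x ∈ Set.range (An.Pts.map U.ι) := by
    rw [hrange]
    change x.pt ∈ Set.range U.ι.base
    rw [Scheme.Opens.range_ι]
    exact hxU
  obtain ⟨u, hu⟩ := hx
  exact ⟨U, hU, inferInstance, inferInstance, inferInstance, u, hu⟩

/-- **Closure theorem**: for a locally constructible subset `T` of a scheme locally of finite type
over ℂ, the ℂ-points of the closure of `T` are the closure of the ℂ-points of `T`. -/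
theorem preimage_closure_eq [LocallyOfFiniteType (X ↘ An.SC)] (T : Set X)
    (hT : IsLocallyConstructible T) :
    (An.Pts.pt ⁻¹' closure T : Set (An.Pts X)) = closure (An.Pts.pt ⁻¹' T) := by
  apply subset_antisymm
  · intro x hx
    obtain ⟨U, hU, iO, iι, iL, u, rfl⟩ := exists_affine_chart x
    haveI : IsAffine U.toScheme := hU
    haveI := isLocallyNoetherian_of_lft (X := U.toScheme)
    have hTU : IsConstructible (U.ι ⁻¹' T) :=
      (hT.preimage_of_isOpenEmbedding U.ι.isOpenEmbedding).isConstructible
    have hu : u.pt ∈ closure (U.ι ⁻¹' T) := by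
      rw [← U.ι.isOpenEmbedding.isOpenMap.preimage_closure_eq_closure_preimage U.ι.continuous]
      change U.ι u.pt ∈ closure T
      rw [← An.Pts.pt_map]
      exact hx
    have h1 := mem_closure_constructible_affine (U.ι ⁻¹' T) hTU u hu
    refine map_mem_closure (An.Pts.continuous_map U.ι) h1 ?_
    intro u' hu'
    change (An.Pts.map U.ι u').pt ∈ T
    rw [An.Pts.pt_map]
    exact hu'
  · exact closure_minimal (Set.preimage_mono subset_closure)
      (isClosed_closure.preimage An.Pts.continuous_pt)

end Groth.Agent.Lib.Helper63.AnAffine
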