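import Groth.Agent.Lib.Helper63.AnDense4
import Mathlib.AlgebraicGeometry.Morphisms.FinitePresentation

/-!
# Consequences of the closure theorem: dense, open, range of a morphism
-/

set_option autoImplicit false
set_option linter.style.haveILetI false
set_option linter.unusedSectionVars false
set_option linter.unusedVariables false

open AlgebraicGeometry CategoryTheory TopologicalSpace Opposite Topology

namespace Groth.Agent.Lib.Helper63.AnAffine

open Groth.Agent.Lib.Helper21

variable {X Y : Scheme.{0}} [X.Over An.SC] [Y.Over An.SC]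

lemma locallyOfFiniteType_of_over [LocallyOfFiniteType (X ↘ An.SC)] (f : X ⟶ Y) [f.IsOver An.SC] :
    LocallyOfFiniteType f := by
  have h : LocallyOfFiniteType (f ≫ (Y ↘ An.SC)) := by
    rw [comp_over f]
    infer_instance
  exact locallyOfFiniteType_of_comp f (Y ↘ An.SC)

/-- The image of `X(ℂ) → Y(ℂ)` is the set of ℂ-points of `Y` lying in the image of `f`. -/
theorem range_map_eq [LocallyOfFiniteType (X ↘ An.SC)] [LocallyOfFiniteType (Y ↘ An.SC)]
    (f : X ⟶ Y) [f.IsOver An.SC] :
    Set.range (An.Pts.map f) = An.Pts.pt ⁻¹' (Set.range f.base) := by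
  ext y
  constructor
  · rintro ⟨x, rfl⟩
    exact ⟨x.pt, (An.Pts.pt_map f x).symm⟩
  · rintro ⟨x₀, hx₀⟩
    haveI := jacobsonSpace_of_lft X
    have hcl : IsClosed (f.base ⁻¹' {y.pt}) := (isClosed_pt Y y).preimage f.continuous
    have hne : (f.base ⁻¹' {y.pt}).Nonempty := ⟨x₀, hx₀⟩
    obtain ⟨x₁, hx₁, hx₁c⟩ := nonempty_inter_closedPoints hne hcl.isLocallyClosed
    obtain ⟨p, rfl⟩ := exists_pt_eq X hx₁c
    refine ⟨p, ?_⟩
    apply pt_injective Y
    rw [An.Pts.pt_map]
    exact hx₁

theorem denseRange_iff [LocallyOfFiniteType (X ↘ An.SC)] [LocallyOfFiniteType (Y ↘ An.SC)]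
    (f : X ⟶ Y) [f.IsOver An.SC] [QuasiCompact f] :
    DenseRange f.base ↔ DenseRange (An.Pts.map f) := by
  haveI := isLocallyNoetherian_of_lft (X := Y)
  haveI : LocallyOfFiniteType f := locallyOfFiniteType_of_over f
  have hT : IsLocallyConstructible (Set.range f.base) := by
    rw [← Set.image_univ]
    exact f.isLocallyConstructible_image IsLocallyConstructible.univ
  have hcl := preimage_closure_eq (Set.range f.base) hT
  unfold DenseRange
  rw [range_map_eq f]
  constructor
  · intro hd
    rw [dense_iff_closure_eq] at hd ⊢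
    rw [← hcl, hd, Set.preimage_univ]
  · intro hd
    rw [dense_iff_closure_eq] at hd ⊢
    rw [← hcl] at hd
    haveI := jacobsonSpace_of_lft Y
    have h1 : closedPoints Y ⊆ closure (Set.range f.base) := by
      intro z hz
      obtain ⟨p, rfl⟩ := exists_pt_eq Y hz
      have : p ∈ (An.Pts.pt ⁻¹' closure (Set.range f.base) : Set (An.Pts Y)) := by
        rw [hd]
        exact Set.mem_univ _
      exact this
    have h2 : closure (closedPoints Y) ⊆ closure (Set.range f.base) :=
      closure_minimal h1 isClosed_closure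
    rw [closure_closedPoints] at h2
    exact Set.eq_univ_of_univ_subset h2

end Groth.Agent.Lib.Helper63.AnAffine
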