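import Groth.Agent.Lib.Helper63.AnDense5

/-!
# Openness can be tested on ℂ-points (for locally constructible sets)
-/

set_option autoImplicit false
set_option linter.style.haveILetI false
set_option linter.unusedSectionVars false
set_option linter.unusedVariables false

open AlgebraicGeometry CategoryTheory TopologicalSpace Opposite Topology

namespace Groth.Agent.Lib.Helper63.AnAffine

open Groth.Agent.Lib.Helper21

variable {X : Scheme.{0}} [X.Over An.SC]

/-- A nonempty constructible subset of an affine scheme of finite type over ℂ has a ℂ-point. -/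
theorem exists_pt_mem_constructible_affine [IsAffine X] [LocallyOfFiniteType (X ↘ An.SC)]
    (T : Set X) (hT : IsConstructible T) (hne : T.Nonempty) : ∃ p : An.Pts X, p.pt ∈ T := by
  haveI := noetherianSpace_of_affine (X := X)
  revert hne
  induction T, hT using IsConstructible.induction_of_isTopologicalBasis
    (ι := Opens X) (b := fun U => (U : Set X)) with
  | basis =>
    apply isTopologicalBasis_of_isOpen_of_nhds
    · rintro _ ⟨U, rfl⟩
      exact U.2
    · intro a u hau hu
      exact ⟨u, ⟨⟨u, hu⟩, rfl⟩, hau, subset_rfl⟩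
  | isCompact_basis U => exact NoetherianSpace.isCompact _
  | sdiff U s hs =>
    intro hne
    apply exists_pt_mem X hne
    exact U.2.isLocallyClosed.inter (isOpen_biUnion fun j _ => j.2).isClosed_compl.isLocallyClosed
  | union s hs t ht ihs iht =>
    intro hne
    rcases hne with ⟨z, hz | hz⟩
    · obtain ⟨p, hp⟩ := ihs ⟨z, hz⟩
      exact ⟨p, Or.inl hp⟩
    · obtain ⟨p, hp⟩ := iht ⟨z, hz⟩
      exact ⟨p, Or.inr hp⟩

/-- Affine case of the openness criterion. -/
theorem isOpen_of_isOpen_preimage_affine [IsAffine X] [LocallyOfFiniteType (X ↘ An.SC)]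
    (T : Set X) (hT : IsConstructible T) (ho : IsOpen (An.Pts.pt ⁻¹' T : Set (An.Pts X))) :
    IsOpen T := by
  haveI := noetherianSpace_of_affine (X := X)
  have hC : IsConstructible Tᶜ := hT.compl
  have hcl := preimage_closure_eq Tᶜ hC.isLocallyConstructible
  have hK : IsConstructible (closure Tᶜ) := by
    have h1 : IsConstructible (closure Tᶜ)ᶜ :=
      (NoetherianSpace.isCompact _).isConstructible isClosed_closure.isOpen_compl
    exact h1.of_compl
  have hD : IsConstructible (closure Tᶜ ∩ T) := hK.inter hT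
  have hempty : closure Tᶜ ∩ T = ∅ := by
    by_contra hne
    obtain ⟨p, hp⟩ := exists_pt_mem_constructible_affine _ hD (Set.nonempty_iff_ne_empty.2 hne)
    have h1 : p ∈ (An.Pts.pt ⁻¹' closure Tᶜ : Set (An.Pts X)) := hp.1
    rw [hcl] at h1
    have h2 : IsClosed (An.Pts.pt ⁻¹' Tᶜ : Set (An.Pts X)) := by
      rw [Set.preimage_compl]
      exact ho.isClosed_compl
    rw [h2.closure_eq] at h1
    exact h1 hp.2
  have hclosed : IsClosed Tᶜ := by
    rw [← closure_subset_iff_isClosed]
    intro z hz
    by_contra hzT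
    rw [Set.mem_compl_iff, not_not] at hzT
    have : z ∈ closure Tᶜ ∩ T := ⟨hz, hzT⟩
    rw [hempty] at this
    exact this
  exact isOpen_compl_iff.1 hclosed.isOpen_compl |> fun h => by simpa using hclosed.isOpen_compl

/-- **Openness criterion**: a locally constructible set is open iff its set of ℂ-points is open
in the complex topology. -/
theorem isOpen_iff_isOpen_preimage [LocallyOfFiniteType (X ↘ An.SC)] (T : Set X)
    (hT : IsLocallyConstructible T) :
    IsOpen T ↔ IsOpen (An.Pts.pt ⁻¹' T : Set (An.Pts X)) := by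
  constructor
  · intro h
    exact h.preimage An.Pts.continuous_pt
  · intro ho
    rw [isOpen_iff_forall_mem_open]
    intro z hz
    obtain ⟨U, hU, hzU, -⟩ := exists_isAffineOpen_mem_and_subset (x := z) (U := ⊤) trivial
    letI : U.toScheme.Over An.SC := ⟨U.ι ≫ X ↘ An.SC⟩
    haveI : U.ι.IsOver An.SC := ⟨rfl⟩
    haveI : LocallyOfFiniteType (U.toScheme ↘ An.SC) := by
      change LocallyOfFiniteType (U.ι ≫ X ↘ An.SC)
      infer_instance
    haveI : IsAffine U.toScheme := hU
    haveI := isLocallyNoetherian_of_lft (X := U.toScheme)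
    have hTU : IsConstructible (U.ι ⁻¹' T) :=
      (hT.preimage_of_isOpenEmbedding U.ι.isOpenEmbedding).isConstructible
    have hoU : IsOpen (An.Pts.pt ⁻¹' (U.ι ⁻¹' T) : Set (An.Pts U.toScheme)) := by
      have : (An.Pts.pt ⁻¹' (U.ι ⁻¹' T) : Set (An.Pts U.toScheme)) =
          An.Pts.map U.ι ⁻¹' (An.Pts.pt ⁻¹' T) := by
        ext u
        change U.ι u.pt ∈ T ↔ (An.Pts.map U.ι u).pt ∈ T
        rw [An.Pts.pt_map]
      rw [this]
      exact ho.preimage (An.Pts.continuous_map U.ι)
    have h1 := isOpen_of_isOpen_preimage_affine _ hTU hoU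
    refine ⟨U.ι '' (U.ι ⁻¹' T), Set.image_preimage_subset _ _,
      U.ι.isOpenEmbedding.isOpenMap _ h1, ?_⟩
    have hzr : z ∈ Set.range U.ι.base := by
      rw [Scheme.Opens.range_ι]
      exact hzU
    obtain ⟨u, rfl⟩ := hzr
    exact ⟨u, hz, rfl⟩

end Groth.Agent.Lib.Helper63.AnAffine
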