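import Groth.Agent.Lib.Helper63.AnDense6
import Mathlib.Analysis.Complex.Cardinality
import Mathlib.RingTheory.Spectrum.Prime.Noetherian

/-!
# Discreteness of `X` and of `X(ℂ)`
-/

set_option autoImplicit false
set_option linter.style.haveILetI false
set_option linter.unusedSectionVars false
set_option linter.unusedVariables false

open AlgebraicGeometry CategoryTheory TopologicalSpace Opposite Topology

namespace Groth.Agent.Lib.Helper63.AnAffine

open Groth.Agent.Lib.Helper21

variable {X : Scheme.{0}} [X.Over An.SC]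

/-- An affine scheme of finite type over ℂ with countably many ℂ-points is discrete. -/
theorem discreteTopology_of_countable_affine [IsAffine X] [LocallyOfFiniteType (X ↘ An.SC)]
    (hc : Countable (An.Pts X)) : DiscreteTopology X := by
  letI : Algebra ℂ Γ(X, ⊤) := (An.strHom X).toAlgebra
  haveI : Algebra.FiniteType ℂ Γ(X, ⊤) := finiteType_top
  rcases subsingleton_or_nontrivial Γ(X, ⊤) with hsub | hnt
  · -- empty scheme
    haveI : IsEmpty X := by
      haveI : IsEmpty ↥(Spec Γ(X, ⊤)) := inferInstanceAs (IsEmpty (PrimeSpectrum Γ(X, ⊤)))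
      exact Function.isEmpty X.isoSpec.hom.base
    infer_instance
  obtain ⟨d, ι, hinj, hint⟩ := exists_integral_inj_algHom_of_fg ℂ Γ(X, ⊤)
  have hd : d = 0 := by
    by_contra hd
    obtain ⟨j₀⟩ : Nonempty (Fin d) := ⟨⟨0, Nat.pos_of_ne_zero hd⟩⟩
    have hch : ∀ c : ℂ, ∃ p : An.Pts X, p.evTop (ι (MvPolynomial.X j₀)) = c := by
      intro c
      obtain ⟨φ, hφ⟩ := Groth.Agent.Lib.Helper63.AnDense.exists_point_over ι hinj hint (fun _ => c)
      obtain ⟨p, hp⟩ := exists_pt_of_ringHom (φ : Γ(X, ⊤) →+* ℂ) (fun c => φ.commutes c)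
      refine ⟨p, ?_⟩
      rw [hp]
      exact congrFun hφ j₀
    choose P hP using hch
    have hPinj : Function.Injective P := by
      intro c c' h
      rw [← hP c, ← hP c', h]
    haveI : Countable ℂ := hPinj.countable
    exact not_countable_complex (Set.countable_univ)
  subst hd
  -- `Γ(X, ⊤)` is integral over ℂ
  have hint' : (algebraMap ℂ Γ(X, ⊤)).IsIntegral := by
    have h1 : algebraMap ℂ Γ(X, ⊤) =
        (ι : MvPolynomial (Fin 0) ℂ →+* Γ(X, ⊤)).comp MvPolynomial.C := by
      ext c
      exact (ι.commutes c).symm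
    rw [h1]
    apply RingHom.IsIntegral.trans _ _ _ hint
    apply RingHom.isIntegral_of_surjective
    exact MvPolynomial.C_surjective (Fin 0)
  haveI : Algebra.IsIntegral ℂ Γ(X, ⊤) := ⟨hint'⟩
  haveI : Module.Finite ℂ Γ(X, ⊤) := Algebra.IsIntegral.finite
  haveI : IsArtinianRing Γ(X, ⊤) := IsArtinianRing.of_finite ℂ _
  haveI : DiscreteTopology (Spec Γ(X, ⊤)) :=
    inferInstanceAs (DiscreteTopology (PrimeSpectrum Γ(X, ⊤)))
  exact DiscreteTopology.of_continuous_injective X.isoSpec.hom.continuous
    (X.isoSpec.hom.homeomorph.injective)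

theorem discreteTopology_iff [LocallyOfFiniteType (X ↘ An.SC)] :
    DiscreteTopology ↥X ↔ DiscreteTopology (An.Pts X) := by
  constructor
  · intro h
    exact DiscreteTopology.of_continuous_injective An.Pts.continuous_pt (pt_injective X)
  · intro h
    rw [discreteTopology_iff_isOpen_singleton]
    intro z
    obtain ⟨U, hU, hzU, -⟩ := exists_isAffineOpen_mem_and_subset (x := z) (U := ⊤) trivial
    letI : U.toScheme.Over An.SC := ⟨U.ι ≫ X ↘ An.SC⟩
    haveI : U.ι.IsOver An.SC := ⟨rfl⟩
    haveI : LocallyOfFiniteType (U.toScheme ↘ An.SC) := by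
      change LocallyOfFiniteType (U.ι ≫ X ↘ An.SC)
      infer_instance
    haveI : IsAffine U.toScheme := hU
    haveI : DiscreteTopology (An.Pts U.toScheme) :=
      DiscreteTopology.of_continuous_injective (An.Pts.continuous_map U.ι)
        (map_injective_of_mono U.ι)
    obtain ⟨n, s, hs⟩ := exists_generators U.toScheme
    have hemb := isClosedEmbedding_of_generators s hs
    haveI : SecondCountableTopology (An.Pts U.toScheme) :=
      hemb.isInducing.secondCountableTopology
    have hcount : Countable (An.Pts U.toScheme) := separableSpace_iff_countable.1 inferInstance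
    haveI := discreteTopology_of_countable_affine hcount
    have hzr : z ∈ Set.range U.ι.base := by
      rw [Scheme.Opens.range_ι]
      exact hzU
    obtain ⟨u, rfl⟩ := hzr
    have := U.ι.isOpenEmbedding.isOpenMap {u} (isOpen_discrete _)
    rwa [Set.image_singleton] at this

end Groth.Agent.Lib.Helper63.AnAffine
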