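import Groth.Prelude.Def_AnFib
import Mathlib.AlgebraicGeometry.PullbackCarrier
import Mathlib.AlgebraicGeometry.ResidueField
import Mathlib.AlgebraicGeometry.Morphisms.Smooth
import Mathlib.AlgebraicGeometry.Morphisms.Etale
import Mathlib.AlgebraicGeometry.Morphisms.Finite
import Mathlib.AlgebraicGeometry.Morphisms.ClosedImmersion
import Mathlib.FieldTheory.IsAlgClosed.AlgebraicClosure
import Mathlib.Topology.KrullDimension

/-!
# Base change of elementary fibrations
-/

set_option autoImplicit false
set_option linter.style.haveILetI false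
set_option linter.unusedSectionVars false
set_option linter.unusedVariables false

universe u

open AlgebraicGeometry CategoryTheory CategoryTheory.Limits

namespace Groth.Agent.Lib.Helper63.AnElemFib

section pasting

variable {A B S S' : Scheme.{u}} (f₁ : A ⟶ B) (g : B ⟶ S) (v : S' ⟶ S)

/-- The canonical map between the base changes. -/
noncomputable def bcMap : pullback (f₁ ≫ g) v ⟶ pullback g v :=
  pullback.lift (pullback.fst (f₁ ≫ g) v ≫ f₁) (pullback.snd (f₁ ≫ g) v)
    (by rw [Category.assoc, pullback.condition])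

@[reassoc]
lemma bcMap_fst : bcMap f₁ g v ≫ pullback.fst g v = pullback.fst (f₁ ≫ g) v ≫ f₁ :=
  pullback.lift_fst _ _ _

@[reassoc]
lemma bcMap_snd : bcMap f₁ g v ≫ pullback.snd g v = pullback.snd (f₁ ≫ g) v :=
  pullback.lift_snd _ _ _

lemma isPullback_bcMap :
    IsPullback (pullback.fst (f₁ ≫ g) v) (bcMap f₁ g v) f₁ (pullback.fst g v) := by
  have s : IsPullback (bcMap f₁ g v ≫ pullback.snd g v) (pullback.fst (f₁ ≫ g) v) v (f₁ ≫ g) := by
    rw [bcMap_snd]
    exact (IsPullback.of_hasPullback (f₁ ≫ g) v).flip
  have t : IsPullback (pullback.snd g v) (pullback.fst g v) v g :=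
    (IsPullback.of_hasPullback g v).flip
  exact (IsPullback.of_right s (bcMap_fst f₁ g v) t).flip

end pasting

/-- In a pullback square of schemes, the range of the second projection is the preimage of the
range. -/
lemma range_snd_of_isPullback {P X Y S : Scheme.{u}} {a : P ⟶ X} {b : P ⟶ Y} {c : X ⟶ S}
    {d : Y ⟶ S} (sq : IsPullback a b c d) :
    Set.range b.base = d.base ⁻¹' Set.range c.base := by
  have h1 : sq.isoPullback.hom ≫ pullback.snd c d = b := sq.isoPullback_hom_snd
  have h2 : Set.range b.base = Set.range (pullback.snd c d).base := by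
    rw [← h1]
    ext y
    constructor
    · rintro ⟨z, rfl⟩
      exact ⟨sq.isoPullback.hom.base z, rfl⟩
    · rintro ⟨z, rfl⟩
      refine ⟨sq.isoPullback.inv.base z, ?_⟩
      change (sq.isoPullback.inv ≫ sq.isoPullback.hom ≫ pullback.snd c d).base z = _
      rw [Iso.inv_hom_id_assoc]
  rw [h2]
  exact Scheme.Pullback.range_snd c d

lemma irreducibleSpace_of_homeomorph {A B : Type*} [TopologicalSpace A] [TopologicalSpace B]
    (e : A ≃ₜ B) [IrreducibleSpace B] : IrreducibleSpace A := by
  rw [irreducibleSpace_def]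
  have h := (IrreducibleSpace.isIrreducible_univ B).image e.symm e.symm.continuous.continuousOn
  rw [Set.image_univ, e.symm.surjective.range_eq] at h
  exact h

/-- The geometric fibre hypothesis implies that set-theoretic fibres are irreducible. -/
lemma isIrreducible_fibre {X S : Scheme.{u}} (fb : X ⟶ S)
    (hgeom : ∀ (Ω : Type u) [Field Ω] [IsAlgClosed Ω] (σ : Spec (CommRingCat.of Ω) ⟶ S),
      IrreducibleSpace ↥(pullback fb σ) ∧ topologicalKrullDim ↥(pullback fb σ) = 1) (s : S) :
    IsIrreducible (fb.base ⁻¹' {s}) := by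
  let κ := S.residueField s
  let Ω := AlgebraicClosure κ
  let σ : Spec (CommRingCat.of Ω) ⟶ S :=
    Spec.map (CommRingCat.ofHom (algebraMap κ Ω)) ≫ S.fromSpecResidueField s
  have hσ : Set.range σ.base = {s} := by
    ext y
    constructor
    · rintro ⟨z, rfl⟩
      change (S.fromSpecResidueField s).base _ = s
      exact Scheme.fromSpecResidueField_apply s _
    · intro hy
      rw [Set.mem_singleton_iff.1 hy]
      haveI : Nonempty (Spec (CommRingCat.of Ω)) := inferInstance
      obtain ⟨z⟩ := this
      refine ⟨z, ?_⟩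
      change (S.fromSpecResidueField s).base _ = s
      exact Scheme.fromSpecResidueField_apply s _
  obtain ⟨hirr, -⟩ := hgeom Ω σ
  have h := (IrreducibleSpace.isIrreducible_univ ↥(pullback fb σ)).image
    (pullback.fst fb σ).base (pullback.fst fb σ).continuous.continuousOn
  rw [Set.image_univ] at h
  have h2 : Set.range (pullback.fst fb σ).base = fb.base ⁻¹' {s} := by
    rw [← hσ]
    exact Scheme.Pullback.range_fst fb σ
  rw [h2] at h
  exact h

section proj

variable {Xb S S' P Z : Scheme.{u}} (v : S' ⟶ S) (p : P ⟶ Z) (t : S ⟶ Z) (t' : S' ⟶ Z)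

lemma exists_closedImmersion_bc (ht : v ≫ t = t') (c : Xb ⟶ pullback p t)
    (hc : IsClosedImmersion c) :
    ∃ c' : pullback (c ≫ pullback.snd p t) v ⟶ pullback p t', IsClosedImmersion c' ∧
      c' ≫ pullback.snd p t' = pullback.snd (c ≫ pullback.snd p t) v := by
  set fb : Xb ⟶ S := c ≫ pullback.snd p t with hfb
  have hcond : (pullback.fst fb v ≫ c ≫ pullback.fst p t) ≫ p = pullback.snd fb v ≫ t' := by
    calc (pullback.fst fb v ≫ c ≫ pullback.fst p t) ≫ p
        = pullback.fst fb v ≫ c ≫ (pullback.fst p t ≫ p) := by simp only [Category.assoc]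
      _ = pullback.fst fb v ≫ c ≫ (pullback.snd p t ≫ t) := by rw [pullback.condition]
      _ = (pullback.fst fb v ≫ fb) ≫ t := by simp only [Category.assoc, hfb]
      _ = (pullback.snd fb v ≫ v) ≫ t := by rw [pullback.condition]
      _ = pullback.snd fb v ≫ t' := by rw [Category.assoc, ht]
  let c' : pullback fb v ⟶ pullback p t' :=
    pullback.lift (pullback.fst fb v ≫ c ≫ pullback.fst p t) (pullback.snd fb v) hcond
  let q : pullback p t' ⟶ pullback p t :=
    pullback.lift (pullback.fst p t') (pullback.snd p t' ≫ v)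
      (by rw [Category.assoc, ht, pullback.condition])
  have hq1 : q ≫ pullback.fst p t = pullback.fst p t' := pullback.lift_fst _ _ _
  have hq2 : q ≫ pullback.snd p t = pullback.snd p t' ≫ v := pullback.lift_snd _ _ _
  have hc1 : c' ≫ pullback.fst p t' = pullback.fst fb v ≫ c ≫ pullback.fst p t :=
    pullback.lift_fst _ _ _
  have hc2 : c' ≫ pullback.snd p t' = pullback.snd fb v := pullback.lift_snd _ _ _
  have tq : IsPullback (pullback.snd p t') q v (pullback.snd p t) := by
    have s₂ : IsPullback (q ≫ pullback.fst p t) (pullback.snd p t') p (v ≫ t) := by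
      rw [hq1, ht]
      exact IsPullback.of_hasPullback p t'
    exact (IsPullback.of_right s₂ hq2 (IsPullback.of_hasPullback p t)).flip
  have sq : IsPullback c' (pullback.fst fb v) q c := by
    have s₁ : IsPullback (c' ≫ pullback.snd p t') (pullback.fst fb v) v
        (c ≫ pullback.snd p t) := by
      rw [hc2]
      exact (IsPullback.of_hasPullback fb v).flip
    have hcomm : c' ≫ q = pullback.fst fb v ≫ c := by
      apply pullback.hom_ext
      · calc (c' ≫ q) ≫ pullback.fst p t = c' ≫ (q ≫ pullback.fst p t) := Category.assoc _ _ _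
          _ = c' ≫ pullback.fst p t' := by rw [hq1]
          _ = pullback.fst fb v ≫ c ≫ pullback.fst p t := hc1
          _ = (pullback.fst fb v ≫ c) ≫ pullback.fst p t := (Category.assoc _ _ _).symm
      · calc (c' ≫ q) ≫ pullback.snd p t = c' ≫ (q ≫ pullback.snd p t) := Category.assoc _ _ _
          _ = c' ≫ (pullback.snd p t' ≫ v) := by rw [hq2]
          _ = (c' ≫ pullback.snd p t') ≫ v := (Category.assoc _ _ _).symm
          _ = pullback.snd fb v ≫ v := by rw [hc2]
          _ = pullback.fst fb v ≫ fb := (pullback.condition (f := fb) (g := v)).symm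
          _ = (pullback.fst fb v ≫ c) ≫ pullback.snd p t := (Category.assoc _ _ _).symm
    exact IsPullback.of_right s₁ hcomm tq
  exact ⟨c', MorphismProperty.of_isPullback (P := @IsClosedImmersion) sq.flip hc, hc2⟩

lemma isStronglyProjective_pullback_snd (fb : Xb ⟶ S) (h : An.IsStronglyProjective fb) :
    An.IsStronglyProjective (pullback.snd fb v) := by
  obtain ⟨n, c, hc, rfl⟩ := h
  obtain ⟨c', hc', hc2⟩ := exists_closedImmersion_bc v (CohB1.ProjSpace.toSpec n (ULift.{u} ℤ))
    (specULiftZIsTerminal.from S) (specULiftZIsTerminal.from S')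
    (specULiftZIsTerminal.hom_ext _ _) c hc
  exact ⟨n, c', hc', hc2⟩

end proj

/-- **Base change of an elementary fibration is an elementary fibration.** -/
theorem isElementaryFibration_pullback_snd {X S S' : Scheme.{u}} (f : X ⟶ S) (v : S' ⟶ S)
    (hf : An.IsElementaryFibration f) : An.IsElementaryFibration (pullback.snd f v) := by
  obtain ⟨Xb, Y, j, fb, i, rfl, hj, hi, hrange, hdense, hsm, hproj, hgeom, hfin, het, hsurj⟩ := hf
  have sqj := isPullback_bcMap j fb v
  have sqi := isPullback_bcMap i fb v
  have hgeom' : ∀ (Ω : Type u) [Field Ω] [IsAlgClosed Ω] (σ : Spec (CommRingCat.of Ω) ⟶ S'),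
      IrreducibleSpace ↥(pullback (pullback.snd fb v) σ) ∧
        topologicalKrullDim ↥(pullback (pullback.snd fb v) σ) = 1 := by
    intro Ω _ _ σ
    obtain ⟨h1, h2⟩ := hgeom Ω (σ ≫ v)
    let e := Scheme.homeoOfIso (pullbackLeftPullbackSndIso fb v σ)
    refine ⟨irreducibleSpace_of_homeomorph e, ?_⟩
    rw [← h2]
    exact IsHomeomorph.topologicalKrullDim_eq e e.isHomeomorph
  have hrj : Set.range (bcMap j fb v).base =
      (pullback.fst fb v).base ⁻¹' Set.range j.base := range_snd_of_isPullback sqj
  have hri : Set.range (bcMap i fb v).base =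
      (pullback.fst fb v).base ⁻¹' Set.range i.base := range_snd_of_isPullback sqi
  have hj' : IsOpenImmersion (bcMap j fb v) :=
    MorphismProperty.of_isPullback (P := @IsOpenImmersion) sqj hj
  refine ⟨pullback fb v, pullback (i ≫ fb) v, bcMap j fb v, pullback.snd fb v, bcMap i fb v,
    bcMap_snd j fb v, hj', ?_, ?_, ?_, ?_, ?_, hgeom', ?_, ?_, ?_⟩
  · exact MorphismProperty.of_isPullback (P := @IsClosedImmersion) sqi hi
  · rw [hrj, hri, hrange, Set.preimage_compl]
  · intro s'
    have hT := isIrreducible_fibre (pullback.snd fb v) hgeom' s'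
    have hU : IsOpen (Set.range (bcMap j fb v).base) :=
      (bcMap j fb v).isOpenEmbedding.isOpen_range
    have hne : ((pullback.snd fb v).base ⁻¹' {s'} ∩ Set.range (bcMap j fb v).base).Nonempty := by
      obtain ⟨z₀, hz₀⟩ := (isIrreducible_fibre fb hgeom (v.base s')).nonempty
      have h1 := hdense (v.base s') hz₀
      have h2 : (Set.range j.base ∩ fb.base ⁻¹' {v.base s'}).Nonempty := by
        by_contra hemp
        rw [Set.not_nonempty_iff_eq_empty] at hemp
        rw [hemp, closure_empty] at h1
        exact h1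
      obtain ⟨z, hzj, hzs⟩ := h2
      obtain ⟨w, hw1, hw2⟩ :=
        Scheme.Pullback.exists_preimage_pullback (f := fb) (g := v) z s' hzs
      refine ⟨w, hw2, ?_⟩
      rw [hrj]
      change (pullback.fst fb v).base w ∈ Set.range j.base
      rw [show (pullback.fst fb v).base w = z from hw1]
      exact hzj
    have := subset_closure_inter_of_isPreirreducible_of_isOpen hT.isPreirreducible hU hne
    rwa [Set.inter_comm] at this
  · haveI := hsm
    infer_instance
  · exact isStronglyProjective_pullback_snd v fb hproj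
  · rw [bcMap_snd]
    haveI := hfin
    infer_instance
  · rw [bcMap_snd]
    haveI := het
    infer_instance
  · rw [bcMap_snd]
    intro s'
    obtain ⟨y, hy⟩ := hsurj (v.base s')
    obtain ⟨w, -, hw2⟩ :=
      Scheme.Pullback.exists_preimage_pullback (f := i ≫ fb) (g := v) y s' hy
    exact ⟨w, hw2⟩

end Groth.Agent.Lib.Helper63.AnElemFib
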