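import Mathlib

/-!
# Simple roots of polynomials depend continuously on the coefficients

A consequence of the inverse function theorem: near a simple root `t₀` of the polynomial with
coefficient vector `c₀`, the polynomial with coefficients `c` close to `c₀` has exactly one root
close to `t₀`, and it depends continuously on `c`.
-/

set_option autoImplicit false
set_option linter.style.haveILetI false
set_option linter.unusedSectionVars false
set_option linter.unusedVariables false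

namespace Groth.Agent.Lib.Helper63.AnEtale

open Topology

/-- The universal polynomial of degree `≤ N`. -/
noncomputable def polyF (N : ℕ) (p : (Fin (N + 1) → ℂ) × ℂ) : ℂ :=
  ∑ i : Fin (N + 1), p.1 i * p.2 ^ (i : ℕ)

lemma contDiff_polyF (N : ℕ) : ContDiff ℂ ⊤ (polyF N) := by
  unfold polyF
  apply ContDiff.sum
  intro i _
  apply ContDiff.mul
  · exact (contDiff_apply ℂ ℂ i).comp contDiff_fst
  · exact contDiff_snd.pow _

lemma continuous_polyF (N : ℕ) : Continuous (polyF N) := (contDiff_polyF N).continuous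

theorem exists_root_function (N : ℕ) (c₀ : Fin (N + 1) → ℂ) (t₀ : ℂ)
    (h0 : polyF N (c₀, t₀) = 0)
    (h1 : ∃ d : ℂ, d ≠ 0 ∧ HasDerivAt (fun t => polyF N (c₀, t)) d t₀) :
    ∃ (O : Set (Fin (N + 1) → ℂ)) (ε : ℝ) (φ : (Fin (N + 1) → ℂ) → ℂ),
      IsOpen O ∧ c₀ ∈ O ∧ 0 < ε ∧ ContinuousOn φ O ∧ φ c₀ = t₀ ∧
      (∀ c ∈ O, φ c ∈ Metric.ball t₀ ε ∧ polyF N (c, φ c) = 0) ∧
      ∀ c ∈ O, ∀ t ∈ Metric.ball t₀ ε, polyF N (c, t) = 0 → t = φ c := by
  obtain ⟨d, hd0, hd⟩ := h1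
  set E := (Fin (N + 1) → ℂ) × ℂ with hE
  let F : E → ℂ := polyF N
  let p₀ : E := (c₀, t₀)
  have hF : HasStrictFDerivAt F (fderiv ℂ F p₀) p₀ :=
    ((contDiff_polyF N).contDiffAt).hasStrictFDerivAt (by simp)
  set F' : E →L[ℂ] ℂ := fderiv ℂ F p₀ with hF'
  -- the value of `F'` on `(0, 1)`
  have hF'1 : F' (0, 1) = d := by
    have h2 : HasDerivAt (fun t : ℂ => ((c₀, t) : E)) ((0 : Fin (N + 1) → ℂ), (1 : ℂ)) t₀ :=
      (hasDerivAt_const t₀ c₀).prodMk (hasDerivAt_id t₀)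
    have h3 := hF.hasFDerivAt.comp_hasDerivAt t₀ h2
    exact h3.unique hd
  have hlin : ∀ (h : Fin (N + 1) → ℂ) (k : ℂ), F' (h, k) = F' (h, 0) + k * d := by
    intro h k
    have : ((h, k) : E) = (h, 0) + k • ((0 : Fin (N + 1) → ℂ), (1 : ℂ)) := by
      ext <;> simp
    rw [this, map_add, map_smul, hF'1, smul_eq_mul]
  let G : E → E := fun p => (p.1, F p)
  let G' : E →L[ℂ] E := (ContinuousLinearMap.fst ℂ _ _).prod F'
  have hG : HasStrictFDerivAt G G' p₀ := hasStrictFDerivAt_fst.prodMk hF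
  let Ginv : E →L[ℂ] E := (ContinuousLinearMap.fst ℂ _ _).prod
    (d⁻¹ • (ContinuousLinearMap.snd ℂ _ _ -
      F'.comp ((ContinuousLinearMap.inl ℂ _ _).comp (ContinuousLinearMap.fst ℂ _ _))))
  have hGinv_apply : ∀ (h : Fin (N + 1) → ℂ) (w : ℂ), Ginv (h, w) = (h, d⁻¹ * (w - F' (h, 0))) := by
    intro h w
    rfl
  have hG'_apply : ∀ (h : Fin (N + 1) → ℂ) (k : ℂ), G' (h, k) = (h, F' (h, k)) := by
    intro h k
    rfl
  let e : E ≃L[ℂ] E := ContinuousLinearEquiv.equivOfInverse G' Ginv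
    (by
      rintro ⟨h, k⟩
      rw [hG'_apply, hGinv_apply, hlin h k]
      ext
      · rfl
      · simp only [add_sub_cancel_left]
        field_simp)
    (by
      rintro ⟨h, w⟩
      rw [hGinv_apply, hG'_apply, hlin]
      ext
      · rfl
      · simp only
        field_simp
        ring)
  have hGe : HasStrictFDerivAt G (e : E →L[ℂ] E) p₀ := hG
  let Hm := hGe.toOpenPartialHomeomorph G
  have hsrc : p₀ ∈ Hm.source := hGe.mem_toOpenPartialHomeomorph_source
  have hGp₀ : G p₀ = (c₀, 0) := by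
    change (c₀, polyF N (c₀, t₀)) = (c₀, 0)
    rw [h0]
  have htgt : ((c₀, 0) : E) ∈ Hm.target := by
    rw [← hGp₀]
    exact Hm.map_source hsrc
  -- a product neighbourhood inside the source
  obtain ⟨O₁, B₁, hO₁, hB₁, hc₀O₁, ht₀B₁, hsub⟩ :=
    isOpen_prod_iff.1 Hm.open_source c₀ t₀ hsrc
  obtain ⟨ε, hε, hball⟩ := Metric.isOpen_iff.1 hB₁ t₀ ht₀B₁
  let φ : (Fin (N + 1) → ℂ) → ℂ := fun c => (Hm.symm (c, 0)).2
  let O : Set (Fin (N + 1) → ℂ) := O₁ ∩ {c | ((c, 0) : E) ∈ Hm.target ∧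
    Hm.symm (c, 0) ∈ O₁ ×ˢ Metric.ball t₀ ε}
  have hcont_symm : ContinuousOn (fun c : Fin (N + 1) → ℂ => Hm.symm (c, 0))
      {c | ((c, 0) : E) ∈ Hm.target} := by
    apply Hm.continuousOn_symm.comp (by fun_prop : Continuous fun c : Fin (N + 1) → ℂ =>
      ((c, 0) : E)).continuousOn
    intro c hc
    exact hc
  have hopen_tgt : IsOpen {c : Fin (N + 1) → ℂ | ((c, 0) : E) ∈ Hm.target} :=
    Hm.open_target.preimage (by fun_prop : Continuous fun c : Fin (N + 1) → ℂ => ((c, 0) : E))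
  have hO : IsOpen O := by
    apply hO₁.inter
    have : {c | ((c, 0) : E) ∈ Hm.target ∧ Hm.symm (c, 0) ∈ O₁ ×ˢ Metric.ball t₀ ε} =
        {c | ((c, 0) : E) ∈ Hm.target} ∩
          (fun c : Fin (N + 1) → ℂ => Hm.symm (c, 0)) ⁻¹' (O₁ ×ˢ Metric.ball t₀ ε) := rfl
    rw [this]
    exact hcont_symm.isOpen_inter_preimage hopen_tgt (hO₁.prod Metric.isOpen_ball)
  have hsymm₀ : Hm.symm (c₀, 0) = p₀ := by
    rw [← hGp₀]
    exact Hm.left_inv hsrc
  have hc₀O : c₀ ∈ O := by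
    refine ⟨hc₀O₁, htgt, ?_⟩
    rw [hsymm₀]
    exact ⟨hc₀O₁, Metric.mem_ball_self hε⟩
  -- properties of the inverse
  have hkey : ∀ c ∈ O, Hm.symm (c, 0) = (c, φ c) ∧ polyF N (c, φ c) = 0 := by
    intro c hc
    have h2 : G (Hm.symm (c, 0)) = (c, 0) := Hm.right_inv hc.2.1
    have h3 : (Hm.symm (c, 0)).1 = c := congrArg Prod.fst h2
    have h4 : Hm.symm (c, 0) = (c, φ c) := Prod.ext h3 rfl
    refine ⟨h4, ?_⟩
    have h5 : F (Hm.symm (c, 0)) = 0 := congrArg Prod.snd h2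
    rw [h4] at h5
    exact h5
  refine ⟨O, ε, φ, hO, hc₀O, hε, ?_, ?_, ?_, ?_⟩
  · exact (continuous_snd.comp_continuousOn hcont_symm).mono fun c hc => hc.2.1
  · change (Hm.symm (c₀, 0)).2 = t₀
    rw [hsymm₀]
  · intro c hc
    refine ⟨?_, (hkey c hc).2⟩
    have := hc.2.2
    rw [(hkey c hc).1] at this
    exact this.2
  · intro c hc t ht hroot
    have h2 : ((c, t) : E) ∈ Hm.source := hsub ⟨hc.1, hball ht⟩
    have h3 : G (c, t) = (c, 0) := by
      change (c, polyF N (c, t)) = (c, 0)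
      rw [hroot]
    have h4 : Hm.symm (c, 0) = (c, t) := by
      rw [← h3]
      exact Hm.left_inv h2
    change t = (Hm.symm (c, 0)).2
    rw [h4]

end Groth.Agent.Lib.Helper63.AnEtale
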