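import Groth.Agent.Lib.Helper63.AnEtale1

/-!
# The space of simple roots of a continuous family of polynomials is locally homeomorphic to the
parameter space
-/

set_option autoImplicit false
set_option linter.style.haveILetI false
set_option linter.unusedSectionVars false
set_option linter.unusedVariables false

namespace Groth.Agent.Lib.Helper63.AnEtale

open Topology

theorem isLocalHomeomorph_fst_roots {T : Type*} [TopologicalSpace T] (N : ℕ)
    (a : T → (Fin (N + 1) → ℂ)) (ha : Continuous a) (U : Set (T × ℂ)) (hU : IsOpen U)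
    (hsimple : ∀ w ∈ U, polyF N (a w.1, w.2) = 0 →
      ∃ d : ℂ, d ≠ 0 ∧ HasDerivAt (fun t => polyF N (a w.1, t)) d w.2) :
    IsLocalHomeomorph
      (fun w : {w : T × ℂ // w ∈ U ∧ polyF N (a w.1, w.2) = 0} => w.1.1) := by
  rw [isLocalHomeomorph_iff_isOpenEmbedding_restrict]
  rintro ⟨⟨v₀, t₀⟩, hU₀, hroot₀⟩
  obtain ⟨O, ε, φ, hO, hc₀O, hε, hφc, hφ₀, hφroot, hφuniq⟩ :=
    exists_root_function N (a v₀) t₀ hroot₀ (hsimple (v₀, t₀) hU₀ hroot₀)
  let W := {w : T × ℂ // w ∈ U ∧ polyF N (a w.1, w.2) = 0}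
  let Nb : Set W := {w | a w.1.1 ∈ O ∧ w.1.2 ∈ Metric.ball t₀ ε}
  have hNbopen : IsOpen Nb := by
    have h1 : IsOpen {w : W | a w.1.1 ∈ O} :=
      hO.preimage (ha.comp (continuous_fst.comp continuous_subtype_val))
    have h2 : IsOpen {w : W | w.1.2 ∈ Metric.ball t₀ ε} :=
      Metric.isOpen_ball.preimage (continuous_snd.comp continuous_subtype_val)
    exact h1.inter h2
  refine ⟨Nb, hNbopen.mem_nhds ⟨hc₀O, Metric.mem_ball_self hε⟩, ?_⟩
  apply Topology.IsOpenEmbedding.of_continuous_injective_isOpenMap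
  · exact (continuous_fst.comp continuous_subtype_val).comp continuous_subtype_val
  · rintro ⟨⟨⟨v, t⟩, hw⟩, hwN⟩ ⟨⟨⟨v', t'⟩, hw'⟩, hwN'⟩ hvv'
    have hv : v = v' := hvv'
    subst hv
    have e1 : t = φ (a v) := hφuniq (a v) hwN.1 t hwN.2 hw.2
    have e2 : t' = φ (a v) := hφuniq (a v) hwN'.1 t' hwN'.2 hw'.2
    have : t = t' := e1.trans e2.symm
    subst this
    rfl
  · intro S hS
    have hind : Topology.IsInducing (fun n : Nb => ((n : W) : T × ℂ)) :=
      Topology.IsInducing.subtypeVal.comp Topology.IsInducing.subtypeVal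
    obtain ⟨S₀, hS₀, hS₀S⟩ := hind.isOpen_iff.1 hS
    have himg : (Nb.domRestrict fun w : W => w.1.1) '' S =
        a ⁻¹' O ∩ (fun v => ((v, φ (a v)) : T × ℂ)) ⁻¹' (U ∩ S₀) := by
      ext v
      constructor
      · rintro ⟨⟨⟨⟨v', t⟩, hw⟩, hwN⟩, hwS, rfl⟩
        have e1 : t = φ (a v') := hφuniq (a v') hwN.1 t hwN.2 hw.2
        refine ⟨hwN.1, ?_, ?_⟩
        · change (v', φ (a v')) ∈ U
          rw [← e1]
          exact hw.1
        · change (v', φ (a v')) ∈ S₀
          rw [← e1]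
          have : (⟨⟨(v', t), hw⟩, hwN⟩ : Nb) ∈ (fun n : Nb => ((n : W) : T × ℂ)) ⁻¹' S₀ := by
            rw [hS₀S]
            exact hwS
          exact this
      · rintro ⟨hvO, hvU, hvS₀⟩
        have hr := hφroot (a v) hvO
        let w : W := ⟨(v, φ (a v)), hvU, hr.2⟩
        have hwN : w ∈ Nb := ⟨hvO, hr.1⟩
        refine ⟨⟨w, hwN⟩, ?_, rfl⟩
        rw [← hS₀S]
        exact hvS₀
    rw [himg]
    apply ContinuousOn.isOpen_inter_preimage _ (hO.preimage ha) (hU.inter hS₀)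
    apply ContinuousOn.prodMk continuousOn_id
    exact hφc.comp ha.continuousOn (fun v hv => hv)

end Groth.Agent.Lib.Helper63.AnEtale
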