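import Groth.Agent.Lib.Helper63.AnFibre1

/-!
# ℂ-points of fibre products: the affine case
-/

set_option autoImplicit false
set_option linter.style.haveILetI false
set_option linter.unusedSectionVars false
set_option linter.unusedVariables false

open AlgebraicGeometry CategoryTheory TopologicalSpace Opposite Topology Limits

namespace Groth.Agent.Lib.Helper63.AnFibre

open Groth.Agent.Lib.Helper21 Groth.Agent.Lib.Helper63.AnAffine

variable {X Y S : Scheme.{0}} [X.Over An.SC] [Y.Over An.SC] [S.Over An.SC]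
  (f : X ⟶ S) (g : Y ⟶ S) [f.IsOver An.SC] [g.IsOver An.SC]

/-- The pair of projections on ℂ-points. -/
noncomputable def Θ₀ (z : An.Pts (pullback f g)) : An.Pts X × An.Pts Y :=
  (An.Pts.map (pullback.fst f g) z, An.Pts.map (pullback.snd f g) z)

lemma continuous_Θ₀ : Continuous (Θ₀ f g) :=
  (An.Pts.continuous_map _).prodMk (An.Pts.continuous_map _)

lemma evTop_map {X Y : Scheme.{0}} [X.Over An.SC] [Y.Over An.SC] (h : X ⟶ Y) [h.IsOver An.SC]
    (x : An.Pts X) (a : Γ(Y, ⊤)) : (An.Pts.map h x).evTop a = x.evTop (h.appTop a) :=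
  An.Pts.ev_map h x ⊤ (Opens.mem_top _) a

lemma evTop_add {X : Scheme.{0}} [X.Over An.SC] (x : An.Pts X) (a b : Γ(X, ⊤)) :
    x.evTop (a + b) = x.evTop a + x.evTop b := map_add (evHom x ⊤ (Opens.mem_top _)) a b

lemma evTop_mul {X : Scheme.{0}} [X.Over An.SC] (x : An.Pts X) (a b : Γ(X, ⊤)) :
    x.evTop (a * b) = x.evTop a * x.evTop b := map_mul (evHom x ⊤ (Opens.mem_top _)) a b

lemma evTop_neg {X : Scheme.{0}} [X.Over An.SC] (x : An.Pts X) (a : Γ(X, ⊤)) :
    x.evTop (-a) = -x.evTop a := map_neg (evHom x ⊤ (Opens.mem_top _)) a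

lemma evTop_zero {X : Scheme.{0}} [X.Over An.SC] (x : An.Pts X) :
    x.evTop (0 : Γ(X, ⊤)) = 0 := map_zero (evHom x ⊤ (Opens.mem_top _))

lemma evTop_one {X : Scheme.{0}} [X.Over An.SC] (x : An.Pts X) :
    x.evTop (1 : Γ(X, ⊤)) = 1 := map_one (evHom x ⊤ (Opens.mem_top _))

/-- Affine case: the topology on the ℂ-points of the fibre product is induced by the two
projections. -/
theorem isInducing_Θ₀_of_isAffine [IsAffine X] [IsAffine Y] [IsAffine S] :
    Topology.IsInducing (Θ₀ f g) := by
  have hpo := isPushout_appTop_of_isPullback (IsPullback.of_hasPullback f g)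
  have hgen := closure_eq_top_of_isPushout hpo
  have key : ∀ t : Γ(pullback f g, ⊤), ∃ F : An.Pts X × An.Pts Y → ℂ, Continuous F ∧
      ∀ z : An.Pts (pullback f g), z.evTop t = F (Θ₀ f g z) := by
    intro t
    have ht : t ∈ Subring.closure (Set.range (pullback.fst f g).appTop.hom ∪
        Set.range (pullback.snd f g).appTop.hom) := by
      rw [hgen]
      exact Subring.mem_top t
    induction ht using Subring.closure_induction with
    | mem t ht =>
      rcases ht with ⟨a, rfl⟩ | ⟨b, rfl⟩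
      · refine ⟨fun q => q.1.evTop a, (continuous_evTop a).comp continuous_fst, fun z => ?_⟩
        exact (evTop_map (pullback.fst f g) z a).symm
      · refine ⟨fun q => q.2.evTop b, (continuous_evTop b).comp continuous_snd, fun z => ?_⟩
        exact (evTop_map (pullback.snd f g) z b).symm
    | zero => exact ⟨fun _ => 0, continuous_const, fun z => evTop_zero z⟩
    | one => exact ⟨fun _ => 1, continuous_const, fun z => evTop_one z⟩
    | add a b _ _ iha ihb =>
      obtain ⟨Fa, hFa, ha⟩ := iha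
      obtain ⟨Fb, hFb, hb⟩ := ihb
      exact ⟨fun q => Fa q + Fb q, hFa.add hFb, fun z => by rw [evTop_add, ha, hb]⟩
    | neg a _ iha =>
      obtain ⟨Fa, hFa, ha⟩ := iha
      exact ⟨fun q => -Fa q, hFa.neg, fun z => by rw [evTop_neg, ha]⟩
    | mul a b _ _ iha ihb =>
      obtain ⟨Fa, hFa, ha⟩ := iha
      obtain ⟨Fb, hFb, hb⟩ := ihb
      exact ⟨fun q => Fa q * Fb q, hFa.mul hFb, fun z => by rw [evTop_mul, ha, hb]⟩
  choose F hFc hF using key
  let Φ : An.Pts X × An.Pts Y → (Γ(pullback f g, ⊤) → ℂ) := fun q t => F t q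
  have hΦc : Continuous Φ := continuous_pi fun t => hFc t
  have hcomp : Φ ∘ Θ₀ f g = fun (z : An.Pts (pullback f g)) (t : Γ(pullback f g, ⊤)) =>
      z.evTop t := by
    funext z t
    exact (hF t z).symm
  apply Topology.IsInducing.of_comp (continuous_Θ₀ f g) hΦc
  rw [hcomp]
  exact isInducing_evTop

end Groth.Agent.Lib.Helper63.AnFibre
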