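import Groth.Agent.Lib.Helper63.AnEtale2
import Groth.Agent.Lib.Helper63.AnFibre2
import Mathlib.RingTheory.Etale.StandardEtale

/-!
# Standard étale morphisms of affine schemes over ℂ induce local homeomorphisms on ℂ-points
-/

set_option autoImplicit false
set_option linter.style.haveILetI false
set_option linter.unusedSectionVars false
set_option linter.unusedVariables false

open AlgebraicGeometry CategoryTheory TopologicalSpace Opposite Topology

namespace Groth.Agent.Lib.Helper63.AnEtale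

open Groth.Agent.Lib.Helper21 Groth.Agent.Lib.Helper63.AnAffine Groth.Agent.Lib.Helper63.AnFibre

/-- Points of an affine scheme are determined by the values of global sections. -/
lemma pts_ext_of_evTop {X : Scheme.{0}} [X.Over An.SC] [IsAffine X] (x y : An.Pts X)
    (h : ∀ t : Γ(X, ⊤), x.evTop t = y.evTop t) : x = y := by
  apply Subtype.ext
  apply ext_of_isAffine
  ext t
  have h2 := h t
  rw [evTop_eq, evTop_eq] at h2
  have := congrArg (Scheme.ΓSpecIso (CommRingCat.of ℂ)).inv h2
  rwa [Iso.hom_inv_id_apply, Iso.hom_inv_id_apply] at this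

variable {Y : Scheme.{0}} [Y.Over An.SC]

/-- The value at `(y, t)` of a polynomial with coefficients in `Γ(Y, ⊤)`. -/
noncomputable def pval (p : Polynomial Γ(Y, ⊤)) (q : An.Pts Y × ℂ) : ℂ :=
  Polynomial.eval₂ (evHom q.1 ⊤ (Opens.mem_top _)) q.2 p

lemma continuous_pval (p : Polynomial Γ(Y, ⊤)) : Continuous (pval p) := by
  unfold pval
  simp only [Polynomial.eval₂_eq_sum_range]
  apply continuous_finsetSum
  intro i _
  apply Continuous.mul
  · exact (continuous_evTop (p.coeff i)).comp continuous_fst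
  · exact continuous_snd.pow i

lemma pval_mul (p q : Polynomial Γ(Y, ⊤)) (w : An.Pts Y × ℂ) :
    pval (p * q) w = pval p w * pval q w := Polynomial.eval₂_mul _ _

lemma pval_add (p q : Polynomial Γ(Y, ⊤)) (w : An.Pts Y × ℂ) :
    pval (p + q) w = pval p w + pval q w := Polynomial.eval₂_add _ _

lemma pval_pow (p : Polynomial Γ(Y, ⊤)) (n : ℕ) (w : An.Pts Y × ℂ) :
    pval (p ^ n) w = pval p w ^ n := Polynomial.eval₂_pow _ _ _

/-- The coefficient vector of `p` at a point. -/
noncomputable def coeffVec (p : Polynomial Γ(Y, ⊤)) (y : An.Pts Y) : Fin (p.natDegree + 1) → ℂ :=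
  fun i => y.evTop (p.coeff i)

lemma continuous_coeffVec (p : Polynomial Γ(Y, ⊤)) : Continuous (coeffVec p) :=
  continuous_pi fun i => continuous_evTop _

lemma polyF_coeffVec (p : Polynomial Γ(Y, ⊤)) (y : An.Pts Y) (t : ℂ) :
    polyF p.natDegree (coeffVec p y, t) = pval p (y, t) := by
  unfold polyF pval coeffVec
  rw [Polynomial.eval₂_eq_sum_range, Fin.sum_univ_eq_sum_range
    (fun i => y.evTop (p.coeff i) * t ^ i) (p.natDegree + 1)]
  rfl

lemma hasDerivAt_pval (p : Polynomial Γ(Y, ⊤)) (y : An.Pts Y) (t : ℂ) :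
    HasDerivAt (fun s => pval p (y, s)) (pval (Polynomial.derivative p) (y, t)) t := by
  have h1 : (fun s => pval p (y, s)) =
      fun s => (p.map (evHom y ⊤ (Opens.mem_top _))).eval s := by
    funext s
    unfold pval
    rw [Polynomial.eval_map]
  have h2 : pval (Polynomial.derivative p) (y, t) =
      (Polynomial.derivative (p.map (evHom y ⊤ (Opens.mem_top _)))).eval t := by
    unfold pval
    rw [Polynomial.derivative_map, Polynomial.eval_map]
  rw [h1, h2]
  exact Polynomial.hasDerivAt _ _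

variable {X : Scheme.{0}} [X.Over An.SC] (g : X ⟶ Y) [g.IsOver An.SC]

lemma strHom_eq : An.strHom X = g.appTop.hom.comp (An.strHom Y) := by
  unfold An.strHom
  have h1 : (X ↘ An.SC).appTop = (Y ↘ An.SC).appTop ≫ g.appTop := by
    rw [← Scheme.Hom.comp_appTop, comp_over g]
  rw [h1]
  rfl

lemma pval_map (x : An.Pts X) (p : Polynomial Γ(Y, ⊤)) (b : Γ(X, ⊤)) :
    pval p (An.Pts.map g x, x.evTop b) = x.evTop (Polynomial.eval₂ g.appTop.hom b p) := by
  unfold pval
  change _ = (evHom x ⊤ (Opens.mem_top _)) _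
  rw [Polynomial.hom_eval₂]
  congr 1

/-- **Standard étale case.** -/
theorem isLocalHomeomorph_of_standardEtale [IsAffine X] [IsAffine Y]
    (P : letI : Algebra Γ(Y, ⊤) Γ(X, ⊤) := g.appTop.hom.toAlgebra
      StandardEtalePresentation Γ(Y, ⊤) Γ(X, ⊤)) :
    IsLocalHomeomorph (An.Pts.map g) := by
  letI : Algebra Γ(Y, ⊤) Γ(X, ⊤) := g.appTop.hom.toAlgebra
  set N := P.f.natDegree with hN
  let a : An.Pts Y → (Fin (N + 1) → ℂ) := coeffVec P.f
  have ha : Continuous a := continuous_coeffVec P.f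
  let U : Set (An.Pts Y × ℂ) := {w | pval P.g w ≠ 0}
  have hU : IsOpen U := isOpen_ne_fun (continuous_pval P.g) continuous_const
  have hpolyF : ∀ (y : An.Pts Y) (t : ℂ), polyF N (a y, t) = pval P.f (y, t) := fun y t =>
    polyF_coeffVec P.f y t
  have hsimple : ∀ w ∈ U, polyF N (a w.1, w.2) = 0 →
      ∃ d : ℂ, d ≠ 0 ∧ HasDerivAt (fun t => polyF N (a w.1, t)) d w.2 := by
    rintro ⟨y, t⟩ hw hroot
    refine ⟨pval (Polynomial.derivative P.f) (y, t), ?_, ?_⟩
    · obtain ⟨p₁, p₂, n, hc⟩ := P.cond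
      have h1 := congrArg (fun q => pval q (y, t)) hc
      simp only [pval_add, pval_mul, pval_pow] at h1
      rw [hpolyF] at hroot
      rw [hroot, zero_mul, add_zero] at h1
      intro h0
      rw [h0, zero_mul] at h1
      exact pow_ne_zero n hw h1.symm
    · have : (fun s => polyF N (a y, s)) = fun s => pval P.f (y, s) := funext fun s => hpolyF y s
      change HasDerivAt (fun s => polyF N (a y, s)) _ t
      rw [this]
      exact hasDerivAt_pval P.f y t
  have hLH := isLocalHomeomorph_fst_roots N a ha U hU hsimple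
  -- the comparison map
  have haeval : ∀ p : Polynomial Γ(Y, ⊤), Polynomial.aeval P.x p =
      Polynomial.eval₂ g.appTop.hom P.x p := fun p => rfl
  have hΞmem : ∀ x : An.Pts X, ((An.Pts.map g x, x.evTop P.x) : An.Pts Y × ℂ) ∈ U ∧
      polyF N (a (An.Pts.map g x), x.evTop P.x) = 0 := by
    intro x
    constructor
    · change pval P.g _ ≠ 0
      rw [pval_map, ← haeval]
      have hu : IsUnit ((evHom x ⊤ (Opens.mem_top _)) (Polynomial.aeval P.x P.g)) :=
        P.hasMap.2.map _
      exact hu.ne_zero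
    · rw [hpolyF, pval_map, ← haeval, P.hasMap.1]
      exact evTop_zero x
  let Ξ : An.Pts X → {w : An.Pts Y × ℂ // w ∈ U ∧ polyF N (a w.1, w.2) = 0} := fun x =>
    ⟨(An.Pts.map g x, x.evTop P.x), hΞmem x⟩
  have hΞc : Continuous Ξ :=
    Continuous.subtype_mk ((An.Pts.continuous_map g).prodMk (continuous_evTop P.x)) _
  -- injectivity
  have hΞinj : Function.Injective Ξ := by
    intro x₁ x₂ h12
    have h1 : An.Pts.map g x₁ = An.Pts.map g x₂ := congrArg (fun w => w.1.1) h12
    have h2 : x₁.evTop P.x = x₂.evTop P.x := congrArg (fun w => w.1.2) h12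
    apply pts_ext_of_evTop
    letI : Algebra Γ(Y, ⊤) ℂ :=
      ((evHom x₁ ⊤ (Opens.mem_top _)).comp (algebraMap Γ(Y, ⊤) Γ(X, ⊤))).toAlgebra
    let ψ₁ : Γ(X, ⊤) →ₐ[Γ(Y, ⊤)] ℂ :=
      { (evHom x₁ ⊤ (Opens.mem_top _)) with commutes' := fun r => rfl }
    let ψ₂ : Γ(X, ⊤) →ₐ[Γ(Y, ⊤)] ℂ :=
      { (evHom x₂ ⊤ (Opens.mem_top _)) with
        commutes' := fun r => by
          change x₂.evTop (g.appTop r) = x₁.evTop (g.appTop r)
          rw [← evTop_map, ← evTop_map, h1] }
    have h3 : ψ₁ = ψ₂ := P.hom_ext h2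
    intro t
    exact congrArg (fun ψ : Γ(X, ⊤) →ₐ[Γ(Y, ⊤)] ℂ => ψ t) h3
  -- surjectivity
  have hΞsurj : Function.Surjective Ξ := by
    rintro ⟨⟨y, t⟩, hwU, hwroot⟩
    letI : Algebra Γ(Y, ⊤) ℂ := (evHom y ⊤ (Opens.mem_top _)).toAlgebra
    have hmap : P.HasMap t := by
      constructor
      · change Polynomial.eval₂ (evHom y ⊤ (Opens.mem_top _)) t P.f = 0
        rw [hpolyF] at hwroot
        exact hwroot
      · have : Polynomial.aeval t P.g = pval P.g (y, t) := rfl
        rw [this]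
        exact Ne.isUnit hwU
    let ψ : Γ(X, ⊤) →ₐ[Γ(Y, ⊤)] ℂ := (P.P.lift t hmap).comp P.equivRing.toAlgHom
    have hψx : ψ P.x = t := by
      change P.P.lift t hmap (P.equivRing P.x) = t
      rw [P.equivRing_x, StandardEtalePair.lift_X]
    have hψc : ∀ c : ℂ, ψ (An.strHom X c) = c := by
      intro c
      rw [strHom_eq g]
      change ψ (algebraMap Γ(Y, ⊤) Γ(X, ⊤) (An.strHom Y c)) = c
      rw [ψ.commutes]
      exact evTop_strHom y c
    obtain ⟨x, hx⟩ := exists_pt_of_ringHom (ψ : Γ(X, ⊤) →+* ℂ) hψc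
    refine ⟨x, ?_⟩
    apply Subtype.ext
    apply Prod.ext
    · change An.Pts.map g x = y
      apply pts_ext_of_evTop
      intro r
      rw [evTop_map, hx]
      change ψ (algebraMap Γ(Y, ⊤) Γ(X, ⊤) r) = _
      rw [ψ.commutes]
      rfl
    · change x.evTop P.x = t
      rw [hx]
      exact hψx
  -- inducing
  have hΞind : Topology.IsInducing Ξ := by
    have hex : ∀ b : Γ(X, ⊤), ∃ p : Polynomial Γ(Y, ⊤), ∃ n : ℕ,
        b * Polynomial.aeval P.x P.g ^ n = Polynomial.aeval P.x p :=
      fun b => P.exists_mul_aeval_x_g_pow_eq_aeval_x b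
    choose pb nb hpb using hex
    let Φ : {w : An.Pts Y × ℂ // w ∈ U ∧ polyF N (a w.1, w.2) = 0} → (Γ(X, ⊤) → ℂ) :=
      fun w b => pval (pb b) w.1 / pval P.g w.1 ^ nb b
    have hΦc : Continuous Φ := by
      apply continuous_pi
      intro b
      apply Continuous.div
      · exact (continuous_pval _).comp continuous_subtype_val
      · exact ((continuous_pval _).comp continuous_subtype_val).pow _
      · intro w
        exact pow_ne_zero _ w.2.1
    have hcomp : Φ ∘ Ξ = fun (x : An.Pts X) (b : Γ(X, ⊤)) => x.evTop b := by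
      funext x b
      change pval (pb b) (An.Pts.map g x, x.evTop P.x) /
        pval P.g (An.Pts.map g x, x.evTop P.x) ^ nb b = x.evTop b
      have hne : pval P.g (An.Pts.map g x, x.evTop P.x) ≠ 0 := (hΞmem x).1
      rw [div_eq_iff (pow_ne_zero _ hne), pval_map, pval_map, ← haeval, ← haeval, ← hpb b]
      have h1 : x.evTop (b * Polynomial.aeval P.x P.g ^ nb b) =
          x.evTop b * x.evTop (Polynomial.aeval P.x P.g) ^ nb b := by
        rw [evTop_mul]
        congr 1
        exact map_pow (evHom x ⊤ (Opens.mem_top _)) _ _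
      rw [h1]
    apply Topology.IsInducing.of_comp hΞc hΦc
    rw [hcomp]
    exact isInducing_evTop
  have hΞhomeo : IsHomeomorph Ξ := by
    rw [isHomeomorph_iff_isEmbedding_surjective]
    exact ⟨⟨hΞind, hΞinj⟩, hΞsurj⟩
  have hfac : An.Pts.map g =
      (fun w : {w : An.Pts Y × ℂ // w ∈ U ∧ polyF N (a w.1, w.2) = 0} => w.1.1) ∘ Ξ := rfl
  rw [hfac]
  exact hLH.comp (hΞhomeo.homeomorph Ξ).isLocalHomeomorph

end Groth.Agent.Lib.Helper63.AnEtale
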