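import Groth.Agent.Lib.Helper63.AnFibre2

/-!
# ℂ-points of fibre products: the general case
-/

set_option autoImplicit false
set_option linter.style.haveILetI false
set_option linter.unusedSectionVars false
set_option linter.unusedVariables false

open AlgebraicGeometry CategoryTheory TopologicalSpace Opposite Topology Limits

namespace Groth.Agent.Lib.Helper63.AnFibre

open Groth.Agent.Lib.Helper21 Groth.Agent.Lib.Helper63.AnAffine

variable {X Y S : Scheme.{0}} [X.Over An.SC] [Y.Over An.SC] [S.Over An.SC]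
  [LocallyOfFiniteType (X ↘ An.SC)] [LocallyOfFiniteType (Y ↘ An.SC)]
  [LocallyOfFiniteType (S ↘ An.SC)]
  (f : X ⟶ S) (g : Y ⟶ S) [f.IsOver An.SC] [g.IsOver An.SC]

/-- General case: the topology on the ℂ-points of the fibre product is induced by the two
projections. -/
theorem isInducing_Θ₀ : Topology.IsInducing (Θ₀ f g) := by
  refine ⟨le_antisymm (continuous_Θ₀ f g).le_induced ?_⟩
  apply le_generateFrom
  rintro _ ⟨W, s, V, hV, rfl⟩
  rw [@isOpen_iff_forall_mem_open]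
  intro z hz
  -- the three affine charts
  set x := An.Pts.map (pullback.fst f g) z with hx
  set y := An.Pts.map (pullback.snd f g) z with hy
  have hxy : An.Pts.map f x = An.Pts.map g y := An.Pts.map_pullback_condition f g z
  obtain ⟨S', hS', hsS', -⟩ :=
    exists_isAffineOpen_mem_and_subset (x := f x.pt) (U := ⊤) trivial
  obtain ⟨X', hX', hxX', hX'S'⟩ :=
    exists_isAffineOpen_mem_and_subset (x := x.pt) (U := f ⁻¹ᵁ S') hsS'
  have hgy : g y.pt ∈ S' := by
    have h1 : (An.Pts.map f x).pt = (An.Pts.map g y).pt := congrArg An.Pts.pt hxy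
    rw [An.Pts.pt_map f x, An.Pts.pt_map g y] at h1
    rw [← h1]
    exact hsS'
  obtain ⟨Y', hY', hyY', hY'S'⟩ :=
    exists_isAffineOpen_mem_and_subset (x := y.pt) (U := g ⁻¹ᵁ S') hgy
  letI : X'.toScheme.Over An.SC := ⟨X'.ι ≫ X ↘ An.SC⟩
  haveI : X'.ι.IsOver An.SC := ⟨rfl⟩
  haveI : LocallyOfFiniteType (X'.toScheme ↘ An.SC) := by
    change LocallyOfFiniteType (X'.ι ≫ X ↘ An.SC)
    infer_instance
  letI : Y'.toScheme.Over An.SC := ⟨Y'.ι ≫ Y ↘ An.SC⟩
  haveI : Y'.ι.IsOver An.SC := ⟨rfl⟩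
  haveI : LocallyOfFiniteType (Y'.toScheme ↘ An.SC) := by
    change LocallyOfFiniteType (Y'.ι ≫ Y ↘ An.SC)
    infer_instance
  letI : S'.toScheme.Over An.SC := ⟨S'.ι ≫ S ↘ An.SC⟩
  haveI : S'.ι.IsOver An.SC := ⟨rfl⟩
  haveI : IsAffine X'.toScheme := hX'
  haveI : IsAffine Y'.toScheme := hY'
  haveI : IsAffine S'.toScheme := hS'
  let f' : X'.toScheme ⟶ S'.toScheme := f.resLE S' X' hX'S'
  let g' : Y'.toScheme ⟶ S'.toScheme := g.resLE S' Y' hY'S'
  have hf' : f' ≫ S'.ι = X'.ι ≫ f := Scheme.Hom.resLE_comp_ι f hX'S'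
  have hg' : g' ≫ S'.ι = Y'.ι ≫ g := Scheme.Hom.resLE_comp_ι g hY'S'
  haveI : f'.IsOver An.SC := ⟨by
    change f' ≫ S'.ι ≫ (S ↘ An.SC) = X'.ι ≫ (X ↘ An.SC)
    rw [← Category.assoc, hf', Category.assoc, comp_over f]⟩
  haveI : g'.IsOver An.SC := ⟨by
    change g' ≫ S'.ι ≫ (S ↘ An.SC) = Y'.ι ≫ (Y ↘ An.SC)
    rw [← Category.assoc, hg', Category.assoc, comp_over g]⟩
  let p : pullback f' g' ⟶ pullback f g :=
    pullback.map f' g' f g X'.ι Y'.ι S'.ι hf' hg'
  have hp1 : p ≫ pullback.fst f g = pullback.fst f' g' ≫ X'.ι := pullback.lift_fst _ _ _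
  have hp2 : p ≫ pullback.snd f g = pullback.snd f' g' ≫ Y'.ι := pullback.lift_snd _ _ _
  haveI : p.IsOver An.SC := ⟨by
    change p ≫ pullback.fst f g ≫ (X ↘ An.SC) = pullback.fst f' g' ≫ X'.ι ≫ (X ↘ An.SC)
    rw [← Category.assoc, hp1, Category.assoc]⟩
  -- compatibility of the comparison maps
  let e : An.Pts X'.toScheme × An.Pts Y'.toScheme → An.Pts X × An.Pts Y :=
    Prod.map (An.Pts.map X'.ι) (An.Pts.map Y'.ι)
  have heo : IsOpenMap e :=
    (Groth.Agent.S4196.result _ _ X'.ι).isOpenMap.prodMap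
      (Groth.Agent.S4196.result _ _ Y'.ι).isOpenMap
  have hcompat : ∀ w' : An.Pts (pullback f' g'), Θ₀ f g (An.Pts.map p w') = e (Θ₀ f' g' w') := by
    intro w'
    apply Prod.ext
    · change An.Pts.map (pullback.fst f g) (An.Pts.map p w') =
        An.Pts.map X'.ι (An.Pts.map (pullback.fst f' g') w')
      apply Subtype.ext
      change (w'.1 ≫ p) ≫ pullback.fst f g = (w'.1 ≫ pullback.fst f' g') ≫ X'.ι
      rw [Category.assoc, hp1, Category.assoc]
    · change An.Pts.map (pullback.snd f g) (An.Pts.map p w') =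
        An.Pts.map Y'.ι (An.Pts.map (pullback.snd f' g') w')
      apply Subtype.ext
      change (w'.1 ≫ p) ≫ pullback.snd f g = (w'.1 ≫ pullback.snd f' g') ≫ Y'.ι
      rw [Category.assoc, hp2, Category.assoc]
  -- lifting points
  have hlift : ∀ (w : An.Pts (pullback f g)) (q : An.Pts X'.toScheme × An.Pts Y'.toScheme),
      Θ₀ f g w = e q → ∃ w' : An.Pts (pullback f' g'), Θ₀ f' g' w' = q ∧ An.Pts.map p w' = w := by
    intro w q hwq
    have h1 : An.Pts.map f' q.1 = An.Pts.map g' q.2 := by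
      apply map_injective_of_mono S'.ι
      have h2 : An.Pts.map f (An.Pts.map X'.ι q.1) = An.Pts.map g (An.Pts.map Y'.ι q.2) := by
        have h3 := An.Pts.map_pullback_condition f g w
        have h4 : An.Pts.map (pullback.fst f g) w = An.Pts.map X'.ι q.1 :=
          congrArg Prod.fst hwq
        have h5 : An.Pts.map (pullback.snd f g) w = An.Pts.map Y'.ι q.2 :=
          congrArg Prod.snd hwq
        rw [h4, h5] at h3
        exact h3
      apply Subtype.ext
      have h6 : (q.1.1 ≫ X'.ι) ≫ f = (q.2.1 ≫ Y'.ι) ≫ g := congrArg Subtype.val h2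
      change (q.1.1 ≫ f') ≫ S'.ι = (q.2.1 ≫ g') ≫ S'.ι
      rw [Category.assoc, hf', Category.assoc, hg', ← Category.assoc, h6, Category.assoc]
    obtain ⟨w', hw'⟩ := Θ_surjective f' g' ⟨q, h1⟩
    have hw'q : Θ₀ f' g' w' = q := congrArg Subtype.val hw'
    refine ⟨w', hw'q, ?_⟩
    apply Θ_injective f g
    apply Subtype.ext
    change Θ₀ f g (An.Pts.map p w') = Θ₀ f g w
    rw [hcompat, hw'q, hwq]
  -- the point `z` comes from the chart
  have hxr : x ∈ Set.range (An.Pts.map X'.ι) := by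
    rw [range_map_of_injective X'.ι X'.ι.isOpenEmbedding.injective]
    change x.pt ∈ Set.range X'.ι.base
    rw [Scheme.Opens.range_ι]
    exact hxX'
  have hyr : y ∈ Set.range (An.Pts.map Y'.ι) := by
    rw [range_map_of_injective Y'.ι Y'.ι.isOpenEmbedding.injective]
    change y.pt ∈ Set.range Y'.ι.base
    rw [Scheme.Opens.range_ι]
    exact hyY'
  obtain ⟨x', hx'⟩ := hxr
  obtain ⟨y', hy'⟩ := hyr
  obtain ⟨z', hz'q, hz'z⟩ := hlift z (x', y') (by
    change (x, y) = (An.Pts.map X'.ι x', An.Pts.map Y'.ι y')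
    rw [hx', hy'])
  -- the affine chart
  have hind' := isInducing_Θ₀_of_isAffine f' g'
  have hopen' : IsOpen (An.Pts.map p ⁻¹' An.Pts.basicSet W s V) := by
    rw [An.Pts.preimage_basicSet]
    exact An.Pts.isOpen_basicSet _ _ hV
  obtain ⟨M', hM'o, hM'⟩ := hind'.isOpen_iff.1 hopen'
  refine ⟨Θ₀ f g ⁻¹' (e '' M'), ?_, ?_, ?_⟩
  · rintro w ⟨q, hqM', hq⟩
    obtain ⟨w', hw'q, hw'w⟩ := hlift w q hq.symm
    have : w' ∈ Θ₀ f' g' ⁻¹' M' := by
      change Θ₀ f' g' w' ∈ M'
      rw [hw'q]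
      exact hqM'
    rw [hM'] at this
    rw [← hw'w]
    exact this
  · exact isOpen_induced (heo M' hM'o)
  · refine ⟨(x', y'), ?_, ?_⟩
    · have : z' ∈ Θ₀ f' g' ⁻¹' M' := by
        rw [hM']
        change An.Pts.map p z' ∈ An.Pts.basicSet W s V
        rw [hz'z]
        exact hz
      change Θ₀ f' g' z' ∈ M' at this
      rwa [hz'q] at this
    · change (An.Pts.map X'.ι x', An.Pts.map Y'.ι y') = (x, y)
      rw [hx', hy']

end Groth.Agent.Lib.Helper63.AnFibre
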