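import Groth.Agent.Lib.Helper63.AnEtale3
import Groth.Agent.Lib.Helper63.AnFibre3
import Mathlib.RingTheory.Unramified.LocalStructure
import Mathlib.AlgebraicGeometry.Morphisms.Etale

/-!
# Étale morphisms of schemes locally of finite type over ℂ induce local homeomorphisms
on ℂ-points: reduction to the standard étale affine case
-/

set_option autoImplicit false
set_option linter.style.haveILetI false
set_option linter.unusedSectionVars false
set_option linter.unusedVariables false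

open AlgebraicGeometry CategoryTheory TopologicalSpace Opposite Topology

namespace Groth.Agent.Lib.Helper63.AnEtale

open Groth.Agent.Lib.Helper21 Groth.Agent.Lib.Helper63.AnAffine Groth.Agent.Lib.Helper63.AnFibre

/-- Local homeomorphisms can be checked on open charts. -/
lemma exists_oph_of_chart {A B A' B' : Type*} [TopologicalSpace A] [TopologicalSpace B]
    [TopologicalSpace A'] [TopologicalSpace B'] (f : A → B) (i : A' → A) (j : B' → B)
    (f' : A' → B') (hi : IsOpenEmbedding i) (hj : IsOpenEmbedding j)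
    (hf' : IsLocalHomeomorph f') (hcomm : ∀ a, f (i a) = j (f' a)) (x' : A') :
    ∃ e : OpenPartialHomeomorph A B, i x' ∈ e.source ∧ Set.EqOn f e e.source := by
  haveI : Nonempty A' := ⟨x'⟩
  have hh : IsLocalHomeomorph (j ∘ f') := hj.isLocalHomeomorph.comp hf'
  obtain ⟨e, hxe, he⟩ := hh x'
  let ι := hi.toOpenPartialHomeomorph i
  have hιsrc : ∀ a, a ∈ ι.source := fun a => by simp [ι]
  have hιapp : ∀ a, ι a = i a := fun a => rfl
  have hιinv : ∀ a, ι.symm (i a) = a := fun a => ι.left_inv (hιsrc a)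
  have hιtgt : ι.target = Set.range i := by simp [ι]
  refine ⟨ι.symm.trans e, ?_, ?_⟩
  · rw [OpenPartialHomeomorph.trans_source]
    refine ⟨?_, ?_⟩
    · change i x' ∈ ι.target
      rw [hιtgt]
      exact ⟨x', rfl⟩
    · change ι.symm (i x') ∈ e.source
      rw [hιinv]
      exact hxe
  · intro z hz
    rw [OpenPartialHomeomorph.trans_source] at hz
    obtain ⟨hz1, hz2⟩ := hz
    have hz1' : z ∈ Set.range i := by
      rw [← hιtgt]
      exact hz1
    obtain ⟨a, rfl⟩ := hz1'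
    change f (i a) = e (ι.symm (i a))
    rw [hιinv, hcomm, ← he]
    rfl

/-- Ring-level input: an étale morphism is locally standard étale. -/
lemma exists_basicOpen_presentation {X Y : Scheme.{0}} (g : X ⟶ Y) [Etale g] {V : Y.Opens}
    {U : X.Opens} (hV : IsAffineOpen V) (hU : IsAffineOpen U) (hUV : U ≤ g ⁻¹ᵁ V) (x : X)
    (hxU : x ∈ U) :
    ∃ (f : Γ(X, U)) (_ : x ∈ X.basicOpen f),
      Nonempty (@StandardEtalePresentation Γ(Y, V) Γ(X, X.basicOpen f) _ _
        (g.appLE V (X.basicOpen f) ((X.basicOpen_le f).trans hUV)).hom.toAlgebra) := by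
  let φ : Γ(Y, V) →+* Γ(X, U) := (g.appLE V U hUV).hom
  have hφ : φ.Etale := Etale.etale_appLE g hV hU hUV
  letI : Algebra Γ(Y, V) Γ(X, U) := φ.toAlgebra
  haveI : Algebra.Etale Γ(Y, V) Γ(X, U) := hφ
  let q := hU.primeIdealOf ⟨x, hxU⟩
  haveI : Algebra.IsEtaleAt Γ(Y, V) q.asIdeal := by
    have h1 := (Algebra.etaleLocus_eq_univ_iff (R := Γ(Y, V)) (A := Γ(X, U))).mpr inferInstance
    have h2 : q ∈ Algebra.etaleLocus Γ(Y, V) Γ(X, U) := h1 ▸ Set.mem_univ q
    exact h2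
  obtain ⟨f, hfQ, hf⟩ := Algebra.IsEtaleAt.exists_isStandardEtale (R := Γ(Y, V)) q.asIdeal
  refine ⟨f, ?_, ?_⟩
  · have h1 : q ∈ PrimeSpectrum.basicOpen f := hfQ
    have h3 : q ∈ hU.fromSpec ⁻¹ᵁ X.basicOpen f := by
      rw [hU.fromSpec_preimage_basicOpen f]
      exact h1
    have h2 : hU.fromSpec q = x := hU.fromSpec_primeIdealOf ⟨x, hxU⟩
    rw [← h2]
    exact h3
  · let ψ : Γ(Y, V) →+* Γ(X, X.basicOpen f) :=
      (g.appLE V (X.basicOpen f) ((X.basicOpen_le f).trans hUV)).hom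
    letI : Algebra Γ(Y, V) Γ(X, X.basicOpen f) := ψ.toAlgebra
    haveI : IsScalarTower Γ(Y, V) Γ(X, U) Γ(X, X.basicOpen f) := by
      apply IsScalarTower.of_algebraMap_eq'
      change ψ = (X.presheaf.map (homOfLE (X.basicOpen_le f)).op).hom.comp φ
      rw [← CommRingCat.hom_comp, Scheme.Hom.appLE_map]
    haveI := hU.isLocalization_basicOpen f
    let e0 : Localization.Away f ≃ₐ[Γ(X, U)] Γ(X, X.basicOpen f) :=
      IsLocalization.algEquiv (.powers f) _ _
    let e : Localization.Away f ≃ₐ[Γ(Y, V)] Γ(X, X.basicOpen f) := e0.restrictScalars Γ(Y, V)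
    exact ⟨hf.nonempty_standardEtalePresentation.some.mapEquiv e⟩

/-- Variant with the basic open abstracted. -/
lemma exists_affine_presentation {X Y : Scheme.{0}} (g : X ⟶ Y) [Etale g] {V : Y.Opens}
    (hV : IsAffineOpen V) (x : X) (hxV : g x ∈ V) :
    ∃ (U' : X.Opens) (_ : x ∈ U') (_ : IsAffineOpen U') (h : U' ≤ g ⁻¹ᵁ V),
      Nonempty (@StandardEtalePresentation Γ(Y, V) Γ(X, U') _ _
        (g.appLE V U' h).hom.toAlgebra) := by
  obtain ⟨U, hU, hxU, hUV⟩ :=
    exists_isAffineOpen_mem_and_subset (x := x) (U := g ⁻¹ᵁ V) hxV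
  obtain ⟨f, hxf, hP⟩ := exists_basicOpen_presentation g hV hU hUV x hxU
  exact ⟨X.basicOpen f, hxf, hU.basicOpen f, (X.basicOpen_le f).trans hUV, hP⟩

/-- **Étale morphisms induce local homeomorphisms on ℂ-points.** -/
theorem isLocalHomeomorph_map_of_etale {X Y : Scheme.{0}} [X.Over An.SC] [Y.Over An.SC]
    [LocallyOfFiniteType (Y ↘ An.SC)] (g : X ⟶ Y) [g.IsOver An.SC] [Etale g] :
    IsLocalHomeomorph (An.Pts.map g) := by
  haveI : LocallyOfFiniteType (X ↘ An.SC) := by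
    rw [← comp_over g An.SC]
    infer_instance
  apply IsLocalHomeomorph.mk
  intro x
  obtain ⟨V, hV, hyV, -⟩ := exists_isAffineOpen_mem_and_subset (x := g x.pt) (U := ⊤) trivial
  obtain ⟨U', hxf, hU', hU'V, ⟨P⟩⟩ := exists_affine_presentation g hV x.pt hyV
  letI : U'.toScheme.Over An.SC := ⟨U'.ι ≫ X ↘ An.SC⟩
  haveI : U'.ι.IsOver An.SC := ⟨rfl⟩
  haveI : LocallyOfFiniteType (U'.toScheme ↘ An.SC) := by
    change LocallyOfFiniteType (U'.ι ≫ X ↘ An.SC)
    infer_instance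
  letI : V.toScheme.Over An.SC := ⟨V.ι ≫ Y ↘ An.SC⟩
  haveI : V.ι.IsOver An.SC := ⟨rfl⟩
  haveI : LocallyOfFiniteType (V.toScheme ↘ An.SC) := by
    change LocallyOfFiniteType (V.ι ≫ Y ↘ An.SC)
    infer_instance
  haveI : IsAffine U'.toScheme := hU'
  haveI : IsAffine V.toScheme := hV
  let g' : U'.toScheme ⟶ V.toScheme := g.resLE V U' hU'V
  have hg' : g' ≫ V.ι = U'.ι ≫ g := Scheme.Hom.resLE_comp_ι g hU'V
  haveI : g'.IsOver An.SC := ⟨by
    change g' ≫ V.ι ≫ (Y ↘ An.SC) = U'.ι ≫ (X ↘ An.SC)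
    rw [← Category.assoc, hg', Category.assoc, comp_over g]⟩
  -- the presentation for `g'`
  have hP' : Nonempty (@StandardEtalePresentation Γ(V.toScheme, ⊤) Γ(U'.toScheme, ⊤) _ _
      g'.appTop.hom.toAlgebra) := by
    have key : ∀ (W : Y.Opens) (W' : X.Opens) (hW : W = V) (hW' : W' = U')
        (e : W' ≤ g ⁻¹ᵁ W),
        Nonempty (@StandardEtalePresentation Γ(Y, W) Γ(X, W') _ _
          (g.appLE W W' e).hom.toAlgebra) := by
      intro W W' hW hW' e
      subst hW hW'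
      exact ⟨P⟩
    have hle : U'.ι ''ᵁ ⊤ ≤ g ⁻¹ᵁ (V.ι ''ᵁ ⊤) :=
      (Scheme.Hom.le_resLE_preimage_iff g hU'V ⊤ ⊤).mp le_top
    have h1 := key (V.ι ''ᵁ ⊤) (U'.ι ''ᵁ ⊤) (by simp) (by simp) hle
    have h2 : g'.appTop = g.appLE (V.ι ''ᵁ ⊤) (U'.ι ''ᵁ ⊤) hle := by
      rw [← Scheme.Hom.resLE_appLE g hU'V ⊤ ⊤ le_top]
      exact (Scheme.Hom.appLE_eq_app (f := g') (U := ⊤)).symm
    rw [h2]
    exact h1
  obtain ⟨P'⟩ := hP'
  have hLH' : IsLocalHomeomorph (An.Pts.map g') := isLocalHomeomorph_of_standardEtale g' P'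
  -- the point `x` lies in the chart
  have hxr : x ∈ Set.range (An.Pts.map U'.ι) := by
    rw [range_map_of_injective U'.ι U'.ι.isOpenEmbedding.injective]
    change x.pt ∈ Set.range U'.ι.base
    rw [Scheme.Opens.range_ι]
    exact hxf
  obtain ⟨x', rfl⟩ := hxr
  refine exists_oph_of_chart (An.Pts.map g) (An.Pts.map U'.ι) (An.Pts.map V.ι) (An.Pts.map g')
    (Groth.Agent.S4196.result _ _ U'.ι) (Groth.Agent.S4196.result _ _ V.ι) hLH' (fun a => ?_) x'
  apply Subtype.ext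
  change (a.1 ≫ U'.ι) ≫ g = (a.1 ≫ g') ≫ V.ι
  rw [Category.assoc, Category.assoc, hg']

end Groth.Agent.Lib.Helper63.AnEtale
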