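import Groth.Agent.Lib.Helper63.AnDense5
import Mathlib.AlgebraicGeometry.Morphisms.Affine
import Mathlib.AlgebraicGeometry.PullbackCarrier

/-!
# ℂ-points of fibre products: bijectivity, pushout generation
-/

set_option autoImplicit false
set_option linter.style.haveILetI false
set_option linter.unusedSectionVars false
set_option linter.unusedVariables false

open AlgebraicGeometry CategoryTheory TopologicalSpace Opposite Topology Limits

namespace Groth.Agent.Lib.Helper63.AnFibre

open Groth.Agent.Lib.Helper21 Groth.Agent.Lib.Helper63.AnAffine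

/-- In a pushout square of commutative rings the pushout is generated by the two images. -/
lemma closure_eq_top_of_isPushout {R A B P : CommRingCat.{0}} {f : R ⟶ A} {g : R ⟶ B}
    {inl : A ⟶ P} {inr : B ⟶ P} (h : IsPushout f g inl inr) :
    Subring.closure (Set.range inl.hom ∪ Set.range inr.hom) = ⊤ := by
  set Q : Subring P := Subring.closure (Set.range inl.hom ∪ Set.range inr.hom) with hQ
  let Q' : CommRingCat.{0} := CommRingCat.of Q
  let i : Q' ⟶ P := CommRingCat.ofHom Q.subtype
  let inl' : A ⟶ Q' := CommRingCat.ofHom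
    (inl.hom.codRestrict Q (fun a => Subring.subset_closure (Or.inl ⟨a, rfl⟩)))
  let inr' : B ⟶ Q' := CommRingCat.ofHom
    (inr.hom.codRestrict Q (fun b => Subring.subset_closure (Or.inr ⟨b, rfl⟩)))
  have hl : inl' ≫ i = inl := by ext a; rfl
  have hr : inr' ≫ i = inr := by ext b; rfl
  have cond : f ≫ inl' = g ≫ inr' := by
    ext r
    exact ConcreteCategory.congr_hom h.w r
  let d : P ⟶ Q' := h.desc inl' inr' cond
  have hd : d ≫ i = 𝟙 P := by
    apply h.hom_ext
    · rw [← Category.assoc, h.inl_desc, hl, Category.comp_id]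
    · rw [← Category.assoc, h.inr_desc, hr, Category.comp_id]
  rw [eq_top_iff]
  intro t _
  have h1 : i (d t) = t := ConcreteCategory.congr_hom hd t
  rw [← h1]
  exact (d t).2

variable {X Y S : Scheme.{0}} [X.Over An.SC] [Y.Over An.SC] [S.Over An.SC]
  (f : X ⟶ S) (g : Y ⟶ S) [f.IsOver An.SC] [g.IsOver An.SC]

/-- The comparison map from the ℂ-points of the fibre product to the fibre product of ℂ-points. -/
noncomputable def Θ (z : An.Pts (pullback f g)) : {q : An.Pts X × An.Pts Y // An.Pts.map f q.1 = An.Pts.map g q.2} :=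
  ⟨(An.Pts.map (pullback.fst f g) z, An.Pts.map (pullback.snd f g) z),
    An.Pts.map_pullback_condition f g z⟩

lemma Θ_injective : Function.Injective (Θ f g) := by
  intro z w h
  have h1 : z.1 ≫ pullback.fst f g = w.1 ≫ pullback.fst f g :=
    congrArg (fun q => (q.1.1 : An.Pts X).1) h
  have h2 : z.1 ≫ pullback.snd f g = w.1 ≫ pullback.snd f g :=
    congrArg (fun q => (q.1.2 : An.Pts Y).1) h
  exact Subtype.ext (pullback.hom_ext h1 h2)

lemma Θ_surjective : Function.Surjective (Θ f g) := by
  rintro ⟨⟨x, y⟩, h⟩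
  have h' : x.1 ≫ f = y.1 ≫ g := congrArg Subtype.val h
  let z₀ : An.SC ⟶ pullback f g := pullback.lift x.1 y.1 h'
  have hz₀ : z₀ ≫ (pullback f g ↘ An.SC) = 𝟙 An.SC := by
    change z₀ ≫ pullback.fst f g ≫ (X ↘ An.SC) = _
    rw [pullback.lift_fst_assoc]
    exact x.2
  let z : An.Pts (pullback f g) := ⟨z₀, hz₀⟩
  refine ⟨z, ?_⟩
  apply Subtype.ext
  apply Prod.ext
  · exact Subtype.ext (pullback.lift_fst _ _ _)
  · exact Subtype.ext (pullback.lift_snd _ _ _)

lemma continuous_Θ : Continuous (Θ f g) :=
  Continuous.subtype_mk ((An.Pts.continuous_map _).prodMk (An.Pts.continuous_map _)) _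

end Groth.Agent.Lib.Helper63.AnFibre
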