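import Groth.Agent.Lib.Helper63.AnEtale4
import Groth.Agent.Lib.Helper63.AnLocCompact
import Mathlib.Analysis.Polynomial.CauchyBound
import Mathlib.Topology.Maps.Proper.CompactlyGenerated

/-!
# Integral morphisms of affine schemes over ℂ induce proper maps on ℂ-points
-/

set_option autoImplicit false
set_option linter.style.haveILetI false
set_option linter.unusedSectionVars false
set_option linter.unusedVariables false

open AlgebraicGeometry CategoryTheory TopologicalSpace Opposite Topology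

namespace Groth.Agent.Lib.Helper63.AnFinite

open Groth.Agent.Lib.Helper21 Groth.Agent.Lib.Helper63.AnAffine Groth.Agent.Lib.Helper63.AnFibre
  Groth.Agent.Lib.Helper63.AnEtale

/-- The evaluation map `X(ℂ) → ℂ^{Γ(X, ⊤)}`. -/
noncomputable def evAll (X : Scheme.{0}) [X.Over An.SC] : An.Pts X → (Γ(X, ⊤) → ℂ) :=
  fun x t => x.evTop t

lemma range_evAll (X : Scheme.{0}) [X.Over An.SC] [IsAffine X] :
    Set.range (evAll X) = {ψ | ψ 1 = 1 ∧ (∀ a b, ψ (a + b) = ψ a + ψ b) ∧
      (∀ a b, ψ (a * b) = ψ a * ψ b) ∧ ∀ c, ψ (An.strHom X c) = c} := by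
  ext ψ
  constructor
  · rintro ⟨x, rfl⟩
    exact ⟨evTop_one x, evTop_add x, evTop_mul x, evTop_strHom x⟩
  · rintro ⟨h1, hadd, hmul, hstr⟩
    have h0 : ψ 0 = 0 := by
      have := hadd 0 0
      rw [add_zero] at this
      have h2 : ψ 0 + 0 = ψ 0 + ψ 0 := by rw [add_zero]; exact this
      exact (add_left_cancel h2).symm
    let φ : Γ(X, ⊤) →+* ℂ :=
      { toFun := ψ
        map_one' := h1
        map_mul' := hmul
        map_zero' := h0
        map_add' := hadd }
    obtain ⟨x, hx⟩ := exists_pt_of_ringHom φ hstr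
    exact ⟨x, funext fun t => hx t⟩

lemma isClosedEmbedding_evAll (X : Scheme.{0}) [X.Over An.SC] [IsAffine X] :
    IsClosedEmbedding (evAll X) := by
  refine ⟨⟨isInducing_evTop, fun x y hxy => pts_ext_of_evTop x y fun t => congrFun hxy t⟩, ?_⟩
  rw [range_evAll]
  have hc : ∀ t : Γ(X, ⊤), Continuous fun ψ : Γ(X, ⊤) → ℂ => ψ t := fun t => continuous_apply t
  have k1 : IsClosed {ψ : Γ(X, ⊤) → ℂ | ∀ a b : Γ(X, ⊤), ψ (a + b) = ψ a + ψ b} := by
    have key : IsClosed (⋂ a : Γ(X, ⊤), ⋂ b : Γ(X, ⊤),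
        {ψ : Γ(X, ⊤) → ℂ | ψ (a + b) = ψ a + ψ b}) :=
      isClosed_iInter fun a => isClosed_iInter fun b => isClosed_eq (hc _) ((hc a).add (hc b))
    have heq : (⋂ a : Γ(X, ⊤), ⋂ b : Γ(X, ⊤), {ψ : Γ(X, ⊤) → ℂ | ψ (a + b) = ψ a + ψ b}) =
        {ψ : Γ(X, ⊤) → ℂ | ∀ a b : Γ(X, ⊤), ψ (a + b) = ψ a + ψ b} := by
      ext ψ
      simp only [Set.mem_iInter]
      rfl
    rwa [heq] at key
  have k2 : IsClosed {ψ : Γ(X, ⊤) → ℂ | ∀ a b : Γ(X, ⊤), ψ (a * b) = ψ a * ψ b} := by
    have key : IsClosed (⋂ a : Γ(X, ⊤), ⋂ b : Γ(X, ⊤),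
        {ψ : Γ(X, ⊤) → ℂ | ψ (a * b) = ψ a * ψ b}) :=
      isClosed_iInter fun a => isClosed_iInter fun b => isClosed_eq (hc _) ((hc a).mul (hc b))
    have heq : (⋂ a : Γ(X, ⊤), ⋂ b : Γ(X, ⊤), {ψ : Γ(X, ⊤) → ℂ | ψ (a * b) = ψ a * ψ b}) =
        {ψ : Γ(X, ⊤) → ℂ | ∀ a b : Γ(X, ⊤), ψ (a * b) = ψ a * ψ b} := by
      ext ψ
      simp only [Set.mem_iInter]
      rfl
    rwa [heq] at key
  have k3 : IsClosed {ψ : Γ(X, ⊤) → ℂ | ∀ c : ℂ, ψ (An.strHom X c) = c} := by
    have key : IsClosed (⋂ c : ℂ, {ψ : Γ(X, ⊤) → ℂ | ψ (An.strHom X c) = c}) :=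
      isClosed_iInter fun c => isClosed_eq (hc _) continuous_const
    have heq : (⋂ c : ℂ, {ψ : Γ(X, ⊤) → ℂ | ψ (An.strHom X c) = c}) =
        {ψ : Γ(X, ⊤) → ℂ | ∀ c : ℂ, ψ (An.strHom X c) = c} := by
      ext ψ
      simp only [Set.mem_iInter]
      rfl
    rwa [heq] at key
  exact IsClosed.inter (isClosed_eq (hc 1) continuous_const) (IsClosed.inter k1 (IsClosed.inter k2 k3))

lemma t2Space_of_isAffine (X : Scheme.{0}) [X.Over An.SC] [IsAffine X] : T2Space (An.Pts X) :=
  (isClosedEmbedding_evAll X).isEmbedding.t2Space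

section proper

variable {X Y : Scheme.{0}} [X.Over An.SC] [Y.Over An.SC] (g : X ⟶ Y) [g.IsOver An.SC]

open scoped NNReal in
/-- Integrality gives a uniform bound on the values of a function over a compact set. -/
lemma exists_bound (hint : g.appTop.hom.IsIntegral) (K : Set (An.Pts Y)) (hK : IsCompact K)
    (b : Γ(X, ⊤)) : ∃ M : ℝ, ∀ x : An.Pts X, An.Pts.map g x ∈ K → ‖x.evTop b‖ ≤ M := by
  obtain ⟨p, hpm, hpb⟩ := hint b
  let F : An.Pts Y → ℝ := fun y => ∑ i ∈ Finset.range p.natDegree, ‖y.evTop (p.coeff i)‖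
  have hF : Continuous F := continuous_finsetSum _ fun i _ => (continuous_evTop _).norm
  obtain ⟨C, hC⟩ := hK.exists_bound_of_continuousOn hF.continuousOn
  refine ⟨C + 1, fun x hx => ?_⟩
  set y := An.Pts.map g x with hy
  have hC0 : 0 ≤ C := (norm_nonneg _).trans (hC y hx)
  let ev : Γ(Y, ⊤) →+* ℂ := evHom y ⊤ (Opens.mem_top _)
  let q : Polynomial ℂ := p.map ev
  have hqm : q.Monic := hpm.map ev
  have hroot : q.IsRoot (x.evTop b) := by
    change Polynomial.eval _ (p.map ev) = 0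
    rw [Polynomial.eval_map]
    change pval p (y, x.evTop b) = 0
    rw [hy, pval_map]
    have : Polynomial.eval₂ g.appTop.hom b p = 0 := hpb
    rw [this]
    exact evTop_zero x
  have h1 := Polynomial.IsRoot.norm_lt_cauchyBound hqm.ne_zero hroot
  have h2 : Polynomial.cauchyBound q ≤ Real.toNNReal C + 1 := by
    unfold Polynomial.cauchyBound
    rw [hqm.leadingCoeff, nnnorm_one, div_one]
    gcongr
    apply Finset.sup_le
    intro i hi
    rw [← NNReal.coe_le_coe, Real.coe_toNNReal _ hC0, coe_nnnorm]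
    have hdeg : q.natDegree = p.natDegree := hpm.natDegree_map ev
    rw [hdeg] at hi
    have h3 : ‖q.coeff i‖ ≤ F y := by
      have : q.coeff i = y.evTop (p.coeff i) := Polynomial.coeff_map ev i
      rw [this]
      exact Finset.single_le_sum (f := fun i => ‖y.evTop (p.coeff i)‖)
        (fun j _ => norm_nonneg _) hi
    exact h3.trans ((le_abs_self _).trans (hC y hx))
  have h3 : (‖x.evTop b‖₊ : ℝ) < ((Real.toNNReal C + 1 : ℝ≥0) : ℝ) :=
    NNReal.coe_lt_coe.2 (lt_of_lt_of_le h1 h2)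
  rw [NNReal.coe_add, Real.coe_toNNReal _ hC0, NNReal.coe_one, coe_nnnorm] at h3
  exact h3.le

/-- An integral morphism of affine schemes over ℂ induces a proper map on ℂ-points. -/
theorem isProperMap_map_of_isIntegral [IsAffine X] [IsAffine Y] [LocallyOfFiniteType (Y ↘ An.SC)]
    (hint : g.appTop.hom.IsIntegral) : IsProperMap (An.Pts.map g) := by
  haveI := t2Space_of_isAffine Y
  haveI := locallyCompactSpace_of_isAffine Y
  rw [isProperMap_iff_isCompact_preimage]
  refine ⟨An.Pts.continuous_map g, fun K hK => ?_⟩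
  choose M hM using exists_bound g hint K hK
  let ρ : (Γ(X, ⊤) → ℂ) → (Γ(Y, ⊤) → ℂ) := fun ψ a => ψ (g.appTop a)
  have hρ : Continuous ρ := continuous_pi fun a => continuous_apply _
  let C : Set (Γ(X, ⊤) → ℂ) :=
    (Set.pi Set.univ fun b => Metric.closedBall (0 : ℂ) (M b)) ∩ ρ ⁻¹' (evAll Y '' K)
  have hCc : IsCompact C := by
    apply IsCompact.inter_right
    · exact isCompact_univ_pi fun b => isCompact_closedBall _ _
    · exact ((hK.image (isClosedEmbedding_evAll Y).continuous).isClosed).preimage hρ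
  have hpre : An.Pts.map g ⁻¹' K = evAll X ⁻¹' C := by
    ext x
    constructor
    · intro hx
      refine ⟨fun b _ => ?_, ?_⟩
      · rw [mem_closedBall_zero_iff]
        exact hM b x hx
      · refine ⟨An.Pts.map g x, hx, ?_⟩
        funext a
        exact evTop_map g x a
    · rintro ⟨-, y, hyK, hy⟩
      have : y = An.Pts.map g x := (isClosedEmbedding_evAll Y).injective (by
        rw [hy]
        funext a
        exact (evTop_map g x a).symm)
      change An.Pts.map g x ∈ K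
      rw [← this]
      exact hyK
  rw [hpre]
  exact (isClosedEmbedding_evAll X).isCompact_preimage hCc

end proper

end Groth.Agent.Lib.Helper63.AnFinite
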