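import Groth.Agent.Lib.Helper63.AnFinite1
import Mathlib.Topology.Covering.Basic
import Mathlib.AlgebraicGeometry.Morphisms.Finite

/-!
# Finite étale morphisms over ℂ induce finite covering maps on ℂ-points
-/

set_option autoImplicit false
set_option linter.style.haveILetI false
set_option linter.unusedSectionVars false
set_option linter.unusedVariables false

open AlgebraicGeometry CategoryTheory TopologicalSpace Opposite Topology

namespace Groth.Agent.Lib.Helper63.AnFinite

open Groth.Agent.Lib.Helper21 Groth.Agent.Lib.Helper63.AnAffine Groth.Agent.Lib.Helper63.AnFibre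
  Groth.Agent.Lib.Helper63.AnEtale

section topology

variable {E B E' B' : Type*} [TopologicalSpace E] [TopologicalSpace B] [TopologicalSpace E']
  [TopologicalSpace B'] (p : E → B) (i : E' → E) (j : B' → B) (p' : E' → B')

lemma isCoveringMapOn_of_chart (hi : IsOpenEmbedding i) (hj : IsOpenEmbedding j)
    (hp' : IsCoveringMap p') (hcomm : ∀ a, p (i a) = j (p' a))
    (hrange : Set.range i = p ⁻¹' (Set.range j)) : IsCoveringMapOn p (Set.range j) := by
  have h1 : IsOpen (p ⁻¹' Set.range j) := by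
    rw [← hrange]
    exact hi.isOpen_range
  refine IsCoveringMapOn.of_isCoveringMap_restrictPreimage _ hj.isOpen_range h1 ?_
  let hi' : E' ≃ₜ p ⁻¹' (Set.range j) :=
    (hi.isEmbedding.toHomeomorph).trans (Homeomorph.setCongr hrange)
  let hj' : B' ≃ₜ Set.range j := hj.isEmbedding.toHomeomorph
  have hval : ∀ a, ((hi' a : p ⁻¹' (Set.range j)) : E) = i a := fun a => rfl
  have hvalj : ∀ b, ((hj' b : Set.range j) : B) = j b := fun b => rfl
  have : (Set.range j).restrictPreimage p = hj' ∘ p' ∘ hi'.symm := by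
    funext z
    obtain ⟨a, rfl⟩ := hi'.surjective z
    simp only [Function.comp_apply, Homeomorph.symm_apply_apply]
    apply Subtype.ext
    change p (hi' a : E) = (hj' (p' a) : B)
    rw [hval, hvalj, hcomm]
  rw [this]
  exact (hp'.comp_homeomorph hi'.symm).homeomorph_comp hj'

lemma finite_fibre_of_chart (hjinj : Function.Injective j) (hcomm : ∀ a, p (i a) = j (p' a))
    (hrange : Set.range i = p ⁻¹' (Set.range j)) (b' : B') (hfin : (p' ⁻¹' {b'}).Finite) :
    (p ⁻¹' {j b'}).Finite := by
  apply (hfin.image i).subset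
  intro e he
  have he' : p e = j b' := he
  have h1 : e ∈ p ⁻¹' (Set.range j) := ⟨b', he'.symm⟩
  rw [← hrange] at h1
  obtain ⟨a, rfl⟩ := h1
  refine ⟨a, ?_, rfl⟩
  apply hjinj
  rw [← hcomm]
  exact he'

end topology

/-- The affine case. -/
theorem isCoveringMap_of_finite_etale_affine {X Y : Scheme.{0}} [X.Over An.SC] [Y.Over An.SC]
    [LocallyOfFiniteType (Y ↘ An.SC)] (g : X ⟶ Y) [g.IsOver An.SC] [IsAffine X] [IsAffine Y]
    [IsFinite g] [Etale g] :
    IsCoveringMap (An.Pts.map g) ∧ ∀ y : An.Pts Y, (An.Pts.map g ⁻¹' {y}).Finite := by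
  have hfin : g.appTop.hom.Finite := IsFinite.finite_app g ⊤ (isAffineOpen_top Y)
  have hint : g.appTop.hom.IsIntegral := hfin.to_isIntegral
  have hprop := isProperMap_map_of_isIntegral g hint
  have hLH := isLocalHomeomorph_map_of_etale g
  haveI := t2Space_of_isAffine X
  have hfib : ∀ y : An.Pts Y, (An.Pts.map g ⁻¹' {y}).Finite := by
    intro y
    refine (hprop.isCompact_preimage isCompact_singleton).finite
      (IsDiscrete.of_openPartialHomeomorph (An.Pts.map g) subset_rfl fun e _ => ?_)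
    obtain ⟨φ, hφ, h⟩ := hLH e
    exact ⟨φ, hφ, h.symm⟩
  refine ⟨?_, hfib⟩
  rw [isCoveringMap_iff_isCoveringMapOn_univ]
  apply hprop.isClosedMap.isCoveringMapOn_of_isLocalHomeomorphOn (fun y _ => hfib y)
  rw [Set.preimage_univ]
  exact hLH.isLocalHomeomorphOn

/-- **Finite étale morphisms induce finite covering maps on ℂ-points.** -/
theorem isCoveringMap_of_finite_etale {X Y : Scheme.{0}} [X.Over An.SC]
    [LocallyOfFiniteType (X ↘ An.SC)] [Y.Over An.SC] [LocallyOfFiniteType (Y ↘ An.SC)]
    (g : X ⟶ Y) [g.IsOver An.SC] [IsFinite g] [Etale g] :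
    IsCoveringMap (An.Pts.map g) ∧ ∀ y : An.Pts Y, (An.Pts.map g ⁻¹' {y}).Finite := by
  have key : ∀ y : An.Pts Y, IsEvenlyCovered (An.Pts.map g) y (An.Pts.map g ⁻¹' {y}) ∧
      (An.Pts.map g ⁻¹' {y}).Finite := by
    intro y
    obtain ⟨V, hV, hyV, -⟩ := exists_isAffineOpen_mem_and_subset (x := y.pt) (U := ⊤) trivial
    set U : X.Opens := g ⁻¹ᵁ V with hUdef
    have hU : IsAffineOpen U := hV.preimage g
    letI : U.toScheme.Over An.SC := ⟨U.ι ≫ X ↘ An.SC⟩
    haveI : U.ι.IsOver An.SC := ⟨rfl⟩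
    haveI : LocallyOfFiniteType (U.toScheme ↘ An.SC) := by
      change LocallyOfFiniteType (U.ι ≫ X ↘ An.SC)
      infer_instance
    letI : V.toScheme.Over An.SC := ⟨V.ι ≫ Y ↘ An.SC⟩
    haveI : V.ι.IsOver An.SC := ⟨rfl⟩
    haveI : LocallyOfFiniteType (V.toScheme ↘ An.SC) := by
      change LocallyOfFiniteType (V.ι ≫ Y ↘ An.SC)
      infer_instance
    haveI : IsAffine U.toScheme := hU
    haveI : IsAffine V.toScheme := hV
    let g' : U.toScheme ⟶ V.toScheme := g ∣_ V
    have hg' : g' ≫ V.ι = U.ι ≫ g := morphismRestrict_ι g V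
    haveI : g'.IsOver An.SC := ⟨by
      change g' ≫ V.ι ≫ (Y ↘ An.SC) = U.ι ≫ (X ↘ An.SC)
      rw [← Category.assoc, hg', Category.assoc, comp_over g]⟩
    haveI : IsFinite g' := by
      change IsFinite (g ∣_ V)
      infer_instance
    haveI : Etale g' := by
      change Etale (g ∣_ V)
      infer_instance
    obtain ⟨hcov', hfin'⟩ := isCoveringMap_of_finite_etale_affine g'
    have hcomm : ∀ a, An.Pts.map g (An.Pts.map U.ι a) = An.Pts.map V.ι (An.Pts.map g' a) := by
      intro a
      apply Subtype.ext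
      change (a.1 ≫ U.ι) ≫ g = (a.1 ≫ g') ≫ V.ι
      rw [Category.assoc, Category.assoc, hg']
    have hrange : Set.range (An.Pts.map U.ι) =
        An.Pts.map g ⁻¹' (Set.range (An.Pts.map V.ι)) := by
      rw [range_map_of_injective U.ι U.ι.isOpenEmbedding.injective,
        range_map_of_injective V.ι V.ι.isOpenEmbedding.injective]
      ext x
      change x.pt ∈ Set.range U.ι.base ↔ (An.Pts.map g x).pt ∈ Set.range V.ι.base
      rw [Scheme.Opens.range_ι, Scheme.Opens.range_ι, An.Pts.pt_map g x]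
      rfl
    have hyr : y ∈ Set.range (An.Pts.map V.ι) := by
      rw [range_map_of_injective V.ι V.ι.isOpenEmbedding.injective]
      change y.pt ∈ Set.range V.ι.base
      rw [Scheme.Opens.range_ι]
      exact hyV
    have hoeU := Groth.Agent.S4196.result _ _ U.ι
    have hoeV := Groth.Agent.S4196.result _ _ V.ι
    refine ⟨isCoveringMapOn_of_chart _ _ _ _ hoeU hoeV hcov' hcomm hrange y hyr, ?_⟩
    obtain ⟨y', rfl⟩ := hyr
    exact finite_fibre_of_chart _ _ _ _ hoeV.injective hcomm hrange y' (hfin' y')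
  exact ⟨fun y => (key y).1, fun y => (key y).2⟩

end Groth.Agent.Lib.Helper63.AnFinite
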