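import Groth.Agent.Lib.Helper63.AnFibre3
import Groth.Agent.Lib.Helper63.AnDense6
import Groth.Agent.S4200
import Mathlib.AlgebraicGeometry.Morphisms.Separated
import Mathlib.AlgebraicGeometry.Morphisms.Immersion
import Mathlib.Topology.SeparatedMap

/-!
# Separatedness can be tested on ℂ-points
-/

set_option autoImplicit false
set_option linter.style.haveILetI false
set_option linter.unusedSectionVars false
set_option linter.unusedVariables false

open AlgebraicGeometry CategoryTheory TopologicalSpace Opposite Topology Limits

namespace Groth.Agent.Lib.Helper63.AnFibre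

open Groth.Agent.Lib.Helper21 Groth.Agent.Lib.Helper63.AnAffine

/-- A locally closed, locally constructible set whose set of ℂ-points is closed is closed. -/
theorem isClosed_of_isClosed_preimage {X : Scheme.{0}} [X.Over An.SC]
    [LocallyOfFiniteType (X ↘ An.SC)] (T : Set X) (hlc : IsLocallyClosed T)
    (hcons : IsLocallyConstructible T) (hcl : IsClosed (An.Pts.pt ⁻¹' T : Set (An.Pts X))) :
    IsClosed T := by
  have h1 := preimage_closure_eq T hcons
  rw [hcl.closure_eq] at h1
  have hF : IsClosed (closure T \ T) := by
    have := hlc.isOpen_coborder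
    rw [coborder] at this
    exact isOpen_compl_iff.1 this
  have hempty : closure T \ T = ∅ := by
    by_contra hne
    obtain ⟨p, hp⟩ := exists_pt_mem X (Set.nonempty_iff_ne_empty.2 hne) hF.isLocallyClosed
    have h2 : p ∈ (An.Pts.pt ⁻¹' closure T : Set (An.Pts X)) := hp.1
    rw [h1] at h2
    exact hp.2 h2
  rw [← closure_subset_iff_isClosed]
  intro z hz
  by_contra hzT
  have : z ∈ closure T \ T := ⟨hz, hzT⟩
  rw [hempty] at this
  exact this

variable {X Y : Scheme.{0}} [X.Over An.SC] [Y.Over An.SC]
  [LocallyOfFiniteType (X ↘ An.SC)] [LocallyOfFiniteType (Y ↘ An.SC)]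
  (f : X ⟶ Y) [f.IsOver An.SC]

instance diagonal_isOver : (pullback.diagonal f).IsOver An.SC := ⟨by
  change pullback.diagonal f ≫ pullback.fst f f ≫ (X ↘ An.SC) = X ↘ An.SC
  rw [pullback.diagonal_fst_assoc]⟩

lemma lft_pullback : LocallyOfFiniteType (pullback f f ↘ An.SC) := by
  haveI : LocallyOfFiniteType f := locallyOfFiniteType_of_over f
  change LocallyOfFiniteType (pullback.fst f f ≫ (X ↘ An.SC))
  infer_instance

lemma Θ_diagonal (x : An.Pts X) :
    Θ f f (An.Pts.map (pullback.diagonal f) x) = toPullbackDiag (An.Pts.map f) x := by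
  apply Subtype.ext
  apply Prod.ext
  · apply Subtype.ext
    change (x.1 ≫ pullback.diagonal f) ≫ pullback.fst f f = x.1
    rw [Category.assoc, pullback.diagonal_fst, Category.comp_id]
  · apply Subtype.ext
    change (x.1 ≫ pullback.diagonal f) ≫ pullback.snd f f = x.1
    rw [Category.assoc, pullback.diagonal_snd, Category.comp_id]

lemma preimage_pullbackDiagonal :
    Θ f f ⁻¹' (An.Pts.map f).pullbackDiagonal = Set.range (An.Pts.map (pullback.diagonal f)) := by
  ext z
  constructor
  · intro hz
    have h1 : (Θ f f z).1.1 = (Θ f f z).1.2 := hz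
    refine ⟨(Θ f f z).1.1, ?_⟩
    apply Θ_injective f f
    rw [Θ_diagonal]
    apply Subtype.ext
    apply Prod.ext
    · rfl
    · exact h1
  · rintro ⟨x, rfl⟩
    rw [Set.mem_preimage, Θ_diagonal]
    rfl

theorem isSeparated_iff : IsSeparated f ↔ IsSeparatedMap (An.Pts.map f) := by
  haveI := lft_pullback f
  have hhomeo : IsHomeomorph (Θ f f) := by
    rw [isHomeomorph_iff_isEmbedding_surjective]
    refine ⟨⟨?_, Θ_injective f f⟩, Θ_surjective f f⟩
    apply Topology.IsInducing.of_comp (continuous_Θ f f) continuous_subtype_val
    exact isInducing_Θ₀ f f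
  rw [isSeparatedMap_iff_isClosed_diagonal]
  constructor
  · intro hsep
    haveI : IsClosedImmersion (pullback.diagonal f) := hsep.isClosedImmersion_diagonal
    have h1 := Groth.Agent.S4200.result _ _ (pullback.diagonal f)
    have h2 : IsClosed (Θ f f ⁻¹' (An.Pts.map f).pullbackDiagonal) := by
      rw [preimage_pullbackDiagonal]
      exact h1.isClosed_range
    have h3 := hhomeo.isClosedMap _ h2
    rwa [Set.image_preimage_eq _ hhomeo.surjective] at h3
  · intro hcl
    have h2 : IsClosed (Set.range (An.Pts.map (pullback.diagonal f))) := by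
      rw [← preimage_pullbackDiagonal]
      exact hcl.preimage hhomeo.continuous
    rw [range_map_eq] at h2
    haveI := isLocallyNoetherian_of_lft (X := X)
    haveI := isLocallyNoetherian_of_lft (X := pullback f f)
    haveI : LocallyOfFiniteType (pullback.diagonal f) :=
      locallyOfFiniteType_of_over (pullback.diagonal f)
    have hcons : IsLocallyConstructible (Set.range (pullback.diagonal f).base) := by
      rw [← Set.image_univ]
      exact (pullback.diagonal f).isLocallyConstructible_image IsLocallyConstructible.univ
    have h3 := isClosed_of_isClosed_preimage _ (pullback.diagonal f).isLocallyClosed_range hcons h2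
    exact ⟨IsClosedImmersion.of_isPreimmersion _ h3⟩

end Groth.Agent.Lib.Helper63.AnFibre
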