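import Groth.Agent.Lib.Helper63.AnFinite2
import Groth.Agent.Lib.Helper63.AnSep
import Mathlib.Topology.LocalAtTarget
import Mathlib.AlgebraicGeometry.Morphisms.QuasiFinite

/-!
# Finite morphisms over ℂ induce proper maps with finite fibres on ℂ-points
-/

set_option autoImplicit false
set_option linter.style.haveILetI false
set_option linter.unusedSectionVars false
set_option linter.unusedVariables false

open AlgebraicGeometry CategoryTheory TopologicalSpace Opposite Topology

namespace Groth.Agent.Lib.Helper63.AnFinite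

open Groth.Agent.Lib.Helper21 Groth.Agent.Lib.Helper63.AnAffine Groth.Agent.Lib.Helper63.AnFibre
  Groth.Agent.Lib.Helper63.AnEtale

section topology

variable {E B E' B' : Type*} [TopologicalSpace E] [TopologicalSpace B] [TopologicalSpace E']
  [TopologicalSpace B'] (p : E → B) (i : E' → E) (j : B' → B) (p' : E' → B')

lemma exists_homeomorph_chart (hi : IsOpenEmbedding i) (hj : IsOpenEmbedding j)
    (hcomm : ∀ a, p (i a) = j (p' a))
    (hrange : Set.range i = p ⁻¹' (Set.range j)) :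
    ∃ (hi' : E' ≃ₜ p ⁻¹' (Set.range j)) (hj' : B' ≃ₜ Set.range j),
      (Set.range j).restrictPreimage p = hj' ∘ p' ∘ hi'.symm ∧
      p' = hj'.symm ∘ (Set.range j).restrictPreimage p ∘ hi' := by
  let hi' : E' ≃ₜ p ⁻¹' (Set.range j) :=
    (hi.isEmbedding.toHomeomorph).trans (Homeomorph.setCongr hrange)
  let hj' : B' ≃ₜ Set.range j := hj.isEmbedding.toHomeomorph
  have hval : ∀ a, ((hi' a : p ⁻¹' (Set.range j)) : E) = i a := fun a => rfl
  have hvalj : ∀ b, ((hj' b : Set.range j) : B) = j b := fun b => rfl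
  have h1 : (Set.range j).restrictPreimage p = hj' ∘ p' ∘ hi'.symm := by
    funext z
    obtain ⟨a, rfl⟩ := hi'.surjective z
    simp only [Function.comp_apply, Homeomorph.symm_apply_apply]
    apply Subtype.ext
    change p (hi' a : E) = (hj' (p' a) : B)
    rw [hval, hvalj, hcomm]
  refine ⟨hi', hj', h1, ?_⟩
  funext a
  rw [h1]
  simp only [Function.comp_apply, Homeomorph.symm_apply_apply]

lemma isProperMap_restrictPreimage_of_chart (hi : IsOpenEmbedding i) (hj : IsOpenEmbedding j)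
    (hcomm : ∀ a, p (i a) = j (p' a))
    (hrange : Set.range i = p ⁻¹' (Set.range j)) (hp' : IsProperMap p') :
    IsProperMap ((Set.range j).restrictPreimage p) := by
  obtain ⟨hi', hj', h1, -⟩ := exists_homeomorph_chart p i j p' hi hj hcomm hrange
  rw [h1]
  exact hj'.isProperMap.comp (hp'.comp hi'.symm.isProperMap)

lemma isProperMap_of_chart (hi : IsOpenEmbedding i) (hj : IsOpenEmbedding j)
    (hcomm : ∀ a, p (i a) = j (p' a))
    (hrange : Set.range i = p ⁻¹' (Set.range j)) (hp : IsProperMap p) :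
    IsProperMap p' := by
  obtain ⟨hi', hj', -, h2⟩ := exists_homeomorph_chart p i j p' hi hj hcomm hrange
  rw [h2]
  exact hj'.symm.isProperMap.comp ((hp.restrictPreimage _).comp hi'.isProperMap)

end topology

section finite

variable {X Y : Scheme.{0}} [X.Over An.SC] [LocallyOfFiniteType (X ↘ An.SC)] [Y.Over An.SC]
  [LocallyOfFiniteType (Y ↘ An.SC)] (f : X ⟶ Y) [f.IsOver An.SC]

/-- Finite fibres on ℂ-points from finite fibres on the schemes. -/
lemma finite_fibre_of_finite_preimage (y : An.Pts Y) (h : (f ⁻¹' {y.pt}).Finite) :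
    (An.Pts.map f ⁻¹' {y}).Finite := by
  have h1 : (An.Pts.pt ⁻¹' (f ⁻¹' {y.pt}) : Set (An.Pts X)).Finite :=
    h.preimage ((pt_injective X).injOn)
  refine h1.subset ?_
  intro x hx
  have hx' : An.Pts.map f x = y := hx
  change f x.pt ∈ ({y.pt} : Set Y)
  rw [Set.mem_singleton_iff, ← hx', An.Pts.pt_map f x]

end finite

section charts

/-- The structure of a ℂ-scheme on an open subscheme. -/
@[reducible] noncomputable def opensOver {X : Scheme.{0}} [X.Over An.SC] (U : X.Opens) :
    U.toScheme.Over An.SC := ⟨U.ι ≫ X ↘ An.SC⟩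

attribute [local instance] opensOver

instance ι_isOver {X : Scheme.{0}} [X.Over An.SC] (U : X.Opens) : U.ι.IsOver An.SC := ⟨rfl⟩

instance lft_opens {X : Scheme.{0}} [X.Over An.SC] [LocallyOfFiniteType (X ↘ An.SC)]
    (U : X.Opens) : LocallyOfFiniteType (U.toScheme ↘ An.SC) := by
  change LocallyOfFiniteType (U.ι ≫ X ↘ An.SC)
  infer_instance

variable {X Y : Scheme.{0}} [X.Over An.SC] [LocallyOfFiniteType (X ↘ An.SC)] [Y.Over An.SC]
  [LocallyOfFiniteType (Y ↘ An.SC)] (f : X ⟶ Y) [f.IsOver An.SC]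

instance restrict_isOver (V : Y.Opens) : (f ∣_ V).IsOver An.SC := ⟨by
  change (f ∣_ V) ≫ V.ι ≫ (Y ↘ An.SC) = (f ⁻¹ᵁ V).ι ≫ (X ↘ An.SC)
  rw [← Category.assoc, morphismRestrict_ι, Category.assoc, comp_over f]⟩

lemma map_comm (V : Y.Opens) (a : An.Pts (f ⁻¹ᵁ V).toScheme) :
    An.Pts.map f (An.Pts.map (f ⁻¹ᵁ V).ι a) = An.Pts.map V.ι (An.Pts.map (f ∣_ V) a) := by
  apply Subtype.ext
  change (a.1 ≫ (f ⁻¹ᵁ V).ι) ≫ f = (a.1 ≫ (f ∣_ V)) ≫ V.ι
  rw [Category.assoc, Category.assoc, morphismRestrict_ι]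

lemma range_map_ι (V : Y.Opens) :
    Set.range (An.Pts.map V.ι) = An.Pts.pt ⁻¹' (V : Set Y) := by
  rw [range_map_of_injective V.ι V.ι.isOpenEmbedding.injective]
  ext x
  change x.pt ∈ Set.range V.ι.base ↔ _
  rw [Scheme.Opens.range_ι]
  rfl

lemma range_map_preimage_ι (V : Y.Opens) :
    Set.range (An.Pts.map (f ⁻¹ᵁ V).ι) = An.Pts.map f ⁻¹' (Set.range (An.Pts.map V.ι)) := by
  rw [range_map_ι, range_map_ι]
  ext x
  change x.pt ∈ ((f ⁻¹ᵁ V : X.Opens) : Set X) ↔ (An.Pts.map f x).pt ∈ (V : Set Y)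
  rw [An.Pts.pt_map f x]
  rfl

lemma isOpenEmbedding_map_ι (U : X.Opens) :
    IsOpenEmbedding (An.Pts.map U.ι) :=
  Groth.Agent.S4196.result _ _ U.ι

end charts



section forward

attribute [local instance] opensOver

variable {X Y : Scheme.{0}} [X.Over An.SC] [LocallyOfFiniteType (X ↘ An.SC)] [Y.Over An.SC]
  [LocallyOfFiniteType (Y ↘ An.SC)] (f : X ⟶ Y) [f.IsOver An.SC]

/-- The open cover of `Y(ℂ)` by the ℂ-points of affine opens. -/
noncomputable def affCover (Y : Scheme.{0}) [Y.Over An.SC] (V : Y.affineOpens) :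
    Opens (An.Pts Y) :=
  ⟨An.Pts.pt ⁻¹' ((V : Y.Opens) : Set Y), (V : Y.Opens).2.preimage An.Pts.continuous_pt⟩

lemma isOpenCover_affCover (Y : Scheme.{0}) [Y.Over An.SC] : IsOpenCover (affCover Y) := by
  apply IsOpenCover.mk
  rw [eq_top_iff]
  intro y _
  obtain ⟨V, hV, hyV, -⟩ := exists_isAffineOpen_mem_and_subset (x := y.pt) (U := ⊤) trivial
  exact Opens.mem_iSup.2 ⟨⟨V, hV⟩, hyV⟩

theorem isProperMap_map_of_isFinite [IsFinite f] : IsProperMap (An.Pts.map f) := by
  rw [isProperMap_iff_isClosedMap_and_compact_fibers]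
  refine ⟨An.Pts.continuous_map f, ?_, fun y => ?_⟩
  · rw [(isOpenCover_affCover Y).isClosedMap_iff_restrictPreimage]
    intro V
    have hr : ((affCover Y V).1 : Set _) = Set.range (An.Pts.map (V : Y.Opens).ι) :=
      (range_map_ι _).symm
    haveI : IsAffine ((V : Y.Opens).toScheme) := V.2
    haveI : IsAffine ((f ⁻¹ᵁ (V : Y.Opens)).toScheme) := (V.2.preimage f)
    have hint : (f ∣_ (V : Y.Opens)).appTop.hom.IsIntegral :=
      (IsFinite.finite_app (f ∣_ (V : Y.Opens)) ⊤ (isAffineOpen_top _)).to_isIntegral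
    have hp' := isProperMap_map_of_isIntegral (f ∣_ (V : Y.Opens)) hint
    have := (isProperMap_restrictPreimage_of_chart _ _ _ _ (isOpenEmbedding_map_ι _)
      (isOpenEmbedding_map_ι _) (map_comm f V) (range_map_preimage_ι f V) hp').isClosedMap
    rw [← hr] at this
    exact this
  · exact (finite_fibre_of_finite_preimage f y (f.finite_preimage_singleton y.pt)).isCompact

end forward

end Groth.Agent.Lib.Helper63.AnFinite
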