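import Groth.Agent.Lib.Helper63.AnFinite3
import Groth.Agent.Lib.Helper63.AnDense5
import Mathlib.AlgebraicGeometry.ZariskisMainTheorem

/-!
# Finite fibres on ℂ-points imply locally quasi-finite
-/

set_option autoImplicit false
set_option linter.style.haveILetI false
set_option linter.unusedSectionVars false
set_option linter.unusedVariables false

open AlgebraicGeometry CategoryTheory TopologicalSpace Opposite Topology

namespace Groth.Agent.Lib.Helper63.AnFinite

open Groth.Agent.Lib.Helper21 Groth.Agent.Lib.Helper63.AnAffine Groth.Agent.Lib.Helper63.AnFibre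
  Groth.Agent.Lib.Helper63.AnEtale Groth.Agent.Lib.Helper63.AnDense

variable {X Y : Scheme.{0}} [X.Over An.SC] [LocallyOfFiniteType (X ↘ An.SC)] [Y.Over An.SC]
  [LocallyOfFiniteType (Y ↘ An.SC)] (f : X ⟶ Y) [f.IsOver An.SC]

theorem locallyQuasiFinite_of_finite_fibres
    (hfib : ∀ y : An.Pts Y, (An.Pts.map f ⁻¹' {y}).Finite) : LocallyQuasiFinite f := by
  haveI : LocallyOfFiniteType f := locallyOfFiniteType_of_over f
  rw [← Scheme.Hom.quasiFiniteLocus_eq_top_iff]
  by_contra hne
  have hZ' : ((f.quasiFiniteLocus : Set X)ᶜ).Nonempty := by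
    rw [Set.nonempty_compl]
    intro h
    apply hne
    ext x
    simp only [h, Set.mem_univ, Opens.coe_top]
  obtain ⟨x₀, hx₀⟩ := exists_pt_mem X hZ' f.quasiFiniteLocus.isOpen.isClosed_compl.isLocallyClosed
  apply hx₀
  rw [SetLike.mem_coe, Scheme.Hom.mem_quasiFiniteLocus,
    Scheme.Hom.quasiFiniteAt_iff_isOpen_singleton_asFiber]
  set y : Y := f x₀.pt with hy
  have hycl : IsClosed ({y} : Set Y) := by
    rw [hy, ← An.Pts.pt_map f x₀]
    exact isClosed_pt Y _
  have hfin : (closedPoints (f.fiber y)).Finite := by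
    let φ : f.fiber y → X := fun z => (f.fiberHomeo y z).1
    have hφ : Function.Injective φ := fun a b h =>
      (f.fiberHomeo y).injective (Subtype.ext h)
    have h1 : (An.Pts.pt '' (An.Pts.map f ⁻¹' {An.Pts.map f x₀})).Finite := (hfib _).image _
    refine (h1.preimage (hφ.injOn)).subset ?_
    intro z hz
    have hz1 : IsClosed ({f.fiberHomeo y z} : Set (f ⁻¹' {y})) := by
      have := (f.fiberHomeo y).isClosedMap _ hz
      rwa [Set.image_singleton] at this
    have hcl : IsClosed (f ⁻¹' {y} : Set X) := hycl.preimage f.continuous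
    have hz2 : IsClosed ({φ z} : Set X) := by
      have := hcl.isClosedEmbedding_subtypeVal.isClosedMap _ hz1
      rwa [Set.image_singleton] at this
    obtain ⟨p, hp⟩ := exists_pt_eq X hz2
    refine ⟨p, ?_, hp⟩
    change An.Pts.map f p = An.Pts.map f x₀
    apply pt_injective Y
    rw [An.Pts.pt_map f p, An.Pts.pt_map f x₀, hp]
    exact (f.fiberHomeo y z).2
  haveI : DiscreteTopology (f.fiber y) := JacobsonSpace.discreteTopology hfin
  exact isOpen_discrete _

end Groth.Agent.Lib.Helper63.AnFinite
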