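import Groth.Agent.Lib.Helper63.AnFinite4
import Mathlib.RingTheory.Jacobson.Ring
import Mathlib.FieldTheory.IsAlgClosed.Basic

/-!
# ℂ-points outside a non-surjective open immersion into an integral affine scheme
-/

set_option autoImplicit false
set_option linter.style.haveILetI false
set_option linter.unusedSectionVars false
set_option linter.unusedVariables false

open AlgebraicGeometry CategoryTheory TopologicalSpace Opposite Topology

namespace Groth.Agent.Lib.Helper63.AnFinite

open Groth.Agent.Lib.Helper21 Groth.Agent.Lib.Helper63.AnAffine Groth.Agent.Lib.Helper63.AnFibre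
  Groth.Agent.Lib.Helper63.AnEtale Groth.Agent.Lib.Helper63.AnDense

lemma exists_ringHom_of_maximal {A B : Type} [CommRing A] [CommRing B] (σA : ℂ →+* A)
    (hσ : σA.FiniteType) (φ : A →+* B) (hφ : φ.IsIntegral) (m : Ideal B) [m.IsMaximal] :
    ∃ χ : B →+* ℂ, (∀ c, χ (φ (σA c)) = c) ∧ ∀ b ∈ m, χ b = 0 := by
  let p : Ideal A := m.comap φ
  haveI : p.IsMaximal := Ideal.isMaximal_comap_of_isIntegral_of_isMaximal' φ hφ m
  letI := Ideal.Quotient.field p
  letI := Ideal.Quotient.field m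
  have h1 : ((Ideal.Quotient.mk p).comp σA).IsIntegral := by
    have hft : ((Ideal.Quotient.mk p).comp σA).FiniteType :=
      (RingHom.FiniteType.of_surjective _ Ideal.Quotient.mk_surjective).comp hσ
    exact (RingHom.finite_iff_finiteType_of_isJacobsonRing.2 hft).to_isIntegral
  have h2 : (Ideal.quotientMap m φ le_rfl).IsIntegral := hφ.quotient
  have h3 : ((Ideal.quotientMap m φ le_rfl).comp ((Ideal.Quotient.mk p).comp σA)).IsIntegral :=
    h1.trans _ _ h2
  have hbij := IsAlgClosed.ringHom_bijective_of_isIntegral _ h3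
  let e := RingEquiv.ofBijective _ hbij
  refine ⟨e.symm.toRingHom.comp (Ideal.Quotient.mk m), ?_, ?_⟩
  · intro c
    change e.symm (Ideal.Quotient.mk m (φ (σA c))) = c
    rw [RingEquiv.symm_apply_eq]
    change _ = Ideal.quotientMap m φ le_rfl (Ideal.Quotient.mk p (σA c))
    rw [Ideal.quotientMap_mk]
  · intro b hb
    change e.symm (Ideal.Quotient.mk m b) = 0
    rw [Ideal.Quotient.eq_zero_iff_mem.2 hb, map_zero]

lemma exists_pt_not_mem_range {X N : Scheme.{0}} [N.Over An.SC] [IsAffine N] (j : X ⟶ N)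
    [IsOpenImmersion j] (hns : ¬ Function.Surjective j)
    (hχ : ∀ m : Ideal Γ(N, ⊤), m.IsMaximal → ∃ χ : Γ(N, ⊤) →+* ℂ,
      (∀ c, χ (An.strHom N c) = c) ∧ ∀ b ∈ m, χ b = 0) :
    ∃ (n' : An.Pts N), n'.pt ∉ Set.range j := by
  let S : Set Γ(N, ⊤) := {b | N.basicOpen b ≤ j.opensRange}
  have hI : Ideal.span S ≠ ⊤ := by
    intro h
    have h1 := iSup_basicOpen_of_span_eq_top (X := N) ⊤ S h
    apply hns
    have hle : (⊤ : N.Opens) ≤ j.opensRange := by
      rw [← h1]
      exact iSup₂_le fun b hb => hb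
    intro n
    exact hle (show n ∈ (⊤ : N.Opens) from trivial)
  obtain ⟨m, hm, hle⟩ := Ideal.exists_le_maximal _ hI
  obtain ⟨χ, hχ1, hχ2⟩ := hχ m hm
  obtain ⟨n', hn'⟩ := exists_pt_of_ringHom χ hχ1
  refine ⟨n', fun hmem => ?_⟩
  have hmem' : n'.pt ∈ j.opensRange := hmem
  obtain ⟨b, hb1, hb2⟩ := (isAffineOpen_top N).exists_basicOpen_le ⟨n'.pt, hmem'⟩ trivial
  have hbS : b ∈ S := hb1
  have hbm : b ∈ m := hle (Ideal.subset_span hbS)
  have h0 : n'.evTop b = 0 := by rw [hn', hχ2 b hbm]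
  exact (mem_basicOpen_iff n' b).1 hb2 h0

end Groth.Agent.Lib.Helper63.AnFinite
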