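import Groth.Agent.Lib.Helper63.AnAffine
import Groth.Agent.S4183
import Groth.Prelude.Def_AnHol
import Mathlib.Analysis.Calculus.FDeriv.Mul
import Mathlib.Analysis.Calculus.FDeriv.Pi
import Mathlib.Analysis.Calculus.FDeriv.Pow
import Mathlib.Analysis.Calculus.Deriv.Inv

/-!
# Holomorphic functions on the ℂ-points of affine space
-/

set_option autoImplicit false
set_option linter.style.haveILetI false
set_option linter.unusedSectionVars false
set_option linter.unusedVariables false

open AlgebraicGeometry CategoryTheory TopologicalSpace Opposite Topology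

namespace Groth.Agent.Lib.Helper63.AnHol

open Groth.Agent.Lib.Helper21 Groth.Agent.Lib.Helper63.AnAffine

variable (n : ℕ)

/-- The coordinate map. -/
noncomputable def c : An.Pts (𝔸(Fin n; An.SC)) → (Fin n → ℂ) :=
  fun x i => x.evTop (AffineSpace.coord An.SC i)

lemma isHomeomorph_c : IsHomeomorph (c n) := Groth.Agent.S4183.result n

lemma coords_bijective : Function.Bijective (MvPolynomial.eval₂Hom
    (An.strHom (𝔸(Fin n; An.SC))) (AffineSpace.coord An.SC)) := by
  classical
  let R : CommRingCat.{0} := CommRingCat.of ℂ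
  have hiso : IsIso ((AffineSpace.SpecIso (Fin n) R).hom.appTop) := by
    have e1 : (AffineSpace.SpecIso (Fin n) R).hom.appTop ≫
        (AffineSpace.SpecIso (Fin n) R).inv.appTop = 𝟙 _ := by
      rw [← Scheme.Hom.comp_appTop, Iso.inv_hom_id]
      rfl
    have e2 : (AffineSpace.SpecIso (Fin n) R).inv.appTop ≫
        (AffineSpace.SpecIso (Fin n) R).hom.appTop = 𝟙 _ := by
      rw [← Scheme.Hom.comp_appTop, Iso.hom_inv_id]
      rfl
    exact ⟨_, e1, e2⟩
  have h1 := AffineSpace.SpecIso_hom_appTop (n := Fin n) R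
  have hiso2 : IsIso (CommRingCat.ofHom (MvPolynomial.eval₂Hom
      ((Scheme.ΓSpecIso R).inv ≫ (𝔸(Fin n; Spec R) ↘ Spec R).appTop).hom
      (AffineSpace.coord (Spec R)))) := by
    have h2 : CommRingCat.ofHom (MvPolynomial.eval₂Hom
      ((Scheme.ΓSpecIso R).inv ≫ (𝔸(Fin n; Spec R) ↘ Spec R).appTop).hom
      (AffineSpace.coord (Spec R))) = (Scheme.ΓSpecIso _).inv ≫
        (AffineSpace.SpecIso (Fin n) R).hom.appTop := by
      rw [h1, Iso.inv_hom_id_assoc]
    rw [h2]
    infer_instance
  have := (ConcreteCategory.isIso_iff_bijective _).1 hiso2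
  exact this

lemma evTop_eq_eval (t : Γ(𝔸(Fin n; An.SC), ⊤)) :
    ∃ p : MvPolynomial (Fin n) ℂ, ∀ x : An.Pts (𝔸(Fin n; An.SC)),
      x.evTop t = MvPolynomial.eval (c n x) p := by
  obtain ⟨p, rfl⟩ := (coords_bijective n).2 t
  exact ⟨p, fun x => evTop_eval₂Hom _ x p⟩

lemma differentiable_eval (p : MvPolynomial (Fin n) ℂ) :
    Differentiable ℂ (fun v : Fin n → ℂ => MvPolynomial.eval v p) := by
  induction p using MvPolynomial.induction_on with
  | C a =>
    simp only [MvPolynomial.eval_C]
    exact differentiable_const a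
  | add p q hp hq =>
    simp only [map_add]
    exact hp.add hq
  | mul_X p i hp =>
    simp only [map_mul, MvPolynomial.eval_X]
    exact hp.mul (differentiable_apply i)

end Groth.Agent.Lib.Helper63.AnHol
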