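import Groth.Agent.Lib.Helper63.AnFinite5
import Groth.Agent.Lib.Helper63.AnHol1

/-!
# Density of ℂ-points for dominant morphisms to (possibly non-finite-type) affine schemes
-/

set_option autoImplicit false
set_option linter.style.haveILetI false
set_option linter.unusedSectionVars false
set_option linter.unusedVariables false

open AlgebraicGeometry CategoryTheory TopologicalSpace Opposite Topology

namespace Groth.Agent.Lib.Helper63.AnFinite

open Groth.Agent.Lib.Helper21 Groth.Agent.Lib.Helper63.AnAffine Groth.Agent.Lib.Helper63.AnFibre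
  Groth.Agent.Lib.Helper63.AnEtale Groth.Agent.Lib.Helper63.AnDense

theorem denseRange_map_of_isDominant {X N : Scheme.{0}} [X.Over An.SC]
    [LocallyOfFiniteType (X ↘ An.SC)] [N.Over An.SC] [IsAffine N] (j : X ⟶ N) [j.IsOver An.SC]
    [IsDominant j] [QuasiCompact j] : DenseRange (An.Pts.map j) := by
  intro n'
  rw [(isInducing_evTop (X := N)).closure_eq_preimage_closure_image]
  change (fun s => n'.evTop s) ∈ closure _
  rw [mem_closure_iff_nhds]
  intro t ht
  rw [nhds_pi, Filter.mem_pi] at ht
  obtain ⟨I, hI, tt, htt, hsub⟩ := ht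
  obtain ⟨r, v, hv⟩ := hI.fin_embedding
  have key : ∃ x : An.Pts X, ∀ i : Fin r, (An.Pts.map j x).evTop (v i) ∈ tt (v i) := by
    let g : N ⟶ 𝔸(Fin r; An.SC) := AffineSpace.homOfVector (N ↘ An.SC) (fun i => v i)
    let h : X ⟶ 𝔸(Fin r; An.SC) := j ≫ g
    haveI : g.IsOver An.SC := inferInstance
    haveI : h.IsOver An.SC := inferInstance
    haveI : QuasiCompact g := inferInstance
    haveI : QuasiCompact h := inferInstance
    haveI := isLocallyNoetherian_of_lft (X := 𝔸(Fin r; An.SC))
    haveI : LocallyOfFiniteType h := locallyOfFiniteType_of_over h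
    have hT : IsLocallyConstructible (Set.range h.base) := by
      rw [← Set.image_univ]
      exact h.isLocallyConstructible_image IsLocallyConstructible.univ
    have hcl := preimage_closure_eq (Set.range h.base) hT
    set c₀ : An.Pts (𝔸(Fin r; An.SC)) := An.Pts.map g n' with hc₀
    have hc₀mem : c₀ ∈ closure (Set.range (An.Pts.map h)) := by
      rw [range_map_eq h, ← hcl]
      change c₀.pt ∈ closure (Set.range h.base)
      rw [hc₀, An.Pts.pt_map g n']
      have hrange : Set.range h.base = g.base '' (Set.range j.base) := by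
        rw [← Set.range_comp]
        rfl
      rw [hrange]
      apply image_closure_subset_closure_image g.continuous
      refine ⟨n'.pt, ?_, rfl⟩
      rw [j.denseRange.closure_range]
      trivial
    let O : Set (An.Pts (𝔸(Fin r; An.SC))) :=
      ⋂ i : Fin r, {q | q.evTop (AffineSpace.coord An.SC i) ∈ tt (v i)}
    have hO : O ∈ 𝓝 c₀ := by
      apply Filter.iInter_mem.2
      intro i
      apply (continuous_evTop (AffineSpace.coord An.SC i)).continuousAt
      change tt (v i) ∈ 𝓝 ((An.Pts.map g n').evTop (AffineSpace.coord An.SC i))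
      rw [evTop_map g n', AffineSpace.homOfVector_appTop_coord]
      exact htt (v i)
    obtain ⟨q, hqO, x, rfl⟩ := mem_closure_iff_nhds.1 hc₀mem O hO
    refine ⟨x, fun i => ?_⟩
    have hi := Set.mem_iInter.1 hqO i
    have e : An.Pts.map h x = An.Pts.map g (An.Pts.map j x) := by
      apply Subtype.ext
      exact (Category.assoc _ _ _).symm
    change (An.Pts.map h x).evTop (AffineSpace.coord An.SC i) ∈ tt (v i) at hi
    rw [e, evTop_map g, AffineSpace.homOfVector_appTop_coord] at hi
    exact hi
  obtain ⟨x, hx⟩ := key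
  refine ⟨fun s => (An.Pts.map j x).evTop s, hsub ?_, ⟨An.Pts.map j x, ⟨x, rfl⟩, rfl⟩⟩
  intro b hb
  rw [← hv] at hb
  obtain ⟨i, rfl⟩ := hb
  exact hx i

end Groth.Agent.Lib.Helper63.AnFinite
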