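import Groth.Agent.Lib.Helper63.AnFinite6
import Groth.Agent.Lib.Helper63.AnDense3

/-!
# Proper + finite fibres on ℂ-points implies finite (affine target)
-/

set_option autoImplicit false
set_option linter.style.haveILetI false
set_option linter.unusedSectionVars false
set_option linter.unusedVariables false

open AlgebraicGeometry CategoryTheory TopologicalSpace Opposite Topology Filter

namespace Groth.Agent.Lib.Helper63.AnFinite

open Groth.Agent.Lib.Helper21 Groth.Agent.Lib.Helper63.AnAffine Groth.Agent.Lib.Helper63.AnFibre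
  Groth.Agent.Lib.Helper63.AnEtale Groth.Agent.Lib.Helper63.AnDense

theorem surjective_of_isProperMap {X N Y : Scheme.{0}} [X.Over An.SC]
    [LocallyOfFiniteType (X ↘ An.SC)] [N.Over An.SC] [IsAffine N] [Y.Over An.SC]
    (j : X ⟶ N) [j.IsOver An.SC] [IsOpenImmersion j] [IsDominant j] [QuasiCompact j]
    (π : N ⟶ Y) [π.IsOver An.SC]
    (hprop : IsProperMap (fun x => An.Pts.map π (An.Pts.map j x)))
    (hχ : ∀ m : Ideal Γ(N, ⊤), m.IsMaximal → ∃ χ : Γ(N, ⊤) →+* ℂ,
      (∀ c, χ (An.strHom N c) = c) ∧ ∀ b ∈ m, χ b = 0) :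
    Function.Surjective j := by
  by_contra hns
  obtain ⟨n', hn'⟩ := exists_pt_not_mem_range j hns hχ
  have hd := denseRange_map_of_isDominant j
  haveI : (Filter.comap (An.Pts.map j) (𝓝 n')).NeBot :=
    Filter.comap_neBot_iff_frequently.2 (mem_closure_iff_frequently.1 (hd n'))
  let 𝒰 : Ultrafilter (An.Pts X) := Ultrafilter.of (Filter.comap (An.Pts.map j) (𝓝 n'))
  have h𝒰 : Tendsto (An.Pts.map j) 𝒰 (𝓝 n') :=
    Filter.tendsto_iff_comap.2 (Ultrafilter.of_le _)
  have h2 : Tendsto (fun x => An.Pts.map π (An.Pts.map j x)) 𝒰 (𝓝 (An.Pts.map π n')) :=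
    ((An.Pts.continuous_map π).tendsto n').comp h𝒰
  obtain ⟨x, hx1, hx2⟩ := (isProperMap_iff_ultrafilter.1 hprop).2 h2
  have h3 : Tendsto (An.Pts.map j) 𝒰 (𝓝 (An.Pts.map j x)) :=
    ((An.Pts.continuous_map j).tendsto x).mono_left hx2
  haveI : T2Space (An.Pts N) := t2Space_of_isAffine N
  have heq : An.Pts.map j x = n' := tendsto_nhds_unique h3 h𝒰
  apply hn'
  rw [← heq, An.Pts.pt_map j x]
  exact ⟨x.pt, rfl⟩

theorem isFinite_of_isProperMap_affine {X Y : Scheme.{0}} [X.Over An.SC]
    [LocallyOfFiniteType (X ↘ An.SC)] [Y.Over An.SC] [LocallyOfFiniteType (Y ↘ An.SC)]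
    (f : X ⟶ Y) [f.IsOver An.SC] [IsAffine Y] [QuasiCompact f] [IsSeparated f]
    [LocallyQuasiFinite f] (hprop : IsProperMap (An.Pts.map f)) : IsFinite f := by
  haveI : LocallyOfFiniteType f := locallyOfFiniteType_of_over f
  have hjπ : f.toNormalization ≫ f.fromNormalization = f := f.toNormalization_fromNormalization
  letI : f.normalization.Over An.SC := ⟨f.fromNormalization ≫ Y ↘ An.SC⟩
  haveI : f.fromNormalization.IsOver An.SC := ⟨rfl⟩
  haveI : f.toNormalization.IsOver An.SC := ⟨by
    change f.toNormalization ≫ f.fromNormalization ≫ (Y ↘ An.SC) = X ↘ An.SC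
    rw [← Category.assoc, hjπ, comp_over f]⟩
  haveI : IsAffine f.normalization := isAffine_of_isAffineHom f.fromNormalization
  have hπint : f.fromNormalization.appTop.hom.IsIntegral :=
    IsIntegralHom.isIntegral_app f.fromNormalization ⊤ (isAffineOpen_top Y)
  have hχ : ∀ m : Ideal Γ(f.normalization, ⊤), m.IsMaximal →
      ∃ χ : Γ(f.normalization, ⊤) →+* ℂ,
        (∀ c, χ (An.strHom f.normalization c) = c) ∧ ∀ b ∈ m, χ b = 0 := by
    intro m hm
    haveI := hm
    obtain ⟨χ, h1, h2⟩ := exists_ringHom_of_maximal (An.strHom Y) (finiteType_top (X := Y))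
      f.fromNormalization.appTop.hom hπint m
    refine ⟨χ, fun c => ?_, h2⟩
    rw [strHom_eq f.fromNormalization]
    exact h1 c
  have hcomp : (fun x => An.Pts.map f.fromNormalization (An.Pts.map f.toNormalization x)) =
      An.Pts.map f := by
    funext x
    apply Subtype.ext
    change (x.1 ≫ f.toNormalization) ≫ f.fromNormalization = x.1 ≫ f
    rw [Category.assoc, hjπ]
  have hsurj : Function.Surjective f.toNormalization :=
    surjective_of_isProperMap f.toNormalization f.fromNormalization (by rw [hcomp]; exact hprop) hχ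
  haveI : Surjective f.toNormalization := ⟨hsurj⟩
  haveI : IsIso f.toNormalization :=
    (isIso_iff_isOpenImmersion_and_surjective _).mpr ⟨inferInstance, inferInstance⟩
  refine (IsFinite.iff_isIntegralHom_and_locallyOfFiniteType _).mpr ⟨?_, inferInstance⟩
  rw [← hjπ]
  infer_instance

end Groth.Agent.Lib.Helper63.AnFinite
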