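import Groth.Agent.Lib.Helper63.AnFinite7

/-!
# Proper + separated + finite fibres on ℂ-points implies finite
-/

set_option autoImplicit false
set_option linter.style.haveILetI false
set_option linter.unusedSectionVars false
set_option linter.unusedVariables false

open AlgebraicGeometry CategoryTheory TopologicalSpace Opposite Topology Filter

namespace Groth.Agent.Lib.Helper63.AnFinite

open Groth.Agent.Lib.Helper21 Groth.Agent.Lib.Helper63.AnAffine Groth.Agent.Lib.Helper63.AnFibre
  Groth.Agent.Lib.Helper63.AnEtale Groth.Agent.Lib.Helper63.AnDense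

attribute [local instance] opensOver

theorem isFinite_of_isProperMap {X Y : Scheme.{0}} [X.Over An.SC]
    [LocallyOfFiniteType (X ↘ An.SC)] [Y.Over An.SC] [LocallyOfFiniteType (Y ↘ An.SC)]
    (f : X ⟶ Y) [f.IsOver An.SC] [QuasiCompact f] (hprop : IsProperMap (An.Pts.map f))
    (hsep : IsSeparatedMap (An.Pts.map f))
    (hfib : ∀ y : An.Pts Y, (An.Pts.map f ⁻¹' {y}).Finite) : IsFinite f := by
  haveI : IsSeparated f := (AnFibre.isSeparated_iff f).2 hsep
  haveI : LocallyQuasiFinite f := locallyQuasiFinite_of_finite_fibres f hfib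
  rw [IsZariskiLocalAtTarget.iff_of_iSup_eq_top (P := @IsFinite)
    (fun V : Y.affineOpens => (V : Y.Opens)) (iSup_affineOpens_eq_top Y)]
  intro V
  haveI : IsAffine ((V : Y.Opens).toScheme) := V.2
  exact isFinite_of_isProperMap_affine (f ∣_ (V : Y.Opens))
    (isProperMap_of_chart _ _ _ _ (isOpenEmbedding_map_ι _) (isOpenEmbedding_map_ι _)
      (map_comm f V) (range_map_preimage_ι f V) hprop)

theorem isFinite_iff_pts {X Y : Scheme.{0}} [X.Over An.SC]
    [LocallyOfFiniteType (X ↘ An.SC)] [Y.Over An.SC] [LocallyOfFiniteType (Y ↘ An.SC)]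
    (f : X ⟶ Y) [f.IsOver An.SC] [QuasiCompact f] :
    IsFinite f ↔ IsProperMap (An.Pts.map f) ∧ IsSeparatedMap (An.Pts.map f) ∧
      ∀ y : An.Pts Y, (An.Pts.map f ⁻¹' {y}).Finite := by
  constructor
  · intro hfin
    haveI := hfin
    exact ⟨isProperMap_map_of_isFinite f, (AnFibre.isSeparated_iff f).1 inferInstance,
      fun y => finite_fibre_of_finite_preimage f y (f.finite_preimage_singleton y.pt)⟩
  · rintro ⟨hprop, hsep, hfib⟩
    exact isFinite_of_isProperMap f hprop hsep hfib

end Groth.Agent.Lib.Helper63.AnFinite
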