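import Groth.Agent.Lib.Helper63.AnHol1

/-!
# Holomorphic functions on the ℂ-points of affine space are the differentiable functions of the
coordinates
-/

set_option autoImplicit false
set_option linter.style.haveILetI false
set_option linter.unusedSectionVars false
set_option linter.unusedVariables false

open AlgebraicGeometry CategoryTheory TopologicalSpace Opposite Topology

namespace Groth.Agent.Lib.Helper63.AnHol

open Groth.Agent.Lib.Helper21 Groth.Agent.Lib.Helper63.AnAffine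

variable {n : ℕ}

/-- `f : V → ℂ` is, near `x₀`, a differentiable function of the coordinates. -/
def HolAt {V : Opens (An.Pts (𝔸(Fin n; An.SC)))} (f : V → ℂ)
    (x₀ : An.Pts (𝔸(Fin n; An.SC))) : Prop :=
  ∃ F : (Fin n → ℂ) → ℂ, DifferentiableAt ℂ F (c n x₀) ∧
    ∃ N : Set (An.Pts (𝔸(Fin n; An.SC))), IsOpen N ∧ x₀ ∈ N ∧
      ∀ y : V, y.1 ∈ N → f y = F (c n y.1)

lemma HolAt.add {V : Opens (An.Pts (𝔸(Fin n; An.SC)))} {f g : V → ℂ}
    {x₀ : An.Pts (𝔸(Fin n; An.SC))} (hf : HolAt f x₀) (hg : HolAt g x₀) : HolAt (f + g) x₀ := by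
  obtain ⟨F, hF, N, hN, hxN, hfF⟩ := hf
  obtain ⟨G, hG, M, hM, hxM, hgG⟩ := hg
  exact ⟨F + G, hF.add hG, N ∩ M, hN.inter hM, ⟨hxN, hxM⟩, fun y hy => by
    change f y + g y = F _ + G _
    rw [hfF y hy.1, hgG y hy.2]⟩

lemma HolAt.mul {V : Opens (An.Pts (𝔸(Fin n; An.SC)))} {f g : V → ℂ}
    {x₀ : An.Pts (𝔸(Fin n; An.SC))} (hf : HolAt f x₀) (hg : HolAt g x₀) : HolAt (f * g) x₀ := by
  obtain ⟨F, hF, N, hN, hxN, hfF⟩ := hf
  obtain ⟨G, hG, M, hM, hxM, hgG⟩ := hg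
  exact ⟨F * G, hF.mul hG, N ∩ M, hN.inter hM, ⟨hxN, hxM⟩, fun y hy => by
    change f y * g y = F _ * G _
    rw [hfF y hy.1, hgG y hy.2]⟩

lemma HolAt.const (V : Opens (An.Pts (𝔸(Fin n; An.SC)))) (a : ℂ)
    (x₀ : An.Pts (𝔸(Fin n; An.SC))) : HolAt (algebraMap ℂ (V → ℂ) a) x₀ :=
  ⟨fun _ => a, differentiableAt_const a, Set.univ, isOpen_univ, trivial, fun y _ => rfl⟩

lemma sec_holAt (W : (𝔸(Fin n; An.SC)).Opens) (s : Γ(𝔸(Fin n; An.SC), W))
    (x₀ : An.Pts (𝔸(Fin n; An.SC))) (hx₀ : x₀.pt ∈ W) :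
    ∃ F : (Fin n → ℂ) → ℂ, DifferentiableAt ℂ F (c n x₀) ∧
      ∃ N : Set (An.Pts (𝔸(Fin n; An.SC))), IsOpen N ∧ x₀ ∈ N ∧
        ∀ y ∈ N, ∀ hy : y.pt ∈ W, y.ev W hy s = F (c n y) := by
  obtain ⟨g₀, h₀, m, hx, hfrac⟩ := exists_local_fraction x₀ W hx₀ s
  obtain ⟨Pg, hPg⟩ := evTop_eq_eval n g₀
  obtain ⟨Ph, hPh⟩ := evTop_eq_eval n h₀
  refine ⟨fun z => MvPolynomial.eval z Ph / (MvPolynomial.eval z Pg) ^ m, ?_,
    {y | y.evTop g₀ ≠ 0}, ?_, hx, ?_⟩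
  · have h1 : DifferentiableAt ℂ (fun z : Fin n → ℂ => MvPolynomial.eval z Ph) (c n x₀) :=
      (differentiable_eval n Ph).differentiableAt
    have h2 : DifferentiableAt ℂ (fun z : Fin n → ℂ => (MvPolynomial.eval z Pg) ^ m) (c n x₀) :=
      ((differentiable_eval n Pg).differentiableAt).fun_pow m
    have hne : (MvPolynomial.eval (c n x₀) Pg) ^ m ≠ 0 := by
      rw [← hPg]
      exact pow_ne_zero m hx
    have h3 : DifferentiableAt ℂ (fun z : Fin n → ℂ => ((MvPolynomial.eval z Pg) ^ m)⁻¹) (c n x₀) :=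
      h2.fun_inv hne
    have h4 := h1.fun_mul h3
    refine h4.congr_of_eventuallyEq (Filter.Eventually.of_forall fun z => ?_)
    exact div_eq_mul_inv _ _
  · exact isOpen_ne_fun (continuous_evTop g₀) continuous_const
  · intro y hy hyW
    obtain ⟨hyU, he⟩ := hfrac y hy
    change y.ev W hyW s = MvPolynomial.eval (c n y) Ph / (MvPolynomial.eval (c n y) Pg) ^ m
    rw [← hPg, ← hPh, eq_div_iff (pow_ne_zero m hy)]
    exact he

lemma holAt_of_isChartFun {V : Opens (An.Pts (𝔸(Fin n; An.SC)))} (f : V → ℂ)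
    (hf : An.IsChartFun V f) (x₀ : V) : HolAt f x₀.1 := by
  obtain ⟨W, hW, k, s, D, G, hD, hG, hval⟩ := hf
  choose F hF N hN hxN hNF using fun i => sec_holAt W (s i) x₀.1 (hW x₀)
  refine ⟨fun z => G (fun i => F i z), ?_, ⋂ i, N i, isOpen_iInter_of_finite hN,
    Set.mem_iInter.2 hxN, ?_⟩
  · have hval0 := hval x₀
    have heq : (fun i => F i (c n x₀.1)) = fun i => An.Pts.ev x₀.1 W (hW x₀) (s i) :=
      funext fun i => (hNF i x₀.1 (hxN i) (hW x₀)).symm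
    have hGd : DifferentiableAt ℂ G (fun i => F i (c n x₀.1)) := by
      rw [heq]
      exact (hG _ hval0.1).differentiableAt (hD.mem_nhds hval0.1)
    exact DifferentiableAt.comp (c n x₀.1) hGd (differentiableAt_pi.2 fun i => hF i)
  · intro y hy
    rw [(hval y).2]
    congr 1
    funext i
    exact hNF i y.1 (Set.mem_iInter.1 hy i) (hW y)

lemma holAt_of_mem_chartAlg {V : Opens (An.Pts (𝔸(Fin n; An.SC)))} (f : V → ℂ)
    (hf : f ∈ An.chartAlg V) (x₀ : V) : HolAt f x₀.1 := by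
  unfold An.chartAlg at hf
  induction hf using Algebra.adjoin_induction with
  | mem f hf => exact holAt_of_isChartFun f hf x₀
  | algebraMap a => exact HolAt.const V a x₀.1
  | add f g _ _ hf hg => exact hf.add hg
  | mul f g _ _ hf hg => exact hf.mul hg

lemma holAt_of_holPred {U : Opens (An.Pts (𝔸(Fin n; An.SC)))} (g : U → ℂ)
    (hg : (An.holPred (𝔸(Fin n; An.SC))).pred g) (x₀ : U) : HolAt g x₀.1 := by
  obtain ⟨V, hxV, i, hV⟩ := hg x₀
  have hVU : ∀ x : An.Pts (𝔸(Fin n; An.SC)), x ∈ V → x ∈ U := fun x hx => i.le hx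
  let V' : Opens (An.Pts (𝔸(Fin n; An.SC))) := V
  have hV' : (fun x : V' => g ⟨x.1, hVU x.1 x.2⟩) ∈ An.chartAlg V' := hV
  have h1 := holAt_of_mem_chartAlg (V := V') (fun x : V' => g ⟨x.1, hVU x.1 x.2⟩) hV' ⟨x₀.1, hxV⟩
  obtain ⟨F, hF, N, hN, hxN, hNF⟩ := h1
  refine ⟨F, hF, N ∩ (V' : Set (An.Pts (𝔸(Fin n; An.SC)))), hN.inter V'.2, ⟨hxN, hxV⟩,
    fun y hy => ?_⟩
  exact hNF ⟨y.1, hy.2⟩ hy.1

theorem holPred_iff (U : Opens (An.Pts (𝔸(Fin n; An.SC)))) (g : U → ℂ) :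
    (An.holPred (𝔸(Fin n; An.SC))).pred g ↔
      ∃ G : (Fin n → ℂ) → ℂ, DifferentiableOn ℂ G (c n '' (U : Set (An.Pts (𝔸(Fin n; An.SC))))) ∧
        ∀ x : U, g x = G (c n x.1) := by
  constructor
  · intro hg
    classical
    let e : An.Pts (𝔸(Fin n; An.SC)) ≃ₜ (Fin n → ℂ) := (isHomeomorph_c n).homeomorph (c n)
    have he : ∀ x, e x = c n x := fun x => rfl
    let G : (Fin n → ℂ) → ℂ := fun z => if h : e.symm z ∈ U then g ⟨e.symm z, h⟩ else 0
    have hG : ∀ x : U, g x = G (c n x.1) := by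
      intro x
      have h1 : e.symm (c n x.1) = x.1 := e.symm_apply_apply x.1
      have h2 : e.symm (c n x.1) ∈ U := by
        rw [h1]
        exact x.2
      change g x = dite _ _ _
      rw [dif_pos h2]
      congr 1
      exact Subtype.ext h1.symm
    refine ⟨G, ?_, hG⟩
    rintro z ⟨x, hxU, rfl⟩
    obtain ⟨F, hF, N, hN, hxN, hNF⟩ := holAt_of_holPred g hg ⟨x, hxU⟩
    apply DifferentiableAt.differentiableWithinAt
    apply hF.congr_of_eventuallyEq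
    have hopen : IsOpen (c n '' (N ∩ U)) := (isHomeomorph_c n).isOpenMap _ (hN.inter U.2)
    filter_upwards [hopen.mem_nhds ⟨x, ⟨hxN, hxU⟩, rfl⟩] with z hz
    obtain ⟨y, ⟨hyN, hyU⟩, rfl⟩ := hz
    rw [← hG ⟨y, hyU⟩]
    exact hNF ⟨y, hyU⟩ hyN
  · rintro ⟨G, hGd, hG⟩
    apply An.holPred_of_chartAlg
    apply Algebra.subset_adjoin
    exact ⟨⊤, fun _ => trivial, n, AffineSpace.coord An.SC,
      c n '' (U : Set (An.Pts (𝔸(Fin n; An.SC)))), G,
      (isHomeomorph_c n).isOpenMap _ U.2, hGd, fun x => ⟨⟨x.1, x.2, rfl⟩, hG x⟩⟩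

end Groth.Agent.Lib.Helper63.AnHol
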