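import Groth.Agent.Lib.Helper63.AnFinite8
import Groth.Agent.Lib.Helper39.UCFT

/-!
# Proper on ℂ-points implies universally closed (helper63)
-/

set_option autoImplicit false
set_option linter.style.haveILetI false
set_option linter.unusedSectionVars false
set_option linter.unusedVariables false

open AlgebraicGeometry CategoryTheory TopologicalSpace Opposite Topology Filter Limits

namespace Groth.Agent.Lib.Helper63.AnProper

open Groth.Agent.Lib.Helper21 Groth.Agent.Lib.Helper63.AnAffine Groth.Agent.Lib.Helper63.AnFibre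
  Groth.Agent.Lib.Helper63.AnDense Groth.Agent.Lib.Helper63.AnFinite

attribute [local instance] opensOver

lemma isLocallyConstructible_compl {α : Type*} [TopologicalSpace α] {s : Set α}
    (hs : IsLocallyConstructible s) : IsLocallyConstructible sᶜ := by
  intro x
  obtain ⟨U, hU, hUo, hc⟩ := hs x
  refine ⟨U, hU, hUo, ?_⟩
  have := hc.compl
  rwa [← Set.preimage_compl] at this

lemma isLocallyConstructible_of_isOpen {X : Scheme.{0}} [X.Over An.SC]
    [LocallyOfFiniteType (X ↘ An.SC)] (U : Set X) (hU : IsOpen U) : IsLocallyConstructible U := by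
  refine IsLocallyConstructible.of_isOpenCover (U := fun V : X.affineOpens => (V : X.Opens))
    (iSup_affineOpens_eq_top X) fun V => ?_
  haveI : IsAffine (V : X.Opens).toScheme := V.2
  haveI : NoetherianSpace ↥((V : X.Opens) : Set X) :=
    noetherianSpace_of_affine (X := (V : X.Opens).toScheme)
  exact IsRetrocompact.isLocallyConstructible (hU.preimage continuous_subtype_val)
    (fun K _ _ => NoetherianSpace.isCompact _)

/-- A quasi-compact morphism which is closed on ℂ-points is closed. -/
theorem isClosedMap_of_isClosedMap_pts {X T : Scheme.{0}} [X.Over An.SC]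
    [LocallyOfFiniteType (X ↘ An.SC)] [T.Over An.SC] [LocallyOfFiniteType (T ↘ An.SC)]
    (p : X ⟶ T) [p.IsOver An.SC] [QuasiCompact p] (h : IsClosedMap (An.Pts.map p)) :
    IsClosedMap p.base := by
  intro Z hZ
  haveI := isLocallyNoetherian_of_lft (X := T)
  haveI : LocallyOfFiniteType p := locallyOfFiniteType_of_over p
  have hZc : IsLocallyConstructible Z := by
    have := isLocallyConstructible_compl (isLocallyConstructible_of_isOpen Zᶜ hZ.isOpen_compl)
    rwa [compl_compl] at this
  have hC : IsLocallyConstructible (p.base '' Z) := p.isLocallyConstructible_image hZc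
  have hpre : (An.Pts.pt ⁻¹' (p.base '' Z) : Set (An.Pts T)) =
      An.Pts.map p '' (An.Pts.pt ⁻¹' Z) := by
    ext y
    constructor
    · rintro ⟨x₀, hx₀Z, hx₀⟩
      haveI := jacobsonSpace_of_lft X
      have hcl : IsClosed (p.base ⁻¹' {y.pt} ∩ Z) :=
        ((isClosed_pt T y).preimage p.continuous).inter hZ
      have hne : (p.base ⁻¹' {y.pt} ∩ Z).Nonempty := ⟨x₀, hx₀, hx₀Z⟩
      obtain ⟨x₁, ⟨hx₁, hx₁Z⟩, hx₁c⟩ := nonempty_inter_closedPoints hne hcl.isLocallyClosed
      obtain ⟨q, rfl⟩ := exists_pt_eq X hx₁c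
      refine ⟨q, hx₁Z, ?_⟩
      apply pt_injective T
      rw [An.Pts.pt_map]
      exact hx₁
    · rintro ⟨q, hq, rfl⟩
      exact ⟨q.pt, hq, (An.Pts.pt_map p q).symm⟩
  have hclosed : IsClosed (An.Pts.pt ⁻¹' (p.base '' Z) : Set (An.Pts T)) := by
    rw [hpre]
    exact h _ (hZ.preimage An.Pts.continuous_pt)
  have hopen : IsOpen (p.base '' Z)ᶜ := by
    rw [isOpen_iff_isOpen_preimage _ (isLocallyConstructible_compl hC), Set.preimage_compl]
    exact hclosed.isOpen_compl
  exact isOpen_compl_iff.mp hopen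

variable {X Y T : Scheme.{0}} [X.Over An.SC] [Y.Over An.SC] [T.Over An.SC]
  [LocallyOfFiniteType (X ↘ An.SC)] [LocallyOfFiniteType (Y ↘ An.SC)]
  [LocallyOfFiniteType (T ↘ An.SC)]

lemma lft_pullback' (f : X ⟶ Y) (g : T ⟶ Y) [f.IsOver An.SC] [g.IsOver An.SC] :
    LocallyOfFiniteType (pullback f g ↘ An.SC) := by
  haveI : LocallyOfFiniteType g := locallyOfFiniteType_of_over g
  change LocallyOfFiniteType (pullback.fst f g ≫ (X ↘ An.SC))
  infer_instance

/-- The base change of a map which is proper on ℂ-points is closed on ℂ-points. -/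
theorem isClosedMap_map_snd (f : X ⟶ Y) (g : T ⟶ Y) [f.IsOver An.SC] [g.IsOver An.SC]
    (h : IsProperMap (An.Pts.map f)) : IsClosedMap (An.Pts.map (pullback.snd f g)) := by
  intro A hA
  obtain ⟨B, hB, rfl⟩ := (isInducing_Θ₀ f g).isClosed_iff.mp hA
  have hF : IsClosedMap (Prod.map (An.Pts.map f) id : An.Pts X × An.Pts T → An.Pts Y × An.Pts T) :=
    h.universally_closed _
  have hγ : Continuous (fun t : An.Pts T => (An.Pts.map g t, t)) :=
    (An.Pts.continuous_map g).prodMk continuous_id
  have : An.Pts.map (pullback.snd f g) '' (Θ₀ f g ⁻¹' B) =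
      (fun t : An.Pts T => (An.Pts.map g t, t)) ⁻¹'
        (Prod.map (An.Pts.map f) id '' B) := by
    ext t
    constructor
    · rintro ⟨z, hz, rfl⟩
      refine ⟨Θ₀ f g z, hz, ?_⟩
      change (An.Pts.map f (An.Pts.map (pullback.fst f g) z), An.Pts.map (pullback.snd f g) z) = _
      rw [An.Pts.map_pullback_condition]
    · rintro ⟨⟨x, t'⟩, hxt, hEq⟩
      have h1 : An.Pts.map f x = An.Pts.map g t := congrArg Prod.fst hEq
      have h2 : t' = t := congrArg Prod.snd hEq
      subst h2
      obtain ⟨z, hz⟩ := Θ_surjective f g ⟨(x, t'), h1⟩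
      have hz' : Θ₀ f g z = (x, t') := congrArg Subtype.val hz
      refine ⟨z, ?_, ?_⟩
      · change Θ₀ f g z ∈ B
        rw [hz']
        exact hxt
      · exact congrArg Prod.snd hz'
  rw [this]
  exact (hF B hB).preimage hγ

/-- A quasi-compact morphism of ℂ-schemes locally of finite type which is proper on ℂ-points is
universally closed. -/
theorem universallyClosed_of_isProperMap (f : X ⟶ Y) [f.IsOver An.SC] [QuasiCompact f]
    (h : IsProperMap (An.Pts.map f)) : UniversallyClosed f := by
  apply Groth.Agent.Lib.Helper39.UCFT.universallyClosed_of_closed_finiteType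
  intro T g hg
  letI : T.Over An.SC := ⟨g ≫ (Y ↘ An.SC)⟩
  haveI : g.IsOver An.SC := ⟨rfl⟩
  haveI : LocallyOfFiniteType (T ↘ An.SC) := by
    change LocallyOfFiniteType (g ≫ (Y ↘ An.SC))
    infer_instance
  haveI := lft_pullback' f g
  exact isClosedMap_of_isClosedMap_pts (pullback.snd f g) (isClosedMap_map_snd f g h)

end Groth.Agent.Lib.Helper63.AnProper
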