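import Groth.Agent.Lib.Helper63.AnUltra3
import Groth.Agent.Lib.Helper63.AnProper1

/-!
# Proper morphisms of ℂ-schemes are exactly the morphisms proper and separated on ℂ-points
(helper63)
-/

set_option autoImplicit false
set_option linter.style.haveILetI false
set_option linter.unusedSectionVars false
set_option linter.unusedVariables false

open AlgebraicGeometry CategoryTheory TopologicalSpace Opposite Topology Filter

namespace Groth.Agent.Lib.Helper63.AnProper

open Groth.Agent.Lib.Helper21 Groth.Agent.Lib.Helper63.AnAffine Groth.Agent.Lib.Helper63.AnFibre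
  Groth.Agent.Lib.Helper63.AnFinite Groth.Agent.Lib.Helper63.AnUltra

attribute [local instance] opensOver

variable {X Y : Scheme.{0}} [X.Over An.SC] [LocallyOfFiniteType (X ↘ An.SC)] [Y.Over An.SC]
  [LocallyOfFiniteType (Y ↘ An.SC)] (f : X ⟶ Y) [f.IsOver An.SC]

/-- A proper morphism is proper on ℂ-points. -/
theorem isProperMap_of_isProper [IsProper f] : IsProperMap (An.Pts.map f) := by
  rw [isProperMap_iff_isClosedMap_and_compact_fibers]
  have key : ∀ V : Y.affineOpens, IsProperMap
      ((Set.range (An.Pts.map (V : Y.Opens).ι)).restrictPreimage (An.Pts.map f)) := by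
    intro V
    haveI : IsAffine ((V : Y.Opens).toScheme) := V.2
    haveI : IsProper (f ∣_ (V : Y.Opens)) := inferInstance
    have hp' := isProperMap_of_isProper_affine (f ∣_ (V : Y.Opens))
    exact isProperMap_restrictPreimage_of_chart _ _ _ _ (isOpenEmbedding_map_ι _)
      (isOpenEmbedding_map_ι _) (map_comm f V) (range_map_preimage_ι f V) hp'
  refine ⟨An.Pts.continuous_map f, ?_, fun y => ?_⟩
  · rw [(isOpenCover_affCover Y).isClosedMap_iff_restrictPreimage]
    intro V
    have hr : ((affCover Y V).1 : Set _) = Set.range (An.Pts.map (V : Y.Opens).ι) :=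
      (range_map_ι _).symm
    have := (key V).isClosedMap
    rw [← hr] at this
    exact this
  · obtain ⟨V, hV, hyV, -⟩ := exists_isAffineOpen_mem_and_subset (x := y.pt) (U := ⊤) trivial
    have hy : y ∈ Set.range (An.Pts.map V.ι) := by rw [range_map_ι]; exact hyV
    have hc := (key ⟨V, hV⟩).isCompact_preimage
      (isCompact_singleton (x := (⟨y, hy⟩ : Set.range (An.Pts.map V.ι))))
    have : An.Pts.map f ⁻¹' {y} = Subtype.val ''
        ((Set.range (An.Pts.map V.ι)).restrictPreimage (An.Pts.map f) ⁻¹' {⟨y, hy⟩}) := by
      ext x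
      constructor
      · intro hx
        have hx' : An.Pts.map f x = y := hx
        refine ⟨⟨x, ?_⟩, ?_, rfl⟩
        · change An.Pts.map f x ∈ Set.range (An.Pts.map V.ι)
          rw [hx']; exact hy
        · apply Subtype.ext
          exact hx'
      · rintro ⟨⟨x, hx⟩, hx', rfl⟩
        exact congrArg Subtype.val hx'
    rw [this]
    exact hc.image continuous_subtype_val

/-- **Properness on ℂ-points.** -/
theorem isProper_iff_pts [QuasiCompact f] :
    IsProper f ↔ IsProperMap (An.Pts.map f) ∧ IsSeparatedMap (An.Pts.map f) := by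
  constructor
  · intro h
    exact ⟨isProperMap_of_isProper f, (AnFibre.isSeparated_iff f).mp inferInstance⟩
  · rintro ⟨hp, hs⟩
    haveI : IsSeparated f := (AnFibre.isSeparated_iff f).mpr hs
    haveI : UniversallyClosed f := universallyClosed_of_isProperMap f hp
    haveI : LocallyOfFiniteType f := locallyOfFiniteType_of_over f
    exact {}

end Groth.Agent.Lib.Helper63.AnProper
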