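import Mathlib

/-!
# Ultrapower of ℂ, its valuation ring of bounded elements, and the standard part (helper63)
-/

set_option autoImplicit false

open Filter Topology

namespace Groth.Agent.Lib.Helper63.AnUltra

variable {I : Type} (𝒱 : Ultrafilter I)

/-- The ultrapower field of `ℂ`. -/
abbrev KK : Type := (𝒱 : Filter I).Germ ℂ

noncomputable instance instFieldKK : Field (KK 𝒱) := Filter.Germ.instField

/-- Bounded germs. -/
def IsBdd (x : KK 𝒱) : Prop := ∃ M : ℝ, Germ.LiftPred (fun c : ℂ => ‖c‖ ≤ M) x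

lemma isBdd_coe (a : I → ℂ) : IsBdd 𝒱 (↑a : KK 𝒱) ↔ ∃ M : ℝ, ∀ᶠ i in (𝒱 : Filter I), ‖a i‖ ≤ M :=
  Iff.rfl

lemma exists_rep (x : KK 𝒱) : ∃ a : I → ℂ, x = (↑a : KK 𝒱) :=
  Germ.inductionOn x fun a => ⟨a, rfl⟩

/-- The valuation subring of bounded germs. -/
noncomputable def OO : ValuationSubring (KK 𝒱) where
  carrier := {x | IsBdd 𝒱 x}
  mul_mem' := by
    intro x y hx hy
    obtain ⟨a, rfl⟩ := exists_rep 𝒱 x
    obtain ⟨b, rfl⟩ := exists_rep 𝒱 y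
    obtain ⟨M, hM⟩ := hx
    obtain ⟨N, hN⟩ := hy
    refine ⟨M * N, ?_⟩
    rw [← Germ.coe_mul, Germ.liftPred_coe]
    rw [Germ.liftPred_coe] at hM hN
    filter_upwards [hM, hN] with i h1 h2
    rw [Pi.mul_apply, norm_mul]
    exact mul_le_mul h1 h2 (norm_nonneg _) ((norm_nonneg _).trans h1)
  one_mem' := by
    refine ⟨1, ?_⟩
    rw [← Germ.coe_one, Germ.liftPred_coe]
    exact Eventually.of_forall fun i => by simp
  add_mem' := by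
    intro x y hx hy
    obtain ⟨a, rfl⟩ := exists_rep 𝒱 x
    obtain ⟨b, rfl⟩ := exists_rep 𝒱 y
    obtain ⟨M, hM⟩ := hx
    obtain ⟨N, hN⟩ := hy
    refine ⟨M + N, ?_⟩
    rw [← Germ.coe_add, Germ.liftPred_coe]
    rw [Germ.liftPred_coe] at hM hN
    filter_upwards [hM, hN] with i h1 h2
    rw [Pi.add_apply]
    exact (norm_add_le _ _).trans (add_le_add h1 h2)
  zero_mem' := by
    refine ⟨0, ?_⟩
    rw [← Germ.coe_zero, Germ.liftPred_coe]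
    exact Eventually.of_forall fun i => by simp
  neg_mem' := by
    intro x hx
    obtain ⟨a, rfl⟩ := exists_rep 𝒱 x
    obtain ⟨M, hM⟩ := hx
    refine ⟨M, ?_⟩
    rw [← Germ.coe_neg, Germ.liftPred_coe]
    rw [Germ.liftPred_coe] at hM
    filter_upwards [hM] with i h1
    rwa [Pi.neg_apply, norm_neg]
  mem_or_inv_mem' := by
    intro x
    obtain ⟨a, rfl⟩ := exists_rep 𝒱 x
    rcases 𝒱.em (fun i => ‖a i‖ ≤ 1) with h | h
    · exact Or.inl ⟨1, by rw [Germ.liftPred_coe]; exact h⟩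
    · refine Or.inr ⟨1, ?_⟩
      rw [← Germ.coe_inv, Germ.liftPred_coe]
      filter_upwards [h] with i hi
      rw [Pi.inv_apply, norm_inv]
      have : 1 < ‖a i‖ := not_le.mp hi
      exact inv_le_one_of_one_le₀ this.le

lemma mem_OO (x : KK 𝒱) : x ∈ OO 𝒱 ↔ IsBdd 𝒱 x := Iff.rfl

lemma exists_lim (x : OO 𝒱) : ∃ c : ℂ, Germ.Tendsto (x : KK 𝒱) (𝓝 c) := by
  obtain ⟨x, hx⟩ := x
  obtain ⟨a, rfl⟩ := exists_rep 𝒱 x
  obtain ⟨M, hM⟩ := hx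
  rw [Germ.liftPred_coe] at hM
  have hcpt : IsCompact (Metric.closedBall (0 : ℂ) M) := isCompact_closedBall 0 M
  have hle : ((𝒱.map a : Ultrafilter ℂ) : Filter ℂ) ≤ 𝓟 (Metric.closedBall (0 : ℂ) M) := by
    rw [le_principal_iff, Ultrafilter.coe_map, mem_map]
    filter_upwards [hM] with i hi
    simpa [Metric.mem_closedBall, dist_zero_right] using hi
  obtain ⟨c, -, hc⟩ := hcpt.ultrafilter_le_nhds (𝒱.map a) hle
  refine ⟨c, ?_⟩
  show Germ.Tendsto (↑a : KK 𝒱) (𝓝 c)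
  rw [Germ.coe_tendsto]
  exact hc

/-- The standard part. -/
noncomputable def st (x : OO 𝒱) : ℂ := Classical.choose (exists_lim 𝒱 x)

lemma st_spec (x : OO 𝒱) : Germ.Tendsto (x : KK 𝒱) (𝓝 (st 𝒱 x)) :=
  Classical.choose_spec (exists_lim 𝒱 x)

lemma tendsto_st (x : OO 𝒱) (a : I → ℂ) (h : (x : KK 𝒱) = (↑a : KK 𝒱)) :
    Tendsto a (𝒱 : Filter I) (𝓝 (st 𝒱 x)) := by
  have := st_spec 𝒱 x
  rw [h, Germ.coe_tendsto] at this
  exact this

lemma st_eq (x : OO 𝒱) (a : I → ℂ) (h : (x : KK 𝒱) = (↑a : KK 𝒱)) (c : ℂ)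
    (hc : Tendsto a (𝒱 : Filter I) (𝓝 c)) : st 𝒱 x = c :=
  tendsto_nhds_unique (tendsto_st 𝒱 x a h) hc

/-- The standard part as a ring homomorphism. -/
noncomputable def stHom : OO 𝒱 →+* ℂ where
  toFun := st 𝒱
  map_one' := by
    refine st_eq 𝒱 1 (fun _ => 1) ?_ 1 tendsto_const_nhds
    rfl
  map_mul' := by
    intro x y
    obtain ⟨a, ha⟩ := exists_rep 𝒱 (x : KK 𝒱)
    obtain ⟨b, hb⟩ := exists_rep 𝒱 (y : KK 𝒱)
    refine st_eq 𝒱 (x * y) (a * b) ?_ _ ((tendsto_st 𝒱 x a ha).mul (tendsto_st 𝒱 y b hb))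
    show (x : KK 𝒱) * (y : KK 𝒱) = _
    rw [ha, hb, Germ.coe_mul]
  map_zero' := by
    refine st_eq 𝒱 0 (fun _ => 0) ?_ 0 tendsto_const_nhds
    rfl
  map_add' := by
    intro x y
    obtain ⟨a, ha⟩ := exists_rep 𝒱 (x : KK 𝒱)
    obtain ⟨b, hb⟩ := exists_rep 𝒱 (y : KK 𝒱)
    refine st_eq 𝒱 (x + y) (a + b) ?_ _ ((tendsto_st 𝒱 x a ha).add (tendsto_st 𝒱 y b hb))
    show (x : KK 𝒱) + (y : KK 𝒱) = _
    rw [ha, hb, Germ.coe_add]

lemma stHom_apply (x : OO 𝒱) : stHom 𝒱 x = st 𝒱 x := rfl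

/-- A function that is eventually bounded gives an element of `OO`. -/
lemma coe_mem_of_tendsto (a : I → ℂ) (c : ℂ) (hc : Tendsto a (𝒱 : Filter I) (𝓝 c)) :
    (↑a : KK 𝒱) ∈ OO 𝒱 := by
  refine ⟨‖c‖ + 1, ?_⟩
  rw [Germ.liftPred_coe]
  have : ∀ᶠ i in (𝒱 : Filter I), a i ∈ Metric.ball c 1 := hc (Metric.ball_mem_nhds c one_pos)
  filter_upwards [this] with i hi
  have h1 : ‖a i - c‖ < 1 := by simpa [Metric.mem_ball, dist_eq_norm] using hi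
  calc ‖a i‖ = ‖c + (a i - c)‖ := by ring_nf
    _ ≤ ‖c‖ + ‖a i - c‖ := norm_add_le _ _
    _ ≤ ‖c‖ + 1 := by linarith

lemma stHom_coe (a : I → ℂ) (h : (↑a : KK 𝒱) ∈ OO 𝒱) (c : ℂ)
    (hc : Tendsto a (𝒱 : Filter I) (𝓝 c)) : stHom 𝒱 ⟨↑a, h⟩ = c :=
  st_eq 𝒱 ⟨↑a, h⟩ a rfl c hc

lemma stHom_surjective : Function.Surjective (stHom 𝒱) := by
  intro c
  exact ⟨⟨↑(fun _ : I => c), coe_mem_of_tendsto 𝒱 _ c tendsto_const_nhds⟩,
    stHom_coe 𝒱 _ _ c tendsto_const_nhds⟩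

lemma ker_stHom : RingHom.ker (stHom 𝒱) = IsLocalRing.maximalIdeal (OO 𝒱) := by
  haveI : (RingHom.ker (stHom 𝒱)).IsMaximal :=
    RingHom.ker_isMaximal_of_surjective _ (stHom_surjective 𝒱)
  exact IsLocalRing.eq_maximalIdeal inferInstance

end Groth.Agent.Lib.Helper63.AnUltra
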