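import Groth.Agent.Lib.Helper63.AnUltra1
import Groth.Agent.Lib.Helper63.AnFinite8

/-!
# Ultrapower points of affine ℂ-schemes (helper63)
-/

set_option autoImplicit false
set_option linter.style.haveILetI false
set_option linter.unusedSectionVars false
set_option linter.unusedVariables false

open AlgebraicGeometry CategoryTheory TopologicalSpace Opposite Topology Filter

namespace Groth.Agent.Lib.Helper63.AnUltra

open Groth.Agent.Lib.Helper21 Groth.Agent.Lib.Helper63.AnAffine Groth.Agent.Lib.Helper63.AnFibre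

variable {I : Type} (𝒱 : Ultrafilter I)
variable {W : Scheme.{0}} [W.Over An.SC]

/-- The ring map `Γ(W) → ℂ^*` of a family of ℂ-points. -/
noncomputable def phi (s : I → An.Pts W) : Γ(W, ⊤) →+* KK 𝒱 :=
  (Germ.coeRingHom (𝒱 : Filter I)).comp
    (RingHom.pi fun i => evHom (s i) ⊤ (Opens.mem_top _))

lemma phi_apply (s : I → An.Pts W) (a : Γ(W, ⊤)) :
    phi 𝒱 s a = (↑(fun i => (s i).evTop a) : KK 𝒱) := rfl

lemma phi_congr (s s' : I → An.Pts W) (h : s =ᶠ[(𝒱 : Filter I)] s') : phi 𝒱 s = phi 𝒱 s' := by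
  ext a
  rw [phi_apply, phi_apply, Germ.coe_eq]
  filter_upwards [h] with i hi
  rw [hi]

lemma phi_map {W' : Scheme.{0}} [W'.Over An.SC] (g : W ⟶ W') [g.IsOver An.SC]
    (s : I → An.Pts W) :
    phi 𝒱 (fun i => An.Pts.map g (s i)) = (phi 𝒱 s).comp g.appTop.hom := by
  ext b
  rw [phi_apply, RingHom.comp_apply, phi_apply, Germ.coe_eq]
  exact Eventually.of_forall fun i => evTop_map g (s i) b

/-- The ultrapower point of an affine scheme. -/
noncomputable def eta [IsAffine W] (s : I → An.Pts W) : Spec (CommRingCat.of (KK 𝒱)) ⟶ W :=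
  Spec.map (CommRingCat.ofHom (phi 𝒱 s)) ≫ W.isoSpec.inv

lemma eta_congr [IsAffine W] (s s' : I → An.Pts W) (h : s =ᶠ[(𝒱 : Filter I)] s') :
    eta 𝒱 s = eta 𝒱 s' := by
  unfold eta
  rw [phi_congr 𝒱 s s' h]

lemma eta_comp [IsAffine W] {W' : Scheme.{0}} [W'.Over An.SC] [IsAffine W'] (g : W ⟶ W')
    [g.IsOver An.SC] (s : I → An.Pts W) :
    eta 𝒱 s ≫ g = eta 𝒱 (fun i => An.Pts.map g (s i)) := by
  unfold eta
  rw [Category.assoc, ← Scheme.isoSpec_inv_naturality, ← Category.assoc, ← Spec.map_comp, phi_map]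
  rfl

lemma isoSpec_inv_appTop [IsAffine W] :
    W.isoSpec.inv.appTop = (Scheme.ΓSpecIso Γ(W, ⊤)).inv := by
  have h1 : W.toSpecΓ.appTop ≫ W.isoSpec.inv.appTop = 𝟙 _ := by
    rw [← Scheme.Hom.comp_appTop, Scheme.isoSpec_inv_toSpecΓ]
    rfl
  rw [Scheme.toSpecΓ_appTop] at h1
  exact (Iso.hom_comp_eq_id _).1 h1

/-- A morphism from `Spec R` to an affine scheme is determined by its ring map. -/
lemma specMap_appTop_isoSpec [IsAffine W] {R : CommRingCat.{0}} (φ : Γ(W, ⊤) ⟶ R) :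
    (Spec.map φ ≫ W.isoSpec.inv).appTop ≫ (Scheme.ΓSpecIso R).hom = φ := by
  change (W.isoSpec.inv.appTop ≫ (Spec.map φ).appTop) ≫ _ = _
  rw [isoSpec_inv_appTop, Category.assoc, Scheme.ΓSpecIso_naturality, Iso.inv_hom_id_assoc]

lemma eq_specMap_isoSpec [IsAffine W] {R : CommRingCat.{0}} (l : Spec R ⟶ W) :
    l = Spec.map (l.appTop ≫ (Scheme.ΓSpecIso R).hom) ≫ W.isoSpec.inv := by
  rw [Spec.map_comp, Category.assoc, Scheme.isoSpec_inv_naturality, ← Category.assoc,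
    ← Scheme.isoSpec_Spec_hom, Iso.hom_inv_id, Category.id_comp]

lemma eta_appTop [IsAffine W] (s : I → An.Pts W) :
    (eta 𝒱 s).appTop ≫ (Scheme.ΓSpecIso (CommRingCat.of (KK 𝒱))).hom =
      CommRingCat.ofHom (phi 𝒱 s) :=
  specMap_appTop_isoSpec _

/-- Łoś for opens: if the ultrapower point lies in an open, so do almost all the points. -/
lemma eventually_mem_of_eta_mem [IsAffine W] (s : I → An.Pts W) (V : W.Opens)
    (z : ↥(Spec (CommRingCat.of (KK 𝒱)))) (hz : (eta 𝒱 s) z ∈ V) :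
    ∀ᶠ i in (𝒱 : Filter I), (s i).pt ∈ V := by
  obtain ⟨_, ⟨h, rfl⟩, hzh, hle⟩ := Opens.isBasis_iff_nbhd.mp (isBasis_basicOpen W) hz
  have hne : phi 𝒱 s h ≠ 0 := by
    intro h0
    have h1 : (eta 𝒱 s).appTop h = 0 := by
      have h2 := ConcreteCategory.congr_hom (eta_appTop 𝒱 s) h
      have h3 : (Scheme.ΓSpecIso (CommRingCat.of (KK 𝒱))).hom ((eta 𝒱 s).appTop h) = 0 := by
        rw [← h0]; exact h2
      have := congrArg (Scheme.ΓSpecIso (CommRingCat.of (KK 𝒱))).inv h3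
      rwa [Iso.hom_inv_id_apply, map_zero] at this
    have hmem : z ∈ (eta 𝒱 s) ⁻¹ᵁ W.basicOpen h := hzh
    rw [Scheme.preimage_basicOpen_top, h1, Scheme.basicOpen_zero] at hmem
    exact hmem
  rw [phi_apply] at hne
  have hne' : ¬ ∀ᶠ i in (𝒱 : Filter I), (s i).evTop h = 0 := by
    intro hev
    apply hne
    rw [← Germ.coe_zero, Germ.coe_eq]
    exact hev
  have := (Ultrafilter.eventually_not).mpr hne'
  filter_upwards [this] with i hi
  exact hle ((mem_basicOpen_iff (s i) h).mpr hi)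

end Groth.Agent.Lib.Helper63.AnUltra
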