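import Groth.Agent.Lib.Helper63.AnUltra2

/-!
# Proper morphisms are proper on ℂ-points: affine target (helper63)
-/

set_option autoImplicit false
set_option linter.style.haveILetI false
set_option linter.unusedSectionVars false
set_option linter.unusedVariables false

open AlgebraicGeometry CategoryTheory TopologicalSpace Opposite Topology Filter

namespace Groth.Agent.Lib.Helper63.AnUltra

open Groth.Agent.Lib.Helper21 Groth.Agent.Lib.Helper63.AnAffine Groth.Agent.Lib.Helper63.AnFibre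
  Groth.Agent.Lib.Helper63.AnFinite

attribute [local instance] opensOver

section aux

variable {X : Scheme.{0}} [X.Over An.SC]

/-- A chart section: a map `X(ℂ) → U(ℂ)` which is almost everywhere inverse to the inclusion. -/
lemma exists_chart_section [LocallyOfFiniteType (X ↘ An.SC)] (𝒰 : Ultrafilter (An.Pts X)) (U : X.Opens)
    (hU : (An.Pts.pt ⁻¹' (U : Set X) : Set (An.Pts X)) ∈ 𝒰) :
    ∃ s : An.Pts X → An.Pts U.toScheme,
      ∀ᶠ q in (𝒰 : Filter (An.Pts X)), An.Pts.map U.ι (s q) = q := by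
  have hr : Set.range (An.Pts.map U.ι) = An.Pts.pt ⁻¹' (U : Set X) := range_map_ι (Y := X) U
  obtain ⟨q₀, hq₀⟩ := 𝒰.nonempty_of_mem hU
  rw [← hr] at hq₀
  obtain ⟨u₀, -⟩ := hq₀
  haveI : Nonempty (An.Pts U.toScheme) := ⟨u₀⟩
  refine ⟨Function.invFun (An.Pts.map U.ι), ?_⟩
  filter_upwards [hU] with q hq
  rw [← hr] at hq
  exact Function.invFun_eq hq

lemma isoSpec_inv_over [IsAffine X] :
    X.isoSpec.inv ≫ (X ↘ An.SC) = Spec.map (CommRingCat.ofHom (An.strHom X)) := by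
  rw [← Scheme.isoSpec_inv_naturality, Scheme.isoSpec_Spec_inv, ← Spec.map_comp]
  rfl

lemma specMap_stHom_cpt {I : Type} (𝒱 : Ultrafilter I) :
    (Spec.map (CommRingCat.ofHom (stHom 𝒱))) An.cpt = IsLocalRing.closedPoint (OO 𝒱) := by
  apply PrimeSpectrum.ext
  change Ideal.comap (stHom 𝒱) (An.cpt : PrimeSpectrum ℂ).asIdeal = _
  have h0 : (An.cpt : PrimeSpectrum ℂ).asIdeal = ⊥ := by
    have : (An.cpt : PrimeSpectrum ℂ).asIdeal.IsPrime := (An.cpt : PrimeSpectrum ℂ).2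
    rcases Ideal.eq_bot_or_top (An.cpt : PrimeSpectrum ℂ).asIdeal with h | h
    · exact h
    · exact absurd h this.ne_top
  rw [h0]
  exact ker_stHom 𝒱

lemma range_subset_of_closedPoint_mem {R : Type} [CommRing R] [IsLocalRing R]
    (l : Spec (CommRingCat.of R) ⟶ X) (U : X.Opens)
    (h : l (IsLocalRing.closedPoint R) ∈ U) : Set.range l ⊆ (U : Set X) := by
  rintro _ ⟨z, rfl⟩
  have hz : z ⤳ IsLocalRing.closedPoint R := IsLocalRing.specializes_closedPoint z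
  exact (hz.map l.continuous).mem_open U.2 h

lemma evTop_of_val_eq {R : Type} [CommRing R] (st : R →+* ℂ) (l : Spec (CommRingCat.of R) ⟶ X)
    (x : An.Pts X) (hx : x.1 = Spec.map (CommRingCat.ofHom st) ≫ l) (a : Γ(X, ⊤)) :
    x.evTop a = st ((Scheme.ΓSpecIso (CommRingCat.of R)).hom (l.appTop a)) := by
  rw [evTop_eq, hx]
  change (Scheme.ΓSpecIso (CommRingCat.of ℂ)).hom
    ((l.appTop ≫ (Spec.map (CommRingCat.ofHom st)).appTop) a) = _
  have := ConcreteCategory.congr_hom (Scheme.ΓSpecIso_naturality (CommRingCat.ofHom st))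
    (l.appTop a)
  exact this

end aux

section main

variable {X Y : Scheme.{0}} [X.Over An.SC] [Y.Over An.SC]
  [LocallyOfFiniteType (X ↘ An.SC)] [LocallyOfFiniteType (Y ↘ An.SC)]

instance homOfLE_isOver {U V : X.Opens} (e : U ≤ V) : (X.homOfLE e).IsOver An.SC := ⟨by
  change X.homOfLE e ≫ V.ι ≫ (X ↘ An.SC) = U.ι ≫ (X ↘ An.SC)
  rw [← Category.assoc, Scheme.homOfLE_ι]⟩

/-- Two chart sections are compatible almost everywhere. -/
lemma chart_compat (𝒰 : Ultrafilter (An.Pts X)) {U V : X.Opens} (e : U ≤ V)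
    (sU : An.Pts X → An.Pts U.toScheme) (sV : An.Pts X → An.Pts V.toScheme)
    (hU : ∀ᶠ q in (𝒰 : Filter (An.Pts X)), An.Pts.map U.ι (sU q) = q)
    (hV : ∀ᶠ q in (𝒰 : Filter (An.Pts X)), An.Pts.map V.ι (sV q) = q) :
    (fun q => An.Pts.map (X.homOfLE e) (sU q)) =ᶠ[(𝒰 : Filter (An.Pts X))] sV := by
  filter_upwards [hU, hV] with q h1 h2
  apply (isOpenEmbedding_map_ι V).injective
  rw [h2, ← An.Pts.map_comp]
  have : An.Pts.map (X.homOfLE e ≫ V.ι) (sU q) = An.Pts.map U.ι (sU q) := by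
    apply Subtype.ext
    change (sU q).1 ≫ X.homOfLE e ≫ V.ι = (sU q).1 ≫ U.ι
    rw [Scheme.homOfLE_ι]
  rw [this, h1]

theorem exists_lim_of_isProper_affine (f : X ⟶ Y) [f.IsOver An.SC] [IsAffine Y] [IsProper f]
    (𝒰 : Ultrafilter (An.Pts X)) (y₀ : An.Pts Y)
    (hy : Tendsto (An.Pts.map f) (𝒰 : Filter (An.Pts X)) (𝓝 y₀)) :
    ∃ x, An.Pts.map f x = y₀ ∧ (𝒰 : Filter (An.Pts X)) ≤ 𝓝 x := by
  classical
  -- Step 2: a chart containing the ultrafilter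
  haveI : CompactSpace X := QuasiCompact.compactSpace_of_compactSpace f
  obtain ⟨W, hW, hWU⟩ : ∃ W : X.Opens, IsAffineOpen W ∧
      (An.Pts.pt ⁻¹' (W : Set X) : Set (An.Pts X)) ∈ 𝒰 := by
    have hcov : (Set.univ : Set X) ⊆ ⋃ V : X.affineOpens, ((V : X.Opens) : Set X) := by
      intro x _
      have : x ∈ (⨆ i : X.affineOpens, (i : X.Opens)) := by
        rw [iSup_affineOpens_eq_top]; trivial
      simpa [Opens.mem_iSup] using this
    obtain ⟨t, ht⟩ := isCompact_univ.elim_finite_subcover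
      (fun V : X.affineOpens => ((V : X.Opens) : Set X)) (fun V => (V : X.Opens).2) hcov
    have hmem : (⋃ V ∈ (t : Set X.affineOpens), (An.Pts.pt ⁻¹' ((V : X.Opens) : Set X) :
        Set (An.Pts X))) ∈ 𝒰 := by
      refine Filter.mem_of_superset Filter.univ_mem ?_
      intro q _
      have := ht (Set.mem_univ q.pt)
      simp only [Set.mem_iUnion] at this ⊢
      obtain ⟨V, hV, hq⟩ := this
      exact ⟨V, hV, hq⟩
    rw [Ultrafilter.finite_biUnion_mem_iff t.finite_toSet] at hmem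
    obtain ⟨V, -, hV⟩ := hmem
    exact ⟨V, V.2, hV⟩
  haveI : IsAffine W.toScheme := hW
  obtain ⟨sW, hsW⟩ := exists_chart_section 𝒰 W hWU
  -- Step 3: the ring map to the valuation ring
  have hψmem : ∀ b : Γ(Y, ⊤), phi 𝒰 (An.Pts.map f) b ∈ OO 𝒰 := by
    intro b
    rw [phi_apply]
    exact coe_mem_of_tendsto 𝒰 _ (y₀.evTop b)
      ((continuous_evTop b).continuousAt.tendsto.comp hy)
  let ψ : Γ(Y, ⊤) →+* OO 𝒰 := (phi 𝒰 (An.Pts.map f)).codRestrict (OO 𝒰) hψmem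
  have hψ : (algebraMap (OO 𝒰) (KK 𝒰)).comp ψ = phi 𝒰 (An.Pts.map f) := by
    ext b; rfl
  have hstψ : ∀ b : Γ(Y, ⊤), stHom 𝒰 (ψ b) = y₀.evTop b := by
    intro b
    exact stHom_coe 𝒰 _ (hψmem b) _ ((continuous_evTop b).continuousAt.tendsto.comp hy)
  let i₂ : Spec (CommRingCat.of (OO 𝒰)) ⟶ Y := Spec.map (CommRingCat.ofHom ψ) ≫ Y.isoSpec.inv
  let i₁ : Spec (CommRingCat.of (KK 𝒰)) ⟶ X := eta 𝒰 sW ≫ W.ι
  -- Step 4: commutativity
  have hcomm : i₁ ≫ f = Spec.map (CommRingCat.ofHom (algebraMap (OO 𝒰) (KK 𝒰))) ≫ i₂ := by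
    have h1 : i₁ ≫ f = eta 𝒰 (An.Pts.map f) := by
      change (eta 𝒰 sW ≫ W.ι) ≫ f = _
      rw [Category.assoc, eta_comp 𝒰 (W.ι ≫ f) sW]
      apply eta_congr
      filter_upwards [hsW] with q hq
      rw [An.Pts.map_comp, hq]
    rw [h1]
    change _ = _ ≫ Spec.map (CommRingCat.ofHom ψ) ≫ Y.isoSpec.inv
    rw [← Category.assoc, ← Spec.map_comp, ← CommRingCat.ofHom_comp, hψ]
    rfl
  -- Step 5: the lift
  have hex : ValuativeCriterion.Existence f := by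
    have : UniversallyClosed f := inferInstance
    rw [UniversallyClosed.eq_valuativeCriterion] at this
    exact this.1
  let S : ValuativeCommSq f :=
    { R := OO 𝒰, K := KK 𝒰, i₁ := i₁, i₂ := i₂, commSq := ⟨hcomm⟩ }
  obtain ⟨⟨l, hl₁, hl₂⟩⟩ := (hex S).exists_lift
  change Spec (CommRingCat.of (OO 𝒰)) ⟶ X at l
  change Spec.map (CommRingCat.ofHom (algebraMap (OO 𝒰) (KK 𝒰))) ≫ l = i₁ at hl₁
  change l ≫ f = i₂ at hl₂
  -- Step 6: the limit point
  let σ : An.SC ⟶ Spec (CommRingCat.of (OO 𝒰)) := Spec.map (CommRingCat.ofHom (stHom 𝒰))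
  have hsec : (σ ≫ l) ≫ (X ↘ An.SC) = 𝟙 An.SC := by
    rw [← comp_over f, Category.assoc, ← Category.assoc l, hl₂]
    change σ ≫ (Spec.map (CommRingCat.ofHom ψ) ≫ Y.isoSpec.inv) ≫ (Y ↘ An.SC) = _
    rw [Category.assoc, isoSpec_inv_over, ← Spec.map_comp, ← Spec.map_comp,
      ← CommRingCat.ofHom_comp, ← CommRingCat.ofHom_comp]
    have : ((stHom 𝒰).comp (ψ.comp (An.strHom Y))) = RingHom.id ℂ := by
      ext c
      change stHom 𝒰 (ψ (An.strHom Y c)) = c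
      rw [hstψ, evTop_strHom]
    rw [this]
    exact Spec.map_id _
  let x₀ : An.Pts X := ⟨σ ≫ l, hsec⟩
  have hfx₀ : An.Pts.map f x₀ = y₀ := by
    apply (isClosedEmbedding_evAll Y).injective
    funext b
    change (An.Pts.map f x₀).evTop b = y₀.evTop b
    have hval : (An.Pts.map f x₀).1 = Spec.map (CommRingCat.ofHom (stHom 𝒰)) ≫ i₂ := by
      change (σ ≫ l) ≫ f = _
      rw [Category.assoc, hl₂]
    rw [evTop_of_val_eq (stHom 𝒰) i₂ _ hval b, ← hstψ b]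
    congr 1
    exact ConcreteCategory.congr_hom (specMap_appTop_isoSpec (CommRingCat.ofHom ψ)) b
  refine ⟨x₀, hfx₀, ?_⟩
  -- Step 7: a chart around the limit point
  obtain ⟨U₂, hU₂, hx₀U₂, -⟩ := exists_isAffineOpen_mem_and_subset (x := x₀.pt) (U := ⊤) trivial
  haveI : IsAffine U₂.toScheme := hU₂
  have hx₀pt : x₀.pt = l (IsLocalRing.closedPoint (OO 𝒰)) := by
    change (σ ≫ l) An.cpt = _
    rw [Scheme.Hom.comp_apply, specMap_stHom_cpt]
  have hrange : Set.range l ⊆ Set.range U₂.ι := by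
    rw [Scheme.Opens.range_ι]
    exact range_subset_of_closedPoint_mem l U₂ (hx₀pt ▸ hx₀U₂)
  let l₂ : Spec (CommRingCat.of (OO 𝒰)) ⟶ U₂.toScheme := IsOpenImmersion.lift U₂.ι l hrange
  have hl₂' : l₂ ≫ U₂.ι = l := IsOpenImmersion.lift_fac _ _ _
  -- Step 8: a common chart
  let z : ↥(Spec (CommRingCat.of (KK 𝒰))) := (⟨⊥, Ideal.isPrime_bot⟩ : PrimeSpectrum (KK 𝒰))
  have hξW : i₁ z ∈ W := by
    change (eta 𝒰 sW ≫ W.ι) z ∈ W
    rw [Scheme.Hom.comp_apply]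
    exact (eta 𝒰 sW z).2
  have hξU : i₁ z ∈ U₂ := by
    rw [← hl₁, Scheme.Hom.comp_apply]
    have := hrange (Set.mem_range_self
      ((Spec.map (CommRingCat.ofHom (algebraMap (OO 𝒰) (KK 𝒰)))) z))
    rwa [Scheme.Opens.range_ι] at this
  obtain ⟨D, hD, hξD, hDle⟩ := exists_isAffineOpen_mem_and_subset (x := i₁ z) (U := W ⊓ U₂)
    ⟨hξW, hξU⟩
  haveI : IsAffine D.toScheme := hD
  have hDW : D ≤ W := fun x hx => (hDle hx).1
  have hDU : D ≤ U₂ := fun x hx => (hDle hx).2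
  have hDmem : (An.Pts.pt ⁻¹' (D : Set X) : Set (An.Pts X)) ∈ 𝒰 := by
    have hz : (eta 𝒰 sW) z ∈ W.ι ⁻¹ᵁ D := by
      change W.ι ((eta 𝒰 sW) z) ∈ D
      rw [← Scheme.Hom.comp_apply]
      exact hξD
    have := eventually_mem_of_eta_mem 𝒰 sW (W.ι ⁻¹ᵁ D) z hz
    filter_upwards [this, hsW] with q hq1 hq2
    change q.pt ∈ D
    rw [← hq2, An.Pts.pt_map]
    exact hq1
  have hUmem : (An.Pts.pt ⁻¹' (U₂ : Set X) : Set (An.Pts X)) ∈ 𝒰 :=
    Filter.mem_of_superset hDmem fun q hq => hDU hq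
  obtain ⟨sD, hsD⟩ := exists_chart_section 𝒰 D hDmem
  obtain ⟨sU, hsU⟩ := exists_chart_section 𝒰 U₂ hUmem
  -- Step 9: the generic point of the lift is the ultrapower point of the chart `U₂`
  have h9 : eta 𝒰 sU = Spec.map (CommRingCat.ofHom (algebraMap (OO 𝒰) (KK 𝒰))) ≫ l₂ := by
    rw [← cancel_mono U₂.ι, Category.assoc, hl₂', hl₁]
    change _ = eta 𝒰 sW ≫ W.ι
    rw [← eta_congr 𝒰 _ _ (chart_compat 𝒰 hDU sD sU hsD hsU),
      ← eta_congr 𝒰 _ _ (chart_compat 𝒰 hDW sD sW hsD hsW),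
      ← eta_comp 𝒰 (X.homOfLE hDU) sD, ← eta_comp 𝒰 (X.homOfLE hDW) sD,
      Category.assoc, Category.assoc, Scheme.homOfLE_ι, Scheme.homOfLE_ι]
  -- Step 10: the ring map of the lift
  let lam : Γ(U₂.toScheme, ⊤) →+* OO 𝒰 :=
    ((Scheme.ΓSpecIso (CommRingCat.of (OO 𝒰))).hom.hom).comp l₂.appTop.hom
  have h10 : ∀ a : Γ(U₂.toScheme, ⊤), ((lam a : OO 𝒰) : KK 𝒰) = phi 𝒰 sU a := by
    intro a
    have e1 := ConcreteCategory.congr_hom (eta_appTop 𝒰 sU) a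
    rw [h9] at e1
    have e2 := ConcreteCategory.congr_hom (Scheme.ΓSpecIso_naturality
      (CommRingCat.ofHom (algebraMap (OO 𝒰) (KK 𝒰)))) (l₂.appTop a)
    exact e2.symm.trans e1
  -- Step 11: the limit point in the chart
  have hsec₂ : (σ ≫ l₂) ≫ (U₂.toScheme ↘ An.SC) = 𝟙 An.SC := by
    change (σ ≫ l₂) ≫ U₂.ι ≫ (X ↘ An.SC) = _
    rw [Category.assoc, ← Category.assoc l₂, hl₂', ← Category.assoc]
    exact hsec
  let x₂ : An.Pts U₂.toScheme := ⟨σ ≫ l₂, hsec₂⟩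
  have hx₂ : An.Pts.map U₂.ι x₂ = x₀ := by
    apply Subtype.ext
    change (σ ≫ l₂) ≫ U₂.ι = σ ≫ l
    rw [Category.assoc, hl₂']
  have hev₂ : ∀ a : Γ(U₂.toScheme, ⊤), x₂.evTop a = stHom 𝒰 (lam a) := fun a =>
    evTop_of_val_eq (stHom 𝒰) l₂ x₂ rfl a
  -- Step 12: convergence
  have hconv : Tendsto sU (𝒰 : Filter (An.Pts X)) (𝓝 x₂) := by
    rw [(isInducing_evTop (X := U₂.toScheme)).tendsto_nhds_iff, tendsto_pi_nhds]
    intro a
    change Tendsto (fun q => (sU q).evTop a) _ (𝓝 (x₂.evTop a))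
    rw [hev₂ a]
    exact tendsto_st 𝒰 (lam a) _ (h10 a)
  have hconv' : Tendsto (fun q => An.Pts.map U₂.ι (sU q)) (𝒰 : Filter (An.Pts X)) (𝓝 x₀) := by
    rw [← hx₂]
    exact ((An.Pts.continuous_map U₂.ι).tendsto x₂).comp hconv
  have hid : Tendsto id (𝒰 : Filter (An.Pts X)) (𝓝 x₀) :=
    hconv'.congr' (by filter_upwards [hsU] with q hq; exact hq)
  exact tendsto_id'.mp hid

theorem isProperMap_of_isProper_affine (f : X ⟶ Y) [f.IsOver An.SC] [IsAffine Y] [IsProper f] :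
    IsProperMap (An.Pts.map f) := by
  rw [isProperMap_iff_ultrafilter]
  exact ⟨An.Pts.continuous_map f, fun 𝒰 y₀ hy => exists_lim_of_isProper_affine f 𝒰 y₀ hy⟩

end main

end Groth.Agent.Lib.Helper63.AnUltra
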