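import Groth.Prelude.Def_ArtFun5
import Mathlib.RingTheory.AdicCompletion.RingHom
import Mathlib.RingTheory.Artinian.Ring

/-! Helper lemmas for functors of Artin rings (helper63). -/

set_option autoImplicit false
universe u v
open CategoryTheory

namespace Groth.Agent.Lib.Helper63.ArtFunLib

open ArtFun ArtFun.Art

variable {Λ : Type u} {k : Type u} [CommRing Λ] [Field k] [Algebra Λ k]

section FibreProd

variable {R : Type u} [CommRing R] [Algebra Λ R] {resR : R →ₐ[Λ] k}
variable {B A A' A'' : Art Λ k} {p' : B ⟶ A'} {p'' : B ⟶ A''} {f' : A' ⟶ A} {f'' : A'' ⟶ A}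

/-- Two maps into a fibre product with the same components are equal. -/
theorem homSet_ext_of_isFibreProd (h : IsFibreProd p' p'' f' f'') (θ₁ θ₂ : HomSet R resR B)
    (h₁ : HomSet.map p' θ₁ = HomSet.map p' θ₂) (h₂ : HomSet.map p'' θ₁ = HomSet.map p'' θ₂) :
    θ₁ = θ₂ := by
  apply Subtype.ext
  apply AlgHom.ext
  intro r
  apply h.inj
  · exact congrArg (fun t : HomSet R resR A' => t.1 r) h₁
  · exact congrArg (fun t : HomSet R resR A'' => t.1 r) h₂

/-- A compatible pair of maps lifts to the fibre product. -/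
theorem exists_homSet_lift_of_isFibreProd (h : IsFibreProd p' p'' f' f'')
    (φ' : HomSet R resR A') (φ'' : HomSet R resR A'')
    (hφ : HomSet.map f' φ' = HomSet.map f'' φ'') :
    ∃ θ : HomSet R resR B, HomSet.map p' θ = φ' ∧ HomSet.map p'' θ = φ'' := by
  have hc : ∀ r : R, f' (φ'.1 r) = f'' (φ''.1 r) := fun r =>
    congrArg (fun t : HomSet R resR A => t.1 r) hφ
  choose g hg' hg'' using fun r : R => h.surj (φ'.1 r) (φ''.1 r) (hc r)
  have huniq : ∀ (r : R) (b : B), p' b = φ'.1 r → p'' b = φ''.1 r → b = g r := fun r b hb' hb'' =>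
    h.inj _ _ (hb'.trans (hg' r).symm) (hb''.trans (hg'' r).symm)
  let θ : R →ₐ[Λ] B :=
    { toFun := g
      map_one' := by
        symm; apply huniq
        · exact (map_one p'.toAlgHom).trans (map_one φ'.1).symm
        · exact (map_one p''.toAlgHom).trans (map_one φ''.1).symm
      map_mul' := fun x y => by
        symm; apply huniq
        · exact (map_mul p'.toAlgHom _ _).trans
            ((congrArg₂ (· * ·) (hg' x) (hg' y)).trans (map_mul φ'.1 x y).symm)
        · exact (map_mul p''.toAlgHom _ _).trans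
            ((congrArg₂ (· * ·) (hg'' x) (hg'' y)).trans (map_mul φ''.1 x y).symm)
      map_zero' := by
        symm; apply huniq
        · exact (map_zero p'.toAlgHom).trans (map_zero φ'.1).symm
        · exact (map_zero p''.toAlgHom).trans (map_zero φ''.1).symm
      map_add' := fun x y => by
        symm; apply huniq
        · exact (map_add p'.toAlgHom _ _).trans
            ((congrArg₂ (· + ·) (hg' x) (hg' y)).trans (map_add φ'.1 x y).symm)
        · exact (map_add p''.toAlgHom _ _).trans
            ((congrArg₂ (· + ·) (hg'' x) (hg'' y)).trans (map_add φ''.1 x y).symm)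
      commutes' := fun c => by
        symm; apply huniq
        · exact (AlgHom.commutes p'.toAlgHom c).trans (AlgHom.commutes φ'.1 c).symm
        · exact (AlgHom.commutes p''.toAlgHom c).trans (AlgHom.commutes φ''.1 c).symm }
  have hθ' : p'.toAlgHom.comp θ = φ'.1 := AlgHom.ext fun r => hg' r
  have hθ'' : p''.toAlgHom.comp θ = φ''.1 := AlgHom.ext fun r => hg'' r
  have hres : B.res.comp θ = resR := by
    rw [← φ'.2, ← hθ', ← AlgHom.comp_assoc, p'.res_comp]
  exact ⟨⟨θ, hres⟩, Subtype.ext hθ', Subtype.ext hθ''⟩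

/-- In a fibre-product square with `f''` surjective, `p'` is surjective. -/
theorem surjective_fst_of_isFibreProd (h : IsFibreProd p' p'' f' f'')
    (hf'' : Function.Surjective f'') : Function.Surjective p' := by
  intro a'
  obtain ⟨a'', ha''⟩ := hf'' (f' a')
  obtain ⟨b, hb, -⟩ := h.surj a' a'' ha''.symm
  exact ⟨b, hb⟩

end FibreProd

section Base

variable {R : Type u} [CommRing R] [Algebra Λ R] {resR : R →ₐ[Λ] k}

/-- `h_R(k)` has exactly one element. -/
def homSetBase : HomSet R resR (base Λ k) := ⟨resR, AlgHom.id_comp _⟩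

theorem homSet_base_eq (φ : HomSet R resR (base Λ k)) : φ = homSetBase := by
  apply Subtype.ext
  apply AlgHom.ext
  intro r
  exact congrArg (fun t : R →ₐ[Λ] k => t r) φ.2

end Base

section Complete

variable {R : Type u} [CommRing R] [Algebra Λ R]

/-- Maps into a coefficient ring agreeing modulo all powers of the maximal ideal agree. -/
theorem algHom_ext_of_truncHom (S : CRing Λ k) (g₁ g₂ : R →ₐ[Λ] S.carrier)
    (h : ∀ n, (S.truncHom n).1.comp g₁ = (S.truncHom n).1.comp g₂) : g₁ = g₂ := by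
  have := S.isAdicComplete
  apply DFunLike.coe_injective
  apply IsHausdorff.StrictMono.funext' (IsLocalRing.maximalIdeal S.carrier) (a := fun n => n + 1)
    (fun a b hab => Nat.succ_lt_succ hab)
  intro n r
  exact congrArg (fun t : R →ₐ[Λ] (S.trunc n) => t r) (h n)

/-- The `n`-th component of the formal element of `ξ.along g`. -/
theorem along_toFormalElt_elt {S₀ S : CRing Λ k} {F : Art Λ k ⥤ Type v}
    (ξ : Family S₀.carrier S₀.res F) (g : S₀.carrier →ₐ[Λ] S.carrier) (hg : S.res.comp g = S₀.res)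
    (n : ℕ) :
    (ξ.along g hg).toFormalElt.elt n =
      ξ.app (S.trunc n) ⟨(S.truncHom n).1.comp g, by
        rw [← AlgHom.comp_assoc, (S.truncHom n).2, hg]⟩ := rfl

end Complete

section Lift

variable {R : Type u} [CommRing R] [Algebra Λ R] {resR : R →ₐ[Λ] k}

/-- A compatible sequence of maps to the truncations of a coefficient ring lifts. -/
theorem exists_lift_of_compatible (S : CRing Λ k) (φ : ∀ n, HomSet R resR (S.trunc n))
    (hφ : ∀ n, HomSet.map (S.truncMap n) (φ (n + 1)) = φ n) :
    ∃ (Φ : R →ₐ[Λ] S.carrier) (_ : S.res.comp Φ = resR), ∀ n, (S.truncHom n).1.comp Φ = (φ n).1 := by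
  have hc := S.isAdicComplete
  let I := IsLocalRing.maximalIdeal S.carrier
  have ha : StrictMono (fun n : ℕ => n + 1) := fun a b hab => Nat.succ_lt_succ hab
  let f : (n : ℕ) → R →+* S.carrier ⧸ I ^ (n + 1) := fun n => ((φ n).1 : R →+* (S.trunc n))
  have hf : ∀ {m : ℕ}, (Ideal.Quotient.factorPow I (ha.monotone m.le_succ)).comp (f (m + 1)) = f m := by
    intro m
    ext r
    have h1 : (S.truncMap m).toAlgHom ((φ (m + 1)).1 r) = (φ m).1 r :=
      congrArg (fun t : HomSet R resR (S.trunc m) => t.1 r) (hφ m)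
    refine Eq.trans ?_ h1
    change Ideal.Quotient.factorPow I (ha.monotone m.le_succ) ((φ (m + 1)).1 r) = _
    generalize (φ (m + 1)).1 r = y
    obtain ⟨a, rfl⟩ := Ideal.Quotient.mk_surjective y
    rfl
  let Φ₀ : R →+* S.carrier := IsAdicComplete.StrictMono.liftRingHom I ha f hf
  have hΦ₀ : ∀ (n : ℕ) (x : R), Ideal.Quotient.mk (I ^ (n + 1)) (Φ₀ x) = (φ n).1 x := fun n x =>
    IsAdicComplete.StrictMono.mk_liftRingHom I ha f hf x
  have hcomm : ∀ c : Λ, Φ₀ (algebraMap Λ R c) = algebraMap Λ S.carrier c := by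
    have : (fun c : Λ => Φ₀ (algebraMap Λ R c)) = fun c : Λ => algebraMap Λ S.carrier c := by
      apply IsHausdorff.StrictMono.funext' I ha
      intro n c
      rw [hΦ₀ n, AlgHom.commutes]
      rfl
    exact fun c => congrFun this c
  let Φ : R →ₐ[Λ] S.carrier := { Φ₀ with commutes' := hcomm }
  have hΦ : ∀ n, (S.truncHom n).1.comp Φ = (φ n).1 := fun n => AlgHom.ext fun x => hΦ₀ n x
  refine ⟨Φ, ?_, hΦ⟩
  rw [← (φ 0).2, ← hΦ 0, ← AlgHom.comp_assoc, (S.truncHom 0).2]

end Lift

section Factor

/-- Every map from a coefficient ring to an Artinian object factors through a truncation. -/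
theorem exists_factor_trunc (R : CRing Λ k) (A : Art Λ k) (u : HomSet R.carrier R.res A) :
    ∃ (n : ℕ) (ubar : R.trunc n ⟶ A), HomSet.map ubar (R.truncHom n) = u := by
  have hnil : IsNilpotent (IsLocalRing.maximalIdeal A) := by
    rw [← IsLocalRing.jacobson_eq_maximalIdeal (⊥ : Ideal A) bot_ne_top]
    exact IsArtinianRing.isNilpotent_jacobson_bot
  obtain ⟨n, hn⟩ := hnil
  have hmap : ∀ a ∈ IsLocalRing.maximalIdeal R.carrier, u.1 a ∈ IsLocalRing.maximalIdeal A := by
    intro a ha
    rw [Art.mem_maximalIdeal_iff]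
    have : A.res (u.1 a) = R.res a := congrArg (fun t : R.carrier →ₐ[Λ] k => t a) u.2
    rw [this]
    exact (R.mem_maximalIdeal_iff a).1 ha
  have hle : (IsLocalRing.maximalIdeal R.carrier).map (u.1 : R.carrier →+* A) ≤
      IsLocalRing.maximalIdeal A := by
    rw [Ideal.map_le_iff_le_comap]
    exact hmap
  have hzero : ∀ a ∈ R.mpow n, u.1 a = 0 := by
    intro a ha
    have h1 : u.1 a ∈ ((IsLocalRing.maximalIdeal R.carrier) ^ (n + 1)).map (u.1 : R.carrier →+* A) :=
      Ideal.mem_map_of_mem _ ha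
    rw [Ideal.map_pow] at h1
    have h2 : u.1 a ∈ IsLocalRing.maximalIdeal A ^ (n + 1) := Ideal.pow_right_mono hle _ h1
    have h3 : IsLocalRing.maximalIdeal A ^ (n + 1) = ⊥ := by
      rw [pow_succ, hn, Ideal.zero_eq_bot, Ideal.bot_mul]
    rw [h3] at h2
    exact h2
  let ubar : (R.trunc n) →ₐ[Λ] A := Ideal.Quotient.liftₐ (R.mpow n) u.1 hzero
  have hres : A.res.comp ubar = (R.trunc n).res := by
    apply AlgHom.ext
    intro x
    obtain ⟨a, rfl⟩ := Ideal.Quotient.mk_surjective x
    exact congrArg (fun t : R.carrier →ₐ[Λ] k => t a) u.2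
  exact ⟨n, ⟨ubar, hres⟩, Subtype.ext (AlgHom.ext fun a => rfl)⟩

end Factor

end Groth.Agent.Lib.Helper63.ArtFunLib
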