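import Groth.Agent.Lib.Helper63.RelFinrank
import Groth.Agent.Lib.Helper55.FunFld.AlgClosed
import Groth.Agent.Lib.Helper55.FunFld.Approx

/-! Dimensions of quotients of semi-local balls in a function field (helper63). -/

set_option autoImplicit false
set_option linter.style.haveILetI false
set_option linter.unusedSectionVars false

namespace Groth.Agent.Lib.Helper63.BallDim

open WithZero FunFld Module IsLocalRing Groth.Agent.Lib.Helper55
  Groth.Agent.Lib.Helper63.RelFinrank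

variable {k K : Type*} [Field k] [Field K] [Algebra k K]

/-- The elements of order at least `n Q` at every `Q ∈ Ts`. -/
def ball (Ts : Finset (Place k K)) (n : Place k K → ℤ) : Submodule k K where
  carrier := {z | ∀ Q ∈ Ts, Q.1 z ≤ exp (-(n Q))}
  add_mem' {a b} ha hb Q hQ := (Q.1.map_add a b).trans (max_le (ha Q hQ) (hb Q hQ))
  zero_mem' Q hQ := by rw [map_zero]; exact zero_le
  smul_mem' c z hz Q hQ := by
    rw [Algebra.smul_def, map_mul]
    exact (mul_le_of_le_one_left' (Q.2.1 c)).trans (hz Q hQ)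

theorem mem_ball {Ts : Finset (Place k K)} {n : Place k K → ℤ} {z : K} :
    z ∈ ball Ts n ↔ ∀ Q ∈ Ts, Q.1 z ≤ exp (-(n Q)) := Iff.rfl

theorem ball_mono {Ts : Finset (Place k K)} {n n' : Place k K → ℤ}
    (h : ∀ Q ∈ Ts, n Q ≤ n' Q) : ball Ts n' ≤ ball Ts n := by
  intro z hz Q hQ
  refine (hz Q hQ).trans ?_
  rw [exp_le_exp]
  have := h Q hQ
  omega

theorem ball_congr {Ts : Finset (Place k K)} {n n' : Place k K → ℤ}
    (h : ∀ Q ∈ Ts, n Q = n' Q) : ball Ts n = ball Ts n' :=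
  le_antisymm (ball_mono fun Q hQ => (h Q hQ).ge) (ball_mono fun Q hQ => (h Q hQ).le)

open Classical in
/-- One step: raising the order at one place by one cuts the dimension by one. -/
theorem step [IsAlgClosed k] (hK : IsFunctionField k K) (Ts : Finset (Place k K))
    (n : Place k K → ℤ) (Q₀ : Place k K) (hQ₀ : Q₀ ∈ Ts) :
    RelFinite (ball Ts (Function.update n Q₀ (n Q₀ + 1))) (ball Ts n) ∧
      relfinrank (ball Ts (Function.update n Q₀ (n Q₀ + 1))) (ball Ts n) = 1 := by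
  obtain ⟨u, hu⟩ := Q₀.2.2 (exp (n Q₀))
  have hu0 : u ≠ 0 := by
    intro h0
    rw [h0, map_zero] at hu
    exact exp_ne_zero hu.symm
  have hmem : ∀ z ∈ ball Ts n, Q₀.1 (z * u) ≤ 1 := by
    intro z hz
    rw [map_mul, hu]
    calc Q₀.1 z * exp (n Q₀) ≤ exp (-(n Q₀)) * exp (n Q₀) := mul_le_mul' (hz Q₀ hQ₀) le_rfl
      _ = 1 := by rw [← exp_add, neg_add_cancel, exp_zero]
  let Λ₀ : ↥(ball Ts n) →ₗ[k] Q₀.O :=
    { toFun := fun z => ⟨z.1 * u, hmem z.1 z.2⟩
      map_add' := fun a b => Subtype.ext (add_mul _ _ _)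
      map_smul' := fun c z => Subtype.ext (by
        change (c • z.1) * u = algebraMap k K c * (z.1 * u)
        rw [Algebra.smul_def, mul_assoc]) }
  let resA : Q₀.O →ₐ[k] ResidueField Q₀.O := { residue Q₀.O with commutes' := fun c => rfl }
  let Λ : ↥(ball Ts n) →ₗ[k] ResidueField Q₀.O := resA.toLinearMap ∘ₗ Λ₀
  have hΛ : ∀ z : ↥(ball Ts n), Λ z = 0 ↔ Q₀.1 z.1 ≤ exp (-(n Q₀ + 1)) := by
    intro z
    change residue Q₀.O ⟨z.1 * u, hmem z.1 z.2⟩ = 0 ↔ _
    rw [residue_eq_zero_iff, Valuation.mem_maximalIdeal_iff]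
    change Q₀.1 (z.1 * u) < 1 ↔ _
    rw [map_mul, hu, neg_add, ← sub_eq_add_neg, ← ff_lt_exp_iff]
    have h2 : Q₀.1 z.1 * exp (n Q₀) < exp (-(n Q₀)) * exp (n Q₀) ↔ Q₀.1 z.1 < exp (-(n Q₀)) :=
      mul_lt_mul_iff_left₀ exp_pos
    rw [← exp_add, neg_add_cancel, exp_zero] at h2
    exact h2
  have hker : (ball Ts (Function.update n Q₀ (n Q₀ + 1))).submoduleOf (ball Ts n) =
      LinearMap.ker Λ := by
    ext z
    rw [LinearMap.mem_ker, hΛ, mem_submoduleOf, mem_ball]
    constructor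
    · intro h
      have := h Q₀ hQ₀
      rwa [Function.update_self] at this
    · intro h Q hQ
      by_cases hQQ : Q = Q₀
      · rw [hQQ, Function.update_self]; exact h
      · rw [Function.update_of_ne hQQ]; exact z.2 Q hQ
  have hsurj : Function.Surjective Λ := by
    intro w
    obtain ⟨a, rfl⟩ := residue_surjective w
    obtain ⟨z, hz⟩ := ff_weak_approx_le Ts (fun Q => if Q = Q₀ then a.1 * u⁻¹ else 0)
      (fun Q => if Q = Q₀ then -(n Q₀) - 1 else -(n Q))
    have hzQ₀ : Q₀.1 (z - a.1 * u⁻¹) ≤ exp (-(n Q₀) - 1) := by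
      have := hz Q₀ hQ₀
      rwa [if_pos rfl, if_pos rfl] at this
    have hui : Q₀.1 u⁻¹ = exp (-(n Q₀)) := by rw [map_inv₀, hu, exp_neg]
    have hzb : z ∈ ball Ts n := by
      intro Q hQ
      by_cases hQQ : Q = Q₀
      · rw [hQQ]
        have h3 : z = (z - a.1 * u⁻¹) + a.1 * u⁻¹ := by ring
        rw [h3]
        refine (Q₀.1.map_add _ _).trans (max_le (hzQ₀.trans ?_) ?_)
        · rw [exp_le_exp]; omega
        · rw [map_mul, hui]
          exact mul_le_of_le_one_left' a.2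
      · have := hz Q hQ
        rwa [if_neg hQQ, if_neg hQQ, sub_zero] at this
    refine ⟨⟨z, hzb⟩, ?_⟩
    change residue Q₀.O ⟨z * u, hmem z hzb⟩ = residue Q₀.O a
    rw [← sub_eq_zero, ← map_sub, residue_eq_zero_iff, Valuation.mem_maximalIdeal_iff]
    change Q₀.1 (z * u - a.1) < 1
    have h4 : z * u - a.1 = (z - a.1 * u⁻¹) * u := by
      field_simp
    rw [h4, map_mul, hu]
    calc Q₀.1 (z - a.1 * u⁻¹) * exp (n Q₀) ≤ exp (-(n Q₀) - 1) * exp (n Q₀) :=
          mul_le_mul' hzQ₀ le_rfl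
      _ = exp (-1) := by rw [← exp_add]; congr 1; ring
      _ < 1 := by rw [← exp_zero, exp_lt_exp]; omega
  let e1 := Λ.quotKerEquivOfSurjective hsurj
  let e2 := Submodule.quotEquivOfEq _ _ hker
  have hdeg : finrank k (ResidueField Q₀.O) = 1 := ff_deg_eq_one_of_isAlgClosed hK Q₀
  haveI hfd : FiniteDimensional k (ResidueField Q₀.O) :=
    ff_finiteDimensional_residueField hK Q₀
  refine ⟨Module.Finite.equiv (e2.trans e1).symm, ?_⟩
  unfold relfinrank
  rw [(e2.trans e1).finrank_eq, hdeg]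

open Classical in
theorem relfinrank_ball [IsAlgClosed k] (hK : IsFunctionField k K) (Ts : Finset (Place k K))
    (n : Place k K → ℤ) (m : ℕ) : ∀ e : Place k K → ℕ, ∑ Q ∈ Ts, e Q = m →
    RelFinite (ball Ts (fun Q => n Q + e Q)) (ball Ts n) ∧
      relfinrank (ball Ts (fun Q => n Q + e Q)) (ball Ts n) = m := by
  induction m with
  | zero =>
    intro e he
    have h0 : ∀ Q ∈ Ts, e Q = 0 := fun Q hQ => (Finset.sum_eq_zero_iff.1 he) Q hQ
    have h1 : ball Ts (fun Q => n Q + e Q) = ball Ts n := by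
      apply ball_congr
      intro Q hQ
      rw [h0 Q hQ]; simp
    rw [h1]
    exact relfinrank_self _
  | succ m ih =>
    intro e he
    obtain ⟨Q₀, hQ₀, hpos⟩ : ∃ Q₀ ∈ Ts, 0 < e Q₀ := by
      by_contra hcon
      push Not at hcon
      have : ∑ Q ∈ Ts, e Q = 0 := Finset.sum_eq_zero (fun Q hQ => Nat.le_zero.1 (hcon Q hQ))
      omega
    set e' : Place k K → ℕ := Function.update e Q₀ (e Q₀ - 1) with he'
    have hsum' : ∑ Q ∈ Ts, e' Q = m := by
      have h1 := Finset.sum_update_of_mem hQ₀ e (e Q₀ - 1)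
      have h2 := Finset.add_sum_erase Ts e hQ₀
      rw [← Finset.sdiff_singleton_eq_erase] at h2
      rw [he', h1]
      omega
    obtain ⟨f1, r1⟩ := ih e' hsum'
    obtain ⟨f2, r2⟩ := step hK Ts (fun Q => n Q + e' Q) Q₀ hQ₀
    have h3 : ball Ts (Function.update (fun Q => n Q + (e' Q : ℤ)) Q₀ (n Q₀ + e' Q₀ + 1)) =
        ball Ts (fun Q => n Q + e Q) := by
      apply ball_congr
      intro Q hQ
      by_cases hQQ : Q = Q₀
      · rw [hQQ, Function.update_self, he', Function.update_self]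
        have : ((e Q₀ - 1 : ℕ) : ℤ) = (e Q₀ : ℤ) - 1 := by
          rw [Nat.cast_sub hpos]; simp
        rw [this]; ring
      · rw [Function.update_of_ne hQQ, he', Function.update_of_ne hQQ]
    rw [h3] at f2 r2
    have hle1 : ball Ts (fun Q => n Q + (e Q : ℤ)) ≤ ball Ts (fun Q => n Q + (e' Q : ℤ)) := by
      apply ball_mono
      intro Q hQ
      by_cases hQQ : Q = Q₀
      · rw [hQQ, he', Function.update_self]
        have : ((e Q₀ - 1 : ℕ) : ℤ) ≤ (e Q₀ : ℤ) := by exact_mod_cast Nat.sub_le _ _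
        linarith
      · rw [he', Function.update_of_ne hQQ]
    have hle2 : ball Ts (fun Q => n Q + (e' Q : ℤ)) ≤ ball Ts n := by
      apply ball_mono
      intro Q hQ
      have : (0 : ℤ) ≤ (e' Q : ℤ) := Int.natCast_nonneg _
      linarith
    obtain ⟨f3, r3⟩ := relfinrank_add hle1 hle2 f2 f1
    exact ⟨f3, by rw [r3, r2, r1]; omega⟩

end Groth.Agent.Lib.Helper63.BallDim
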