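import Groth.Agent.Lib.Helper63.Geometric
import Mathlib.RingTheory.AdjoinRoot
import Mathlib.LinearAlgebra.Dimension.Constructions
import Mathlib.RingTheory.TensorProduct.Maps

/-! Constant field extensions of geometric function fields are geometric function fields
(helper63). -/

set_option autoImplicit false
set_option linter.style.haveILetI false
set_option linter.unusedSectionVars false

namespace Groth.Agent.Lib.Helper63.ConstExtGeometric

open IntermediateField FunFld TensorProduct Polynomial Groth.Agent.Lib.Helper55
  Groth.Agent.Lib.Helper63.ConstField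

universe u v w

variable {k k' : Type u} {K : Type v} {K' : Type w} [Field k] [Field k'] [Field K] [Field K']
  [Algebra k k'] [FiniteDimensional k k'] [Algebra k K] [Algebra K K'] [Algebra k' K']
  [Algebra k K'] [IsScalarTower k k' K'] [IsScalarTower k K K']

/-- The `K`-algebra map `K ⊗ k' → K'`. -/
noncomputable def ψ : K ⊗[k] k' →ₐ[K] K' :=
  Algebra.TensorProduct.productLeftAlgHom (Algebra.ofId K K') (IsScalarTower.toAlgHom k k' K')

theorem ψ_bijective (h : Function.Bijective (Algebra.TensorProduct.productMap
      (IsScalarTower.toAlgHom k k' K') (IsScalarTower.toAlgHom k K K'))) :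
    Function.Bijective (ψ (k := k) (k' := k') (K := K) (K' := K')) := by
  have h1 : (ψ (k := k) (k' := k') (K := K) (K' := K') : K ⊗[k] k' → K') =
      (Algebra.TensorProduct.productMap
      (IsScalarTower.toAlgHom k k' K') (IsScalarTower.toAlgHom k K K')) ∘
      (Algebra.TensorProduct.comm k K k') := by
    ext t
    induction t using TensorProduct.induction_on with
    | zero => simp
    | tmul a b =>
      simp only [ψ, Function.comp_apply, Algebra.TensorProduct.comm_tmul,
        Algebra.TensorProduct.productMap_apply_tmul, Algebra.TensorProduct.lift_tmul]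
      rw [mul_comm]
      rfl
    | add a b ha hb => simp only [map_add, ha, hb, Function.comp_apply]
  rw [h1]
  exact h.comp (Algebra.TensorProduct.comm k K k').bijective

theorem finrank_eq (h : Function.Bijective (Algebra.TensorProduct.productMap
      (IsScalarTower.toAlgHom k k' K') (IsScalarTower.toAlgHom k K K'))) :
    Module.finrank K K' = Module.finrank k k' := by
  have e : K ⊗[k] k' ≃ₗ[K] K' := LinearEquiv.ofBijective (ψ (k := k)).toLinearMap (ψ_bijective h)
  rw [← e.finrank_eq, Module.finrank_baseChange]

theorem finite_of_bijective (h : Function.Bijective (Algebra.TensorProduct.productMap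
      (IsScalarTower.toAlgHom k k' K') (IsScalarTower.toAlgHom k K K'))) :
    FiniteDimensional K K' := by
  apply Module.finite_of_finrank_pos
  rw [finrank_eq h]
  exact Module.finrank_pos

omit [FiniteDimensional k k'] [IsScalarTower k K K'] [Algebra K K'] [Algebra k K] in
/-- Finiteness over `k(x)` implies finiteness over `k'(x)`. -/
theorem finite_adjoin_of_finite_adjoin (x : K') [FiniteDimensional k⟮x⟯ K'] :
    FiniteDimensional k'⟮x⟯ K' := by
  obtain ⟨s, hs⟩ := (Module.finite_def (R := k⟮x⟯) (M := K')).1 inferInstance
  refine ⟨⟨s, ?_⟩⟩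
  rw [eq_top_iff]
  intro y hy0
  clear hy0
  have hy : y ∈ Submodule.span k⟮x⟯ (s : Set K') := by rw [hs]; exact Submodule.mem_top
  have hle : ∀ c : k⟮x⟯, (c : K') ∈ k'⟮x⟯ := by
    intro c
    have h1 : k⟮x⟯ ≤ (k'⟮x⟯).restrictScalars k := by
      rw [adjoin_simple_le_iff]
      exact mem_adjoin_simple_self k' x
    exact h1 c.2
  induction hy using Submodule.span_induction with
  | mem z hz => exact Submodule.subset_span hz
  | zero => exact zero_mem _
  | add a b _ _ ha hb => exact add_mem ha hb
  | smul c z _ hz =>
    have : c • z = (⟨(c : K'), hle c⟩ : k'⟮x⟯) • z := rfl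
    rw [this]
    exact Submodule.smul_mem _ _ hz

/-- S11006, function field part. -/
theorem isFunctionField (h : Function.Bijective (Algebra.TensorProduct.productMap
      (IsScalarTower.toAlgHom k k' K') (IsScalarTower.toAlgHom k K K')))
    (hK : IsFunctionField k K) (hg : IsGeometric k K) : IsFunctionField k' K' := by
  haveI := finite_of_bijective h
  obtain ⟨⟨x₀, hx₀, hfin⟩, -⟩ := hK
  haveI : FiniteDimensional k⟮x₀⟯ K := hfin
  refine ⟨⟨algebraMap K K' x₀, ?_, ?_⟩, ?_⟩
  · rw [← Algebra.IsAlgebraic.transcendental_iff (R := k)]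
    exact (transcendental_algebraMap_iff (algebraMap K K').injective).2 hx₀
  · haveI : FiniteDimensional k⟮algebraMap K K' x₀⟯ K' := finiteDimensional_adjoin_map
    exact finite_adjoin_of_finite_adjoin (k := k) _
  · intro z hz
    have hint : IsIntegral k' z := hz.isIntegral
    set g := minpoly k' z with hgdef
    haveI : Fact (Irreducible g) := ⟨minpoly.irreducible hint⟩
    set k'' := AdjoinRoot g with hk''
    have hg0 : g ≠ 0 := minpoly.ne_zero hint
    haveI : FiniteDimensional k' k'' := (AdjoinRoot.powerBasis hg0).finite
    haveI : FiniteDimensional k k'' := FiniteDimensional.trans k k' k''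
    have hfield := hg k'' inferInstance
    have hfield' : IsField (K ⊗[k] k'') :=
      (Algebra.TensorProduct.comm k K k'').toMulEquiv.isField hfield
    letI := hfield'.toField
    -- the map to `K'`
    let fa : k'' →ₐ[k'] K' := AdjoinRoot.liftAlgHom g (Algebra.ofId k' K') z (by
      change aeval z g = 0
      rw [hgdef, minpoly.aeval])
    let fa' : k'' →ₐ[k] K' := fa.restrictScalars k
    let Ψ : K ⊗[k] k'' →ₐ[K] K' :=
      Algebra.TensorProduct.productLeftAlgHom (Algebra.ofId K K') fa'
    have hinj : Function.Injective Ψ := (Ψ : K ⊗[k] k'' →+* K').injective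
    have hle := LinearMap.finrank_le_finrank_of_injective (f := Ψ.toLinearMap) hinj
    rw [Module.finrank_baseChange, finrank_eq h, ← Module.finrank_mul_finrank k k' k'',
      (AdjoinRoot.powerBasis hg0).finrank, AdjoinRoot.powerBasis_dim] at hle
    have hpos : 0 < Module.finrank k k' := Module.finrank_pos
    have hdeg : g.natDegree ≤ 1 := by
      by_contra hcon
      push Not at hcon
      have : Module.finrank k k' * 2 ≤ Module.finrank k k' * g.natDegree :=
        Nat.mul_le_mul_left _ hcon
      omega
    have hdeg1 : g.natDegree = 1 := le_antisymm hdeg (minpoly.natDegree_pos hint)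
    exact RingHom.mem_range.1 (minpoly.natDegree_eq_one_iff.1 hdeg1)

/-- S11006, geometric part. -/
theorem isGeometric (h : Function.Bijective (Algebra.TensorProduct.productMap
      (IsScalarTower.toAlgHom k k' K') (IsScalarTower.toAlgHom k K K')))
    (hg : IsGeometric k K) : IsGeometric k' K' := by
  intro k'' _ _ hfin
  haveI : FiniteDimensional k' k'' := hfin
  letI : Algebra k k'' := ((algebraMap k' k'').comp (algebraMap k k')).toAlgebra
  haveI : IsScalarTower k k' k'' := IsScalarTower.of_algebraMap_eq (fun _ => rfl)
  haveI : FiniteDimensional k k'' := FiniteDimensional.trans k k' k''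
  have hfield := hg k'' inferInstance
  let φ : k' ⊗[k] K →ₐ[k'] K' :=
    Algebra.TensorProduct.productLeftAlgHom (Algebra.ofId k' K') (IsScalarTower.toAlgHom k K K')
  have hφ : Function.Bijective φ := h
  let e : k' ⊗[k] K ≃ₐ[k'] K' := AlgEquiv.ofBijective φ hφ
  let e1 : k'' ⊗[k'] K' ≃ₐ[k'] k'' ⊗[k'] (k' ⊗[k] K) :=
    Algebra.TensorProduct.congr (AlgEquiv.refl) e.symm
  let e2 : k'' ⊗[k'] (k' ⊗[k] K) ≃ₐ[k'] k'' ⊗[k] K :=
    Algebra.TensorProduct.cancelBaseChange k k' k' k'' K
  exact (e1.trans e2).toMulEquiv.isField hfield

end Groth.Agent.Lib.Helper63.ConstExtGeometric
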