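import Groth.Agent.Lib.Helper63.SepNonsingular
import Groth.Agent.Lib.Helper63.IntClosure
import Groth.Agent.Lib.Helper63.ConstExtGeometric

/-! Finiteness of `R / O_P[k']` and existence of a conductor element, `R` the integral closure of
`O_P` in `k' ⊗ K` (helper63). -/

set_option autoImplicit false
set_option linter.style.haveILetI false
set_option linter.unusedSectionVars false

namespace Groth.Agent.Lib.Helper63.ConductorFin

open WithZero Polynomial FunFld IsLocalRing TensorProduct Groth.Agent.Lib.Helper55
  Groth.Agent.Lib.Helper63.FundIneq Groth.Agent.Lib.Helper63.SepNonsingular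

universe u v

variable {k k' : Type u} {K K' : Type v} [Field k] [Field k'] [Field K] [Field K']
  [Algebra k k'] [FiniteDimensional k k'] [Algebra k K] [Algebra K K'] [Algebra k' K']
  [Algebra k K'] [IsScalarTower k k' K'] [IsScalarTower k K K']

variable (P : Place k K) [Algebra P.O K'] [IsScalarTower P.O K K']

theorem φ_mem_adjoin (a : k' ⊗[k] P.O) :
    φ P a ∈ Algebra.adjoin P.O (Set.range (algebraMap k' K')) := by
  induction a using TensorProduct.induction_on with
  | zero => rw [map_zero]; exact zero_mem _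
  | tmul c o =>
    rw [φ_tmul]
    exact mul_mem (Algebra.subset_adjoin ⟨c, rfl⟩) (Subalgebra.algebraMap_mem _ o)
  | add a b ha hb => rw [map_add]; exact add_mem ha hb

theorem algebraMap_smul' (c : k) (o : P.O) :
    algebraMap P.O K' (c • o) = c • algebraMap P.O K' o := by
  rw [Algebra.smul_def, map_mul, algebraMap_comp, Algebra.smul_def]

theorem main (h : Function.Bijective (Algebra.TensorProduct.productMap
      (IsScalarTower.toAlgHom k k' K') (IsScalarTower.toAlgHom k K K')))
    (hK : IsFunctionField k K) :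
    (∃ V : Submodule k K', FiniteDimensional k V ∧ ∀ r ∈ integralClosure P.O K',
        ∃ s ∈ Algebra.adjoin P.O (Set.range (algebraMap k' K')), r - s ∈ V) ∧
    (∃ c ∈ integralClosure P.O K', c ≠ 0 ∧ ∀ r ∈ integralClosure P.O K',
        c * r ∈ Algebra.adjoin P.O (Set.range (algebraMap k' K'))) := by
  classical
  haveI : FiniteDimensional K K' := Groth.Agent.Lib.Helper63.ConstExtGeometric.finite_of_bijective h
  haveI := Groth.Agent.Lib.Helper63.IntClosure.integralClosure_finite (K' := K') hK P
  -- uniformizer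
  obtain ⟨t₀, ht₀⟩ := P.2.2 (exp (-1))
  have ht₀1 : P.1 t₀ ≤ 1 := by rw [ht₀, ← exp_zero, exp_le_exp]; omega
  set t : P.O := ⟨t₀, ht₀1⟩ with ht_def
  have ht : P.1 (t : K) = exp (-1) := ht₀
  have ht0 : (t : K) ≠ 0 := by
    intro h0
    rw [h0, map_zero] at ht
    exact exp_ne_zero ht.symm
  set T := algebraMap P.O K' t with hT
  have hT0 : T ≠ 0 := by
    rw [hT, algebraMap_O]
    intro h0
    exact ht0 ((map_eq_zero_iff _ (algebraMap K K').injective).1 h0)
  set Rt := Algebra.adjoin P.O (Set.range (algebraMap k' K')) with hRt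
  have hTmem : T ∈ Rt := Subalgebra.algebraMap_mem _ t
  -- generators of the integral closure
  obtain ⟨m, g, hg⟩ := Module.Finite.exists_fin (R := P.O) (M := integralClosure P.O K')
  have hrep : ∀ r ∈ integralClosure P.O K', ∃ o : Fin m → P.O,
      r = ∑ i, algebraMap P.O K' (o i) * (g i : K') := by
    intro r hr
    have hmem : (⟨r, hr⟩ : integralClosure P.O K') ∈ Submodule.span P.O (Set.range g) := by
      rw [hg]; exact Submodule.mem_top
    obtain ⟨o, ho⟩ := (Submodule.mem_span_range_iff_exists_fun P.O).1 hmem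
    refine ⟨o, ?_⟩
    have := congrArg (fun x : integralClosure P.O K' => (x : K')) ho
    simp only [AddSubmonoidClass.coe_finsetSum] at this
    rw [← this]
    refine Finset.sum_congr rfl fun i _ => ?_
    rw [← Algebra.smul_def]
    rfl
  -- scaling the generators into `O_P[k']`
  choose n a ha using fun i => exists_scaled (k' := k') h.2 ht (g i : K')
  set N := ∑ i, n i with hN
  have hgN : ∀ i, T ^ N * (g i : K') ∈ Rt := by
    intro i
    have hle : n i ≤ N := Finset.single_le_sum (f := n) (fun _ _ => Nat.zero_le _) (Finset.mem_univ i)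
    obtain ⟨d, hd⟩ := Nat.exists_eq_add_of_le hle
    rw [hd, pow_add, mul_comm (T ^ n i), mul_assoc, ← ha i]
    exact mul_mem (pow_mem hTmem _) (φ_mem_adjoin P _)
  have hRN : ∀ r ∈ integralClosure P.O K', T ^ N * r ∈ Rt := by
    intro r hr
    obtain ⟨o, rfl⟩ := hrep r hr
    rw [Finset.mul_sum]
    refine Subalgebra.sum_mem _ fun i _ => ?_
    have : T ^ N * (algebraMap P.O K' (o i) * (g i : K')) =
        algebraMap P.O K' (o i) * (T ^ N * (g i : K')) := by ring
    rw [this]
    exact mul_mem (Subalgebra.algebraMap_mem _ _) (hgN i)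
  refine ⟨?_, T ^ N, pow_mem (Subalgebra.algebraMap_mem _ t) N, pow_ne_zero _ hT0, hRN⟩
  -- residue field generators
  have hfd := ff_finiteDimensional_residueField hK P
  obtain ⟨d, s, hs⟩ := Module.Finite.exists_fin (R := k) (M := ResidueField P.O)
  choose β hβ using fun j => residue_surjective (s j)
  have hdecomp : ∀ o : P.O, ∃ (c : Fin d → k) (o' : P.O), o = ∑ j, c j • β j + t * o' := by
    intro o
    have hmem : residue P.O o ∈ Submodule.span k (Set.range s) := by
      rw [hs]; exact Submodule.mem_top
    obtain ⟨c, hc⟩ := (Submodule.mem_span_range_iff_exists_fun k).1 hmem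
    have h0 : residue P.O (o - ∑ j, c j • β j) = 0 := by
      rw [map_sub, map_sum, ← hc, sub_eq_zero]
      refine (Finset.sum_congr rfl fun j _ => ?_).symm
      rw [← hβ j]
      rfl
    rw [residue_eq_zero_iff, Valuation.mem_maximalIdeal_iff] at h0
    have h1 := le_exp_neg_one_of_lt_one h0
    refine ⟨c, ⟨((o - ∑ j, c j • β j : P.O) : K) / t, ?_⟩, ?_⟩
    · change P.1 (((o - ∑ j, c j • β j : P.O) : K) / t) ≤ 1
      rw [map_div₀, ht, div_le_iff₀ exp_pos, one_mul]
      exact h1
    · apply Subtype.ext
      change (o : K) = ((∑ j, c j • β j : P.O) : K) + (t : K) * (((o - ∑ j, c j • β j : P.O) : K) / t)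
      rw [mul_div_cancel₀ _ ht0]
      change (o : K) = ((∑ j, c j • β j : P.O) : K) + ((o : K) - ((∑ j, c j • β j : P.O) : K))
      ring
  -- first step
  have hA : ∀ r ∈ integralClosure P.O K', ∃ (c : Fin m → Fin d → k),
      ∃ r' ∈ integralClosure P.O K',
        r = ∑ i, ∑ j, c i j • (algebraMap P.O K' (β j) * (g i : K')) + T * r' := by
    intro r hr
    obtain ⟨o, rfl⟩ := hrep r hr
    choose c o' ho' using fun i => hdecomp (o i)
    refine ⟨c, ∑ i, algebraMap P.O K' (o' i) * (g i : K'), ?_, ?_⟩
    · exact Subalgebra.sum_mem _ fun i _ =>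
        mul_mem (Subalgebra.algebraMap_mem _ _) (g i).2
    · rw [Finset.mul_sum, ← Finset.sum_add_distrib]
      refine Finset.sum_congr rfl fun i _ => ?_
      conv_lhs => rw [ho' i]
      rw [map_add, map_sum, map_mul, add_mul, Finset.sum_mul]
      congr 1
      · refine Finset.sum_congr rfl fun j _ => ?_
        rw [algebraMap_smul', smul_mul_assoc]
      · ring
  -- the finite-dimensional space
  let V : Submodule k K' := Submodule.span k (Set.range fun x : Fin N × Fin m × Fin d =>
    T ^ (x.1 : ℕ) * (algebraMap P.O K' (β x.2.2) * (g x.2.1 : K')))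
  have hVfin : FiniteDimensional k V := FiniteDimensional.span_of_finite k (Set.finite_range _)
  have hB : ∀ l : ℕ, l ≤ N → ∀ r ∈ integralClosure P.O K', ∃ v ∈ V,
      ∃ r' ∈ integralClosure P.O K', r = v + T ^ l * r' := by
    intro l
    induction l with
    | zero =>
      intro _ r hr
      exact ⟨0, zero_mem _, r, hr, by rw [pow_zero, one_mul, zero_add]⟩
    | succ l ih =>
      intro hl r hr
      obtain ⟨v, hv, r', hr', rfl⟩ := ih (by omega) r hr
      obtain ⟨c, r'', hr'', rfl⟩ := hA r' hr'
      refine ⟨v + T ^ l * ∑ i, ∑ j, c i j • (algebraMap P.O K' (β j) * (g i : K')),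
        add_mem hv ?_, r'', hr'', by ring⟩
      rw [Finset.mul_sum]
      refine Submodule.sum_mem _ fun i _ => ?_
      rw [Finset.mul_sum]
      refine Submodule.sum_mem _ fun j _ => ?_
      rw [mul_smul_comm]
      refine Submodule.smul_mem _ _ (Submodule.subset_span ?_)
      exact ⟨(⟨l, by omega⟩, i, j), rfl⟩
  refine ⟨V, hVfin, fun r hr => ?_⟩
  obtain ⟨v, hv, r', hr', rfl⟩ := hB N le_rfl r hr
  exact ⟨T ^ N * r', hRN r' hr', by rwa [add_sub_cancel_right]⟩

end Groth.Agent.Lib.Helper63.ConductorFin
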