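import Groth.Agent.Lib.Helper63.PurelyInsep
import Groth.Agent.Lib.Helper63.ConstExtGeometric
import Mathlib.FieldTheory.PurelyInseparable.Tower
import Mathlib.FieldTheory.PrimitiveElement

/-! Constant field extensions with one place above (helper63): `k'/k` purely inseparable, or the
residue field purely inseparable. -/

set_option autoImplicit false
set_option linter.style.haveILetI false
set_option linter.unusedSectionVars false

namespace Groth.Agent.Lib.Helper63.ConstExtUnique

open IntermediateField FunFld TensorProduct Groth.Agent.Lib.Helper55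
  Groth.Agent.Lib.Helper63.FunFldExt Groth.Agent.Lib.Helper63.PurelyInsep
  Groth.Agent.Lib.Helper63.ConstExtGeometric

universe u v

variable {k k' : Type u} {K K' : Type v} [Field k] [Field k'] [Field K] [Field K']
  [Algebra k k'] [FiniteDimensional k k'] [Algebra k K] [Algebra K K'] [Algebra k' K']
  [Algebra k K'] [IsScalarTower k k' K'] [IsScalarTower k K K']

omit [FiniteDimensional k k'] in
/-- If `k'/k₀` is purely inseparable and `K₁ ⊇ K k₀`, every element of `K' = k' K` has a positive
power in `K₁`. -/
theorem exists_pow_mem (h : Function.Surjective (Algebra.TensorProduct.productMap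
      (IsScalarTower.toAlgHom k k' K') (IsScalarTower.toAlgHom k K K')))
    (k₀ : IntermediateField k k') [IsPurelyInseparable k₀ k']
    (K₁ : IntermediateField K K') (hk₀ : ∀ c ∈ k₀, algebraMap k' K' c ∈ K₁) (z : K') :
    ∃ n : ℕ, 0 < n ∧ z ^ n ∈ K₁ := by
  set q := ringExpChar k with hq
  haveI : ExpChar k q := ringExpChar.expChar k
  haveI : ExpChar k₀ q := expChar_of_injective_algebraMap (algebraMap k k₀).injective q
  haveI : ExpChar K' q := expChar_of_injective_algebraMap (algebraMap k K').injective q
  have key : ∀ t : k' ⊗[k] K, ∃ m : ℕ, (Algebra.TensorProduct.productMap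
      (IsScalarTower.toAlgHom k k' K') (IsScalarTower.toAlgHom k K K') t) ^ q ^ m ∈ K₁ := by
    intro t
    induction t using TensorProduct.induction_on with
    | zero => exact ⟨0, by simp⟩
    | tmul c x =>
      obtain ⟨n, c₀, hc₀⟩ := IsPurelyInseparable.pow_mem k₀ q c
      refine ⟨n, ?_⟩
      rw [Algebra.TensorProduct.productMap_apply_tmul, mul_pow]
      apply mul_mem
      · change algebraMap k' K' c ^ q ^ n ∈ K₁
        rw [← map_pow, ← hc₀]
        exact hk₀ _ c₀.2
      · change algebraMap K K' x ^ q ^ n ∈ K₁
        rw [← map_pow]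
        exact K₁.algebraMap_mem _
    | add t₁ t₂ h₁ h₂ =>
      obtain ⟨m₁, hm₁⟩ := h₁
      obtain ⟨m₂, hm₂⟩ := h₂
      refine ⟨m₁ + m₂, ?_⟩
      rw [map_add, add_pow_expChar_pow]
      apply add_mem
      · rw [pow_add, pow_mul]; exact pow_mem hm₁ _
      · rw [add_comm m₁ m₂, pow_add, pow_mul]; exact pow_mem hm₂ _
  obtain ⟨t, rfl⟩ := h z
  obtain ⟨m, hm⟩ := key t
  exact ⟨q ^ m, pow_pos (expChar_pos k q) m, hm⟩

/-- Case `k'/k` purely inseparable: exactly one place above. -/
theorem existsUnique_of_isPurelyInseparable (h : Function.Bijective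
      (Algebra.TensorProduct.productMap
      (IsScalarTower.toAlgHom k k' K') (IsScalarTower.toAlgHom k K K')))
    (hK : IsFunctionField k K) [IsPurelyInseparable k k'] (P : Place k K) :
    ∃! Q : Place k K', IsOver Q P := by
  haveI := finite_of_bijective h
  obtain ⟨Q, hQ⟩ := exists_isOver (K' := K') hK P
  refine ⟨Q, hQ, fun Q' hQ' => ?_⟩
  haveI : IsPurelyInseparable (⊥ : IntermediateField k k') k' :=
    IsPurelyInseparable.tower_top k (⊥ : IntermediateField k k') k'
  have hk₀ : ∀ c ∈ (⊥ : IntermediateField k k'),
      algebraMap k' K' c ∈ (⊥ : IntermediateField K K') := by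
    intro c hc
    obtain ⟨c₀, rfl⟩ := IntermediateField.mem_bot.1 hc
    rw [IntermediateField.mem_bot]
    refine ⟨algebraMap k K c₀, ?_⟩
    rw [← IsScalarTower.algebraMap_apply, ← IsScalarTower.algebraMap_apply]
  refine eq_of_pow_mem (fun z => ?_) hQ' hQ
  obtain ⟨n, hn, hz⟩ := exists_pow_mem h.2 ⊥ ⊥ hk₀ z
  exact ⟨n, hn, IntermediateField.mem_bot.1 hz⟩

open IsLocalRing Polynomial in
/-- Case `κ(P)/k` purely inseparable: exactly one place above. -/
theorem existsUnique_of_residue_isPurelyInseparable (h : Function.Bijective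
      (Algebra.TensorProduct.productMap
      (IsScalarTower.toAlgHom k k' K') (IsScalarTower.toAlgHom k K K')))
    (hK : IsFunctionField k K) (P : Place k K)
    [IsPurelyInseparable k (ResidueField P.O)] :
    ∃! Q : Place k K', IsOver Q P := by
  haveI := finite_of_bijective h
  obtain ⟨Q, hQ⟩ := exists_isOver (K' := K') hK P
  refine ⟨Q, hQ, fun Q' hQ' => ?_⟩
  -- the separable closure of `k` in `k'` and a primitive element
  set ks : IntermediateField k k' := separableClosure k k' with hks
  obtain ⟨α, hα⟩ := Field.exists_primitive_element k ks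
  set a : K' := algebraMap k' K' (α : k') with ha
  set K₁ : IntermediateField K K' := K⟮a⟯ with hK₁
  have hαint : IsIntegral k α := Algebra.IsIntegral.isIntegral α
  set g := minpoly k α with hg
  have hgm : g.Monic := minpoly.monic hαint
  have hgirr : Irreducible g := minpoly.irreducible hαint
  have hgsep : g.Separable := Algebra.IsSeparable.isSeparable k α
  have hga : aeval a g = 0 := by
    have h1 : aeval (α : k') g = 0 := by
      have := minpoly.aeval k α
      rw [← hg] at this
      have h2 := Polynomial.aeval_algebraMap_apply k' α g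
      rw [this, map_zero] at h2
      exact h2
    have h3 := Polynomial.aeval_algebraMap_apply K' (α : k') g
    rw [h1, map_zero] at h3
    exact h3
  have hirr : Irreducible (g.map (algebraMap k (ResidueField P.O))) :=
    Polynomial.Separable.map_irreducible_of_isPurelyInseparable (ResidueField P.O) hgsep hgirr
  -- degree bound
  have hdegle : Module.finrank K K₁ ≤ g.natDegree := by
    have haint : IsIntegral K a := Algebra.IsIntegral.isIntegral a
    rw [hK₁, IntermediateField.adjoin.finrank haint]
    have hdvd : minpoly K a ∣ g.map (algebraMap k K) := by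
      apply minpoly.dvd
      rw [Polynomial.aeval_map_algebraMap]
      exact hga
    have := Polynomial.natDegree_le_of_dvd hdvd (hgm.map _).ne_zero
    rwa [hgm.natDegree_map] at this
  -- `K₁` contains the image of `ks`
  have hk₀ : ∀ c ∈ ks, algebraMap k' K' c ∈ K₁ := by
    intro c hc
    have hmem : (⟨c, hc⟩ : ks) ∈ k⟮α⟯ := by rw [hα]; trivial
    have key : ∀ x : ks, x ∈ k⟮α⟯ → algebraMap k' K' (x : k') ∈ K₁ := by
      intro x hx
      induction hx using IntermediateField.adjoin_induction with
      | mem y hy =>
        rw [Set.mem_singleton_iff] at hy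
        rw [hy]
        exact mem_adjoin_simple_self K a
      | algebraMap c₀ =>
        have : algebraMap k' K' ((algebraMap k ks c₀ : ks) : k') =
            algebraMap K K' (algebraMap k K c₀) := by
          rw [← IsScalarTower.algebraMap_apply k K K']
          exact (IsScalarTower.algebraMap_apply k k' K' c₀).symm
        rw [this]
        exact K₁.algebraMap_mem _
      | add x y _ _ hx hy =>
        have : algebraMap k' K' ((x + y : ks) : k') =
            algebraMap k' K' (x : k') + algebraMap k' K' (y : k') := by
          rw [← map_add]; rfl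
        rw [this]; exact add_mem hx hy
      | inv x _ hx =>
        have : algebraMap k' K' ((x⁻¹ : ks) : k') = (algebraMap k' K' (x : k'))⁻¹ := by
          rw [← map_inv₀]; rfl
        rw [this]; exact inv_mem hx
      | mul x y _ _ hx hy =>
        have : algebraMap k' K' ((x * y : ks) : k') =
            algebraMap k' K' (x : k') * algebraMap k' K' (y : k') := by
          rw [← map_mul]; rfl
        rw [this]; exact mul_mem hx hy
    exact key ⟨c, hc⟩ hmem
  -- places of `K₁`
  haveI : IsScalarTower k K₁ K' := IsScalarTower.of_algebraMap_eq (fun c => rfl)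
  haveI : IsScalarTower k K K₁ := IsScalarTower.of_algebraMap_eq (fun c => by
    apply Subtype.ext
    exact IsScalarTower.algebraMap_apply k K K' c)
  obtain ⟨Q₁, hQ₁⟩ := exists_isOver_below (K := K₁) Q
  obtain ⟨Q₁', hQ₁'⟩ := exists_isOver_below (K := K₁) Q'
  have hQ₁P : IsOver Q₁ P := isOver_of_isOver_of_isOver hQ hQ₁
  have hQ₁'P : IsOver Q₁' P := isOver_of_isOver_of_isOver hQ' hQ₁'
  have hf : ∀ Q₂ : Place k K₁, IsOver Q₂ P → Module.finrank K K₁ * P.deg ≤ Q₂.deg := by
    intro Q₂ hQ₂
    have ha₁ : aeval (⟨a, mem_adjoin_simple_self K a⟩ : K₁) g = 0 := by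
      apply Subtype.ext
      have := Polynomial.aeval_algebraMap_apply K' (⟨a, mem_adjoin_simple_self K a⟩ : K₁) g
      change aeval a g = _ at this
      rw [hga] at this
      exact this.symm
    have := deg_ge_of_irreducible_map (K' := K₁) hK hQ₂ hgm ha₁ hirr
    exact (Nat.mul_le_mul_right _ hdegle).trans this
  have heq : Q₁' = Q₁ := eq_of_deg_ge (K' := K₁) hK P hf hQ₁'P hQ₁P
  rw [heq] at hQ₁'
  haveI : IsPurelyInseparable ks k' := separableClosure.isPurelyInseparable k k'
  refine eq_of_pow_mem (K := K₁) (fun z => ?_) hQ₁' hQ₁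
  obtain ⟨n, hn, hz⟩ := exists_pow_mem h.2 ks K₁ hk₀ z
  exact ⟨n, hn, ⟨⟨z ^ n, hz⟩, rfl⟩⟩

end Groth.Agent.Lib.Helper63.ConstExtUnique
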