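import Groth.Agent.Lib.Helper63.ConductorFin
import Groth.Agent.Lib.Helper63.LocResDual
import Groth.Agent.Lib.Helper63.ConstExtGeometric

/-! Nonsingular places with respect to a finite constant extension `k'/k`, `K' = k' ⊗ K`:
characterisation through coordinates in a basis of `k'/k` (helper63). -/

set_option autoImplicit false
set_option linter.style.haveILetI false
set_option linter.unusedSectionVars false

namespace Groth.Agent.Lib.Helper63.NonsingBasic

open WithZero FunFld TensorProduct Module Groth.Agent.Lib.Helper55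
  Groth.Agent.Lib.Helper63.FunFldExt Groth.Agent.Lib.Helper63.FundIneq
  Groth.Agent.Lib.Helper63.ConstExtGeometric

universe u v w

variable {k k' : Type u} {K : Type v} {K' : Type w} [Field k] [Field k'] [Field K] [Field K']
  [Algebra k k'] [FiniteDimensional k k'] [Algebra k K] [Algebra K K'] [Algebra k' K']
  [Algebra k K'] [IsScalarTower k k' K'] [IsScalarTower k K K']

section basis

variable {ι : Type*}

/-- The `K`-basis of `K' = k' ⊗ K` given by a `k`-basis of `k'`. -/
noncomputable def basisK (h : Function.Bijective (Algebra.TensorProduct.productMap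
      (IsScalarTower.toAlgHom k k' K') (IsScalarTower.toAlgHom k K K')))
    (b : Basis ι k k') : Basis ι K K' :=
  (Algebra.TensorProduct.basis K b).map
    (LinearEquiv.ofBijective (ψ (k := k) (k' := k') (K := K) (K' := K')).toLinearMap
      (ψ_bijective h))

theorem basisK_apply (h : Function.Bijective (Algebra.TensorProduct.productMap
      (IsScalarTower.toAlgHom k k' K') (IsScalarTower.toAlgHom k K K')))
    (b : Basis ι k k') (i : ι) : basisK h b i = algebraMap k' K' (b i) := by
  rw [basisK, Basis.map_apply, Algebra.TensorProduct.basis_apply]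
  change ψ ((1 : K) ⊗ₜ[k] b i) = _
  simp [ψ, Algebra.TensorProduct.productLeftAlgHom]

/-- Uniqueness of coordinates. -/
theorem coord_unique [Fintype ι] (h : Function.Bijective (Algebra.TensorProduct.productMap
      (IsScalarTower.toAlgHom k k' K') (IsScalarTower.toAlgHom k K K')))
    (b : Basis ι k k') {a a' : ι → K}
    (heq : ∑ i, algebraMap k' K' (b i) * algebraMap K K' (a i) =
      ∑ i, algebraMap k' K' (b i) * algebraMap K K' (a' i)) : a = a' := by
  have h1 : ∀ c : ι → K, ∑ i, algebraMap k' K' (b i) * algebraMap K K' (c i) =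
      ∑ i, c i • basisK h b i := by
    intro c
    refine Finset.sum_congr rfl (fun i _ => ?_)
    rw [basisK_apply, Algebra.smul_def, mul_comm]
  rw [h1, h1] at heq
  have := (basisK h b).linearIndependent
  rw [Fintype.linearIndependent_iff] at this
  funext i
  have h2 : ∑ i, (a i - a' i) • basisK h b i = 0 := by
    simp only [sub_smul, Finset.sum_sub_distrib, heq, sub_self]
  exact sub_eq_zero.1 (this _ h2 i)

/-- Existence of coordinates. -/
theorem exists_coord [Fintype ι] (h : Function.Bijective (Algebra.TensorProduct.productMap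
      (IsScalarTower.toAlgHom k k' K') (IsScalarTower.toAlgHom k K K')))
    (b : Basis ι k k') (z : K') :
    ∃ a : ι → K, z = ∑ i, algebraMap k' K' (b i) * algebraMap K K' (a i) := by
  refine ⟨fun i => (basisK h b).repr z i, ?_⟩
  conv_lhs => rw [← (basisK h b).sum_repr z]
  refine Finset.sum_congr rfl (fun i _ => ?_)
  rw [basisK_apply, Algebra.smul_def, mul_comm]

end basis


section adjoin

variable {ι : Type*} [Fintype ι]

omit [FiniteDimensional k k'] in
/-- Membership in `A[k']` through coordinates. -/
theorem mem_adjoin_iff (b : Basis ι k k') (A : Subring K)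
    (hA : ∀ c : k, algebraMap k K c ∈ A) (z : K') :
    z ∈ Algebra.adjoin ↥(A.map (algebraMap K K')) (Set.range (algebraMap k' K')) ↔
      ∃ a : ι → K, (∀ i, a i ∈ A) ∧
        z = ∑ i, algebraMap k' K' (b i) * algebraMap K K' (a i) := by
  constructor
  · intro hz
    rw [← Subalgebra.mem_toSubmodule, Algebra.adjoin_eq_span] at hz
    have hcl : ∀ x ∈ Submonoid.closure (Set.range (algebraMap k' K')),
        x ∈ Set.range (algebraMap k' K') := by
      intro x hx
      induction hx using Submonoid.closure_induction with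
      | mem y hy => exact hy
      | one => exact ⟨1, map_one _⟩
      | mul x y _ _ hx hy =>
        obtain ⟨a, rfl⟩ := hx
        obtain ⟨c, rfl⟩ := hy
        exact ⟨a * c, map_mul _ _ _⟩
    induction hz using Submodule.span_induction with
    | mem x hx =>
      obtain ⟨c, rfl⟩ := hcl x hx
      refine ⟨fun i => algebraMap k K (b.repr c i), fun i => hA _, ?_⟩
      conv_lhs => rw [← b.sum_repr c]
      rw [map_sum]
      refine Finset.sum_congr rfl (fun i _ => ?_)
      rw [Algebra.smul_def, map_mul, ← IsScalarTower.algebraMap_apply k k' K',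
        ← IsScalarTower.algebraMap_apply k K K', mul_comm]
    | zero =>
      exact ⟨fun _ => 0, fun _ => zero_mem _, by simp⟩
    | add x y _ _ hx hy =>
      obtain ⟨a, ha, rfl⟩ := hx
      obtain ⟨a', ha', rfl⟩ := hy
      refine ⟨fun i => a i + a' i, fun i => add_mem (ha i) (ha' i), ?_⟩
      rw [← Finset.sum_add_distrib]
      refine Finset.sum_congr rfl (fun i _ => ?_)
      rw [map_add, mul_add]
    | smul r x _ hx =>
      obtain ⟨a, ha, rfl⟩ := hx
      obtain ⟨r, hr⟩ := r
      obtain ⟨r₀, hr₀, rfl⟩ := Subring.mem_map.1 hr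
      refine ⟨fun i => r₀ * a i, fun i => mul_mem hr₀ (ha i), ?_⟩
      change algebraMap K K' r₀ * _ = _
      rw [Finset.mul_sum]
      refine Finset.sum_congr rfl (fun i _ => ?_)
      rw [map_mul]
      ring
  · rintro ⟨a, ha, rfl⟩
    refine Subalgebra.sum_mem _ (fun i _ => ?_)
    refine mul_mem (Algebra.subset_adjoin ⟨b i, rfl⟩) ?_
    exact Subalgebra.algebraMap_mem _
      (⟨algebraMap K K' (a i), Subring.mem_map.2 ⟨a i, ha i, rfl⟩⟩ : ↥(A.map (algebraMap K K')))

end adjoin


section ns

variable {ι : Type*} [Fintype ι]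

omit [FiniteDimensional k k'] [Algebra k' K'] [IsScalarTower k k' K'] in
/-- Integrality over the image of `O_P` through the places above `P`. -/
theorem isIntegral_image_iff [FiniteDimensional K K'] (hK : IsFunctionField k K) (P : Place k K)
    (z : K') :
    IsIntegral ↥(P.O.toSubring.map (algebraMap K K')) z ↔
      ∀ Q : Place k K', IsOver Q P → Q.1 z ≤ 1 := by
  constructor
  · intro hz Q hQ
    obtain ⟨e, he⟩ := hQ
    refine Groth.Agent.Lib.Helper63.IntClosure.val_le_one_of_isIntegral' Q.1 (fun x => ?_) hz
    obtain ⟨x, hx⟩ := x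
    obtain ⟨x₀, hx₀, rfl⟩ := Subring.mem_map.1 hx
    exact val_le_one_of_isOverWith he hx₀
  · intro hs
    letI alg : Algebra P.O K' := ((algebraMap K K').comp P.O.subtype).toAlgebra
    haveI : IsScalarTower P.O K K' := IsScalarTower.of_algebraMap_eq (fun _ => rfl)
    have h1 : IsIntegral P.O z :=
      (Groth.Agent.Lib.Helper63.LocResDual.isIntegral_iff hK P z).2 hs
    obtain ⟨p, hp, hpz⟩ := h1
    let g : P.O →+* ↥(P.O.toSubring.map (algebraMap K K')) :=
      ((algebraMap K K').comp P.O.subtype).codRestrict _
        (fun x => Subring.mem_map.2 ⟨x.1, x.2, rfl⟩)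
    refine ⟨p.map g, hp.map g, ?_⟩
    rw [Polynomial.eval₂_map]
    exact hpz

/-- The nonsingularity condition in coordinates. -/
theorem ns_iff [FiniteDimensional K K']
    (hK : IsFunctionField k K) (P : Place k K) (b : Basis ι k k') :
    integralClosure ↥(P.O.toSubring.map (algebraMap K K')) K' =
        Algebra.adjoin ↥(P.O.toSubring.map (algebraMap K K')) (Set.range (algebraMap k' K')) ↔
      ∀ z : K', (∀ Q : Place k K', IsOver Q P → Q.1 z ≤ 1) →
        ∃ a : ι → K, (∀ i, P.1 (a i) ≤ 1) ∧
          z = ∑ i, algebraMap k' K' (b i) * algebraMap K K' (a i) := by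
  have hA : ∀ c : k, algebraMap k K c ∈ P.O.toSubring := fun c => P.2.1 c
  constructor
  · intro heq z hz
    have h1 : z ∈ integralClosure ↥(P.O.toSubring.map (algebraMap K K')) K' :=
      (isIntegral_image_iff hK P z).2 hz
    rw [heq, mem_adjoin_iff b P.O.toSubring hA] at h1
    exact h1
  · intro hall
    apply le_antisymm
    · intro z hz
      rw [mem_adjoin_iff b P.O.toSubring hA]
      exact hall z ((isIntegral_image_iff hK P z).1 hz)
    · refine Algebra.adjoin_le ?_
      rintro _ ⟨c, rfl⟩
      refine (isIntegral_image_iff hK P _).2 (fun Q _ => ?_)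
      refine val_le_one_of_isIntegral Q.1 Q.2.1 ?_
      have hc : IsIntegral k c := Algebra.IsIntegral.isIntegral c
      exact hc.map (IsScalarTower.toAlgHom k k' K')

/-- A valuation of `K'` over a valuation of `K` (no reference to constants). -/
def ValOver (w : Valuation K' (WithZero (Multiplicative ℤ)))
    (v : Valuation K (WithZero (Multiplicative ℤ))) : Prop :=
  Function.Surjective w ∧ ∃ e : ℕ, ∀ x : K, w (algebraMap K K' x) = v x ^ e

omit [FiniteDimensional k k'] [Algebra k' K'] [IsScalarTower k k' K'] in
theorem forall_isOver_iff (P : Place k K) (z : K') :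
    (∀ Q : Place k K', IsOver Q P → Q.1 z ≤ 1) ↔
      ∀ w : Valuation K' (WithZero (Multiplicative ℤ)), ValOver w P.1 → w z ≤ 1 := by
  constructor
  · intro hall w hw
    obtain ⟨hsurj, e, he⟩ := hw
    have hk : ∀ c : k, w (algebraMap k K' c) ≤ 1 := by
      intro c
      rw [IsScalarTower.algebraMap_apply k K K', he]
      exact pow_le_one₀ zero_le (P.2.1 c)
    exact hall ⟨w, hk, hsurj⟩ ⟨e, he⟩
  · intro hall Q hQ
    exact hall Q.1 ⟨Q.2.2, hQ⟩

/-- The nonsingularity condition in coordinates, valuation form. -/
theorem ns_iff' [FiniteDimensional K K']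
    (hK : IsFunctionField k K) (P : Place k K) (b : Basis ι k k') :
    integralClosure ↥(P.O.toSubring.map (algebraMap K K')) K' =
        Algebra.adjoin ↥(P.O.toSubring.map (algebraMap K K')) (Set.range (algebraMap k' K')) ↔
      ∀ z : K', (∀ w : Valuation K' (WithZero (Multiplicative ℤ)), ValOver w P.1 → w z ≤ 1) →
        ∃ a : ι → K, (∀ i, P.1 (a i) ≤ 1) ∧
          z = ∑ i, algebraMap k' K' (b i) * algebraMap K K' (a i) := by
  rw [ns_iff hK P b]
  constructor
  · intro hall z hz
    exact hall z ((forall_isOver_iff P z).2 hz)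
  · intro hall z hz
    exact hall z ((forall_isOver_iff P z).1 hz)

end ns

end Groth.Agent.Lib.Helper63.NonsingBasic
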