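import Groth.Agent.Lib.Helper63.ConstExtUnram
import Groth.Agent.Lib.Helper63.NonsingBasic

/-! Every place is nonsingular with respect to a separable constant field extension, in the
subring form (helper63). -/

set_option autoImplicit false
set_option linter.style.haveILetI false
set_option linter.unusedSectionVars false

namespace Groth.Agent.Lib.Helper63.ConstExtUnramSub

open WithZero FunFld TensorProduct Module Groth.Agent.Lib.Helper55
  Groth.Agent.Lib.Helper63.FunFldExt Groth.Agent.Lib.Helper63.FundIneq
  Groth.Agent.Lib.Helper63.ConstExtGeometric Groth.Agent.Lib.Helper63.NonsingBasic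

universe u v w

variable {k k' : Type u} {K : Type v} {K' : Type w} [Field k] [Field k'] [Field K] [Field K']
  [Algebra k k'] [FiniteDimensional k k'] [Algebra k K] [Algebra K K'] [Algebra k' K']
  [Algebra k K'] [IsScalarTower k k' K'] [IsScalarTower k K K']

theorem integralClosure_map_eq [Algebra.IsSeparable k k']
    (h : Function.Bijective (Algebra.TensorProduct.productMap
      (IsScalarTower.toAlgHom k k' K') (IsScalarTower.toAlgHom k K K')))
    (hK : IsFunctionField k K) (P : Place k K) :
    integralClosure ↥(P.O.toSubring.map (algebraMap K K')) K' =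
      Algebra.adjoin ↥(P.O.toSubring.map (algebraMap K K')) (Set.range (algebraMap k' K')) := by
  haveI : FiniteDimensional K K' := finite_of_bijective h
  letI alg : Algebra P.O K' := ((algebraMap K K').comp P.O.subtype).toAlgebra
  haveI : IsScalarTower P.O K K' := IsScalarTower.of_algebraMap_eq (fun _ => rfl)
  have h0 := Groth.Agent.Lib.Helper63.ConstExtUnram.integralClosure_eq h.2 hK P
  have hA : ∀ c : k, algebraMap k K c ∈ P.O.toSubring := fun c => P.2.1 c
  rw [ns_iff hK P (Module.finBasis k k')]
  intro z hz
  have h1 : IsIntegral P.O z := (Groth.Agent.Lib.Helper63.LocResDual.isIntegral_iff hK P z).2 hz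
  have h2 : z ∈ Algebra.adjoin P.O (Set.range (algebraMap k' K')) := by
    rw [← h0]; exact h1
  have h3 : z ∈ Algebra.adjoin ↥(P.O.toSubring.map (algebraMap K K'))
      (Set.range (algebraMap k' K')) := by
    clear h1 hz
    induction h2 using Algebra.adjoin_induction with
    | mem x hx => exact Algebra.subset_adjoin hx
    | algebraMap r =>
      exact Subalgebra.algebraMap_mem _
        (⟨algebraMap K K' r.1, Subring.mem_map.2 ⟨r.1, r.2, rfl⟩⟩ :
          ↥(P.O.toSubring.map (algebraMap K K')))
    | add x y _ _ hx hy => exact add_mem hx hy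
    | mul x y _ _ hx hy => exact mul_mem hx hy
  exact (mem_adjoin_iff (Module.finBasis k k') P.O.toSubring hA z).1 h3

end Groth.Agent.Lib.Helper63.ConstExtUnramSub
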