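import Mathlib

/-!
# Index of a twisted diagonal form over the fraction field of a DVR

Auxiliary lemmas for S17785.
-/

set_option autoImplicit false
universe u

namespace Groth.Agent.Lib.Helper63.DiagIndex

open Polynomial IsLocalRing IsDedekindDomain

/-- In a vanishing finite sum with a nonzero term, two distinct nonzero terms have the same
valuation. -/
theorem exists_pair_of_sum_eq_zero {F Γ : Type*} [Field F] [LinearOrderedCommGroupWithZero Γ]
    (v : Valuation F Γ) {ι : Type*} [DecidableEq ι] (s : Finset ι) (T : ι → F)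
    (hsum : ∑ i ∈ s, T i = 0) (hne : ∃ i ∈ s, T i ≠ 0) :
    ∃ i ∈ s, ∃ j ∈ s, i ≠ j ∧ T i ≠ 0 ∧ T j ≠ 0 ∧ v (T i) = v (T j) := by
  obtain ⟨i1, hi1, hT1⟩ := hne
  obtain ⟨i0, hi0, hmax⟩ := Finset.exists_max_image s (fun i => v (T i)) ⟨i1, hi1⟩
  have hv0 : v (T i0) ≠ 0 := by
    intro h
    have := hmax i1 hi1
    rw [h] at this
    exact hT1 ((v.zero_iff).1 (le_antisymm this zero_le))
  have hT0 : T i0 ≠ 0 := fun h => hv0 (by rw [h, map_zero])
  by_contra hcon
  push Not at hcon
  have hlt : ∀ j ∈ s.erase i0, v (T j) < v (T i0) := by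
    intro j hj
    have hj' := Finset.mem_erase.1 hj
    rcases eq_or_ne (T j) 0 with h0 | h0
    · rw [h0, map_zero]; exact zero_lt_iff.2 hv0
    · exact lt_of_le_of_ne (hmax j hj'.2)
        (fun h => hcon i0 hi0 j hj'.2 (Ne.symm hj'.1) hT0 h0 h.symm)
  have h1 : v (∑ j ∈ s.erase i0, T j) < v (T i0) := Valuation.map_sum_lt v hv0 hlt
  have h2 : T i0 = - ∑ j ∈ s.erase i0, T j := by
    rw [eq_neg_iff_add_eq_zero, Finset.add_sum_erase s T hi0, hsum]
  rw [h2, Valuation.map_neg] at h1
  exact lt_irrefl _ h1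

/-- The number `I(d, N)`. -/
def I (d N : ℕ) : ℕ := ((Finset.Icc 1 N).filter (fun δ => δ ∣ d)).gcd (fun δ => d / δ)

theorem I_dvd_of_dvd_mul (d N m δ' : ℕ) (hd : 1 ≤ d) (h1 : 1 ≤ δ') (hN : δ' ≤ N)
    (h : d ∣ m * δ') : I d N ∣ m := by
  set g := Nat.gcd d δ' with hg
  have hgpos : 0 < g := Nat.gcd_pos_of_pos_left _ hd
  have hgd : g ∣ d := Nat.gcd_dvd_left _ _
  have hgδ : g ∣ δ' := Nat.gcd_dvd_right _ _
  have hmem : g ∈ (Finset.Icc 1 N).filter (fun δ => δ ∣ d) := by
    rw [Finset.mem_filter, Finset.mem_Icc]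
    exact ⟨⟨hgpos, le_trans (Nat.le_of_dvd h1 hgδ) hN⟩, hgd⟩
  have hI : I d N ∣ d / g := Finset.gcd_dvd hmem
  refine hI.trans ?_
  obtain ⟨a, ha⟩ := hgd
  obtain ⟨b, hb⟩ := hgδ
  have hcop : Nat.Coprime a b := by
    have := Nat.coprime_div_gcd_div_gcd (m := d) (n := δ') hgpos
    rwa [← hg, ha, hb, Nat.mul_div_cancel_left _ hgpos, Nat.mul_div_cancel_left _ hgpos] at this
  rw [ha, Nat.mul_div_cancel_left _ hgpos]
  have h2 : g * a ∣ g * (m * b) := by
    have : m * δ' = g * (m * b) := by rw [hb]; ring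
    rw [← this, ← ha]; exact h
  have h3 : a ∣ m * b := (Nat.mul_dvd_mul_iff_left hgpos).1 h2
  exact hcop.dvd_of_dvd_mul_right h3

theorem int_aux (a b Q e d : ℕ) (la lb : ℤ) (hab : a < b)
    (h : ((a * Q : ℕ) : ℤ) * (-(e : ℤ)) + (d : ℤ) * la = ((b * Q : ℕ) : ℤ) * (-(e : ℤ)) + (d : ℤ) * lb) :
    d ∣ (Q * e) * (b - a) := by
  have h1 : (d : ℤ) * (lb - la) = ((Q * e * (b - a) : ℕ) : ℤ) := by
    push_cast [Nat.cast_sub hab.le] at h ⊢
    linear_combination -h
  exact Int.natCast_dvd_natCast.1 ⟨_, h1.symm⟩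

theorem sep_case_prime (R K M : Type*) [CommRing R] [IsDomain R] [IsDiscreteValuationRing R]
    [Field K] [Algebra R K]
    [IsFractionRing R K] [Field M] [Algebra K M] [Algebra R M] [IsScalarTower R K M]
    (ϖ : R) (hϖ : Irreducible ϖ) (d N Q : ℕ) (hd : 1 ≤ d)
    (y : Fin (N+1) → M) (hy : y ≠ 0)
    (h : y 0 ^ d = ∑ i : Fin N, (algebraMap R M ϖ ^ ((i:ℕ)+1)) ^ Q * y i.succ ^ d)
    (S : Type*) [CommRing S] [IsDedekindDomain S] [Algebra R S] [Module.IsTorsionFree R S]
    [Algebra S M] [IsFractionRing S M] [IsScalarTower R S M]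
    (w : HeightOneSpectrum S) [w.asIdeal.LiesOver (maximalIdeal R)] :
    I d N ∣ Q * (maximalIdeal R).ramificationIdx' w.asIdeal := by
  classical
  set e := (maximalIdeal R).ramificationIdx' w.asIdeal with he
  let v : HeightOneSpectrum R := ⟨maximalIdeal R, inferInstance, IsDiscreteValuationRing.not_a_field R⟩
  have hvϖ : v.valuation K (algebraMap R K ϖ) = WithZero.exp (-1 : ℤ) := by
    rw [HeightOneSpectrum.valuation_of_algebraMap]
    exact HeightOneSpectrum.intValuation_singleton v hϖ.ne_zero (hϖ.maximalIdeal_eq)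
  have : w.asIdeal.LiesOver v.asIdeal := ‹_›
  have hwϖ : w.valuation M (algebraMap R M ϖ) = WithZero.exp (-(e:ℤ)) := by
    rw [IsScalarTower.algebraMap_apply R K M, ← HeightOneSpectrum.valuation_liesOver M v w, hvϖ,
      ← WithZero.exp_nsmul]
    simp [he, v]
  have hϖM : algebraMap R M ϖ ≠ 0 := by
    intro h0
    rw [h0, map_zero] at hwϖ
    exact WithZero.exp_ne_zero hwϖ.symm
  set W := w.valuation M with hW
  let T : Fin (N+1) → M :=
    Fin.cons (y 0 ^ d) (fun i => -((algebraMap R M ϖ ^ ((i:ℕ)+1)) ^ Q * y i.succ ^ d))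
  have hTsum : ∑ i, T i = 0 := by
    rw [Fin.sum_univ_succ]
    simp only [T, Fin.cons_zero, Fin.cons_succ, Finset.sum_neg_distrib]
    rw [h]; ring
  have hTval : ∀ i : Fin (N+1), W (T i) = W (algebraMap R M ϖ) ^ ((i:ℕ) * Q) * W (y i) ^ d := by
    intro i
    refine Fin.cases ?_ (fun j => ?_) i
    · simp [T]
    · simp only [T, Fin.cons_succ, Valuation.map_neg, map_mul, map_pow, Fin.val_succ]
      rw [← pow_mul]
  have hTne : ∀ i : Fin (N+1), y i ≠ 0 → T i ≠ 0 := by
    intro i hi h0
    have := hTval i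
    rw [h0, map_zero] at this
    have h1 : W (algebraMap R M ϖ) ≠ 0 := (Valuation.ne_zero_iff _).2 hϖM
    have h2 : W (y i) ≠ 0 := (Valuation.ne_zero_iff _).2 hi
    exact (mul_ne_zero (pow_ne_zero _ h1) (pow_ne_zero _ h2)) this.symm
  have hex : ∃ i ∈ (Finset.univ : Finset (Fin (N+1))), T i ≠ 0 := by
    by_contra hcon
    push Not at hcon
    apply hy
    funext i
    by_contra hi
    exact hTne i hi (hcon i (Finset.mem_univ _))
  obtain ⟨a, -, b, -, hab, hTa, hTb, hval⟩ := exists_pair_of_sum_eq_zero W Finset.univ T hTsum hex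
  -- symmetric statement
  have key : ∀ a b : Fin (N+1), (a:ℕ) < (b:ℕ) → T a ≠ 0 → T b ≠ 0 → W (T a) = W (T b) →
      I d N ∣ Q * e := by
    intro a b hlt hTa hTb hval
    rw [hTval a, hTval b, hwϖ] at hval
    have hya : W (y a) ≠ 0 := by
      intro h0
      apply hTa
      have := hTval a
      rw [h0, zero_pow (by omega), mul_zero] at this
      exact (Valuation.zero_iff _).1 this
    have hyb : W (y b) ≠ 0 := by
      intro h0
      apply hTb
      have := hTval b
      rw [h0, zero_pow (by omega), mul_zero] at this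
      exact (Valuation.zero_iff _).1 this
    have hlog := congrArg WithZero.log hval
    rw [WithZero.log_mul (pow_ne_zero _ WithZero.exp_ne_zero) (pow_ne_zero _ hya),
      WithZero.log_mul (pow_ne_zero _ WithZero.exp_ne_zero) (pow_ne_zero _ hyb),
      WithZero.log_pow, WithZero.log_pow, WithZero.log_pow, WithZero.log_pow, WithZero.log_exp] at hlog
    simp only [nsmul_eq_mul] at hlog
    have hdvd := int_aux a b Q e d _ _ hlt hlog
    refine I_dvd_of_dvd_mul d N (Q * e) ((b:ℕ) - (a:ℕ)) hd (by omega) ?_ hdvd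
    have := b.is_le
    omega
  rcases lt_or_gt_of_ne (fun h => hab (Fin.ext h)) with hlt | hlt
  · exact key a b hlt hTa hTb hval
  · exact key b a hlt hTb hTa hval.symm

theorem sep_case (R K M : Type*) [CommRing R] [IsDomain R] [IsDiscreteValuationRing R]
    [Field K] [Algebra R K]
    [IsFractionRing R K] [Field M] [Algebra K M] [Algebra R M] [IsScalarTower R K M]
    [FiniteDimensional K M] [Algebra.IsSeparable K M]
    (ϖ : R) (hϖ : Irreducible ϖ) (d N Q : ℕ) (hd : 1 ≤ d)
    (y : Fin (N+1) → M) (hy : y ≠ 0)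
    (h : y 0 ^ d = ∑ i : Fin N, (algebraMap R M ϖ ^ ((i:ℕ)+1)) ^ Q * y i.succ ^ d) :
    I d N ∣ Q * Module.finrank K M := by
  let S := integralClosure R M
  have : IsDedekindDomain S := integralClosure.isDedekindDomain R K M
  have : Module.Finite R S := IsIntegralClosure.finite R K M S
  have : IsFractionRing S M := integralClosure.isFractionRing_of_finite_extension K M
  have : Module.IsTorsionFree R M := Module.IsTorsionFree.trans_faithfulSMul R K M
  have : Module.IsTorsionFree R S :=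
    Function.Injective.moduleIsTorsionFree (Subtype.val : S → M) Subtype.val_injective
      (fun _ _ => rfl)
  have hp0 : maximalIdeal R ≠ ⊥ := IsDiscreteValuationRing.not_a_field R
  rw [← Ideal.sum_ramification_inertia S K M hp0, Finset.mul_sum]
  apply Finset.dvd_sum
  intro P hP
  rw [IsDedekindDomain.mem_primesOverFinset_iff hp0] at hP
  obtain ⟨hP1, hP2⟩ := hP
  have hPne : P ≠ ⊥ := Ideal.ne_bot_of_liesOver_of_ne_bot hp0 P
  let w : HeightOneSpectrum S := ⟨P, hP1, hPne⟩
  have : w.asIdeal.LiesOver (maximalIdeal R) := hP2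
  have := sep_case_prime R K M ϖ hϖ d N Q hd y hy h S w
  rw [← mul_assoc]
  exact Dvd.dvd.mul_right this _

theorem pow_finrank_mem (M L : Type*) [Field M] [Field L] [Algebra M L] [IsPurelyInseparable M L]
    [FiniteDimensional M L] (x : L) :
    x ^ Module.finrank M L ∈ (algebraMap M L).range := by
  obtain ⟨n, y, hmin⟩ := IsPurelyInseparable.minpoly_eq_X_pow_sub_C M (ringExpChar M) x
  have hpos : 0 < ringExpChar M ^ n := expChar_pow_pos M _ n
  have hdeg : (minpoly M x).natDegree = ringExpChar M ^ n := by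
    rw [hmin, natDegree_X_pow_sub_C]
  have hdvd : ringExpChar M ^ n ∣ Module.finrank M L :=
    hdeg ▸ minpoly.degree_dvd (Algebra.IsIntegral.isIntegral x)
  have hx : x ^ (ringExpChar M ^ n) = algebraMap M L y := by
    have := minpoly.aeval M x
    rw [hmin] at this
    simpa [sub_eq_zero] using this
  obtain ⟨c, hc⟩ := hdvd
  rw [hc, pow_mul, hx, ← map_pow]
  exact ⟨_, rfl⟩

theorem general_case (R K L : Type*) [CommRing R] [IsDomain R] [IsDiscreteValuationRing R]
    [Field K] [Algebra R K] [IsFractionRing R K] [Field L] [Algebra K L] [FiniteDimensional K L]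
    (ϖ : R) (hϖ : Irreducible ϖ) (d N : ℕ) (hd : 1 ≤ d) (x : Fin (N+1) → L) (hx : x ≠ 0)
    (h : x 0 ^ d = ∑ i : Fin N, algebraMap K L (algebraMap R K (ϖ ^ ((i:ℕ)+1))) * x i.succ ^ d) :
    I d N ∣ Module.finrank K L := by
  let _ : Algebra R L := ((algebraMap K L).comp (algebraMap R K)).toAlgebra
  have : IsScalarTower R K L := IsScalarTower.of_algebraMap_eq (fun _ => rfl)
  let M := separableClosure K L
  have : IsPurelyInseparable M L := separableClosure.isPurelyInseparable K L
  set Q := Module.finrank M L with hQdef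
  set q := ringExpChar M with hq
  obtain ⟨m, hQ⟩ := IsPurelyInseparable.finrank_eq_pow (F := M) L q
  have : ExpChar L q := expChar_of_injective_algebraMap (algebraMap M L).injective q
  have hmem : ∀ i, ∃ y : M, algebraMap M L y = x i ^ Q := fun i => pow_finrank_mem M L (x i)
  choose y hy using hmem
  have hyne : y ≠ 0 := by
    intro h0
    apply hx
    funext i
    have := hy i
    rw [h0, Pi.zero_apply, map_zero] at this
    exact (pow_eq_zero_iff (by rw [hQdef]; exact Module.finrank_pos.ne')).1 this.symm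
  have heq : y 0 ^ d = ∑ i : Fin N, (algebraMap R M ϖ ^ ((i:ℕ)+1)) ^ Q * y i.succ ^ d := by
    apply (algebraMap M L).injective
    have hQ' : Q = q ^ m := hQ
    rw [map_pow, hy 0, map_sum, ← pow_mul, mul_comm, pow_mul, h]
    simp only [map_mul, map_pow, hy]
    rw [hQ']
    have hfrob : ∀ z : L, z ^ q ^ m = iterateFrobenius L q m z := fun z => rfl
    rw [hfrob, map_sum]
    refine Finset.sum_congr rfl (fun i _ => ?_)
    rw [iterateFrobenius_def, mul_pow, ← pow_mul, ← pow_mul, ← pow_mul, ← pow_mul,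
      mul_comm d (q ^ m)]
    rfl
  have := sep_case R K M ϖ hϖ d N Q hd y hyne heq
  rwa [mul_comm, Module.finrank_mul_finrank K M L] at this

theorem irreducible_X_pow_sub (R K : Type*) [CommRing R] [IsDomain R] [IsDiscreteValuationRing R]
    [Field K] [Algebra R K] [IsFractionRing R K] (ϖ : R) (hϖ : Irreducible ϖ) (e : ℕ) (he : 1 ≤ e) :
    Irreducible ((X ^ e - C ϖ : R[X]).map (algebraMap R K)) := by
  have he0 : e ≠ 0 := by omega
  have hmonic : (X ^ e - C ϖ : R[X]).Monic := monic_X_pow_sub_C ϖ he0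
  rw [← hmonic.irreducible_iff_irreducible_map_fraction_map]
  have hdeg : (X ^ e - C ϖ : R[X]).natDegree = e := natDegree_X_pow_sub_C
  have hP : maximalIdeal R = Ideal.span {ϖ} := hϖ.maximalIdeal_eq
  have hEis : (X ^ e - C ϖ : R[X]).IsEisensteinAt (maximalIdeal R) := by
    refine hmonic.isEisensteinAt_of_mem_of_notMem (Ideal.IsPrime.ne_top inferInstance) ?_ ?_
    · intro n hn
      rw [hdeg] at hn
      rw [coeff_sub, coeff_X_pow, if_neg hn.ne, zero_sub, coeff_C]
      split_ifs
      · rw [hP]; exact neg_mem (Ideal.mem_span_singleton_self ϖ)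
      · simp
    · rw [coeff_sub, coeff_X_pow, if_neg (Ne.symm he0), zero_sub, coeff_C_zero, hP,
        Ideal.span_singleton_pow, neg_mem_iff, Ideal.mem_span_singleton]
      intro hdvd
      obtain ⟨c, hc⟩ := hdvd
      have h1 : ϖ * (1 - ϖ * c) = 0 := by linear_combination hc
      rcases mul_eq_zero.1 h1 with h0 | h0
      · exact hϖ.ne_zero h0
      · exact hϖ.not_isUnit (IsUnit.of_mul_eq_one c (by linear_combination -h0))
  exact hEis.irreducible inferInstance hmonic.isPrimitive (by rw [hdeg]; omega)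

theorem exists_ext (R K : Type u) [CommRing R] [IsDomain R] [IsDiscreteValuationRing R]
    [Field K] [Algebra R K] [IsFractionRing R K]
    (ϖ : R) (hϖ : Irreducible ϖ) (d N δ : ℕ) (hd : 1 ≤ d) (hδ1 : 1 ≤ δ) (hδN : δ ≤ N) (hδd : δ ∣ d) :
    ∃ (L : Type u) (_ : Field L) (_ : Algebra K L), FiniteDimensional K L ∧
      Module.finrank K L = d / δ ∧
      ∃ x : Fin (N+1) → L, x ≠ 0 ∧
        x 0 ^ d = ∑ i : Fin N, algebraMap K L (algebraMap R K (ϖ ^ ((i:ℕ)+1))) * x i.succ ^ d := by
  classical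
  set e := d / δ with he
  have hed : e * δ = d := Nat.div_mul_cancel hδd
  have he1 : 1 ≤ e := by
    rcases Nat.eq_zero_or_pos e with h0 | h0
    · rw [h0, zero_mul] at hed; omega
    · exact h0
  set f : K[X] := (X ^ e - C ϖ : R[X]).map (algebraMap R K) with hf
  have hirr : Irreducible f := irreducible_X_pow_sub R K ϖ hϖ e he1
  have : Fact (Irreducible f) := ⟨hirr⟩
  have hmonic : (X ^ e - C ϖ : R[X]).Monic := monic_X_pow_sub_C ϖ (by omega)
  have hfdeg : f.natDegree = e := by
    rw [hf, hmonic.natDegree_map, natDegree_X_pow_sub_C]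
  have hfne : f ≠ 0 := hirr.ne_zero
  refine ⟨AdjoinRoot f, inferInstance, inferInstance, (AdjoinRoot.powerBasis hfne).finite, ?_, ?_⟩
  · rw [(AdjoinRoot.powerBasis hfne).finrank, AdjoinRoot.powerBasis_dim, hfdeg]
  · have hroot : (AdjoinRoot.root f) ^ e = algebraMap K (AdjoinRoot f) (algebraMap R K ϖ) := by
      have h1 : (X ^ e - C (algebraMap R K ϖ) : K[X]) = f := by
        rw [hf, Polynomial.map_sub, Polynomial.map_pow, map_X, map_C]
      have h0 : AdjoinRoot.mk f (X ^ e - C (algebraMap R K ϖ)) = 0 := by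
        rw [h1]; exact AdjoinRoot.mk_self
      rw [map_sub, map_pow, AdjoinRoot.mk_X, AdjoinRoot.mk_C, sub_eq_zero] at h0
      rw [AdjoinRoot.algebraMap_eq]
      exact h0
    refine ⟨fun i => if i = 0 then AdjoinRoot.root f else if (i:ℕ) = δ then 1 else 0, ?_, ?_⟩
    · intro h0
      have := congrFun h0 ⟨δ, by omega⟩
      have hne : (⟨δ, by omega⟩ : Fin (N+1)) ≠ 0 := by
        intro h; have := congrArg Fin.val h; simp at this; omega
      simp [hne] at this
    · simp only [if_true, Fin.succ_ne_zero, if_false, Fin.val_succ]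
      rw [← hed, pow_mul, hroot]
      rw [Finset.sum_eq_single (⟨δ - 1, by omega⟩ : Fin N)]
      · have : δ - 1 + 1 = δ := by omega
        simp [this]
      · intro b _ hb
        have : ¬ ((b:ℕ) + 1 = δ) := by
          intro h
          apply hb
          ext
          simp; omega
        rw [if_neg this, zero_pow (by rw [hed]; omega), mul_zero]
      · intro h; exact absurd (Finset.mem_univ _) h

end Groth.Agent.Lib.Helper63.DiagIndex
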