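import Groth.Agent.Lib.Helper63.ExpSep
import Groth.Agent.Lib.Helper63.InertiaField

/-! Rank-one differentials pass to finite separable extensions; separability of residue fields of
places with Laurent expansions in such extensions (helper63). -/

set_option autoImplicit false
set_option linter.style.haveILetI false
set_option linter.unusedSectionVars false

namespace Groth.Agent.Lib.Helper63.ExpSepExt

open LaurentSeries HahnSeries WithZero FunFld Groth.Agent.Lib.Helper63.LocResBasic
open Groth.Agent.Lib.Helper63.ExpSep
open scoped TensorProduct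

section Rank

variable {k : Type*} {K : Type*} {K' : Type*} [Field k] [Field K] [Field K'] [Algebra k K]
  [Algebra K K'] [Algebra k K'] [IsScalarTower k K K']

/-- If the differentials of `K/k` have rank at most one, every differential is a multiple of any
nonzero `dt`. -/
theorem exists_smul_eq (hrank : ∀ {x : K}, KaehlerDifferential.D k K x ≠ 0 → ∀ y : K,
      ∃ g : K, KaehlerDifferential.D k K y = g • KaehlerDifferential.D k K x)
    {t : K} (ht : KaehlerDifferential.D k K t ≠ 0) (ω : Ω[K⁄k]) :
    ∃ g : K, ω = g • KaehlerDifferential.D k K t := by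
  have hmem : ω ∈ Submodule.span K (Set.range (KaehlerDifferential.D k K)) := by
    rw [KaehlerDifferential.span_range_derivation]
    exact Submodule.mem_top
  induction hmem using Submodule.span_induction with
  | mem x hx =>
    obtain ⟨y, rfl⟩ := hx
    exact hrank ht y
  | zero => exact ⟨0, by rw [zero_smul]⟩
  | add x y _ _ hx hy =>
    obtain ⟨g, rfl⟩ := hx
    obtain ⟨h, rfl⟩ := hy
    exact ⟨g + h, by rw [add_smul]⟩
  | smul a x _ hx =>
    obtain ⟨g, rfl⟩ := hx
    exact ⟨a * g, by rw [mul_smul]⟩

/-- Rank-one differentials pass to separable algebraic extensions. -/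
theorem exists_smul_D_eq_ext [Algebra.IsSeparable K K']
    (hrank : ∀ {x : K}, KaehlerDifferential.D k K x ≠ 0 → ∀ y : K,
      ∃ g : K, KaehlerDifferential.D k K y = g • KaehlerDifferential.D k K x)
    {x : K'} (hx : KaehlerDifferential.D k K' x ≠ 0) (y : K') :
    ∃ g : K', KaehlerDifferential.D k K' y = g • KaehlerDifferential.D k K' x := by
  haveI : Algebra.FormallyUnramified K K' := Algebra.FormallyUnramified.of_isSeparable K K'
  have hs : Function.Surjective (KaehlerDifferential.mapBaseChange k K K') := by
    rw [← LinearMap.range_eq_top, KaehlerDifferential.range_mapBaseChange, LinearMap.ker_eq_top]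
    exact Subsingleton.elim _ _
  by_cases h0 : ∀ c : K, KaehlerDifferential.D k K c = 0
  · exfalso
    apply hx
    have hz : ∀ ω : Ω[K⁄k], ω = 0 := by
      intro ω
      have hmem : ω ∈ Submodule.span K (Set.range (KaehlerDifferential.D k K)) := by
        rw [KaehlerDifferential.span_range_derivation]
        exact Submodule.mem_top
      induction hmem using Submodule.span_induction with
      | mem x hx =>
        obtain ⟨y, rfl⟩ := hx
        exact h0 y
      | zero => rfl
      | add x y _ _ hx hy => rw [hx, hy, add_zero]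
      | smul a x _ hx => rw [hx, smul_zero]
    have hall : ∀ z : K' ⊗[K] Ω[K⁄k], KaehlerDifferential.mapBaseChange k K K' z = 0 := by
      intro z
      induction z using TensorProduct.induction_on with
      | zero => rw [map_zero]
      | tmul b ω => rw [hz ω, TensorProduct.tmul_zero, map_zero]
      | add a b ha hb => rw [map_add, ha, hb, add_zero]
    obtain ⟨z, hz'⟩ := hs (KaehlerDifferential.D k K' x)
    rw [← hz', hall z]
  · push Not at h0
    obtain ⟨t₀, ht₀⟩ := h0
    have key : ∀ ω' : Ω[K'⁄k], ∃ h : K',
        ω' = h • KaehlerDifferential.D k K' (algebraMap K K' t₀) := by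
      intro ω'
      obtain ⟨z, rfl⟩ := hs ω'
      induction z using TensorProduct.induction_on with
      | zero => exact ⟨0, by rw [map_zero, zero_smul]⟩
      | tmul b ω =>
        obtain ⟨g, rfl⟩ := exists_smul_eq hrank ht₀ ω
        refine ⟨b * algebraMap K K' g, ?_⟩
        rw [KaehlerDifferential.mapBaseChange_tmul, map_smul, KaehlerDifferential.map_D,
          mul_smul, algebraMap_smul]
      | add a b ha hb =>
        obtain ⟨g, hg⟩ := ha
        obtain ⟨h, hh⟩ := hb
        exact ⟨g + h, by rw [map_add, hg, hh, add_smul]⟩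
    obtain ⟨h, hh⟩ := key (KaehlerDifferential.D k K' x)
    obtain ⟨h', hh'⟩ := key (KaehlerDifferential.D k K' y)
    have hne : h ≠ 0 := by
      rintro rfl
      rw [zero_smul] at hh
      exact hx hh
    refine ⟨h' * h⁻¹, ?_⟩
    rw [hh', hh, smul_smul, mul_assoc, inv_mul_cancel₀ hne, mul_one]

end Rank

section Main

variable {k : Type*} {K : Type*} {F : Type*} [Field k] [Field K] [Field F] [Algebra k K]
  [Algebra k F]

/-- `ExpSep.derivation_eq_zero` with an abstract rank-one hypothesis. -/
theorem derivation_eq_zero' (P : Place k K)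
    (hrank : ∀ {x : K}, KaehlerDifferential.D k K x ≠ 0 → ∀ y : K,
      ∃ g : K, KaehlerDifferential.D k K y = g • KaehlerDifferential.D k K x)
    (φ : K →ₐ[k] F⸨X⸩) (hφ : LocRes.IsExpansionAt P.1 φ) (d : Derivation k F F) : d = 0 := by
  obtain ⟨hv, hsurj, t, ht⟩ := hφ
  have hγ : Valued.v (LocRes.D F (φ t)) = 1 := val_D_uniformizer P.1 φ hv ht
  have hDt : KaehlerDifferential.D k K t ≠ 0 :=
    D_ne_zero_of_vDiff_ne_zero φ (by rw [vDiff_one, hγ]; exact one_ne_zero)
  ext a
  obtain ⟨f, hf1, hfa⟩ := hsurj a
  obtain ⟨g, hg'⟩ := hrank hDt f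
  have hgle : P.1 g ≤ 1 := by
    have h1 := D_exp_eq φ hg'
    have h2 : Valued.v (φ f) ≤ exp (-(0 : ℤ)) := by rw [hv]; simpa using hf1
    have h3 := val_D_le_of_cast_eq_zero h2 (by simp)
    rw [h1, map_mul, hv, hγ, mul_one] at h3
    simpa using h3
  have h4 := mapD_exp_eq φ d hg'
  have h5 : Valued.v (mapD d (φ t)) ≤ exp (-(1 : ℤ)) := val_mapD_le d (by rw [hv, ht])
  have h6 : Valued.v (mapD d (φ f)) ≤ exp (-(1 : ℤ)) := by
    rw [h4, map_mul, hv]
    calc P.1 g * Valued.v (mapD d (φ t)) ≤ 1 * exp (-(1 : ℤ)) := mul_le_mul' hgle h5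
      _ = _ := one_mul _
  have h7 := (valuation_le_iff_coeff_lt_eq_zero F).1 h6 0 (by norm_num)
  rw [mapD_coeff, hfa] at h7
  simpa using h7

theorem isSeparable_coeff' (P : Place k K)
    (hrank : ∀ {x : K}, KaehlerDifferential.D k K x ≠ 0 → ∀ y : K,
      ∃ g : K, KaehlerDifferential.D k K y = g • KaehlerDifferential.D k K x)
    (φ : K →ₐ[k] F⸨X⸩) (hφ : LocRes.IsExpansionAt P.1 φ) [FiniteDimensional k F] :
    Algebra.IsSeparable k F := by
  haveI : Algebra.FormallyUnramified k F := by
    constructor
    rw [← not_nontrivial_iff_subsingleton]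
    intro hnt
    obtain ⟨ω, hω⟩ := exists_ne (0 : Ω[F⁄k])
    obtain ⟨ℓ, hℓ⟩ : ∃ ℓ : Module.Dual F Ω[F⁄k], ℓ ω ≠ 0 := by
      by_contra h
      push Not at h
      exact hω ((Module.forall_dual_apply_eq_zero_iff F ω).1 h)
    have hd := derivation_eq_zero' P hrank φ hφ (ℓ.compDer (KaehlerDifferential.D k F))
    have h0 : ℓ = 0 := by
      apply LinearMap.ext_on_range (KaehlerDifferential.span_range_derivation k F)
      intro a
      have := congrArg (fun δ : Derivation k F F => δ a) hd
      simpa using this
    exact hℓ (by rw [h0]; rfl)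
  exact Algebra.FormallyUnramified.isSeparable k F

/-- The residue field of a place with a Laurent expansion over `k` is separable over `k`, given
rank-one differentials and finiteness of the residue field. -/
theorem isSeparable_residueField' (P : Place k K)
    (hrank : ∀ {x : K}, KaehlerDifferential.D k K x ≠ 0 → ∀ y : K,
      ∃ g : K, KaehlerDifferential.D k K y = g • KaehlerDifferential.D k K x)
    (hdeg : 0 < P.deg)
    (φ : K →ₐ[k] F⸨X⸩) (hφ : LocRes.IsExpansionAt P.1 φ) :
    Algebra.IsSeparable k (IsLocalRing.ResidueField P.O) := by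
  haveI : @Module.Finite k (IsLocalRing.ResidueField P.O) _ _
      (@Algebra.toModule _ _ _ _ (Place.algRes P)) :=
    Module.finite_of_finrank_pos hdeg
  haveI : FiniteDimensional k F :=
    Module.Finite.of_surjective (resLin P φ hφ.1).toLinearMap (resLin_surjective P φ hφ)
  haveI := isSeparable_coeff' P hrank φ hφ
  exact Algebra.IsSeparable.of_algHom k F (resLin P φ hφ.1)

end Main

section Ext

variable {k : Type*} {K : Type*} {K' : Type*} {F' : Type*} [Field k] [Field K] [Field K']
  [Field F'] [Algebra k K] [Algebra K K'] [Algebra k K'] [IsScalarTower k K K'] [Algebra k F']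

/-- Places of a finite separable extension of a geometric function field which carry a Laurent
expansion over `k` have separable residue fields. -/
theorem isSeparable_residueField_ext [FiniteDimensional K K'] [Algebra.IsSeparable K K']
    (hK : IsFunctionField k K) (hg : IsGeometric k K) (Q : Place k K')
    (ψ : K' →ₐ[k] F'⸨X⸩) (hψ : LocRes.IsExpansionAt Q.1 ψ) :
    Algebra.IsSeparable k (IsLocalRing.ResidueField Q.O) :=
  isSeparable_residueField' Q
    (fun {x} hx y => exists_smul_D_eq_ext
      (fun {x} hx y => Groth.Agent.Lib.Helper63.SepGen.exists_smul_D_eq hK hg hx y) hx y)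
    (Groth.Agent.Lib.Helper63.InertiaField.deg_pos_of_finite hK Q) ψ hψ

end Ext

end Groth.Agent.Lib.Helper63.ExpSepExt
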