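import Groth.Agent.Lib.Helper63.SepPlaces
import Groth.Agent.Lib.Helper63.FunFldExt
import Mathlib.FieldTheory.Finite.Basic
import Mathlib.FieldTheory.IsAlgClosed.Basic

/-! A place of `k̄ ⊗ K` is fixed by the Frobenius iff it lies over a rational place (helper63). -/

set_option autoImplicit false
set_option linter.style.haveILetI false
set_option linter.unusedSectionVars false

namespace Groth.Agent.Lib.Helper63.FrobPlace

open WithZero Polynomial FunFld IsLocalRing Groth.Agent.Lib.Helper55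

local notation "ℤᵐ⁰" => WithZero (Multiplicative ℤ)

variable {k K kb Kb : Type*} [Field k] [Field K] [Algebra k K] [Field kb] [Algebra k kb]
  [Field Kb] [Algebra K Kb] [Algebra kb Kb]

section Root

variable [IsAlgClosed kb]

/-- If a nonzero polynomial over `k̄` has small value at `z`, some `z - c` is small. -/
theorem exists_const_of_val_lt_one (w : Valuation Kb ℤᵐ⁰)
    (hw1 : ∀ c : kb, c ≠ 0 → w (algebraMap kb Kb c) = 1) {z : Kb} (hz : w z ≤ 1) :
    ∀ (n : ℕ) (f : kb[X]), f.natDegree = n → f ≠ 0 →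
      w (eval z (f.map (algebraMap kb Kb))) < 1 → ∃ c : kb, w (z - algebraMap kb Kb c) < 1 := by
  have hwle : ∀ c : kb, w (algebraMap kb Kb c) ≤ 1 := by
    intro c
    by_cases hc : c = 0
    · rw [hc, map_zero, map_zero]; exact zero_le
    · exact (hw1 c hc).le
  intro n
  induction n with
  | zero =>
    intro f hf hf0 hlt
    obtain ⟨a, rfl⟩ := natDegree_eq_zero.1 hf
    have ha : a ≠ 0 := by
      rintro rfl
      exact hf0 (map_zero _)
    rw [Polynomial.map_C, eval_C, hw1 a ha] at hlt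
    exact absurd hlt (lt_irrefl _)
  | succ n ih =>
    intro f hf hf0 hlt
    have hdeg : f.degree ≠ 0 := by
      rw [degree_eq_natDegree hf0, hf]
      exact_mod_cast Nat.succ_ne_zero n
    obtain ⟨c, hc⟩ := IsAlgClosed.exists_root f hdeg
    have hfac := mul_divByMonic_eq_iff_isRoot.2 hc
    set g := f /ₘ (X - C c) with hg
    have hg0 : g ≠ 0 := by
      intro h0
      rw [h0, mul_zero] at hfac
      exact hf0 hfac.symm
    have hgdeg : g.natDegree = n := by
      have := natDegree_divByMonic f (monic_X_sub_C c)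
      rw [natDegree_X_sub_C, hf] at this
      rw [hg, this]
      rfl
    rw [← hfac, Polynomial.map_mul, eval_mul, Polynomial.map_sub, map_X, Polynomial.map_C,
      eval_sub, eval_X, eval_C, map_mul] at hlt
    by_cases h1 : w (z - algebraMap kb Kb c) < 1
    · exact ⟨c, h1⟩
    · have h2 : w (z - algebraMap kb Kb c) = 1 :=
        le_antisymm ((Valuation.map_sub _ _ _).trans (max_le hz (hwle c))) (not_lt.1 h1)
      rw [h2, one_mul] at hlt
      exact ih g hgdeg hg0 hlt

end Root

section Forward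

variable [Finite k]

theorem mem_range_of_pow_card_eq {c : kb} (hc : c ^ Nat.card k = c) :
    c ∈ Set.range (algebraMap k kb) := by
  classical
  haveI := Fintype.ofFinite k
  rw [Nat.card_eq_fintype_card] at hc
  set q := Fintype.card k with hq
  have hq1 : 1 < q := Fintype.one_lt_card
  have hne : (X ^ q - X : kb[X]) ≠ 0 := FiniteField.X_pow_card_sub_X_ne_zero kb hq1
  set S : Finset kb := Finset.univ.image (algebraMap k kb) with hS
  have hcard : S.card = q := by
    rw [hS, Finset.card_image_of_injective _ (algebraMap k kb).injective, Finset.card_univ]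
  have hsub : S ⊆ (X ^ q - X : kb[X]).roots.toFinset := by
    intro y hy
    obtain ⟨a, -, rfl⟩ := Finset.mem_image.1 hy
    rw [Multiset.mem_toFinset, mem_roots hne, IsRoot, eval_sub, eval_pow, eval_X, ← map_pow,
      FiniteField.pow_card, sub_self]
  have hle : (X ^ q - X : kb[X]).roots.toFinset.card ≤ S.card := by
    rw [hcard]
    refine (Multiset.toFinset_card_le _).trans ?_
    refine (card_roots' _).trans ?_
    rw [FiniteField.X_pow_card_sub_X_natDegree_eq kb hq1]
  have heq := Finset.eq_of_subset_of_card_le hsub hle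
  have hcmem : c ∈ (X ^ q - X : kb[X]).roots.toFinset := by
    rw [Multiset.mem_toFinset, mem_roots hne, IsRoot, eval_sub, eval_pow, eval_X, hc, sub_self]
  rw [← heq] at hcmem
  obtain ⟨a, -, ha⟩ := Finset.mem_image.1 hcmem
  exact ⟨a, ha⟩

variable [IsAlgClosure k kb]

theorem isAlgebraic_of_adjoin
    (hc : ∀ c : k, algebraMap K Kb (algebraMap k K c) = algebraMap kb Kb (algebraMap k kb c))
    (hgen : Algebra.adjoin K (Set.range (algebraMap kb Kb)) = ⊤) : Algebra.IsAlgebraic K Kb := by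
  haveI : Algebra.IsAlgebraic k kb := IsAlgClosure.isAlgebraic
  have hle : Algebra.adjoin K (Set.range (algebraMap kb Kb)) ≤ integralClosure K Kb := by
    apply Algebra.adjoin_le
    rintro _ ⟨c, rfl⟩
    obtain ⟨p, hp, hp0⟩ := (Algebra.IsIntegral.isIntegral (R := k) c)
    refine ⟨p.map (algebraMap k K), hp.map _, ?_⟩
    rw [eval₂_map]
    have h1 : (algebraMap K Kb).comp (algebraMap k K) = (algebraMap kb Kb).comp (algebraMap k kb) :=
      RingHom.ext hc
    rw [h1, ← hom_eval₂, hp0, map_zero]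
  refine ⟨fun z => ?_⟩
  have hz : z ∈ integralClosure K Kb := hle (by rw [hgen]; exact Algebra.mem_top)
  exact IsIntegral.isAlgebraic hz

theorem forward (hK : IsFunctionField k K)
    (hc : ∀ c : k, algebraMap K Kb (algebraMap k K c) = algebraMap kb Kb (algebraMap k kb c))
    (hgen : Algebra.adjoin K (Set.range (algebraMap kb Kb)) = ⊤)
    (F : Kb →+* Kb) (hF1 : ∀ c : kb, F (algebraMap kb Kb c) = algebraMap kb Kb c)
    (hF2 : ∀ x : K, F (algebraMap K Kb x) = algebraMap K Kb x ^ Nat.card k)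
    (Q : Place kb Kb) (hfix : ∀ z : Kb, Q.1 (F z) < 1 ↔ Q.1 z < 1) :
    ∃ P : Place k K, (∀ x : K, Q.1 (algebraMap K Kb x) ≤ 1 ↔ P.1 x ≤ 1) ∧ P.deg = 1 := by
  haveI : IsAlgClosed kb := IsAlgClosure.isAlgClosed k
  haveI := isAlgebraic_of_adjoin (K := K) hc hgen
  obtain ⟨v, e, hsurj, he0, hover, hle⟩ :=
    Groth.Agent.Lib.Helper63.FunFldExt.exists_restrict (K := K) (L := Kb) Q.1 Q.2.2
  obtain ⟨P, hPv⟩ : ∃ P : Place k K, P.1 = v :=
    ⟨⟨v, fun c => hle _ (by rw [hc]; exact Q.2.1 _), hsurj⟩, rfl⟩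
  have hP : ∀ x : K, Q.1 (algebraMap K Kb x) = P.1 x ^ e := by
    intro x
    rw [hPv]
    exact hover x
  have hlt : ∀ x : K, Q.1 (algebraMap K Kb x) < 1 ↔ P.1 x < 1 := by
    intro x
    rw [hP]
    exact pow_lt_one_iff_of_nonneg zero_le he0
  refine ⟨P, fun x => ?_, ?_⟩
  · rw [hP]
    exact pow_le_one_iff_of_nonneg zero_le he0
  -- rationality
  have hw1 : ∀ c : kb, c ≠ 0 → Q.1 (algebraMap kb Kb c) = 1 := fun c hc0 => ff_val_const Q hc0
  have hrat : ∀ z : K, P.1 z ≤ 1 → ∃ a : k, P.1 (z - algebraMap k K a) < 1 := by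
    intro z hz
    obtain ⟨p, hp0, hp⟩ := Groth.Agent.Lib.Helper63.SepPlaces.exists_poly_val_lt_one hK P hz
    have hzQ : Q.1 (algebraMap K Kb z) ≤ 1 := by
      rw [hP]; exact pow_le_one₀ zero_le hz
    have h1 : algebraMap K Kb (aeval z p) =
        eval (algebraMap K Kb z) ((p.map (algebraMap k kb)).map (algebraMap kb Kb)) := by
      rw [Polynomial.map_map, eval_map, aeval_def, hom_eval₂]
      congr 1
      exact RingHom.ext hc
    have h2 : Q.1 (eval (algebraMap K Kb z) ((p.map (algebraMap k kb)).map (algebraMap kb Kb))) <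
        1 := by
      rw [← h1, hlt]; exact hp
    have hp0' : p.map (algebraMap k kb) ≠ 0 :=
      (Polynomial.map_ne_zero_iff (algebraMap k kb).injective).2 hp0
    obtain ⟨c, hcQ⟩ := exists_const_of_val_lt_one Q.1 hw1 hzQ _ _ rfl hp0' h2
    -- Frobenius
    have h3 : Q.1 (F (algebraMap K Kb z - algebraMap kb Kb c)) < 1 := (hfix _).2 hcQ
    rw [map_sub, hF1, hF2] at h3
    set q := Nat.card k with hq
    set zh := algebraMap K Kb z with hzh
    set ch := algebraMap kb Kb c with hch
    have hchle : Q.1 ch ≤ 1 := Q.2.1 c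
    have h4 : Q.1 (zh ^ q - ch ^ q) < 1 := by
      rw [← (Commute.all zh ch).geom_sum₂_mul, map_mul]
      refine (mul_le_of_le_one_left zero_le ?_).trans_lt hcQ
      refine Q.1.map_sum_le fun i _ => ?_
      rw [map_mul, map_pow, map_pow]
      exact mul_le_one' (pow_le_one₀ zero_le hzQ) (pow_le_one₀ zero_le hchle)
    have h5 : Q.1 (algebraMap kb Kb (c ^ q - c)) < 1 := by
      have : algebraMap kb Kb (c ^ q - c) = (zh ^ q - ch) - (zh ^ q - ch ^ q) := by
        rw [map_sub, map_pow]; ring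
      rw [this]
      exact (Valuation.map_sub _ _ _).trans_lt (max_lt h3 h4)
    have h6 : c ^ q = c := by
      by_contra hne
      rw [hw1 _ (sub_ne_zero.2 hne)] at h5
      exact lt_irrefl _ h5
    obtain ⟨a, rfl⟩ := mem_range_of_pow_card_eq h6
    refine ⟨a, ?_⟩
    rw [← hlt, map_sub, hc]
    exact hcQ
  -- degree one
  change Module.finrank k (ResidueField P.O) = 1
  rw [finrank_eq_one_iff']
  refine ⟨1, one_ne_zero, fun w => ?_⟩
  obtain ⟨z, rfl⟩ := residue_surjective w
  obtain ⟨a, ha⟩ := hrat (z : K) z.2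
  refine ⟨a, ?_⟩
  have h7 : residue P.O (z - algebraMap k P.O a) = 0 := by
    rw [residue_eq_zero_iff, Valuation.mem_maximalIdeal_iff]
    exact ha
  rw [map_sub, sub_eq_zero] at h7
  rw [h7]
  change residue P.O (a • (1 : P.O)) = _
  rw [← Algebra.algebraMap_eq_smul_one]

end Forward

section Backward

/-- Over a rational place, a valuation of `k̄ K` trivial on `k̄` is determined on `K`-combinations
of `k`-independent constants. -/
theorem val_sum_eq (P : Place k K) (w : Valuation Kb ℤᵐ⁰)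
    (hc : ∀ c : k, algebraMap K Kb (algebraMap k K c) = algebraMap kb Kb (algebraMap k kb c))
    (hw1 : ∀ c : kb, c ≠ 0 → w (algebraMap kb Kb c) = 1)
    (hwP : ∀ x : K, w (algebraMap K Kb x) ≤ 1 ↔ P.1 x ≤ 1)
    (hrat : ∀ x : K, P.1 x ≤ 1 → ∃ a : k, P.1 (x - algebraMap k K a) < 1)
    {ι : Type*} (B : ι → kb) (hB : LinearIndependent k B) (l : ι →₀ K) (j₀ : ι)
    (hj₀ : l j₀ ≠ 0) (hmax : ∀ j, P.1 (l j) ≤ P.1 (l j₀)) :
    w (l.sum fun i a => algebraMap K Kb a * algebraMap kb Kb (B i)) =
      w (algebraMap K Kb (l j₀)) := by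
  classical
  have hwlt : ∀ x : K, w (algebraMap K Kb x) < 1 ↔ P.1 x < 1 := by
    intro x
    by_cases hx : x = 0
    · simp [hx]
    · have h1 := hwP x⁻¹
      have hwx : 0 < w (algebraMap K Kb x) :=
        zero_lt_iff.2 ((Valuation.ne_zero_iff _).2 ((_root_.map_ne_zero _).2 hx))
      have hPx : 0 < P.1 x := zero_lt_iff.2 ((Valuation.ne_zero_iff _).2 hx)
      rw [map_inv₀, map_inv₀, map_inv₀, inv_le_one₀ hwx, inv_le_one₀ hPx] at h1
      rw [← not_le, ← not_le, h1]
  set x₀ := l j₀ with hx₀def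
  have hx₀ : algebraMap K Kb x₀ ≠ 0 := (_root_.map_ne_zero _).2 hj₀
  have hPx₀ : 0 < P.1 x₀ := zero_lt_iff.2 ((Valuation.ne_zero_iff _).2 hj₀)
  have hy : ∀ j, P.1 (l j / x₀) ≤ 1 := fun j => by
    rw [map_div₀, div_le_one₀ hPx₀]
    exact hmax j
  choose a ha using fun j => hrat (l j / x₀) (hy j)
  have ha0 : a j₀ ≠ 0 := by
    intro h0
    have := ha j₀
    rw [h0, map_zero, sub_zero, div_self hj₀, map_one] at this
    exact lt_irrefl _ this
  have hsum : l.sum (fun i a => algebraMap K Kb a * algebraMap kb Kb (B i)) =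
      algebraMap K Kb x₀ * (algebraMap kb Kb (∑ j ∈ l.support, a j • B j) +
        ∑ j ∈ l.support,
          algebraMap K Kb (l j / x₀ - algebraMap k K (a j)) * algebraMap kb Kb (B j)) := by
    rw [Finsupp.sum, map_sum, ← Finset.sum_add_distrib, Finset.mul_sum]
    refine Finset.sum_congr rfl fun j _ => ?_
    rw [Algebra.smul_def, map_mul, map_sub, hc, map_div₀]
    field_simp
    ring
  have hc0 : (∑ j ∈ l.support, a j • B j) ≠ 0 := by
    intro h0
    exact ha0 (linearIndependent_iff'.1 hB l.support a h0 j₀ (Finsupp.mem_support_iff.2 hj₀))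
  have h1 : w (algebraMap kb Kb (∑ j ∈ l.support, a j • B j)) = 1 := hw1 _ hc0
  have h2 : w (∑ j ∈ l.support,
      algebraMap K Kb (l j / x₀ - algebraMap k K (a j)) * algebraMap kb Kb (B j)) < 1 := by
    refine w.map_sum_lt one_ne_zero fun j _ => ?_
    rw [map_mul]
    have hb : w (algebraMap kb Kb (B j)) ≤ 1 := by
      by_cases hb0 : B j = 0
      · rw [hb0, map_zero, map_zero]; exact zero_le
      · exact (hw1 _ hb0).le
    exact (mul_le_of_le_one_right zero_le hb).trans_lt ((hwlt _).2 (ha j))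
  rw [hsum, map_mul, Valuation.map_add_eq_of_lt_left _ (by rw [h1]; exact h2), h1, mul_one]

theorem exists_finsupp_rep
    (hc : ∀ c : k, algebraMap K Kb (algebraMap k K c) = algebraMap kb Kb (algebraMap k kb c))
    (hgen : Algebra.adjoin K (Set.range (algebraMap kb Kb)) = ⊤)
    {ι : Type*} (B : Module.Basis ι k kb) (z : Kb) :
    ∃ l : ι →₀ K, z = l.sum fun i a => algebraMap K Kb a * algebraMap kb Kb (B i) := by
  classical
  have hM : ∀ c : kb, algebraMap kb Kb c ∈
      Submodule.span K (Set.range fun i => algebraMap kb Kb (B i)) := by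
    intro c
    have hcrep : c = ∑ i ∈ (B.repr c).support, (B.repr c i) • B i := by
      conv_lhs => rw [← B.linearCombination_repr c, Finsupp.linearCombination_apply, Finsupp.sum]
    rw [hcrep, map_sum]
    refine Submodule.sum_mem _ fun i _ => ?_
    rw [Algebra.smul_def, map_mul, ← hc, ← Algebra.smul_def]
    exact Submodule.smul_mem _ _ (Submodule.subset_span ⟨i, rfl⟩)
  have hz : z ∈ Submodule.span K (Set.range fun i => algebraMap kb Kb (B i)) := by
    have h1 : z ∈ Subalgebra.toSubmodule (Algebra.adjoin K (Set.range (algebraMap kb Kb))) :=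
      (Subalgebra.mem_toSubmodule _).2 (by rw [hgen]; exact Algebra.mem_top)
    rw [Algebra.adjoin_eq_span] at h1
    have h2 : (Submonoid.closure (Set.range (algebraMap kb Kb)) : Set Kb) =
        Set.range (algebraMap kb Kb) := by
      have h3 : Set.range (algebraMap kb Kb) =
          (MonoidHom.mrange ((algebraMap kb Kb : kb →+* Kb) : kb →* Kb) : Set Kb) :=
        (MonoidHom.coe_mrange _).symm
      rw [h3, Submonoid.closure_eq]
    rw [h2] at h1
    exact Submodule.span_le.2 (by rintro _ ⟨c, rfl⟩; exact hM c) h1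
  obtain ⟨l, hl⟩ := (Finsupp.mem_span_range_iff_exists_finsupp).1 hz
  refine ⟨l, ?_⟩
  rw [← hl]
  refine Finset.sum_congr rfl fun i _ => ?_
  exact Algebra.smul_def _ _

theorem backward [Finite k]
    (hc : ∀ c : k, algebraMap K Kb (algebraMap k K c) = algebraMap kb Kb (algebraMap k kb c))
    (hgen : Algebra.adjoin K (Set.range (algebraMap kb Kb)) = ⊤)
    (F : Kb →+* Kb) (hF1 : ∀ c : kb, F (algebraMap kb Kb c) = algebraMap kb Kb c)
    (hF2 : ∀ x : K, F (algebraMap K Kb x) = algebraMap K Kb x ^ Nat.card k)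
    (Q : Place kb Kb) (P : Place k K)
    (hP : ∀ x : K, Q.1 (algebraMap K Kb x) ≤ 1 ↔ P.1 x ≤ 1) (hdeg : P.deg = 1) (z : Kb) :
    Q.1 (F z) < 1 ↔ Q.1 z < 1 := by
  classical
  have hq0 : Nat.card k ≠ 0 := Nat.card_pos.ne'
  -- rationality
  have hrat : ∀ x : K, P.1 x ≤ 1 → ∃ a : k, P.1 (x - algebraMap k K a) < 1 := by
    intro x hx
    have h1 : @Module.finrank k (ResidueField P.O) _ _
        (@Algebra.toModule _ _ _ _ (Place.algRes P)) = 1 := hdeg
    have h2 := Subalgebra.bot_eq_top_of_finrank_eq_one h1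
    set xO : P.O := ⟨x, (Valuation.mem_valuationSubring_iff _ _).2 hx⟩ with hxO
    have h3 : residue P.O xO ∈ (⊥ : Subalgebra k (ResidueField P.O)) := by
      rw [h2]; exact Algebra.mem_top
    obtain ⟨a, ha⟩ := Algebra.mem_bot.1 h3
    refine ⟨a, ?_⟩
    have h4 : residue P.O (xO - algebraMap k P.O a) = 0 := by
      rw [map_sub, ← ha, sub_eq_zero]
      rfl
    rw [residue_eq_zero_iff, Valuation.mem_maximalIdeal_iff] at h4
    exact h4
  have hw1 : ∀ c : kb, c ≠ 0 → Q.1 (algebraMap kb Kb c) = 1 := fun c hc0 => ff_val_const Q hc0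
  obtain ⟨l, rfl⟩ := exists_finsupp_rep (K := K) hc hgen (Module.Basis.ofVectorSpace k kb) z
  by_cases hl : l = 0
  · rw [hl, Finsupp.sum_zero_index, map_zero]
  have hne : l.support.Nonempty := Finsupp.support_nonempty_iff.2 hl
  obtain ⟨j₀, hj₀, hmax'⟩ := Finset.exists_max_image l.support (fun j => P.1 (l j)) hne
  have hj₀' : l j₀ ≠ 0 := Finsupp.mem_support_iff.1 hj₀
  have hmax : ∀ j, P.1 (l j) ≤ P.1 (l j₀) := by
    intro j
    by_cases hj : j ∈ l.support
    · exact hmax' j hj
    · rw [Finsupp.notMem_support_iff.1 hj, map_zero]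
      exact zero_le
  have hB := (Module.Basis.ofVectorSpace k kb).linearIndependent
  have e1 := val_sum_eq P Q.1 hc hw1 hP hrat _ hB l j₀ hj₀' hmax
  have hw1' : ∀ c : kb, c ≠ 0 → (Q.1.comap F) (algebraMap kb Kb c) = 1 := by
    intro c hc0
    rw [Valuation.comap_apply, hF1]
    exact hw1 c hc0
  have hP' : ∀ x : K, (Q.1.comap F) (algebraMap K Kb x) ≤ 1 ↔ P.1 x ≤ 1 := by
    intro x
    rw [Valuation.comap_apply, hF2, map_pow, pow_le_one_iff_of_nonneg zero_le hq0]
    exact hP x
  have e2 := val_sum_eq P (Q.1.comap F) hc hw1' hP' hrat _ hB l j₀ hj₀' hmax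
  rw [Valuation.comap_apply, Valuation.comap_apply, hF2, map_pow] at e2
  rw [e1, e2]
  exact pow_lt_one_iff_of_nonneg zero_le hq0

end Backward

end Groth.Agent.Lib.Helper63.FrobPlace
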