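import Mathlib

/-! The minimal polynomial of a generator over a fixed field is the nodal polynomial of its
conjugates (helper63). -/

set_option autoImplicit false
set_option linter.style.haveILetI false
set_option linter.unusedSectionVars false

namespace Groth.Agent.Lib.Helper63.GaloisNodal

open Polynomial IntermediateField

variable {K K' : Type*} [Field K] [Field K'] [Algebra K K'] [FiniteDimensional K K']

theorem apply_aeval (I : Subgroup (K' ≃ₐ[K] K')) {τ : K' ≃ₐ[K] K'} (hτ : τ ∈ I) (s : K')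
    (q : (fixedField I)[X]) : τ (aeval s q) = aeval (τ s) q := by
  rw [aeval_eq_sum_range, aeval_eq_sum_range, map_sum]
  refine Finset.sum_congr rfl fun i _ => ?_
  rw [Algebra.smul_def, Algebra.smul_def, map_mul, map_pow]
  congr 1
  exact (IntermediateField.mem_fixedField_iff I _).1 (q.coeff i).2 τ hτ

theorem eq_of_apply_eq (I : Subgroup (K' ≃ₐ[K] K')) {s : K'} (htop : (fixedField I)⟮s⟯ = ⊤)
    {τ τ' : K' ≃ₐ[K] K'} (hτ : τ ∈ I) (hτ' : τ' ∈ I) (h : τ s = τ' s) : τ = τ' := by
  have hint : IsIntegral (fixedField I) s := IsIntegral.of_finite _ s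
  have hx : Algebra.adjoin (fixedField I) ({s} : Set K') = ⊤ := by
    rw [← IntermediateField.adjoin_simple_toSubalgebra_of_isAlgebraic hint.isAlgebraic, htop,
      IntermediateField.top_toSubalgebra]
  ext y
  have hy : y ∈ Algebra.adjoin (fixedField I) ({s} : Set K') := by
    rw [hx]
    exact Algebra.mem_top
  rw [Algebra.adjoin_singleton_eq_range_aeval] at hy
  obtain ⟨q, rfl⟩ := hy
  show τ (aeval s q) = τ' (aeval s q)
  rw [apply_aeval I hτ, apply_aeval I hτ', h]

open Classical in
theorem map_minpoly_eq_nodal (I : Subgroup (K' ≃ₐ[K] K')) {s : K'}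
    (htop : (fixedField I)⟮s⟯ = ⊤) :
    (minpoly (fixedField I) s).map (algebraMap (fixedField I) K') =
      Lagrange.nodal (Finset.univ.filter (· ∈ I)) (fun τ : K' ≃ₐ[K] K' => τ s) := by
  set T := fixedField I with hT
  set Is : Finset (K' ≃ₐ[K] K') := Finset.univ.filter (· ∈ I) with hIs
  have hint : IsIntegral T s := IsIntegral.of_finite _ s
  set p := (minpoly T s).map (algebraMap T K') with hp
  have hpm : p.Monic := (minpoly.monic hint).map _
  have hp0 : p ≠ 0 := hpm.ne_zero
  have hcard : Is.card = Module.finrank T K' := by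
    rw [hT, IntermediateField.finrank_fixedField_eq_card I]
    exact (Nat.subtype_card Is (fun x => by simp [hIs])).symm
  have hdeg : p.natDegree = Is.card := by
    rw [hp, natDegree_map, hcard]
    exact (Field.primitive_element_iff_minpoly_natDegree_eq T s).1 htop
  have hroot : ∀ τ ∈ Is, (τ s) ∈ p.roots := by
    intro τ hτ
    have hτI : τ ∈ I := by simpa [hIs] using hτ
    rw [mem_roots hp0, IsRoot, hp, eval_map, ← aeval_def, ← apply_aeval I hτI, minpoly.aeval,
      map_zero]
  have hnodup : (Is.val.map (fun τ : K' ≃ₐ[K] K' => τ s)).Nodup := by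
    refine Multiset.Nodup.map_on ?_ Is.nodup
    intro τ hτ τ' hτ' h
    have hτI : τ ∈ I := by simpa [hIs] using hτ
    have hτI' : τ' ∈ I := by simpa [hIs] using hτ'
    exact eq_of_apply_eq I htop hτI hτI' h
  have hle : Is.val.map (fun τ : K' ≃ₐ[K] K' => τ s) ≤ p.roots := by
    rw [Multiset.le_iff_subset hnodup]
    intro a ha
    obtain ⟨τ, hτ, rfl⟩ := Multiset.mem_map.1 ha
    exact hroot τ hτ
  have hdvd := (Multiset.prod_X_sub_C_dvd_iff_le_roots hp0 _).2 hle
  have hprod : ((Is.val.map (fun τ : K' ≃ₐ[K] K' => τ s)).map fun a => X - C a).prod =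
      Lagrange.nodal Is (fun τ : K' ≃ₐ[K] K' => τ s) := by
    rw [Lagrange.nodal_eq, Finset.prod_eq_multiset_prod, Multiset.map_map]
    rfl
  rw [hprod] at hdvd
  exact Polynomial.eq_of_monic_of_dvd_of_natDegree_le Lagrange.nodal_monic hpm hdvd
    (by rw [hdeg, Lagrange.natDegree_nodal])

open Classical in
/-- `f'(s) = ∏_{τ ≠ 1} (s - τ s)`. -/
theorem aeval_derivative_minpoly (I : Subgroup (K' ≃ₐ[K] K')) {s : K'}
    (htop : (fixedField I)⟮s⟯ = ⊤) :
    aeval s (derivative (minpoly (fixedField I) s)) =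
      ∏ τ ∈ (Finset.univ.filter (· ∈ I)).erase (1 : K' ≃ₐ[K] K'), (s - τ s) := by
  have h1 := map_minpoly_eq_nodal I htop
  have hmem : (1 : K' ≃ₐ[K] K') ∈ Finset.univ.filter (· ∈ I) := by simp [I.one_mem]
  have h2 := Lagrange.eval_nodal_derivative_eval_node_eq
    (v := fun τ : K' ≃ₐ[K] K' => τ s) hmem
  rw [← h1, derivative_map, Lagrange.eval_nodal] at h2
  simp only [AlgEquiv.one_apply] at h2
  rw [eval_map, ← aeval_def] at h2
  exact h2

end Groth.Agent.Lib.Helper63.GaloisNodal
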