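import Groth.Agent.Lib.Helper55.FunFld.Index
import Groth.Agent.Lib.Helper55.FunFld.Apps
import Groth.Prelude.Def_AdFn

/-! `K / (O_{\{P\}} + O_P) ≅ A / (A(0) + K)` has dimension `g` (helper63). -/

set_option autoImplicit false
set_option linter.style.haveILetI false
set_option linter.unusedSectionVars false

namespace Groth.Agent.Lib.Helper63.GapQuot

open FunFld Module WithZero Groth.Agent.Lib.Helper55

universe u

variable {k K : Type u} [Field k] [Field K] [Algebra k K]

open Classical in
/-- `z ↦` the class of the repartition with component `z` at `P` and `0` elsewhere. -/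
noncomputable def Φ (P : Place k K) : K →ₗ[k] (↥(adele k K) ⧸ ADK (0 : Divisor k K)) :=
  (ADK (0 : Divisor k K)).mkQ ∘ₗ
    LinearMap.codRestrict (adele k K) (LinearMap.single k (fun _ : Place k K => K) P) (by
      intro z
      rw [ff_mem_adele_iff]
      refine (Set.finite_singleton P).subset ?_
      intro Q hQ
      by_contra hne
      apply hQ
      rw [LinearMap.single_apply, Pi.single_eq_of_ne hne, map_zero]
      exact zero_le)

theorem Φ_eq_zero_iff (P : Place k K) (z : K) :
    Φ P z = 0 ↔ z ∈ Subalgebra.toSubmodule (AdFn.SInt ({P} : Set (Place k K))) ⊔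
      Subalgebra.toSubmodule (AdFn.SInt (({P} : Set (Place k K))ᶜ)) := by
  classical
  rw [Φ, LinearMap.comp_apply, Submodule.mkQ_apply, Submodule.Quotient.mk_eq_zero]
  change (Pi.single P z : Place k K → K) ∈ AD (0 : Divisor k K) ⊔ LinearMap.range (diag k K) ↔ _
  rw [Submodule.mem_sup, Submodule.mem_sup]
  constructor
  · rintro ⟨a₀, ha₀, _, ⟨u, rfl⟩, hsum⟩
    refine ⟨u, ?_, z - u, ?_, by ring⟩
    · intro Q hQ
      have hne : Q ≠ P := hQ
      have h1 := congrFun hsum Q
      rw [Pi.add_apply, ff_diag_apply, Pi.single_eq_of_ne hne] at h1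
      have h2 : u = -a₀ Q := by linear_combination h1
      rw [h2, Valuation.map_neg]
      have := ha₀ Q
      rwa [Finsupp.zero_apply, exp_zero] at this
    · intro Q hQ
      have hQP : Q = P := by
        by_contra hne
        exact hQ hne
      subst hQP
      have h1 := congrFun hsum Q
      rw [Pi.add_apply, ff_diag_apply, Pi.single_eq_same] at h1
      have h2 : z - u = a₀ Q := by linear_combination -h1
      rw [h2]
      have := ha₀ Q
      rwa [Finsupp.zero_apply, exp_zero] at this
  · rintro ⟨u, hu, w, hw, rfl⟩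
    refine ⟨Pi.single P (u + w) - diag k K u, ?_, diag k K u, ⟨u, rfl⟩, by abel⟩
    intro Q
    rw [Finsupp.zero_apply, exp_zero, Pi.sub_apply, ff_diag_apply]
    by_cases hQ : Q = P
    · subst hQ
      rw [Pi.single_eq_same, add_sub_cancel_left]
      exact hw Q (fun h => h rfl)
    · rw [Pi.single_eq_of_ne hQ, zero_sub, Valuation.map_neg]
      exact hu Q hQ

theorem Φ_surjective (hK : IsFunctionField k K) (P : Place k K) : Function.Surjective (Φ P) := by
  classical
  intro c
  obtain ⟨⟨a, ha⟩, rfl⟩ := Submodule.mkQ_surjective _ c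
  have hfin := (ff_mem_adele_iff a).1 ha
  set s : Finset (Place k K) := hfin.toFinset.erase P with hs
  have hPs : P ∉ s := Finset.notMem_erase P _
  obtain ⟨u, hu1, hu2⟩ := ff_strong_approx_le hK s P hPs a (fun _ => 0)
  have hQ : ∀ Q : Place k K, Q ≠ P → Q.1 (a Q - u) ≤ 1 := by
    intro Q hne
    by_cases hQs : Q ∈ s
    · have := hu1 Q hQs
      rw [exp_zero] at this
      rwa [← Valuation.map_neg, neg_sub]
    · have h1 : Q.1 (a Q) ≤ 1 := by
        by_contra hcon
        apply hQs
        rw [hs, Finset.mem_erase]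
        exact ⟨hne, hfin.mem_toFinset.2 hcon⟩
      exact (Valuation.map_sub _ _ _).trans (max_le h1 (hu2 Q hQs hne))
  refine ⟨a P - u, ?_⟩
  rw [Φ, LinearMap.comp_apply, Submodule.mkQ_apply, Submodule.mkQ_apply, eq_comm,
    ← sub_eq_zero, ← Submodule.Quotient.mk_sub, Submodule.Quotient.mk_eq_zero]
  change (a - Pi.single P (a P - u) : Place k K → K) ∈
    AD (0 : Divisor k K) ⊔ LinearMap.range (diag k K)
  have e : (a - Pi.single P (a P - u) : Place k K → K) =
      (a - Pi.single P (a P - u) - diag k K u) + diag k K u := by abel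
  rw [e]
  refine Submodule.add_mem_sup ?_ ⟨u, rfl⟩
  intro Q
  rw [Finsupp.zero_apply, exp_zero, Pi.sub_apply, Pi.sub_apply, ff_diag_apply]
  by_cases hQP : Q = P
  · subst hQP
    rw [Pi.single_eq_same]
    simp
  · rw [Pi.single_eq_of_ne hQP, sub_zero]
    exact hQ Q hQP

theorem main (hK : IsFunctionField k K) (P : Place k K) :
    FiniteDimensional k (K ⧸ (Subalgebra.toSubmodule (AdFn.SInt ({P} : Set (Place k K))) ⊔
        Subalgebra.toSubmodule (AdFn.SInt (({P} : Set (Place k K))ᶜ)))) ∧
    Module.finrank k (K ⧸ (Subalgebra.toSubmodule (AdFn.SInt ({P} : Set (Place k K))) ⊔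
        Subalgebra.toSubmodule (AdFn.SInt (({P} : Set (Place k K))ᶜ)))) = genus k K := by
  obtain ⟨hfd, hrk⟩ := ff_finrank_adele_quot hK (0 : Divisor k K)
  have hker : LinearMap.ker (Φ P) =
      Subalgebra.toSubmodule (AdFn.SInt ({P} : Set (Place k K))) ⊔
        Subalgebra.toSubmodule (AdFn.SInt (({P} : Set (Place k K))ᶜ)) := by
    ext z
    rw [LinearMap.mem_ker]
    exact Φ_eq_zero_iff P z
  let e := (Submodule.quotEquivOfEq _ _ hker.symm).trans
    ((Φ P).quotKerEquivOfSurjective (Φ_surjective hK P))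
  refine ⟨e.symm.finiteDimensional, ?_⟩
  rw [e.finrank_eq]
  rw [ff_deg_zero, ff_ell_zero hK] at hrk
  have : (finrank k (↥(adele k K) ⧸ ADK (0 : Divisor k K)) : ℤ) =
      (genus k K : ℤ) - (0 + 1 - ((1 : ℕ) : ℤ)) := hrk
  omega

end Groth.Agent.Lib.Helper63.GapQuot
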