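import Groth.Agent.Lib.Helper63.GapQuot

/-! S16100: the gap quotient at a place, in the completion (helper63). -/

set_option autoImplicit false
set_option linter.style.haveILetI false
set_option linter.unusedSectionVars false

namespace Groth.Agent.Lib.Helper63.GapQuotCompl

open WithZero FunFld Module Groth.Agent.Lib.Helper55

universe u

variable {k K : Type u} [Field k] [Field K] [Algebra k K]

/-- The embedding of `K` in its completion, composed with the quotient map. -/
noncomputable def Ψ (P : Place k K) : K →ₗ[k] AdFn.Kv P ⧸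
    (Subalgebra.toSubmodule ((AdFn.SInt ({P} : Set (Place k K))).map
        (IsScalarTower.toAlgHom k K (AdFn.Kv P))) ⊔
      Submodule.span k (AdFn.Ov P : Set (AdFn.Kv P))) :=
  (Submodule.mkQ _).comp (IsScalarTower.toAlgHom k K (AdFn.Kv P)).toLinearMap

theorem smul_mem_Ov (P : Place k K) (c : k) {x : AdFn.Kv P} (hx : x ∈ AdFn.Ov P) :
    c • x ∈ AdFn.Ov P := by
  rw [AdFn.mem_Ov] at hx ⊢
  rw [Algebra.smul_def, map_mul, IsScalarTower.algebraMap_apply k K (AdFn.Kv P)]
  have h1 : Valued.v (algebraMap K (AdFn.Kv P) (algebraMap k K c)) ≤ 1 := by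
    rw [show algebraMap K (AdFn.Kv P) (algebraMap k K c) = AdFn.toKv P (algebraMap k K c) from rfl,
      AdFn.valued_toKv]
    exact P.2.1 c
  exact mul_le_one' h1 hx

theorem span_Ov (P : Place k K) (x : AdFn.Kv P) :
    x ∈ Submodule.span k (AdFn.Ov P : Set (AdFn.Kv P)) ↔ x ∈ AdFn.Ov P := by
  constructor
  · intro hx
    induction hx using Submodule.span_induction with
    | mem y hy => exact hy
    | zero => exact zero_mem _
    | add y z _ _ hy hz => exact add_mem hy hz
    | smul c y _ hy => exact smul_mem_Ov P c hy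
  · intro hx
    exact Submodule.subset_span hx

theorem Ψ_surjective (P : Place k K) : Function.Surjective (Ψ P) := by
  intro w
  obtain ⟨y, rfl⟩ := Submodule.Quotient.mk_surjective _ w
  -- approximate `y` by an element of `K`
  have hopen : IsOpen {z : AdFn.Kv P | y - z ∈ (AdFn.Ov P : Set (AdFn.Kv P))} :=
    (AdFn.isOpen_Ov P).preimage (continuous_const.sub continuous_id)
  have hy : y ∈ {z : AdFn.Kv P | y - z ∈ (AdFn.Ov P : Set (AdFn.Kv P))} := by
    change y - y ∈ (AdFn.Ov P : Set (AdFn.Kv P))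
    rw [sub_self]
    exact zero_mem _
  have hdense : DenseRange (AdFn.toKv P) := by
    have h0 : DenseRange ((↑) : WithVal P.1 → P.1.Completion) :=
      UniformSpace.Completion.denseRange_coe
    have h1 : Set.range (AdFn.toKv P) = Set.range ((↑) : WithVal P.1 → P.1.Completion) := by
      ext w
      constructor
      · rintro ⟨x, rfl⟩
        exact ⟨WithVal.toVal P.1 x, rfl⟩
      · rintro ⟨x, rfl⟩
        exact ⟨WithVal.ofVal x, rfl⟩
    unfold DenseRange
    rw [h1]
    exact h0
  obtain ⟨x, hz⟩ := hdense.exists_mem_open hopen ⟨y, hy⟩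
  refine ⟨x, ?_⟩
  change Submodule.Quotient.mk (AdFn.toKv P x) = Submodule.Quotient.mk y
  rw [eq_comm, Submodule.Quotient.eq]
  exact Submodule.mem_sup_right ((span_Ov P _).2 hz)

theorem Ψ_eq_zero_iff (P : Place k K) (z : K) :
    Ψ P z = 0 ↔ z ∈ Subalgebra.toSubmodule (AdFn.SInt ({P} : Set (Place k K))) ⊔
        Subalgebra.toSubmodule (AdFn.SInt (({P} : Set (Place k K))ᶜ)) := by
  change Submodule.Quotient.mk (AdFn.toKv P z) = 0 ↔ _
  rw [Submodule.Quotient.mk_eq_zero, Submodule.mem_sup, Submodule.mem_sup]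
  constructor
  · rintro ⟨a', ha', o, ho, hsum⟩
    obtain ⟨a, ha, rfl⟩ := ha'
    rw [span_Ov] at ho
    refine ⟨a, ha, z - a, ?_, by ring⟩
    intro v hv
    have hvP : v = P := by
      by_contra hne
      exact hv hne
    subst hvP
    rw [← AdFn.toKv_mem_Ov, map_sub]
    have : AdFn.toKv v z - AdFn.toKv v a = o := by
      rw [← hsum]
      change AdFn.toKv v a + o - AdFn.toKv v a = o
      ring
    rw [this]
    exact ho
  · rintro ⟨a, ha, b, hb, rfl⟩
    refine ⟨AdFn.toKv P a, ⟨a, ha, rfl⟩, AdFn.toKv P b, ?_, (map_add _ _ _).symm⟩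
    rw [span_Ov, AdFn.toKv_mem_Ov]
    exact hb P (fun h => h rfl)

theorem main (hK : IsFunctionField k K) (P : Place k K) :
    FiniteDimensional k (AdFn.Kv P ⧸
        (Subalgebra.toSubmodule ((AdFn.SInt ({P} : Set (FunFld.Place k K))).map
            (IsScalarTower.toAlgHom k K (AdFn.Kv P))) ⊔
          Submodule.span k (AdFn.Ov P : Set (AdFn.Kv P)))) ∧
    Module.finrank k (AdFn.Kv P ⧸
        (Subalgebra.toSubmodule ((AdFn.SInt ({P} : Set (FunFld.Place k K))).map
            (IsScalarTower.toAlgHom k K (AdFn.Kv P))) ⊔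
          Submodule.span k (AdFn.Ov P : Set (AdFn.Kv P)))) = FunFld.genus k K := by
  obtain ⟨hfd, hrk⟩ := Groth.Agent.Lib.Helper63.GapQuot.main hK P
  have hker : LinearMap.ker (Ψ P) =
      Subalgebra.toSubmodule (AdFn.SInt ({P} : Set (Place k K))) ⊔
        Subalgebra.toSubmodule (AdFn.SInt (({P} : Set (Place k K))ᶜ)) := by
    ext z
    rw [LinearMap.mem_ker]
    exact Ψ_eq_zero_iff P z
  let e := (Submodule.quotEquivOfEq _ _ hker.symm).trans
    ((Ψ P).quotKerEquivOfSurjective (Ψ_surjective P))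
  exact ⟨e.finiteDimensional, by rw [← e.finrank_eq, hrk]⟩

end Groth.Agent.Lib.Helper63.GapQuotCompl
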