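import Mathlib
import Groth.Agent.Lib.Helper63.AbsIrred

set_option linter.style.haveILetI false
set_option linter.unusedSectionVars false
set_option linter.unusedVariables false

namespace Groth.Agent.Lib.Helper63.GeomIrr

open MvPolynomial TensorProduct

universe u

section Degree
variable {σ : Type*} {R S : Type*} [CommRing R] [CommRing S]

theorem totalDegree_map_le (f : R →+* S) (p : MvPolynomial σ R) :
    (map f p).totalDegree ≤ p.totalDegree := by
  unfold MvPolynomial.totalDegree
  exact Finset.sup_mono (support_map_subset f p)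

theorem totalDegree_map_eq (f : R →+* S) (hf : Function.Injective f) (p : MvPolynomial σ R) :
    (map f p).totalDegree = p.totalDegree := by
  unfold MvPolynomial.totalDegree
  rw [support_map_of_injective p hf]

theorem isUnit_iff_totalDegree {K : Type*} [Field K] (G : MvPolynomial σ K) :
    IsUnit G ↔ G ≠ 0 ∧ G.totalDegree = 0 := by
  constructor
  · rintro ⟨u, rfl⟩
    refine ⟨u.ne_zero, ?_⟩
    have h := totalDegree_mul_of_isDomain (f := (u : MvPolynomial σ K))
      (g := ((u⁻¹ : (MvPolynomial σ K)ˣ) : MvPolynomial σ K)) u.ne_zero (u⁻¹).ne_zero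
    rw [Units.mul_inv, totalDegree_one] at h
    omega
  · rintro ⟨h0, hd⟩
    rw [totalDegree_eq_zero_iff_eq_C] at hd
    rw [hd]
    apply IsUnit.map
    rw [isUnit_iff_ne_zero]
    intro hc
    apply h0
    rw [hd, hc, map_zero]

end Degree

section Key
variable {Ω Ω' : Type*} [Field Ω] [IsAlgClosed Ω] [Field Ω'] [Algebra Ω Ω'] {σ : Type*}

theorem exists_algHom_of_finiteType (R : Type*) [CommRing R] [Nontrivial R] [Algebra Ω R]
    [Algebra.FiniteType Ω R] : Nonempty (R →ₐ[Ω] Ω) := by
  obtain ⟨m, hm⟩ := Ideal.exists_maximal R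
  letI : Field (R ⧸ m) := Ideal.Quotient.field m
  haveI : Module.Finite Ω (R ⧸ m) := finite_of_finite_type_of_isJacobsonRing Ω (R ⧸ m)
  have hbij : Function.Bijective (algebraMap Ω (R ⧸ m)) :=
    IsAlgClosed.algebraMap_bijective_of_isIntegral
  let e : Ω ≃ₐ[Ω] (R ⧸ m) := AlgEquiv.ofBijective (Algebra.ofId Ω (R ⧸ m)) hbij
  exact ⟨(e.symm : (R ⧸ m) →ₐ[Ω] Ω).comp (Ideal.Quotient.mkₐ Ω m)⟩

theorem irreducible_map_of_isAlgClosed (F : MvPolynomial σ Ω) (hF : Irreducible F) :
    Irreducible (map (algebraMap Ω Ω') F) := by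
  classical
  have hinj : Function.Injective (algebraMap Ω Ω') := (algebraMap Ω Ω').injective
  have hF0 : F ≠ 0 := hF.ne_zero
  have hFd : 0 < F.totalDegree := by
    by_contra h
    exact hF.not_isUnit ((isUnit_iff_totalDegree F).2 ⟨hF0, by omega⟩)
  refine ⟨fun hu => ?_, fun G H hGH => ?_⟩
  · have := ((isUnit_iff_totalDegree _).1 hu).2
    rw [totalDegree_map_eq _ hinj] at this
    omega
  · by_contra hcon
    push Not at hcon
    obtain ⟨hG, hH⟩ := hcon
    have hF'0 : map (algebraMap Ω Ω') F ≠ 0 :=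
      (map_ne_zero_iff _ (map_injective _ hinj)).2 hF0
    have hG0 : G ≠ 0 := fun h => hF'0 (by rw [hGH, h, zero_mul])
    have hH0 : H ≠ 0 := fun h => hF'0 (by rw [hGH, h, mul_zero])
    have hGd : 0 < G.totalDegree := by
      by_contra h
      exact hG ((isUnit_iff_totalDegree G).2 ⟨hG0, by omega⟩)
    have hHd : 0 < H.totalDegree := by
      by_contra h
      exact hH ((isUnit_iff_totalDegree H).2 ⟨hH0, by omega⟩)
    let R := Algebra.adjoin Ω ((G.coeffs ∪ H.coeffs : Finset Ω') : Set Ω')
    haveI : Algebra.FiniteType Ω R :=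
      (Subalgebra.fg_iff_finiteType _).1 (Subalgebra.fg_adjoin_finset _)
    obtain ⟨ε⟩ := exists_algHom_of_finiteType (Ω := Ω) R
    obtain ⟨G0, hG0'⟩ : G ∈ Set.range (map (algebraMap R Ω')) :=
      mem_range_map_iff_coeffs_subset.2 (fun c hc =>
        ⟨⟨c, Algebra.subset_adjoin (by
          simp only [Finset.coe_union, Set.mem_union]; exact Or.inl hc)⟩, rfl⟩)
    obtain ⟨H0, hH0'⟩ : H ∈ Set.range (map (algebraMap R Ω')) :=
      mem_range_map_iff_coeffs_subset.2 (fun c hc =>
        ⟨⟨c, Algebra.subset_adjoin (by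
          simp only [Finset.coe_union, Set.mem_union]; exact Or.inr hc)⟩, rfl⟩)
    have hRinj : Function.Injective (algebraMap R Ω') := Subtype.val_injective
    have hFR : map (algebraMap Ω R) F = G0 * H0 := by
      apply map_injective (algebraMap R Ω') hRinj
      rw [map_mul, hG0', hH0', ← hGH, MvPolynomial.map_map]
      rfl
    have hFε : F = map (ε : R →+* Ω) G0 * map (ε : R →+* Ω) H0 := by
      rw [← map_mul, ← hFR, MvPolynomial.map_map]
      have : (ε : R →+* Ω).comp (algebraMap Ω R) = RingHom.id Ω := by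
        ext x; simp
      rw [this, MvPolynomial.map_id]
    have hG00 : G0 ≠ 0 := fun h => hG0 (by rw [← hG0', h, map_zero])
    have hH00 : H0 ≠ 0 := fun h => hH0 (by rw [← hH0', h, map_zero])
    have hdegR : (G0 * H0).totalDegree = G0.totalDegree + H0.totalDegree :=
      totalDegree_mul_of_isDomain hG00 hH00
    have hdG : G0.totalDegree = G.totalDegree := by
      rw [← hG0', totalDegree_map_eq _ hRinj]
    have hdH : H0.totalDegree = H.totalDegree := by
      rw [← hH0', totalDegree_map_eq _ hRinj]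
    have hdF : F.totalDegree = G0.totalDegree + H0.totalDegree := by
      rw [← hdegR, ← hFR, totalDegree_map_eq _ (algebraMap Ω R).injective]
    have hεG0 : map (ε : R →+* Ω) G0 ≠ 0 := fun h => hF0 (by rw [hFε, h, zero_mul])
    have hεH0 : map (ε : R →+* Ω) H0 ≠ 0 := fun h => hF0 (by rw [hFε, h, mul_zero])
    have hdF' : F.totalDegree =
        (map (ε : R →+* Ω) G0).totalDegree + (map (ε : R →+* Ω) H0).totalDegree := by
      conv_lhs => rw [hFε]
      exact totalDegree_mul_of_isDomain hεG0 hεH0
    have h1 := totalDegree_map_le (ε : R →+* Ω) G0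
    have h2 := totalDegree_map_le (ε : R →+* Ω) H0
    rcases hF.isUnit_or_isUnit hFε with hu | hu
    · have := ((isUnit_iff_totalDegree _).1 hu).2
      omega
    · have := ((isUnit_iff_totalDegree _).1 hu).2
      omega

end Key

section Descent
variable {k K Ω : Type u} [Field k] [Field K] [Field Ω] [Algebra k K] [Algebra k Ω]
  [IsAlgClosed Ω] {σ : Type*}

theorem irreducible_map_of_irreducible_map_algClosed (F : MvPolynomial σ k)
    (h : Irreducible (map (algebraMap k Ω) F)) : Irreducible (map (algebraMap k K) F) := by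
  haveI : Nontrivial (K ⊗[k] Ω) :=
    (Algebra.TensorProduct.includeLeft_injective (S := k) (A := K) (B := Ω)
      (algebraMap k Ω).injective).nontrivial
  obtain ⟨m, hm⟩ := Ideal.exists_maximal (K ⊗[k] Ω)
  letI : Field ((K ⊗[k] Ω) ⧸ m) := Ideal.Quotient.field m
  let iK : K →+* (K ⊗[k] Ω) ⧸ m :=
    (Ideal.Quotient.mk m).comp (Algebra.TensorProduct.includeLeft : K →ₐ[k] K ⊗[k] Ω).toRingHom
  let iΩ : Ω →+* (K ⊗[k] Ω) ⧸ m :=
    (Ideal.Quotient.mk m).comp (Algebra.TensorProduct.includeRight : Ω →ₐ[k] K ⊗[k] Ω).toRingHom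
  letI : Algebra Ω ((K ⊗[k] Ω) ⧸ m) := iΩ.toAlgebra
  have hcomp : iK.comp (algebraMap k K) = iΩ.comp (algebraMap k Ω) := by
    ext c
    simp only [iK, iΩ, RingHom.comp_apply, AlgHom.toRingHom_eq_coe, RingHom.coe_coe, AlgHom.commutes]
  have hirr : Irreducible (map iΩ (map (algebraMap k Ω) F)) :=
    irreducible_map_of_isAlgClosed (Ω' := (K ⊗[k] Ω) ⧸ m) _ h
  rw [MvPolynomial.map_map, ← hcomp, ← MvPolynomial.map_map] at hirr
  have hiK : Function.Injective iK := iK.injective
  refine ⟨fun hu => ?_, fun G H hGH => ?_⟩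
  · exact hirr.not_isUnit (hu.map (MvPolynomial.map iK))
  · have := hirr.isUnit_or_isUnit (by rw [hGH, map_mul])
    have hne : map (algebraMap k K) F ≠ 0 := by
      intro h0
      apply hirr.ne_zero
      rw [h0, map_zero]
    have hG0 : G ≠ 0 := fun h => hne (by rw [hGH, h, zero_mul])
    have hH0 : H ≠ 0 := fun h => hne (by rw [hGH, h, mul_zero])
    rcases this with hu | hu
    · left
      have := ((isUnit_iff_totalDegree _).1 hu).2
      rw [totalDegree_map_eq _ hiK] at this
      exact (isUnit_iff_totalDegree G).2 ⟨hG0, this⟩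
    · right
      have := ((isUnit_iff_totalDegree _).1 hu).2
      rw [totalDegree_map_eq _ hiK] at this
      exact (isUnit_iff_totalDegree H).2 ⟨hH0, this⟩

end Descent

section Scheme
open AlgebraicGeometry CategoryTheory

variable {k : Type u} [Field k] {n : ℕ}

theorem isDomain_iff_irreducible (K : Type u) [Field K] [Algebra k K] (F : MvPolynomial (Fin n) k)
    (hF : F ≠ 0) :
    IsDomain (MvPolynomial (Fin n) K ⧸ Ideal.span {map (algebraMap k K) F}) ↔
      Irreducible (map (algebraMap k K) F) := by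
  have hne : map (algebraMap k K) F ≠ 0 :=
    (map_ne_zero_iff _ (map_injective _ (algebraMap k K).injective)).2 hF
  rw [Ideal.Quotient.isDomain_iff_prime, Ideal.span_singleton_prime hne, irreducible_iff_prime]

instance isClosedUnderIso_isIntegral :
    ObjectProperty.IsClosedUnderIsomorphisms (C := Scheme.{u}) AlgebraicGeometry.IsIntegral where
  of_iso {X Y} e h := by
    haveI : IsIntegral X := h
    haveI : Nonempty Y := Nonempty.map e.hom.base inferInstance
    exact isIntegral_of_isOpenImmersion e.inv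

theorem geomIntegral_iff_isDomain (F : MvPolynomial (Fin n) k) :
    GeometricallyIntegral (Spec.map (CommRingCat.ofHom
        (algebraMap k (MvPolynomial (Fin n) k ⧸ Ideal.span ({F} : Set (MvPolynomial (Fin n) k)))))) ↔
      ∀ (K : Type u) [Field K] [Algebra k K],
        IsDomain (MvPolynomial (Fin n) K ⧸ Ideal.span {map (algebraMap k K) F}) := by
  rw [AlgebraicGeometry.geometricallyIntegral_iff, geometrically_iff_of_commRing_of_isClosedUnderIsomorphisms]
  refine forall_congr' fun K => forall_congr' fun _ => forall_congr' fun _ => ?_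
  rw [ObjectProperty.prop_iff_of_iso (P := AlgebraicGeometry.IsIntegral) (pullbackSpecIso k
    (MvPolynomial (Fin n) k ⧸ Ideal.span ({F} : Set (MvPolynomial (Fin n) k))) K),
    affine_isIntegral_iff]
  let e : ((MvPolynomial (Fin n) k ⧸ Ideal.span ({F} : Set (MvPolynomial (Fin n) k))) ⊗[k] K) ≃+*
      (MvPolynomial (Fin n) K ⧸ Ideal.span {map (algebraMap k K) F}) :=
    (Algebra.TensorProduct.comm k _ K).toRingEquiv.trans
      (Groth.Agent.Lib.Helper63.AbsIrred.tensorQuotEquiv K F)
  constructor
  · intro h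
    haveI : IsDomain ((MvPolynomial (Fin n) k ⧸
        Ideal.span ({F} : Set (MvPolynomial (Fin n) k))) ⊗[k] K) := h
    let g : (MvPolynomial (Fin n) K ⧸ Ideal.span {map (algebraMap k K) F}) →+*
      ((MvPolynomial (Fin n) k ⧸ Ideal.span ({F} : Set (MvPolynomial (Fin n) k))) ⊗[k] K) :=
      e.symm.toRingHom
    exact Function.Injective.isDomain g e.symm.injective
  · intro h
    let g : ((MvPolynomial (Fin n) k ⧸ Ideal.span ({F} : Set (MvPolynomial (Fin n) k))) ⊗[k] K) →+*
      (MvPolynomial (Fin n) K ⧸ Ideal.span {map (algebraMap k K) F}) := e.toRingHom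
    exact Function.Injective.isDomain g e.injective

end Scheme

end Groth.Agent.Lib.Helper63.GeomIrr
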