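import Groth.Agent.Lib.Helper63.LocResDual

/-! Mathlib's `Valuation.HasExtension` for places versus `FunFld.IsOver` (helper63). -/

set_option autoImplicit false
set_option linter.style.haveILetI false
set_option linter.unusedSectionVars false

namespace Groth.Agent.Lib.Helper63.HasExt

open WithZero FunFld Groth.Agent.Lib.Helper55 Groth.Agent.Lib.Helper63.FunFldExt
  Groth.Agent.Lib.Helper63.FundIneq

variable {k K K' : Type*} [Field k] [Field K] [Field K'] [Algebra k K]
  [Algebra K K'] [Algebra k K'] [IsScalarTower k K K']

/-- A place `Q` extending `P` in Mathlib's sense lies over `P`. -/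
theorem isOver_of_hasExtension [Algebra.IsAlgebraic K K'] (P : Place k K) (Q : Place k K')
    [P.1.HasExtension Q.1] : IsOver Q P := by
  obtain ⟨P', hP'⟩ := exists_isOver_below (K := K) Q
  have : P' = P := by
    apply ff_place_eq_of_O_le
    intro x hx
    obtain ⟨e', he'⟩ := hP'
    have h1 : Q.1 (algebraMap K K' x) ≤ 1 := val_le_one_of_isOverWith he' hx
    exact (Valuation.HasExtension.val_map_le_one_iff P.1 Q.1 x).1 h1
  exact this ▸ hP'

end Groth.Agent.Lib.Helper63.HasExt
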