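import Groth.Agent.Lib.Helper63.InertiaField

/-! Higher ramification groups of a place in a finite Galois extension of a function field
(helper63). Indexing as in the statements: `G Q m = {σ | ∀ x ∈ O_Q, v_Q (σ x - x) ≥ m}`. -/

set_option autoImplicit false
set_option linter.style.haveILetI false
set_option linter.unusedSectionVars false

namespace Groth.Agent.Lib.Helper63.RamGroups

open WithZero IntermediateField FunFld IsLocalRing Polynomial Groth.Agent.Lib.Helper55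
  Groth.Agent.Lib.Helper63.Approx Groth.Agent.Lib.Helper63.FunFldExt
  Groth.Agent.Lib.Helper63.FundIneq Groth.Agent.Lib.Helper63.SumEF
  Groth.Agent.Lib.Helper63.Galois Groth.Agent.Lib.Helper63.ConstField
  Groth.Agent.Lib.Helper63.Tower Groth.Agent.Lib.Helper63.Inertia
  Groth.Agent.Lib.Helper63.InertiaField
open scoped Pointwise

variable {k K K' : Type*} [Field k] [Field K] [Field K'] [Algebra k K] [Algebra K K']
  [Algebra k K'] [IsScalarTower k K K']

/-- The `m`-th ramification set (a group for `m ≥ 1`). -/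
def G (Q : Place k K') (m : ℤ) : Set (K' ≃ₐ[K] K') :=
  {σ | ∀ x : K', Q.1 x ≤ 1 → Q.1 (σ x - x) ≤ exp (-m)}

theorem G_anti (Q : Place k K') {m m' : ℤ} (h : m ≤ m') : G (K := K) Q m' ⊆ G Q m := by
  intro σ hσ x hx
  exact (hσ x hx).trans (exp_le_exp.2 (by omega))

/-- Elements of `G Q 1` preserve the valuation. -/
theorem val_map {Q : Place k K'} {σ : K' ≃ₐ[K] K'} (hσ : σ ∈ G Q 1) (y : K') :
    Q.1 (σ y) = Q.1 y := by
  have hle : Q.O ≤ (comapEquiv σ Q).O := by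
    intro x hx
    change Q.1 x ≤ 1 at hx
    change Q.1 (σ x) ≤ 1
    have h1 := hσ x hx
    have h2 : Q.1 (σ x - x) ≤ 1 := h1.trans (by rw [← exp_zero, exp_le_exp]; omega)
    have : σ x = (σ x - x) + x := by ring
    rw [this]
    exact (Q.1.map_add _ _).trans (max_le h2 hx)
  have := ff_place_eq_of_O_le hle
  conv_rhs => rw [this]
  rfl

theorem one_mem (Q : Place k K') {m : ℤ} : (1 : K' ≃ₐ[K] K') ∈ G Q m := by
  intro x _
  simp

theorem mul_mem {Q : Place k K'} {m : ℤ} (hm : 1 ≤ m) {σ τ : K' ≃ₐ[K] K'} (hσ : σ ∈ G Q m)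
    (hτ : τ ∈ G Q m) : σ * τ ∈ G Q m := by
  intro x hx
  have h1 : (σ * τ) x - x = σ (τ x - x) + (σ x - x) := by
    rw [AlgEquiv.mul_apply, map_sub]; ring
  rw [h1]
  refine (Q.1.map_add _ _).trans (max_le ?_ (hσ x hx))
  rw [val_map (G_anti Q hm hσ)]
  exact hτ x hx

theorem inv_mem {Q : Place k K'} {m : ℤ} (hm : 1 ≤ m) {σ : K' ≃ₐ[K] K'} (hσ : σ ∈ G Q m) :
    σ⁻¹ ∈ G Q m := by
  intro x hx
  have h1 : σ (σ⁻¹ x - x) = -(σ x - x) := by
    rw [map_sub]
    have : σ (σ⁻¹ x) = x := by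
      change (σ * σ⁻¹) x = x
      rw [mul_inv_cancel]; rfl
    rw [this]; ring
  rw [← val_map (G_anti Q hm hσ), h1, Valuation.map_neg]
  exact hσ x hx

theorem pow_mem {Q : Place k K'} {m : ℤ} (hm : 1 ≤ m) {σ : K' ≃ₐ[K] K'} (hσ : σ ∈ G Q m)
    (n : ℕ) : σ ^ n ∈ G Q m := by
  induction n with
  | zero => rw [pow_zero]; exact one_mem Q
  | succ n ih => rw [pow_succ]; exact mul_mem hm ih hσ

/-- Elements of `G Q 1` lie in the inertia group. -/
theorem mem_inertia {Q : Place k K'} {σ : K' ≃ₐ[K] K'} (hσ : σ ∈ G Q 1) :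
    σ ∈ ((Q.O).inertiaSubgroup K).map ((Q.O).decompositionSubgroup K).subtype := by
  have hdec : σ ∈ (Q.O).decompositionSubgroup K := by
    rw [mem_decomposition_iff]
    apply place_ext
    intro y
    rw [comapEquiv_apply]
    exact val_map hσ y
  refine Subgroup.mem_map.2 ⟨⟨σ, hdec⟩, ?_, rfl⟩
  rw [ValuationSubring.inertiaSubgroup, MonoidHom.mem_ker]
  ext x
  obtain ⟨a, rfl⟩ := residue_surjective x
  change (⟨σ, hdec⟩ : (Q.O).decompositionSubgroup K) • residue Q.O a = residue Q.O a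
  rw [← ResidueField.residue_smul, ← sub_eq_zero, ← map_sub, residue_eq_zero_iff,
    Valuation.mem_maximalIdeal_iff]
  change Q.1 (σ (a : K') - (a : K')) < 1
  refine (hσ _ a.2).trans_lt ?_
  rw [← exp_zero, exp_lt_exp]; omega

/-- Elements of the inertia group lie in `G Q 1`. -/
theorem mem_G_one_of_mem_inertia {Q : Place k K'} {σ : K' ≃ₐ[K] K'}
    (hσ : σ ∈ ((Q.O).inertiaSubgroup K).map ((Q.O).decompositionSubgroup K).subtype) :
    σ ∈ G Q 1 := by
  obtain ⟨τ, hτ, rfl⟩ := Subgroup.mem_map.1 hσ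
  intro x hx
  rw [ValuationSubring.inertiaSubgroup, MonoidHom.mem_ker] at hτ
  have h1 : (MulSemiringAction.toRingAut _ (ResidueField Q.O) τ) (residue Q.O ⟨x, hx⟩) =
      residue Q.O ⟨x, hx⟩ := by rw [hτ]; rfl
  change τ • residue Q.O ⟨x, hx⟩ = residue Q.O ⟨x, hx⟩ at h1
  rw [← ResidueField.residue_smul, ← sub_eq_zero, ← map_sub, residue_eq_zero_iff,
    Valuation.mem_maximalIdeal_iff] at h1
  exact le_exp_neg_one_of_lt_one h1

theorem fixes_inertiaField {Q : Place k K'} {σ : K' ≃ₐ[K] K'} (hσ : σ ∈ G Q 1) {c : K'}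
    (hc : c ∈ IntermediateField.fixedField
      (((Q.O).inertiaSubgroup K).map ((Q.O).decompositionSubgroup K).subtype)) : σ c = c :=
  (IntermediateField.mem_fixedField_iff _ c).1 hc σ (mem_inertia hσ)

/-- If `e(Q|P) = [K':K]` then `f(Q|P) = 1`: residues of `O_Q` are represented in `K`. -/
theorem exists_residue_rep_of_totallyRamified [FiniteDimensional K K'] {Q : Place k K'}
    {P : Place k K} (he : IsOverWith Q P (Module.finrank K K')) (hdegP : 0 < P.deg)
    (hdegQ : 0 < Q.deg)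
    (hFE : ∀ Qs : Finset (Place k K'), (∀ Q', Q' ∈ Qs ↔ IsOver Q' P) →
      ∑ Q' ∈ Qs, ramIdx Q' P * Q'.deg = Module.finrank K K' * P.deg)
    (y : K') (hy : Q.1 y ≤ 1) : ∃ c : K, P.1 c ≤ 1 ∧ Q.1 (y - algebraMap K K' c) < 1 := by
  classical
  letI := algO he
  haveI : IsLocalHom (algebraMap P.O Q.O) := isLocalHom_algebraMap he
  have hdeg := deg_eq_mul he
  have hfin := finite_setOf_isOver (K' := K') P
  have hsum := hFE hfin.toFinset (fun Q' => hfin.mem_toFinset)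
  have hQmem : Q ∈ hfin.toFinset := hfin.mem_toFinset.2 ⟨_, he⟩
  have hle : ramIdx Q P * Q.deg ≤ Module.finrank K K' * P.deg := by
    rw [← hsum]
    exact Finset.single_le_sum (f := fun Q' => ramIdx Q' P * Q'.deg) (fun _ _ => Nat.zero_le _) hQmem
  rw [ramIdx_eq he] at hle
  have hn : 0 < Module.finrank K K' := Module.finrank_pos
  have hle' : Q.deg ≤ P.deg := Nat.le_of_mul_le_mul_left hle hn
  have hf1 : Module.finrank (ResidueField P.O) (ResidueField Q.O) = 1 := by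
    set f := Module.finrank (ResidueField P.O) (ResidueField Q.O) with hf
    rw [hdeg] at hle' hdegQ
    have h1 : 0 < f := Nat.pos_of_mul_pos_left hdegQ
    have h2 : f ≤ 1 := by
      by_contra h
      push Not at h
      have : P.deg * 2 ≤ P.deg * f := Nat.mul_le_mul_left _ h
      omega
    omega
  have hbij := (Algebra.finrank_eq_one_iff_bijective_algebraMap).1 hf1
  obtain ⟨a, ha⟩ := hbij.2 (residue Q.O ⟨y, hy⟩)
  obtain ⟨c, rfl⟩ := residue_surjective a
  refine ⟨c.1, c.2, ?_⟩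
  rw [ResidueField.algebraMap_residue, eq_comm, ← sub_eq_zero, ← map_sub, residue_eq_zero_iff,
    Valuation.mem_maximalIdeal_iff] at ha
  exact ha

variable [FiniteDimensional K K'] [IsGalois K K']

/-- Residues of `O_Q` are represented in the inertia field. -/
theorem exists_residue_rep (hK : IsFunctionField k K) (Q : Place k K')
    [Algebra.IsSeparable k (ResidueField Q.O)] (y : K') (hy : Q.1 y ≤ 1) :
    ∃ c : K', c ∈ IntermediateField.fixedField
      (((Q.O).inertiaSubgroup K).map ((Q.O).decompositionSubgroup K).subtype) ∧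
      Q.1 c ≤ 1 ∧ Q.1 (y - c) < 1 := by
  obtain ⟨Q₁, hQ₁⟩ := totallyRamified hK Q
  haveI : IsScalarTower k (IntermediateField.fixedField
      (((Q.O).inertiaSubgroup K).map ((Q.O).decompositionSubgroup K).subtype)) K' :=
    IsScalarTower.of_algebraMap_eq (fun c => rfl)
  obtain ⟨c, hc1, hc2⟩ := exists_residue_rep_of_totallyRamified hQ₁
    (deg_pos_of_finite hK Q₁) (deg_pos_of_finite hK Q)
    (fun Qs hQs => sum_ramIdx_mul_deg_eq_tower hK Q₁ Qs hQs) y hy
  exact ⟨c.1, c.2, val_le_one_of_isOverWith hQ₁ hc1, hc2⟩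

/-- `t`-adic expansion with coefficients in the inertia field. -/
theorem exists_expansion (hK : IsFunctionField k K) (Q : Place k K')
    [Algebra.IsSeparable k (ResidueField Q.O)] {t : K'} (ht : Q.1 t = exp (-1)) (N : ℕ) (x : K')
    (hx : Q.1 x ≤ 1) :
    ∃ c : ℕ → K', (∀ i, c i ∈ IntermediateField.fixedField
      (((Q.O).inertiaSubgroup K).map ((Q.O).decompositionSubgroup K).subtype) ∧ Q.1 (c i) ≤ 1) ∧
      Q.1 (x - ∑ i ∈ Finset.range N, c i * t ^ i) ≤ exp (-(N : ℤ)) := by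
  have ht0 : t ≠ 0 := by
    intro h
    rw [h, map_zero] at ht
    exact exp_ne_zero ht.symm
  induction N with
  | zero =>
    refine ⟨fun _ => 0, fun i => ⟨zero_mem _, by simp⟩, ?_⟩
    simpa using hx
  | succ N ih =>
    obtain ⟨c, hc, hr⟩ := ih
    set r := x - ∑ i ∈ Finset.range N, c i * t ^ i with hrdef
    have hy : Q.1 (r / t ^ N) ≤ 1 := by
      rw [map_div₀, map_pow, ht, ← exp_nsmul, nsmul_eq_mul, mul_neg, mul_one]
      rw [div_le_iff₀ (exp_pos), one_mul]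
      exact hr
    obtain ⟨d, hd1, hd2, hd3⟩ := exists_residue_rep hK Q _ hy
    refine ⟨fun i => if i = N then d else c i, fun i => ?_, ?_⟩
    · by_cases hi : i = N
      · simp only [hi, if_true]; exact ⟨hd1, hd2⟩
      · simp only [hi, if_false]; exact hc i
    · rw [Finset.sum_range_succ]
      have hsum : ∑ i ∈ Finset.range N, (if i = N then d else c i) * t ^ i =
          ∑ i ∈ Finset.range N, c i * t ^ i := by
        refine Finset.sum_congr rfl fun i hi => ?_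
        rw [if_neg (Finset.mem_range.1 hi).ne]
      beta_reduce
      rw [hsum, if_pos rfl]
      have h1 : x - (∑ i ∈ Finset.range N, c i * t ^ i + d * t ^ N) =
          (r / t ^ N - d) * t ^ N := by
        rw [sub_mul, div_mul_cancel₀ _ (pow_ne_zero _ ht0)]
        ring
      rw [h1, map_mul, map_pow, ht]
      have h2 := le_exp_neg_one_of_lt_one hd3
      calc Q.1 (r / t ^ N - d) * exp (-1) ^ N ≤ exp (-1) * exp (-1) ^ N :=
            mul_le_mul_left h2 _
        _ = exp (-((N + 1 : ℕ) : ℤ)) := by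
            rw [← exp_nsmul, ← exp_add]
            congr 1
            push_cast
            simp only [nsmul_eq_mul]
            ring

omit [FiniteDimensional K K'] [IsGalois K K'] in
theorem val_pow_sub_pow_le (Q : Place k K') {a b : K'} (ha : Q.1 a ≤ 1) (hb : Q.1 b ≤ 1)
    (i : ℕ) : Q.1 (a ^ i - b ^ i) ≤ Q.1 (a - b) := by
  rw [← Commute.geom_sum₂_mul (Commute.all a b) i, map_mul]
  have h1 : Q.1 (∑ j ∈ Finset.range i, a ^ j * b ^ (i - 1 - j)) ≤ 1 := by
    apply Valuation.map_sum_le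
    intro j _
    rw [map_mul, map_pow, map_pow]
    exact mul_le_one' (pow_le_one₀ zero_le ha) (pow_le_one₀ zero_le hb)
  exact mul_le_of_le_one_left zero_le h1

/-- `σ ∈ G_j` iff `σ t ≡ t mod Q^j` for a local parameter `t`. -/
theorem mem_G_iff_uniformizer (hK : IsFunctionField k K) (Q : Place k K')
    [Algebra.IsSeparable k (ResidueField Q.O)] {σ : K' ≃ₐ[K] K'} (hσ : σ ∈ G Q 1) {t : K'}
    (ht : Q.1 t = exp (-1)) (j : ℕ) :
    σ ∈ G Q (j : ℤ) ↔ Q.1 (σ t - t) ≤ exp (-(j : ℤ)) := by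
  have ht1 : Q.1 t ≤ 1 := by rw [ht, ← exp_zero, exp_le_exp]; omega
  refine ⟨fun h => h t ht1, fun h x hx => ?_⟩
  obtain ⟨c, hc, hr⟩ := exists_expansion hK Q ht j x hx
  set S := ∑ i ∈ Finset.range j, c i * t ^ i with hS
  have h1 : σ x - x = (σ S - S) + (σ (x - S) - (x - S)) := by
    rw [map_sub]; ring
  rw [h1]
  refine (Q.1.map_add _ _).trans (max_le ?_ ?_)
  · have h2 : σ S - S = ∑ i ∈ Finset.range j, c i * ((σ t) ^ i - t ^ i) := by
      rw [hS, map_sum, ← Finset.sum_sub_distrib]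
      refine Finset.sum_congr rfl fun i _ => ?_
      rw [map_mul, map_pow, fixes_inertiaField hσ (hc i).1]
      ring
    rw [h2]
    apply Valuation.map_sum_le
    intro i _
    rw [map_mul]
    have h3 := val_pow_sub_pow_le Q (a := σ t) (b := t) (by rw [val_map hσ]; exact ht1) ht1 i
    calc Q.1 (c i) * Q.1 (σ t ^ i - t ^ i) ≤ 1 * Q.1 (σ t - t) :=
          mul_le_mul' (hc i).2 h3
      _ ≤ exp (-(j : ℤ)) := by rw [one_mul]; exact h
  · refine (Q.1.map_sub _ _).trans (max_le ?_ hr)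
    rw [val_map hσ]
    exact hr

omit [FiniteDimensional K K'] [IsGalois K K'] in
theorem val_pow_sub_pow_le' (Q : Place k K') {a b : K'} {w : ℤᵐ⁰} (ha : Q.1 a ≤ w)
    (hb : Q.1 b ≤ w) (m : ℕ) : Q.1 (a ^ (m + 1) - b ^ (m + 1)) ≤ Q.1 (a - b) * w ^ m := by
  rw [← Commute.geom_sum₂_mul (Commute.all a b) (m + 1), map_mul, mul_comm]
  have h1 : Q.1 (∑ j ∈ Finset.range (m + 1), a ^ j * b ^ (m + 1 - 1 - j)) ≤ w ^ m := by
    apply Valuation.map_sum_le
    intro j hj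
    have hj' : j ≤ m := Nat.lt_succ_iff.1 (Finset.mem_range.1 hj)
    rw [map_mul, map_pow, map_pow]
    calc Q.1 a ^ j * Q.1 b ^ (m + 1 - 1 - j) ≤ w ^ j * w ^ (m + 1 - 1 - j) :=
          mul_le_mul' (pow_le_pow_left₀ zero_le ha _) (pow_le_pow_left₀ zero_le hb _)
      _ = w ^ m := by rw [← pow_add]; congr 1; omega
  exact mul_le_mul_right h1 _

omit [FiniteDimensional K K'] [IsGalois K K'] in
/-- For `σ ∈ G_i` (`i ≥ 1`) and `v(y) ≥ m`: `v(σ y - y) ≥ m + i - 1`. -/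
theorem val_sub_le {Q : Place k K'} {i : ℕ} (hi : 1 ≤ i) {σ : K' ≃ₐ[K] K'}
    (hσ : σ ∈ G Q (i : ℤ)) {y : K'} {m : ℕ} (hy : Q.1 y ≤ exp (-(m : ℤ))) :
    Q.1 (σ y - y) ≤ exp (-((m : ℤ) + i) + 1) := by
  obtain ⟨t, ht⟩ := Q.2.2 (exp (-1))
  have ht0 : t ≠ 0 := by
    intro h
    rw [h] at ht
    rw [map_zero] at ht
    exact exp_ne_zero ht.symm
  have hσ1 : σ ∈ G Q 1 := G_anti Q (by exact_mod_cast hi) hσ
  have ht1 : Q.1 t ≤ 1 := by rw [ht, ← exp_zero, exp_le_exp]; omega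
  set u := y / t ^ m with hu
  have hu1 : Q.1 u ≤ 1 := by
    rw [hu, map_div₀, map_pow, ht, ← exp_nsmul, nsmul_eq_mul, mul_neg, mul_one,
      div_le_iff₀ exp_pos, one_mul]
    exact hy
  have hy' : y = u * t ^ m := by rw [hu, div_mul_cancel₀ _ (pow_ne_zero _ ht0)]
  have h1 : σ y - y = (σ u - u) * (σ t) ^ m + u * ((σ t) ^ m - t ^ m) := by
    rw [hy', map_mul, map_pow]; ring
  rw [h1]
  refine (Q.1.map_add _ _).trans (max_le ?_ ?_)
  · rw [map_mul, map_pow, val_map hσ1, ht]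
    calc Q.1 (σ u - u) * exp (-1) ^ m ≤ exp (-(i : ℤ)) * exp (-1) ^ m :=
          mul_le_mul_left (hσ u hu1) _
      _ = exp (-((m : ℤ) + i)) := by
          rw [← exp_nsmul, ← exp_add]; congr 1; simp only [nsmul_eq_mul]; ring
      _ ≤ exp (-((m : ℤ) + i) + 1) := exp_le_exp.2 (by omega)
  · rw [map_mul]
    rcases Nat.eq_zero_or_pos m with rfl | hm
    · simp
    · obtain ⟨m', rfl⟩ : ∃ m', m = m' + 1 := ⟨m - 1, by omega⟩
      have h2 := val_pow_sub_pow_le' Q (a := σ t) (b := t) (w := exp (-1))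
        (by rw [val_map hσ1, ht]) ht.le m'
      have h3 : Q.1 (σ t - t) ≤ exp (-(i : ℤ)) := hσ t ht1
      calc Q.1 u * Q.1 (σ t ^ (m' + 1) - t ^ (m' + 1))
          ≤ 1 * (exp (-(i : ℤ)) * exp (-1) ^ m') :=
            mul_le_mul' hu1 (h2.trans (mul_le_mul_left h3 _))
        _ = exp (-(((m' + 1 : ℕ) : ℤ) + i) + 1) := by
            rw [one_mul, ← exp_nsmul, ← exp_add]; congr 1
            simp only [nsmul_eq_mul]; push_cast; ring

omit [FiniteDimensional K K'] [IsGalois K K'] in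
/-- Additivity of `σ ↦ σ t - t` modulo `Q^(i+1)` on `G_i`, `i ≥ 2`. -/
theorem val_d_mul_le {Q : Place k K'} {i : ℕ} (hi : 2 ≤ i) {σ τ : K' ≃ₐ[K] K'}
    (hσ : σ ∈ G Q (i : ℤ)) (hτ : τ ∈ G Q (i : ℤ)) {t : K'} (ht : Q.1 t ≤ 1) :
    Q.1 (((σ * τ) t - t) - ((σ t - t) + (τ t - t))) ≤ exp (-((i : ℤ) + 1)) := by
  have h1 : ((σ * τ) t - t) - ((σ t - t) + (τ t - t)) = σ (τ t - t) - (τ t - t) := by
    rw [AlgEquiv.mul_apply, map_sub]; ring
  rw [h1]
  have h2 := val_sub_le (by omega) hσ (hτ t ht)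
  exact h2.trans (exp_le_exp.2 (by omega))

/-- Statement about the quotients `G_i/G_{i+1}` for `i ≥ 2`. -/
theorem quotient_elementary (hK : IsFunctionField k K) (Q : Place k K')
    [Algebra.IsSeparable k (ResidueField Q.O)] (i : ℕ) (hi : 2 ≤ i) (σ τ : K' ≃ₐ[K] K')
    (hσ : σ ∈ G Q (i : ℤ)) (hτ : τ ∈ G Q (i : ℤ)) :
    (σ * τ * σ⁻¹ * τ⁻¹) ∈ G Q ((i : ℤ) + 1) ∧
    (ringChar K = 0 → σ ∈ G Q ((i : ℤ) + 1)) ∧
    ∀ p : ℕ, p.Prime → ringChar K = p → σ ^ p ∈ G Q ((i : ℤ) + 1) := by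
  obtain ⟨t, ht⟩ := Q.2.2 (exp (-1))
  have ht1 : Q.1 t ≤ 1 := by rw [ht, ← exp_zero, exp_le_exp]; omega
  have hi1 : (1 : ℤ) ≤ (i : ℤ) := by exact_mod_cast (by omega : 1 ≤ i)
  have crit : ∀ ρ : K' ≃ₐ[K] K', ρ ∈ G Q (i : ℤ) → Q.1 (ρ t - t) ≤ exp (-((i : ℤ) + 1)) →
      ρ ∈ G Q ((i : ℤ) + 1) := by
    intro ρ hρ h
    have := (mem_G_iff_uniformizer hK Q (G_anti Q hi1 hρ) ht (i + 1)).2 (by exact_mod_cast h)
    exact_mod_cast this
  -- additivity
  have hadd : ∀ ρ ρ' : K' ≃ₐ[K] K', ρ ∈ G Q (i : ℤ) → ρ' ∈ G Q (i : ℤ) →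
      Q.1 (((ρ * ρ') t - t) - ((ρ t - t) + (ρ' t - t))) ≤ exp (-((i : ℤ) + 1)) :=
    fun ρ ρ' hρ hρ' => val_d_mul_le hi hρ hρ' ht1
  have hpow : ∀ n : ℕ, Q.1 (((σ ^ n) t - t) - (n : K') * (σ t - t)) ≤ exp (-((i : ℤ) + 1)) := by
    intro n
    induction n with
    | zero => simp
    | succ n ih =>
      have h1 := hadd (σ ^ n) σ (pow_mem hi1 hσ n) hσ
      have h2 : ((σ ^ (n + 1)) t - t) - ((n + 1 : ℕ) : K') * (σ t - t) =
          (((σ ^ n * σ) t - t) - (((σ ^ n) t - t) + (σ t - t))) +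
            (((σ ^ n) t - t) - (n : K') * (σ t - t)) := by
        rw [pow_succ]; push_cast; ring
      rw [h2]
      exact (Q.1.map_add _ _).trans (max_le h1 ih)
  refine ⟨?_, ?_, ?_⟩
  · set c := σ * τ * σ⁻¹ * τ⁻¹ with hc
    have hcG : c ∈ G Q (i : ℤ) :=
      mul_mem hi1 (mul_mem hi1 (mul_mem hi1 hσ hτ) (inv_mem hi1 hσ)) (inv_mem hi1 hτ)
    apply crit c hcG
    have hτσ : τ * σ ∈ G Q (i : ℤ) := mul_mem hi1 hτ hσ
    have e1 := hadd c (τ * σ) hcG hτσ
    have e2 := hadd τ σ hτ hσ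
    have e3 := hadd σ τ hσ hτ
    have hcτσ : c * (τ * σ) = σ * τ := by
      rw [hc]; group
    rw [hcτσ] at e1
    have h2 : c t - t = (((σ * τ) t - t) - ((σ t - t) + (τ t - t))) -
        (((σ * τ) t - t) - ((c t - t) + ((τ * σ) t - t))) -
        (((τ * σ) t - t) - ((τ t - t) + (σ t - t))) := by ring
    rw [h2]
    exact (Q.1.map_sub _ _).trans (max_le ((Q.1.map_sub _ _).trans (max_le e3 e1)) e2)
  · intro h0
    apply crit σ hσ
    haveI : CharP K 0 := by rw [← h0]; exact ringChar.charP K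
    haveI : CharZero K := CharP.charP_to_charZero K
    haveI : CharZero K' := charZero_of_injective_algebraMap (algebraMap K K').injective
    set n := orderOf σ with hn
    have hnpos : 0 < n := orderOf_pos σ
    have h1 := hpow n
    rw [hn, pow_orderOf_eq_one] at h1
    simp only [AlgEquiv.one_apply, sub_self, zero_sub, Valuation.map_neg, map_mul] at h1
    have hnv : Q.1 ((orderOf σ : ℕ) : K') = 1 := by
      have h2 : ((orderOf σ : ℕ) : K') = algebraMap k K' ((orderOf σ : ℕ) : k) := by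
        rw [map_natCast]
      rw [h2]
      apply ff_val_const
      intro h3
      have : ((orderOf σ : ℕ) : K') = 0 := by rw [h2, h3, map_zero]
      exact hnpos.ne' (by exact_mod_cast this)
    rwa [hnv, one_mul] at h1
  · intro p hp hchar
    apply crit (σ ^ p) (pow_mem hi1 hσ p)
    haveI : CharP K p := by rw [← hchar]; exact ringChar.charP K
    haveI : CharP K' p := charP_of_injective_algebraMap (algebraMap K K').injective p
    have h1 := hpow p
    rwa [CharP.cast_eq_zero, zero_mul, sub_zero] at h1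

/-- `G_1` as a subgroup. -/
def G1 (Q : Place k K') : Subgroup (K' ≃ₐ[K] K') where
  carrier := G Q 1
  one_mem' := one_mem Q
  mul_mem' := fun h h' => mul_mem le_rfl h h'
  inv_mem' := fun h => inv_mem le_rfl h

omit [FiniteDimensional K K'] [IsGalois K K'] in
theorem val_quot_eq_one {Q : Place k K'} {σ : K' ≃ₐ[K] K'} (hσ : σ ∈ G Q 1) {t : K'}
    (ht0 : t ≠ 0) : Q.1 (σ t / t) = 1 := by
  rw [map_div₀, val_map hσ, div_self ((Valuation.ne_zero_iff _).2 ht0)]

/-- The tame character `σ ↦ σ t / t mod Q` on `G_1`. -/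
noncomputable def theta (Q : Place k K') (t : K') (ht0 : t ≠ 0) :
    G1 (K := K) Q →* ResidueField Q.O where
  toFun σ := residue Q.O ⟨σ.1 t / t, (val_quot_eq_one σ.2 ht0).le⟩
  map_one' := by
    have : (⟨(1 : K' ≃ₐ[K] K') t / t, (val_quot_eq_one (one_mem Q) ht0).le⟩ : Q.O) = 1 := by
      apply Subtype.ext
      change t / t = 1
      exact div_self ht0
    change residue Q.O ⟨(1 : K' ≃ₐ[K] K') t / t, _⟩ = 1
    rw [this, map_one]
  map_mul' σ τ := by
    rw [← map_mul, ← sub_eq_zero, ← map_sub, residue_eq_zero_iff, Valuation.mem_maximalIdeal_iff]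
    change Q.1 ((σ.1 * τ.1) t / t - (σ.1 t / t) * (τ.1 t / t)) < 1
    have h1 : (σ.1 * τ.1) t / t - (σ.1 t / t) * (τ.1 t / t) =
        (σ.1 t / t) * (σ.1 (τ.1 t / t) - τ.1 t / t) := by
      rw [AlgEquiv.mul_apply, map_div₀]
      have : σ.1 t ≠ 0 := by
        intro h
        exact ht0 ((map_eq_zero_iff σ.1 σ.1.injective).1 h)
      field_simp
    rw [h1, map_mul, val_quot_eq_one σ.2 ht0, one_mul]
    refine (σ.2 _ (val_quot_eq_one τ.2 ht0).le).trans_lt ?_
    rw [← exp_zero, exp_lt_exp]; omega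

/-- A finite group mapping to a domain is cyclic modulo the kernel. -/
theorem exists_gen_mod_ker {G F : Type*} [Group G] [Finite G] [CommRing F] [IsDomain F]
    (θ : G →* F) : ∃ g₀ : G, ∀ g : G, ∃ n : ℕ, θ ((g₀ ^ n)⁻¹ * g) = 1 := by
  set θu := θ.toHomUnits with hθu
  haveI : IsCyclic (G ⧸ θu.ker) :=
    isCyclic_of_injective_ringHom ((Units.coeHom F).comp (QuotientGroup.kerLift θu))
      (Units.val_injective.comp (QuotientGroup.kerLift_injective θu))
  obtain ⟨g, hg⟩ := IsCyclic.exists_monoid_generator (α := G ⧸ θu.ker)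
  obtain ⟨g₀, rfl⟩ := QuotientGroup.mk_surjective g
  refine ⟨g₀, fun g => ?_⟩
  obtain ⟨n, hn⟩ := hg (QuotientGroup.mk g)
  refine ⟨n, ?_⟩
  simp only at hn
  rw [← QuotientGroup.mk_pow, QuotientGroup.eq, MonoidHom.mem_ker] at hn
  have := congrArg Units.val hn
  rwa [MonoidHom.coe_toHomUnits] at this

/-- `G_1/G_2` is cyclic. -/
theorem quotient_cyclic (hK : IsFunctionField k K) (Q : Place k K')
    [Algebra.IsSeparable k (ResidueField Q.O)] :
    ∃ σ₀ : K' ≃ₐ[K] K', σ₀ ∈ G Q 1 ∧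
      ∀ σ : K' ≃ₐ[K] K', σ ∈ G Q 1 → ∃ n : ℕ, (σ₀ ^ n)⁻¹ * σ ∈ G Q 2 := by
  obtain ⟨t, ht⟩ := Q.2.2 (exp (-1))
  have ht0 : t ≠ 0 := by
    intro h
    rw [h, map_zero] at ht
    exact exp_ne_zero ht.symm
  set θ := theta (K := K) Q t ht0 with hθ
  have hker : ∀ ρ : G1 (K := K) Q, ρ ∈ θ.ker → ρ.1 ∈ G Q 2 := by
    intro ρ hρ
    rw [MonoidHom.mem_ker] at hρ
    have h1 : residue Q.O ⟨ρ.1 t / t, (val_quot_eq_one ρ.2 ht0).le⟩ = 1 := hρ
    rw [← map_one (residue Q.O), ← sub_eq_zero, ← map_sub, residue_eq_zero_iff,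
      Valuation.mem_maximalIdeal_iff] at h1
    change Q.1 (ρ.1 t / t - 1) < 1 at h1
    have h2 : ρ.1 t / t - 1 = (ρ.1 t - t) / t := by field_simp
    rw [h2, map_div₀, ht, div_lt_iff₀ exp_pos, one_mul] at h1
    have h3 : Q.1 (ρ.1 t - t) ≤ exp (-((2 : ℕ) : ℤ)) := by
      have h4 : ρ.1 t - t ≠ 0 ∨ ρ.1 t - t = 0 := (em _).symm
      rcases h4 with h4 | h4
      · obtain ⟨a, ha⟩ : ∃ a, Q.1 (ρ.1 t - t) = exp a :=
          ⟨log (Q.1 (ρ.1 t - t)), (exp_log ((Valuation.ne_zero_iff _).2 h4)).symm⟩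
        rw [ha] at h1 ⊢
        rw [exp_lt_exp] at h1
        rw [exp_le_exp]
        push_cast
        omega
      · rw [h4, map_zero]; exact zero_le
    have := (mem_G_iff_uniformizer hK Q ρ.2 ht 2).2 h3
    exact_mod_cast this
  haveI : Finite (K' ≃ₐ[K] K') := inferInstance
  haveI : Finite (G1 (K := K) Q) := inferInstance
  obtain ⟨σ₀, hσ₀⟩ := exists_gen_mod_ker θ
  refine ⟨σ₀.1, σ₀.2, fun σ hσ => ?_⟩
  obtain ⟨n, hn⟩ := hσ₀ ⟨σ, hσ⟩
  exact ⟨n, hker _ (MonoidHom.mem_ker.2 hn)⟩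

end Groth.Agent.Lib.Helper63.RamGroups
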