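import Groth.Agent.Lib.Helper63.UnramDeriv
import Groth.Agent.Lib.Helper63.RamGroups
import Groth.Agent.Lib.Helper63.ExpSepExt
import Groth.Agent.Lib.Helper63.GaloisNodal

/-! Hilbert's different formula through Laurent expansions (helper63). -/

set_option autoImplicit false
set_option linter.style.haveILetI false
set_option linter.unusedSectionVars false

namespace Groth.Agent.Lib.Helper63.HilbertDiff

open WithZero IntermediateField FunFld IsLocalRing Polynomial Groth.Agent.Lib.Helper55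
  Groth.Agent.Lib.Helper63.Approx Groth.Agent.Lib.Helper63.FunFldExt
  Groth.Agent.Lib.Helper63.FundIneq Groth.Agent.Lib.Helper63.SumEF
  Groth.Agent.Lib.Helper63.Galois Groth.Agent.Lib.Helper63.ConstField
  Groth.Agent.Lib.Helper63.Tower Groth.Agent.Lib.Helper63.Inertia
  Groth.Agent.Lib.Helper63.InertiaField Groth.Agent.Lib.Helper63.RamGroups
open scoped Pointwise

variable {k K K' : Type*} [Field k] [Field K] [Field K'] [Algebra k K] [Algebra K K']
  [Algebra k K'] [IsScalarTower k K K']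

/-- Local generator data for the residue field extension, with the generator in the inertia
field. -/
theorem exists_unram_data [FiniteDimensional K K'] (hK : IsFunctionField k K)
    {Q : Place k K'} {P : Place k K} {e : ℕ} (he : IsOverWith Q P e)
    [Algebra.IsSeparable k (ResidueField Q.O)] (T : IntermediateField K K')
    (hrep : ∀ y : K', Q.1 y ≤ 1 → ∃ c : K', c ∈ T ∧ Q.1 c ≤ 1 ∧ Q.1 (y - c) < 1) :
    ∃ α : K', α ∈ T ∧ Q.1 α ≤ 1 ∧
      ∃ G : K[X], (∀ i, P.1 (G.coeff i) ≤ 1) ∧ Q.1 (aeval α G) < 1 ∧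
        Q.1 (aeval α (derivative G)) = 1 ∧
        ∀ a : K', Q.1 a ≤ 1 → ∃ p : K[X], (∀ i, P.1 (p.coeff i) ≤ 1) ∧
          Q.1 (a - aeval α p) < 1 := by
  letI := algO he
  haveI : IsLocalHom (algebraMap P.O Q.O) := isLocalHom_algebraMap he
  haveI : IsScalarTower k P.O Q.O := isScalarTower_algO he
  have hcoe : ∀ a : P.O, ((algebraMap P.O Q.O a : Q.O) : K') = algebraMap K K' (a : K) :=
    fun a => rfl
  have hdeg := deg_eq_mul he
  have hQpos : 0 < Q.deg := deg_pos_of_finite hK Q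
  have hfpos' : 0 < Module.finrank (ResidueField P.O) (ResidueField Q.O) := by
    rw [hdeg] at hQpos
    exact Nat.pos_of_mul_pos_left hQpos
  haveI : FiniteDimensional (ResidueField P.O) (ResidueField Q.O) :=
    Module.finite_of_finrank_pos hfpos'
  have hcomp : (algebraMap (ResidueField P.O) (ResidueField Q.O)).comp
      (algebraMap k (ResidueField P.O)) = algebraMap k (ResidueField Q.O) := by
    ext c
    change residue Q.O (algebraMap P.O Q.O (algebraMap k P.O c)) =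
      residue Q.O (algebraMap k Q.O c)
    rw [← IsScalarTower.algebraMap_apply]
  haveI : Algebra.IsSeparable (ResidueField P.O) (ResidueField Q.O) := ⟨fun x => by
    have hsep : (minpoly k x).Separable := Algebra.IsSeparable.isSeparable k x
    have hroot : Polynomial.aeval x
        ((minpoly k x).map (algebraMap k (ResidueField P.O))) = 0 := by
      rw [Polynomial.aeval_def, Polynomial.eval₂_map, hcomp, ← Polynomial.aeval_def,
        minpoly.aeval]
    exact (hsep.map).of_dvd (minpoly.dvd (ResidueField P.O) x hroot)⟩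
  obtain ⟨α₀, hα₀⟩ := Field.exists_primitive_element (ResidueField P.O) (ResidueField Q.O)
  obtain ⟨y, rfl⟩ := residue_surjective α₀
  obtain ⟨c, hcT, hc1, hc2⟩ := hrep y.1 y.2
  have hres : residue Q.O ⟨c, hc1⟩ = residue Q.O y := by
    rw [eq_comm, ← sub_eq_zero, ← map_sub, residue_eq_zero_iff, Valuation.mem_maximalIdeal_iff]
    exact hc2
  rw [← hres] at hα₀
  set αr := residue Q.O ⟨c, hc1⟩ with hαr
  -- evaluation of polynomials over `O_P`
  let E : (P.O)[X] → Q.O := fun p₀ => eval₂ (algebraMap P.O Q.O) ⟨c, hc1⟩ p₀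
  have hE1 : ∀ p₀ : (P.O)[X], ((E p₀ : Q.O) : K') = aeval c (p₀.map (algebraMap P.O K)) := by
    intro p₀
    have h1 := Polynomial.hom_eval₂ p₀ (algebraMap P.O Q.O) (Q.O.subtype) ⟨c, hc1⟩
    rw [aeval_def, eval₂_map]
    exact h1
  have hE2 : ∀ p₀ : (P.O)[X], residue Q.O (E p₀) = aeval αr (p₀.map (residue P.O)) := by
    intro p₀
    have h1 := Polynomial.hom_eval₂ p₀ (algebraMap P.O Q.O) (residue Q.O) ⟨c, hc1⟩
    rw [aeval_def, eval₂_map]
    exact h1
  have hE3 : ∀ (p₀ : (P.O)[X]) (i : ℕ), P.1 ((p₀.map (algebraMap P.O K)).coeff i) ≤ 1 := by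
    intro p₀ i
    rw [coeff_map]
    exact (p₀.coeff i).2
  have hint : IsIntegral (ResidueField P.O) αr := Algebra.IsIntegral.isIntegral αr
  obtain ⟨G₀, hG₀⟩ := Polynomial.map_surjective (residue P.O) residue_surjective
    (minpoly (ResidueField P.O) αr)
  refine ⟨c, hcT, hc1, G₀.map (algebraMap P.O K), hE3 G₀, ?_, ?_, ?_⟩
  · rw [← hE1, ← Valuation.mem_maximalIdeal_iff, ← residue_eq_zero_iff, hE2, hG₀, minpoly.aeval]
  · rw [derivative_map, ← hE1]
    have hle : Q.1 ((E (derivative G₀) : Q.O) : K') ≤ 1 := (E (derivative G₀)).2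
    refine le_antisymm hle (not_lt.1 fun hlt => ?_)
    rw [← Valuation.mem_maximalIdeal_iff, ← residue_eq_zero_iff, hE2, ← derivative_map, hG₀] at hlt
    exact (Algebra.IsSeparable.isSeparable (ResidueField P.O) αr).aeval_derivative_ne_zero
      (minpoly.aeval _ _) hlt
  · intro a ha
    have hmem : residue Q.O ⟨a, ha⟩ ∈ (ResidueField P.O)⟮αr⟯ := by
      rw [hα₀]
      exact IntermediateField.mem_top
    rw [← IntermediateField.mem_toSubalgebra,
      IntermediateField.adjoin_simple_toSubalgebra_of_isAlgebraic hint.isAlgebraic,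
      Algebra.adjoin_singleton_eq_range_aeval] at hmem
    obtain ⟨pr, hpr⟩ := hmem
    obtain ⟨p₀, hp₀⟩ := Polynomial.map_surjective (residue P.O) residue_surjective pr
    refine ⟨p₀.map (algebraMap P.O K), hE3 p₀, ?_⟩
    rw [← hE1]
    have h2 : residue Q.O (⟨a, ha⟩ - E p₀) = 0 := by
      rw [map_sub, hE2, hp₀, sub_eq_zero]
      exact hpr.symm
    rw [residue_eq_zero_iff, Valuation.mem_maximalIdeal_iff] at h2
    exact h2

section Main

variable {F F' : Type*} [Field F] [Field F'] [Algebra k F] [Algebra k F']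

open LaurentSeries Groth.Agent.Lib.Helper63.LocResBasic Groth.Agent.Lib.Helper63.LocResRam
  Groth.Agent.Lib.Helper63.UnramDeriv


/-- The different exponent is the order of `f'(s)` for the minimal polynomial `f` over the inertia
field of a uniformizer `s` at `Q`. -/
theorem neg_log_derivative_eq_diffExp [FiniteDimensional K K']
    (hK : IsFunctionField k K) (hg : IsGeometric k K)
    {P : Place k K} {Q : Place k K'} {e : ℕ} (he : IsOverWith Q P e)
    (φ : K →ₐ[k] F⸨X⸩) (hφ : LocRes.IsExpansionAt P.1 φ)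
    (ψ : K' →ₐ[k] F'⸨X⸩) (hψ : LocRes.IsExpansionAt Q.1 ψ)
    {x : K} (hx : LocRes.vDiff φ 1 x ≠ 0) (hx' : LocRes.vDiff ψ 1 (algebraMap K K' x) ≠ 0)
    [Algebra.IsSeparable k (ResidueField Q.O)] {s : K'} (hs : Q.1 s = exp (-1))
    (T : IntermediateField K K') (Q₁ : Place k T) (hQ₁ : IsOverWith Q Q₁ e)
    (hfin : Module.finrank T K' = e)
    (hrep : ∀ y : K', Q.1 y ≤ 1 → ∃ c : K', c ∈ T ∧ Q.1 c ≤ 1 ∧ Q.1 (y - c) < 1) :
    - log (Q.1 (aeval s (derivative (minpoly T s)))) = LocRes.diffExp φ ψ e x := by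
  classical
  have he0 : 0 < e := Nat.pos_of_ne_zero (isOverWith_ne_zero he)
  obtain ⟨hv, -, t, ht⟩ := hφ
  have hvψ := hψ.1
  have hrank : ∀ {x : K}, KaehlerDifferential.D k K x ≠ 0 → ∀ y : K,
      ∃ g : K, KaehlerDifferential.D k K y = g • KaehlerDifferential.D k K x :=
    fun {x} hx y => Groth.Agent.Lib.Helper63.SepGen.exists_smul_D_eq hK hg hx y
  obtain ⟨gx, hgx⟩ := hrank (D_ne_zero_of_vDiff_ne_zero φ hx) t
  obtain ⟨hγ0, hdiff⟩ := diffExp_eq_neg_log P.1 Q.1 e he φ hv ψ hvψ ht hgx hx hx'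
  set t' := algebraMap K K' t with ht'
  set γ := Valued.v (LocRes.D F' (ψ t')) with hγ
  have hDt0 : LocRes.D F' (ψ t') ≠ 0 := (Valuation.ne_zero_iff _).1 hγ0
  have hγ1 : Valued.v (LocRes.D F (φ t)) = 1 := val_D_uniformizer P.1 φ hv ht
  have hDt : KaehlerDifferential.D k K t ≠ 0 :=
    D_ne_zero_of_vDiff_ne_zero φ (by rw [vDiff_one, hγ1]; exact one_ne_zero)
  -- the normalised derivation
  letI := ψ.toRingHom.toAlgebra
  haveI : IsScalarTower k K' F'⸨X⸩ := LocRes.isScalarTower_exp ψ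
  let δ : Derivation k K' F'⸨X⸩ :=
    { toFun := fun y => (LocRes.D F' (ψ t'))⁻¹ * LocRes.dExp ψ y
      map_add' := fun a b => by rw [map_add, mul_add]
      map_smul' := fun c a => by
        have hsm : ∀ (c : k) (m : F'⸨X⸩), c • m = HahnSeries.C (algebraMap k F' c) * m :=
          fun c m => by rw [HahnSeries.C_mul_eq_smul, algebraMap_smul]
        rw [Derivation.map_smul, RingHom.id_apply, hsm, hsm]
        ring
      map_one_eq_zero' := by
        show (LocRes.D F' (ψ t'))⁻¹ * LocRes.dExp ψ 1 = 0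
        rw [Derivation.map_one_eq_zero, mul_zero]
      leibniz' := fun a b => by
        show (LocRes.D F' (ψ t'))⁻¹ * LocRes.dExp ψ (a * b) =
          a • ((LocRes.D F' (ψ t'))⁻¹ * LocRes.dExp ψ b) +
            b • ((LocRes.D F' (ψ t'))⁻¹ * LocRes.dExp ψ a)
        rw [Derivation.leibniz, mul_add]
        have hsm : ∀ (c : K') (m : F'⸨X⸩), c • m = ψ c * m := fun c m => rfl
        rw [hsm, hsm, hsm, hsm]
        ring }
  have hδ : ∀ y : K', δ y = (LocRes.D F' (ψ t'))⁻¹ * LocRes.D F' (ψ y) := fun y => rfl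
  have hvalg : ∀ y : K', Valued.v (algebraMap K' F'⸨X⸩ y) = Q.1 y := fun y => hvψ y
  have hδt : δ t' = 1 := by rw [hδ, inv_mul_cancel₀ hDt0]
  -- H1
  have H1 : ∀ c : K, P.1 c ≤ 1 → Valued.v (δ (algebraMap K K' c)) ≤ 1 := by
    intro c hc
    obtain ⟨g, hg'⟩ := hrank hDt c
    have hgle : P.1 g ≤ 1 := by
      have h1 := D_exp_eq φ hg'
      have h2 : Valued.v (φ c) ≤ exp (-(0 : ℤ)) := by rw [hv]; simpa using hc
      have h3 := val_D_le_of_cast_eq_zero h2 (by simp)
      rw [h1, map_mul, hv, hγ1, mul_one] at h3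
      simpa using h3
    have h4 : δ (algebraMap K K' c) = ψ (algebraMap K K' g) := by
      rw [hδ, D_exp_eq' ψ hg', mul_comm, mul_assoc, mul_inv_cancel₀ hDt0, mul_one]
    rw [h4, hvψ, he]
    exact pow_le_one₀ zero_le hgle
  -- H2
  set n₀ : ℕ := (-log γ).toNat with hn₀
  have hγinv : γ⁻¹ ≤ exp (n₀ : ℤ) := by
    have h1 : γ⁻¹ = exp (-log γ) := by
      rw [exp_neg, exp_log hγ0]
    rw [h1, exp_le_exp]
    exact Int.self_le_toNat _
  have H2 : ∀ y : K', Q.1 y ≤ 1 → Valued.v (δ y) ≤ exp (n₀ : ℤ) := by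
    intro y hy
    have h2 : Valued.v (ψ y) ≤ exp (-(0 : ℤ)) := by rw [hvψ]; simpa using hy
    have h3 := val_D_le_of_cast_eq_zero h2 (by simp)
    rw [hδ, map_mul, map_inv₀, ← hγ]
    calc γ⁻¹ * Valued.v (LocRes.D F' (ψ y)) ≤ γ⁻¹ * 1 :=
          mul_le_mul' le_rfl (by simpa using h3)
      _ = γ⁻¹ := mul_one _
      _ ≤ _ := hγinv
  -- the inertia field
  haveI : IsScalarTower k T K' := IsScalarTower.of_algebraMap_eq (fun c => rfl)
  have hQ₁' : ∀ (a : K') (haT : a ∈ T), Q.1 a = Q₁.1 ⟨a, haT⟩ ^ e := fun a haT => hQ₁ ⟨a, haT⟩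
  have H3 : ∀ a ∈ T, Q.1 a < 1 → Q.1 a ≤ exp (-(e : ℤ)) := by
    intro a haT ha
    have h1 := hQ₁' a haT
    have h2 : Q₁.1 ⟨a, haT⟩ < 1 := by
      by_contra hge
      push Not at hge
      rw [h1] at ha
      exact absurd (one_le_pow₀ hge) (not_le.2 ha)
    have h3 := le_exp_neg_one_of_lt_one h2
    rw [h1]
    calc Q₁.1 ⟨a, haT⟩ ^ e ≤ exp (-1) ^ e := pow_le_pow_left₀ zero_le h3 e
      _ = exp (-(e : ℤ)) := by rw [← exp_nsmul]; simp
  obtain ⟨α, hαT, hα, G, hG, hGα, hG'α, H4⟩ := exists_unram_data hK he T hrep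
  have key := key_lemma P.1 Q.1 Valued.v hvalg δ e he0 he T ht hδt H1 n₀ H2 H3 hαT hα G hG hGα
    hG'α (fun a _ ha => H4 a ha)
  -- the Eisenstein polynomial
  obtain ⟨hdeg, hcoef, h0⟩ := totallyRamified_minpoly Q₁.1 Q.1 hQ₁ hs hfin.symm he0
  set f := minpoly T s with hf
  have htT : t' ∈ T := T.algebraMap_mem t
  have hQt' : Q.1 t' = exp (-(e : ℤ)) := by
    rw [ht', he, ht, ← exp_nsmul]
    simp
  have ht'0 : t' ≠ 0 := by
    intro h
    rw [h, map_zero] at hQt'
    exact exp_ne_zero hQt'.symm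
  have ha₀ : Q.1 ((f.coeff 0 : T) : K') = exp (-(e : ℤ)) := by
    rw [hQ₁' _ (f.coeff 0).2]
    have : (⟨((f.coeff 0 : T) : K'), (f.coeff 0).2⟩ : T) = f.coeff 0 := rfl
    rw [this, h0, ← exp_nsmul]
    simp
  set u := ((f.coeff 0 : T) : K') / t' with hu
  have huT : u ∈ T := div_mem (f.coeff 0).2 htT
  have hu1 : Q.1 u = 1 := by
    rw [hu, map_div₀, ha₀, hQt', div_self exp_ne_zero]
  have ha₀u : ((f.coeff 0 : T) : K') = t' * u := by
    rw [hu, mul_div_cancel₀ _ ht'0]
  have hδa₀ : Valued.v (δ ((f.coeff 0 : T) : K')) = 1 := by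
    rw [ha₀u, Derivation.leibniz, hδt]
    have hsm : ∀ (c : K') (m : F'⸨X⸩), c • m = ψ c * m := fun c m => rfl
    rw [hsm, hsm, mul_one]
    have h1 : Valued.v (ψ t' * δ u) < Valued.v (ψ u) := by
      rw [map_mul, hvψ, hvψ, hu1, hQt']
      calc exp (-(e : ℤ)) * Valued.v (δ u) ≤ exp (-(e : ℤ)) * 1 :=
            mul_le_mul' le_rfl (key u huT hu1.le)
        _ = exp (-(e : ℤ)) := mul_one _
        _ < 1 := by rw [← exp_zero, exp_lt_exp]; omega
    rw [Valuation.map_add_eq_of_lt_right _ h1, hvψ, hu1]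
  have hd := derivation_aeval (R := k) (A := T) (B := K') δ s f
  rw [hf, minpoly.aeval, map_zero, ← hf] at hd
  have hsum : Valued.v (f.sum fun i a => s ^ i • δ (algebraMap T K' a)) = 1 := by
    have ha₀0 : f.coeff 0 ≠ 0 := by
      intro h
      rw [h, map_zero] at h0
      exact exp_ne_zero h0.symm
    have h0mem : 0 ∈ f.support := Polynomial.mem_support_iff.2 ha₀0
    rw [Polynomial.sum_def, ← Finset.add_sum_erase _ _ h0mem, pow_zero, one_smul]
    have hrest : Valued.v (∑ i ∈ f.support.erase 0, s ^ i • δ (algebraMap T K' (f.coeff i))) <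
        Valued.v (δ (algebraMap T K' (f.coeff 0))) := by
      rw [show algebraMap T K' (f.coeff 0) = ((f.coeff 0 : T) : K') from rfl, hδa₀]
      apply Valuation.map_sum_lt _ one_ne_zero
      intro i hi
      have hi0 : i ≠ 0 := (Finset.mem_erase.1 hi).1
      have hsm : ∀ (c : K') (m : F'⸨X⸩), c • m = ψ c * m := fun c m => rfl
      rw [hsm, map_mul, hvψ, map_pow, hs]
      have h1 : Valued.v (δ (algebraMap T K' (f.coeff i))) ≤ 1 := by
        apply key _ (f.coeff i).2
        show Q.1 ((f.coeff i : T) : K') ≤ 1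
        rw [hQ₁' _ (f.coeff i).2]
        exact pow_le_one₀ zero_le (hcoef i)
      have h2 : (exp (-1) : ℤᵐ⁰) ^ i < 1 := by
        rw [← exp_nsmul, ← exp_zero, exp_lt_exp]
        simp only [nsmul_eq_mul, mul_neg, mul_one, Left.neg_neg_iff]
        exact_mod_cast Nat.pos_of_ne_zero hi0
      calc (exp (-1) : ℤᵐ⁰) ^ i * Valued.v (δ (algebraMap T K' (f.coeff i))) ≤
            exp (-1) ^ i * 1 := mul_le_mul' le_rfl h1
        _ < 1 := by rw [mul_one]; exact h2
    rw [Valuation.map_add_eq_of_lt_left _ hrest]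
    exact hδa₀
  have hvs : Valued.v (δ s) = γ⁻¹ := by
    rw [hδ, map_mul, map_inv₀, ← hγ, val_D_uniformizer Q.1 ψ hvψ hs, mul_one]
  have hfin' : Q.1 (aeval s (derivative f)) = γ := by
    have h1 : aeval s (derivative f) • δ s =
        -(f.sum fun i a => s ^ i • δ (algebraMap T K' a)) := by
      rw [eq_neg_iff_add_eq_zero, add_comm]
      exact hd.symm
    have h2 := congrArg (Valued.v : F'⸨X⸩ → ℤᵐ⁰) h1
    have hsm : ∀ (c : K') (m : F'⸨X⸩), c • m = ψ c * m := fun c m => rfl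
    rw [Valuation.map_neg, hsum, hsm, map_mul, hvψ, hvs] at h2
    have h3 : Q.1 (aeval s (derivative f)) * γ⁻¹ = γ * γ⁻¹ :=
      h2.trans (mul_inv_cancel₀ hγ0).symm
    exact mul_right_cancel₀ (inv_ne_zero hγ0) h3
  rw [hfin', hdiff]

end Main

section Count

/-- Double counting: `∑ i(τ) = ∑_{j ≥ 1} #{τ | j ≤ i(τ)}`. -/
theorem count_formula {α : Type*} [DecidableEq α] (S : Finset α) (i : α → ℕ) (c : ℕ → ℕ)
    (hc : ∀ j, 1 ≤ j → c j = (S.filter (fun τ => j ≤ i τ)).card + 1) :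
    (Function.support fun j : ℕ => (c j : ℤ) - 1).Finite ∧
      ((∑ τ ∈ S, i τ : ℕ) : ℤ) = ∑ᶠ j : ℕ, if 1 ≤ j then (c j : ℤ) - 1 else 0 := by
  set M := S.sup i with hM
  have hbig : ∀ j, M < j → (c j : ℤ) - 1 = 0 := by
    intro j hj
    have h1 : (S.filter (fun τ => j ≤ i τ)) = ∅ := by
      rw [Finset.filter_eq_empty_iff]
      intro τ hτ
      have : i τ ≤ M := Finset.le_sup (f := i) hτ
      omega
    rw [hc j (by omega), h1, Finset.card_empty]
    simp
  constructor
  · refine (Finset.range (M + 1)).finite_toSet.subset ?_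
    intro j hj
    rw [Function.mem_support] at hj
    rw [Finset.mem_coe, Finset.mem_range]
    by_contra hlt
    exact hj (hbig j (by omega))
  · rw [finsum_eq_sum_of_support_subset _ (s := Finset.range (M + 1)) (by
      intro j hj
      rw [Function.mem_support] at hj
      rw [Finset.mem_coe, Finset.mem_range]
      by_contra hlt
      apply hj
      rw [if_pos (by omega)]
      exact hbig j (by omega))]
    have h1 : ∀ j ∈ Finset.range (M + 1), (if 1 ≤ j then (c j : ℤ) - 1 else 0) =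
        ((∑ τ ∈ S, if 1 ≤ j ∧ j ≤ i τ then 1 else 0 : ℕ) : ℤ) := by
      intro j _
      by_cases hj : 1 ≤ j
      · rw [if_pos hj, hc j hj, Finset.card_filter]
        push_cast
        simp [hj]
      · rw [if_neg hj]
        simp [hj]
    rw [Finset.sum_congr rfl h1, ← Nat.cast_sum, Finset.sum_comm]
    congr 1
    refine Finset.sum_congr rfl fun τ hτ => ?_
    rw [← Finset.card_filter]
    have hle : i τ ≤ M := Finset.le_sup (f := i) hτ
    have h2 : (Finset.range (M + 1)).filter (fun j => 1 ≤ j ∧ j ≤ i τ) = Finset.Icc 1 (i τ) := by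
      ext j
      simp only [Finset.mem_filter, Finset.mem_range, Finset.mem_Icc]
      omega
    rw [h2, Nat.card_Icc]
    omega

theorem prod_exp_neg {α : Type*} [DecidableEq α] (S : Finset α) (i : α → ℕ) :
    ∏ τ ∈ S, (exp (-(i τ : ℤ)) : ℤᵐ⁰) = exp (-((∑ τ ∈ S, i τ : ℕ) : ℤ)) := by
  induction S using Finset.induction_on with
  | empty => simp
  | insert a S ha ih =>
    rw [Finset.prod_insert ha, Finset.sum_insert ha, ih, ← exp_add]
    congr 1
    push_cast
    ring

end Count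

section Final

variable {F F' : Type*} [Field F] [Field F'] [Algebra k F] [Algebra k F']

open LaurentSeries Groth.Agent.Lib.Helper63.LocResBasic Groth.Agent.Lib.Helper63.LocResRam

/-- The inertia field with its place and degree. -/
theorem inertia_data [FiniteDimensional K K'] [IsGalois K K'] (hK : IsFunctionField k K)
    {Q : Place k K'} {P : Place k K} {e : ℕ} (he : IsOverWith Q P e)
    [Algebra.IsSeparable k (ResidueField Q.O)] :
    ∃ Q₁ : Place k (IntermediateField.fixedField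
        (((Q.O).inertiaSubgroup K).map ((Q.O).decompositionSubgroup K).subtype)),
      IsOverWith Q Q₁ e ∧ Module.finrank (IntermediateField.fixedField
        (((Q.O).inertiaSubgroup K).map ((Q.O).decompositionSubgroup K).subtype)) K' = e := by
  obtain ⟨Q₁, hQ₁⟩ := totallyRamified hK Q
  have hcardI : Nat.card (((Q.O).inertiaSubgroup K).map
      ((Q.O).decompositionSubgroup K).subtype) = e := by
    rw [Nat.card_congr (Subgroup.equivMapOfInjective _ _
      (Subgroup.subtype_injective _)).symm.toEquiv]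
    exact card_inertia hK he
  have hfin : Module.finrank (IntermediateField.fixedField
      (((Q.O).inertiaSubgroup K).map ((Q.O).decompositionSubgroup K).subtype)) K' = e := by
    rw [IntermediateField.finrank_fixedField_eq_card, hcardI]
  refine ⟨Q₁, ?_, hfin⟩
  rw [hfin] at hQ₁
  exact hQ₁

/-- Hilbert's different formula. -/
theorem hilbert_formula [FiniteDimensional K K'] [IsGalois K K']
    (hK : IsFunctionField k K) (hg : IsGeometric k K)
    {P : Place k K} {Q : Place k K'} {e : ℕ} (he : IsOverWith Q P e)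
    (φ : K →ₐ[k] F⸨X⸩) (hφ : LocRes.IsExpansionAt P.1 φ)
    (ψ : K' →ₐ[k] F'⸨X⸩) (hψ : LocRes.IsExpansionAt Q.1 ψ)
    {x : K} (hx : LocRes.vDiff φ 1 x ≠ 0) (hx' : LocRes.vDiff ψ 1 (algebraMap K K' x) ≠ 0) :
    (Function.support fun i : ℕ =>
      (Nat.card {σ : K' ≃ₐ[K] K' // σ ∈ G Q (i : ℤ)} : ℤ) - 1).Finite ∧
    LocRes.diffExp φ ψ e x = ∑ᶠ i : ℕ, if 1 ≤ i then
      (Nat.card {σ : K' ≃ₐ[K] K' // σ ∈ G Q (i : ℤ)} : ℤ) - 1 else 0 := by
  classical
  haveI : Algebra.IsSeparable k (ResidueField Q.O) :=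
    Groth.Agent.Lib.Helper63.ExpSepExt.isSeparable_residueField_ext hK hg Q ψ hψ
  obtain ⟨s, hs⟩ := Q.2.2 (exp (-1))
  obtain ⟨Q₁, hQ₁, hfin⟩ := inertia_data hK he
  have he0 : 0 < e := Nat.pos_of_ne_zero (isOverWith_ne_zero he)
  have hmain := neg_log_derivative_eq_diffExp hK hg he φ hφ ψ hψ hx hx' hs _ Q₁ hQ₁ hfin
    (fun y hy => exists_residue_rep hK Q y hy)
  obtain ⟨hdeg, -, -⟩ := totallyRamified_minpoly Q₁.1 Q.1 hQ₁ hs hfin.symm he0
  have htop := (Field.primitive_element_iff_minpoly_natDegree_eq _ s).2 (hdeg.trans hfin.symm)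
  have hprod := Groth.Agent.Lib.Helper63.GaloisNodal.aeval_derivative_minpoly _ htop
  rw [hprod] at hmain
  -- notation
  obtain ⟨I, hI⟩ : ∃ I : Subgroup (K' ≃ₐ[K] K'),
      I = ((Q.O).inertiaSubgroup K).map ((Q.O).decompositionSubgroup K).subtype := ⟨_, rfl⟩
  rw [← hI] at hmain htop
  set Is : Finset (K' ≃ₐ[K] K') := Finset.univ.filter (· ∈ I) with hIs
  have hmemIs : ∀ τ, τ ∈ Is ↔ τ ∈ I := fun τ => by simp [hIs]
  set S := Is.erase 1 with hS
  let i : (K' ≃ₐ[K] K') → ℕ := fun τ => (-log (Q.1 (τ s - s))).toNat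
  have hs1 : Q.1 s ≤ 1 := by rw [hs, ← exp_zero, exp_le_exp]; omega
  -- values at `τ ∈ S`
  have hval : ∀ τ ∈ S, Q.1 (τ s - s) = exp (-(i τ : ℤ)) := by
    intro τ hτ
    obtain ⟨hne, hτIs⟩ := Finset.mem_erase.1 hτ
    have hτI : τ ∈ I := (hmemIs τ).1 hτIs
    have hG1 : τ ∈ G Q 1 := mem_G_one_of_mem_inertia (hI ▸ hτI)
    have hne0 : τ s - s ≠ 0 := by
      intro h0
      apply hne
      apply Groth.Agent.Lib.Helper63.GaloisNodal.eq_of_apply_eq I htop hτI I.one_mem
      rw [AlgEquiv.one_apply]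
      exact sub_eq_zero.1 h0
    have hv0 : Q.1 (τ s - s) ≠ 0 := (Valuation.ne_zero_iff _).2 hne0
    have hle : Q.1 (τ s - s) ≤ exp (-1) := hG1 s hs1
    have hlog : log (Q.1 (τ s - s)) ≤ -1 := by
      rw [log_le_iff_le_exp hv0]
      exact hle
    have hi : ((i τ : ℕ) : ℤ) = -log (Q.1 (τ s - s)) := Int.toNat_of_nonneg (by omega)
    rw [hi, neg_neg, exp_log hv0]
  -- cardinalities
  have hc : ∀ j : ℕ, 1 ≤ j → Nat.card {σ : K' ≃ₐ[K] K' // σ ∈ G Q (j : ℤ)} =
      (S.filter (fun τ => j ≤ i τ)).card + 1 := by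
    intro j hj
    have hset : ∀ σ : K' ≃ₐ[K] K',
        σ ∈ Is.filter (fun τ => Q.1 (τ s - s) ≤ exp (-(j : ℤ))) ↔ σ ∈ G Q (j : ℤ) := by
      intro σ
      rw [Finset.mem_filter, hmemIs]
      constructor
      · rintro ⟨hσI, hσ⟩
        exact (mem_G_iff_uniformizer hK Q (mem_G_one_of_mem_inertia (hI ▸ hσI)) hs j).2 hσ
      · intro hσ
        have hσ1 : σ ∈ G Q 1 := G_anti Q (by exact_mod_cast hj) hσ
        refine ⟨hI ▸ mem_inertia hσ1, hσ s hs1⟩
    rw [Nat.subtype_card _ hset]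
    have h1mem : (1 : K' ≃ₐ[K] K') ∈ Is.filter (fun τ => Q.1 (τ s - s) ≤ exp (-(j : ℤ))) := by
      rw [Finset.mem_filter, hmemIs]
      refine ⟨I.one_mem, ?_⟩
      simp
    rw [← Finset.card_erase_add_one h1mem]
    congr 2
    ext τ
    simp only [Finset.mem_erase, Finset.mem_filter, hS]
    constructor
    · rintro ⟨hne, hτIs, hτ⟩
      refine ⟨⟨hne, hτIs⟩, ?_⟩
      rw [hval τ (Finset.mem_erase.2 ⟨hne, hτIs⟩), exp_le_exp] at hτ
      omega
    · rintro ⟨⟨hne, hτIs⟩, hτ⟩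
      refine ⟨hne, hτIs, ?_⟩
      rw [hval τ (Finset.mem_erase.2 ⟨hne, hτIs⟩), exp_le_exp]
      omega
  obtain ⟨hfinite, hsum⟩ := count_formula S i
    (fun j => Nat.card {σ : K' ≃ₐ[K] K' // σ ∈ G Q (j : ℤ)}) hc
  refine ⟨hfinite, ?_⟩
  rw [← hsum, ← hmain, map_prod]
  have h2 : ∏ τ ∈ S, Q.1 (s - τ s) = exp (-((∑ τ ∈ S, i τ : ℕ) : ℤ)) := by
    rw [← prod_exp_neg]
    refine Finset.prod_congr rfl fun τ hτ => ?_
    rw [← hval τ hτ, ← Valuation.map_neg, neg_sub]
  rw [h2, log_exp, neg_neg]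

end Final

end Groth.Agent.Lib.Helper63.HilbertDiff
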