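import Groth.Agent.Lib.Helper63.BallDim
import Groth.Agent.Lib.Helper63.AbsIrred
import Groth.Agent.Lib.Helper55.FunFld.LocConductor

/-! S11077, part A: the places over a finite point of a plane curve (helper63). -/

set_option autoImplicit false
set_option linter.style.haveILetI false
set_option linter.unusedSectionVars false

namespace Groth.Agent.Lib.Helper63.IntMultA

open WithZero FunFld Module IsLocalRing Groth.Agent.Lib.Helper55
  Groth.Agent.Lib.Helper63.RelFinrank Groth.Agent.Lib.Helper63.BallDim

variable {k K : Type*} [Field k] [Field K] [Algebra k K]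

/-- A place lies over the finite point `c` of the plane curve `(x, y)`. -/
def Over (x y : K) (c : Fin 2 → k) (Q : Place k K) : Prop :=
  ∀ i, Q.1 (![x, y] i - algebraMap k K (c i)) < 1

theorem val_le_one_of_lt {Q : Place k K} {z : K} {a : k} (h : Q.1 (z - algebraMap k K a) < 1) :
    Q.1 z ≤ 1 := by
  have h3 : z = (z - algebraMap k K a) + algebraMap k K a := by ring
  rw [h3]
  exact (Q.1.map_add _ _).trans (max_le h.le (Q.2.1 a))

/-- Polynomial expressions in `x, y` are congruent to their values at the point. -/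
theorem congr_eval {x y : K} {c : Fin 2 → k} {Q : Place k K} (hQ : Over x y c Q)
    (s : MvPolynomial (Fin 2) k) :
    Q.1 (MvPolynomial.aeval ![x, y] s - algebraMap k K (MvPolynomial.eval c s)) < 1 := by
  induction s using MvPolynomial.induction_on with
  | C a =>
    rw [MvPolynomial.aeval_C, MvPolynomial.eval_C, sub_self, map_zero]
    exact zero_lt_one
  | add p q hp hq =>
    have h3 : MvPolynomial.aeval ![x, y] (p + q) - algebraMap k K (MvPolynomial.eval c (p + q)) =
        (MvPolynomial.aeval ![x, y] p - algebraMap k K (MvPolynomial.eval c p)) +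
        (MvPolynomial.aeval ![x, y] q - algebraMap k K (MvPolynomial.eval c q)) := by
      rw [map_add, map_add, map_add]; ring
    rw [h3]
    exact lt_of_le_of_lt (Q.1.map_add _ _) (max_lt hp hq)
  | mul_X p i hp =>
    have hp1 : Q.1 (MvPolynomial.aeval ![x, y] p) ≤ 1 := val_le_one_of_lt hp
    have h3 : MvPolynomial.aeval ![x, y] (p * MvPolynomial.X i) -
        algebraMap k K (MvPolynomial.eval c (p * MvPolynomial.X i)) =
        MvPolynomial.aeval ![x, y] p * (![x, y] i - algebraMap k K (c i)) +
        (MvPolynomial.aeval ![x, y] p - algebraMap k K (MvPolynomial.eval c p)) *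
          algebraMap k K (c i) := by
      rw [map_mul, map_mul, MvPolynomial.aeval_X, MvPolynomial.eval_X, map_mul]; ring
    rw [h3]
    refine lt_of_le_of_lt (Q.1.map_add _ _) (max_lt ?_ ?_)
    · rw [map_mul]
      exact lt_of_le_of_lt (mul_le_of_le_one_left' hp1) (hQ i)
    · rw [map_mul]
      exact lt_of_le_of_lt (mul_le_of_le_one_right' (Q.2.1 _)) hp

theorem val_aeval_le_one {x y : K} {c : Fin 2 → k} {Q : Place k K} (hQ : Over x y c Q)
    (s : MvPolynomial (Fin 2) k) : Q.1 (MvPolynomial.aeval ![x, y] s) ≤ 1 :=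
  val_le_one_of_lt (congr_eval hQ s)

theorem val_aeval_eq_one {x y : K} {c : Fin 2 → k} {Q : Place k K} (hQ : Over x y c Q)
    (s : MvPolynomial (Fin 2) k) (hs : MvPolynomial.eval c s ≠ 0) :
    Q.1 (MvPolynomial.aeval ![x, y] s) = 1 := by
  have h3 : MvPolynomial.aeval ![x, y] s = algebraMap k K (MvPolynomial.eval c s) +
      (MvPolynomial.aeval ![x, y] s - algebraMap k K (MvPolynomial.eval c s)) := by ring
  rw [h3, Valuation.map_add_eq_of_lt_left, ff_val_const Q hs]
  rw [ff_val_const Q hs]
  exact congr_eval hQ s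

theorem val_aeval_lt_one {x y : K} {c : Fin 2 → k} {Q : Place k K} (hQ : Over x y c Q)
    (s : MvPolynomial (Fin 2) k) (hs : MvPolynomial.eval c s = 0) :
    Q.1 (MvPolynomial.aeval ![x, y] s) < 1 := by
  have := congr_eval hQ s
  rwa [hs, map_zero, sub_zero] at this

/-- The maximal ideal of the point is the kernel of evaluation. -/
theorem mem_M_iff (c : Fin 2 → k) (M : Ideal (MvPolynomial (Fin 2) k)) [hMm : M.IsMaximal]
    (hM : M = Ideal.span {MvPolynomial.X 0 - MvPolynomial.C (c 0),
      MvPolynomial.X 1 - MvPolynomial.C (c 1)}) (s : MvPolynomial (Fin 2) k) :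
    s ∈ M ↔ MvPolynomial.eval c s = 0 := by
  have hle : M ≤ RingHom.ker (MvPolynomial.eval c) := by
    rw [hM, Ideal.span_le]
    rintro _ (rfl | rfl)
    · rw [SetLike.mem_coe, RingHom.mem_ker, map_sub, MvPolynomial.eval_X, MvPolynomial.eval_C,
        sub_self]
    · rw [SetLike.mem_coe, RingHom.mem_ker, map_sub, MvPolynomial.eval_X, MvPolynomial.eval_C,
        sub_self]
  have hne : RingHom.ker (MvPolynomial.eval c) ≠ ⊤ := RingHom.ker_ne_top _
  have heq := hMm.eq_of_le hne hle
  rw [heq, RingHom.mem_ker]

end Groth.Agent.Lib.Helper63.IntMultA
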