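import Groth.Agent.Lib.Helper63.IntMultA

/-! S11077, part B: the fibre of the point in terms of `SameImage` (helper63). -/

set_option autoImplicit false
set_option linter.style.haveILetI false
set_option linter.unusedSectionVars false

namespace Groth.Agent.Lib.Helper63.IntMultA

open WithZero FunFld Module IsLocalRing Groth.Agent.Lib.Helper55

variable {k K : Type*} [Field k] [Field K] [Algebra k K]

theorem const_eq_zero_of_lt (Q : Place k K) {c : k} (hc : Q.1 (algebraMap k K c) < 1) : c = 0 := by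
  by_contra hne
  rw [ff_val_const Q hne] at hc
  exact lt_irrefl _ hc

theorem const_eq_of_lt (Q : Place k K) {z : K} {a b : k} (ha : Q.1 (z - algebraMap k K a) < 1)
    (hb : Q.1 (z - algebraMap k K b) < 1) : a = b := by
  have h1 : Q.1 (algebraMap k K (a - b)) < 1 := by
    have h3 : algebraMap k K (a - b) = (z - algebraMap k K b) - (z - algebraMap k K a) := by
      rw [map_sub]; ring
    rw [h3]
    exact lt_of_le_of_lt (Q.1.map_sub _ _) (max_lt hb ha)
  exact sub_eq_zero.1 (const_eq_zero_of_lt Q h1)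

/-- Passing to the chart where `u` is a unit. -/
theorem aux_chart (u v : K) (a b : k) (P Q : Place k K)
    (hPu : P.1 (u - algebraMap k K a) < 1) (hPv : P.1 (v - algebraMap k K b) < 1)
    (h1 : P.1 1 ≤ P.1 u)
    (hc0 : ∃ c' : k, P.1 (1 / u - algebraMap k K c') < 1 ∧ Q.1 (1 / u - algebraMap k K c') < 1)
    (hc2 : ∃ c'' : k, P.1 (v / u - algebraMap k K c'') < 1 ∧
      Q.1 (v / u - algebraMap k K c'') < 1) :
    Q.1 (u - algebraMap k K a) < 1 ∧ Q.1 (v - algebraMap k K b) < 1 := by
  have hPu1 : P.1 u = 1 := le_antisymm (val_le_one_of_lt hPu) (by rwa [map_one] at h1)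
  have hu0 : u ≠ 0 := by
    intro h0
    rw [h0, map_zero] at hPu1
    exact zero_ne_one hPu1
  have ha0 : a ≠ 0 := by
    intro h0
    rw [h0, map_zero, sub_zero, hPu1] at hPu
    exact lt_irrefl _ hPu
  have hA0 : algebraMap k K a ≠ 0 := by
    rwa [Ne, map_eq_zero_iff _ (algebraMap k K).injective]
  have hPa : P.1 (algebraMap k K a) = 1 := ff_val_const P ha0
  have hQa : Q.1 (algebraMap k K a) = 1 := ff_val_const Q ha0
  obtain ⟨c', hPc', hQc'⟩ := hc0
  have hP1 : P.1 (1 / u - algebraMap k K a⁻¹) < 1 := by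
    have e1 : 1 / u - algebraMap k K a⁻¹ =
        -(u - algebraMap k K a) * (u⁻¹ * (algebraMap k K a)⁻¹) := by
      rw [map_inv₀]; field_simp; ring
    rw [e1, map_mul, Valuation.map_neg, map_mul, map_inv₀, map_inv₀, hPu1, hPa, inv_one, mul_one, mul_one]
    exact hPu
  have hc' : c' = a⁻¹ := const_eq_of_lt P hPc' hP1
  have hc'0 : c' ≠ 0 := by rw [hc']; exact inv_ne_zero ha0
  have hQinv : Q.1 (1 / u) = 1 := by
    have h3 : 1 / u = algebraMap k K c' + (1 / u - algebraMap k K c') := by ring
    rw [h3, Valuation.map_add_eq_of_lt_left, ff_val_const Q hc'0]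
    rw [ff_val_const Q hc'0]
    exact hQc'
  have hQu : Q.1 u = 1 := by
    rw [one_div, map_inv₀, inv_eq_one] at hQinv
    exact hQinv
  have hQua : Q.1 (u - algebraMap k K a) < 1 := by
    have e2 : u - algebraMap k K a = -(1 / u - algebraMap k K c') * (u * algebraMap k K a) := by
      rw [hc', map_inv₀]; field_simp; ring
    rw [e2, map_mul, Valuation.map_neg, map_mul, hQu, hQa, mul_one, mul_one]
    exact hQc'
  refine ⟨hQua, ?_⟩
  obtain ⟨c'', hPc'', hQc''⟩ := hc2
  have hP2 : P.1 (v / u - algebraMap k K (b / a)) < 1 := by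
    have e3 : v / u - algebraMap k K (b / a) =
        ((v - algebraMap k K b) * algebraMap k K a - algebraMap k K b * (u - algebraMap k K a)) *
          (u⁻¹ * (algebraMap k K a)⁻¹) := by
      rw [map_div₀]; field_simp; ring
    rw [e3, map_mul, map_mul, map_inv₀, map_inv₀, hPu1, hPa, inv_one, mul_one, mul_one]
    refine lt_of_le_of_lt (P.1.map_sub _ _) (max_lt ?_ ?_)
    · rw [map_mul, hPa, mul_one]; exact hPv
    · rw [map_mul]
      exact lt_of_le_of_lt (mul_le_of_le_one_left' (P.2.1 b)) hPu
  have hc'' : c'' = b / a := const_eq_of_lt P hPc'' hP2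
  have e4 : v - algebraMap k K b = u * (v / u - algebraMap k K c'') +
      algebraMap k K c'' * (u - algebraMap k K a) := by
    rw [hc'', map_div₀]; field_simp; ring
  rw [e4]
  refine lt_of_le_of_lt (Q.1.map_add _ _) (max_lt ?_ ?_)
  · rw [map_mul, hQu, one_mul]; exact hQc''
  · rw [map_mul]
    exact lt_of_le_of_lt (mul_le_of_le_one_left' (Q.2.1 c'')) hQua

/-- The fibre of the image point consists of the places over the point. -/
theorem sameImage_iff {x y : K} {c : Fin 2 → k} {P : Place k K} (hP : Over x y c P)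
    (Q : Place k K) : SameImage ![(1 : K), x, y] P Q ↔ Over x y c Q := by
  have hP0 : P.1 (x - algebraMap k K (c 0)) < 1 := hP 0
  have hP1 : P.1 (y - algebraMap k K (c 1)) < 1 := hP 1
  constructor
  · rintro ⟨j, hj0, hmaxP, hmaxQ, hcc⟩
    have key : Q.1 (x - algebraMap k K (c 0)) < 1 ∧ Q.1 (y - algebraMap k K (c 1)) < 1 := by
      fin_cases j
      · obtain ⟨c1, hPc1, hQc1⟩ := hcc 1
        obtain ⟨c2, hPc2, hQc2⟩ := hcc 2
        have e1 : ![(1 : K), x, y] 1 / ![(1 : K), x, y] 0 = x := by simp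
        have e2 : ![(1 : K), x, y] 2 / ![(1 : K), x, y] 0 = y := by simp
        simp only [Fin.zero_eta] at hPc1 hQc1 hPc2 hQc2
        rw [e1] at hPc1 hQc1
        rw [e2] at hPc2 hQc2
        rw [const_eq_of_lt P hP0 hPc1, const_eq_of_lt P hP1 hPc2]
        exact ⟨hQc1, hQc2⟩
      · have h1 : P.1 1 ≤ P.1 x := hmaxP 0
        have hc0 : ∃ c' : k, P.1 (1 / x - algebraMap k K c') < 1 ∧
            Q.1 (1 / x - algebraMap k K c') < 1 := hcc 0
        have hc2 : ∃ c'' : k, P.1 (y / x - algebraMap k K c'') < 1 ∧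
            Q.1 (y / x - algebraMap k K c'') < 1 := hcc 2
        exact aux_chart x y (c 0) (c 1) P Q hP0 hP1 h1 hc0 hc2
      · have h1 : P.1 1 ≤ P.1 y := hmaxP 0
        have hc0 : ∃ c' : k, P.1 (1 / y - algebraMap k K c') < 1 ∧
            Q.1 (1 / y - algebraMap k K c') < 1 := hcc 0
        have hc2 : ∃ c'' : k, P.1 (x / y - algebraMap k K c'') < 1 ∧
            Q.1 (x / y - algebraMap k K c'') < 1 := hcc 1
        exact (aux_chart y x (c 1) (c 0) P Q hP1 hP0 h1 hc0 hc2).symm
    intro i
    fin_cases i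
    · exact key.1
    · exact key.2
  · intro hQ
    have hQ0 : Q.1 (x - algebraMap k K (c 0)) < 1 := hQ 0
    have hQ1 : Q.1 (y - algebraMap k K (c 1)) < 1 := hQ 1
    refine ⟨0, by simp, ?_, ?_, ?_⟩
    · intro i
      fin_cases i
      · exact le_rfl
      · change P.1 x ≤ P.1 1
        rw [map_one]; exact val_le_one_of_lt hP0
      · change P.1 y ≤ P.1 1
        rw [map_one]; exact val_le_one_of_lt hP1
    · intro i
      fin_cases i
      · exact le_rfl
      · change Q.1 x ≤ Q.1 1
        rw [map_one]; exact val_le_one_of_lt hQ0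
      · change Q.1 y ≤ Q.1 1
        rw [map_one]; exact val_le_one_of_lt hQ1
    · intro i
      fin_cases i
      · refine ⟨1, ?_, ?_⟩
        · change P.1 ((1 : K) / 1 - algebraMap k K 1) < 1
          rw [map_one, div_one, sub_self, map_zero]; exact zero_lt_one
        · change Q.1 ((1 : K) / 1 - algebraMap k K 1) < 1
          rw [map_one, div_one, sub_self, map_zero]; exact zero_lt_one
      · refine ⟨c 0, ?_, ?_⟩
        · change P.1 (x / 1 - algebraMap k K (c 0)) < 1
          rw [div_one]; exact hP0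
        · change Q.1 (x / 1 - algebraMap k K (c 0)) < 1
          rw [div_one]; exact hQ0
      · refine ⟨c 1, ?_, ?_⟩
        · change P.1 (y / 1 - algebraMap k K (c 1)) < 1
          rw [div_one]; exact hP1
        · change Q.1 (y / 1 - algebraMap k K (c 1)) < 1
          rw [div_one]; exact hQ1

end Groth.Agent.Lib.Helper63.IntMultA
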