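import Groth.Agent.Lib.Helper63.IntMultB

/-! S11077, part C: the local ring of the point and its conductor (helper63). -/

set_option autoImplicit false
set_option linter.style.haveILetI false
set_option linter.unusedSectionVars false

namespace Groth.Agent.Lib.Helper63.IntMultA

open WithZero FunFld Module IsLocalRing Groth.Agent.Lib.Helper55
  Groth.Agent.Lib.Helper63.RelFinrank Groth.Agent.Lib.Helper63.BallDim

variable {k K : Type*} [Field k] [Field K] [Algebra k K]

theorem range_pair (x y : K) : Set.range ![x, y] = ({x, y} : Set K) := by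
  simp [Set.pair_comm]

theorem exists_transcendental_gen (hK : IsFunctionField k K) (x y : K)
    (hxy : IntermediateField.adjoin k ({x, y} : Set K) = ⊤) :
    ∃ i, Transcendental k (![x, y] i) := by
  by_contra hcon
  push Not at hcon
  have hx : IsIntegral k x := by
    have := hcon 0
    rw [Transcendental, not_not] at this
    exact this.isIntegral
  have hy : IsIntegral k y := by
    have := hcon 1
    rw [Transcendental, not_not] at this
    exact this.isIntegral
  haveI : Algebra.IsAlgebraic k (IntermediateField.adjoin k ({x, y} : Set K)) := by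
    apply IntermediateField.isAlgebraic_adjoin
    intro z hz
    rcases hz with rfl | hz
    · exact hx
    · rw [Set.mem_singleton_iff] at hz
      rw [hz]; exact hy
  obtain ⟨⟨t, ht, -⟩, -⟩ := hK
  apply ht
  have htm : t ∈ IntermediateField.adjoin k ({x, y} : Set K) := by rw [hxy]; trivial
  have h4 : IsAlgebraic k (⟨t, htm⟩ : IntermediateField.adjoin k ({x, y} : Set K)) :=
    Algebra.IsAlgebraic.isAlgebraic _
  exact (isAlgebraic_algebraMap_iff (A := K)
    (IntermediateField.adjoin k ({x, y} : Set K)).val.injective).2 h4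

theorem finite_over (hK : IsFunctionField k K) (x y : K)
    (hxy : IntermediateField.adjoin k ({x, y} : Set K) = ⊤) (c : Fin 2 → k) :
    {Q : Place k K | Over x y c Q}.Finite := by
  obtain ⟨i, hi⟩ := exists_transcendental_gen hK x y hxy
  have hne : ![x, y] i - algebraMap k K (c i) ≠ 0 := by
    intro h0
    apply hi
    rw [sub_eq_zero] at h0
    rw [h0]
    exact isAlgebraic_algebraMap _
  refine (ff_finite_zeros_of_ne_zero hK hne).subset ?_
  intro Q hQ
  exact hQ i

/-- The local ring of the plane curve at the point. -/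
noncomputable abbrev locRing (x y : K) (P : Place k K) : Subalgebra k K :=
  ff_locRing (Algebra.adjoin k (Set.range ![x, y])) P

theorem mem_adjoin_iff (x y z : K) :
    z ∈ Algebra.adjoin k (Set.range ![x, y]) ↔
      ∃ a : MvPolynomial (Fin 2) k, MvPolynomial.aeval ![x, y] a = z := by
  rw [← MvPolynomial.aeval_range]
  rfl

theorem mem_locRing_iff {x y : K} {c : Fin 2 → k} {P : Place k K} (hP : Over x y c P) (z : K) :
    z ∈ locRing x y P ↔ ∃ a s : MvPolynomial (Fin 2) k, MvPolynomial.eval c s ≠ 0 ∧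
      z * MvPolynomial.aeval ![x, y] s = MvPolynomial.aeval ![x, y] a := by
  constructor
  · rintro ⟨u, hu, w, hw, hw1, hzw⟩
    obtain ⟨a, rfl⟩ := (mem_adjoin_iff x y u).1 hu
    obtain ⟨s, rfl⟩ := (mem_adjoin_iff x y w).1 hw
    refine ⟨a, s, ?_, hzw⟩
    intro h0
    have := val_aeval_lt_one hP s h0
    rw [hw1] at this
    exact lt_irrefl _ this
  · rintro ⟨a, s, hs, hzs⟩
    exact ⟨_, (mem_adjoin_iff x y _).2 ⟨a, rfl⟩, _, (mem_adjoin_iff x y _).2 ⟨s, rfl⟩,
      val_aeval_eq_one hP s hs, hzs⟩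

theorem val_le_one_of_mem_locRing {x y : K} {c : Fin 2 → k} {P : Place k K} (hP : Over x y c P)
    {Q : Place k K} (hQ : Over x y c Q) {z : K} (hz : z ∈ locRing x y P) : Q.1 z ≤ 1 := by
  obtain ⟨a, s, hs, hzs⟩ := (mem_locRing_iff hP z).1 hz
  have h1 := congrArg Q.1 hzs
  rw [map_mul, val_aeval_eq_one hQ s hs, mul_one] at h1
  rw [h1]
  exact val_aeval_le_one hQ a


/-- Functions vanishing to high order at all places over the point lie in its local ring. -/
theorem exists_ball_le [IsAlgClosed k] (hK : IsFunctionField k K) (x y : K)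
    (hxy : IntermediateField.adjoin k ({x, y} : Set K) = ⊤) (c : Fin 2 → k) (P : Place k K)
    (hP : Over x y c P) (Ts : Finset (Place k K)) (hTs : ∀ Q, Q ∈ Ts ↔ Over x y c Q) :
    ∃ N : ℕ, ∀ z : K, (∀ Q ∈ Ts, Q.1 z ≤ exp (-(N : ℤ))) → z ∈ locRing x y P := by
  classical
  obtain ⟨i₀, hi₀⟩ := exists_transcendental_gen hK x y hxy
  have hbir : IntermediateField.adjoin k (Set.range ![x, y]) = ⊤ := by
    rw [range_pair]; exact hxy
  obtain ⟨cc, hcR, hc0, hcond⟩ := ff_exists_conductor hK ![x, y] i₀ hi₀ hbir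
  refine ⟨Ts.sup (fun Q => (Q.ord cc).toNat), fun z hz => ?_⟩
  set N := Ts.sup (fun Q => (Q.ord cc).toNat) with hN
  set E₀ : Divisor k K := ∑ i, ff_poleDiv (![x, y] i) with hE₀
  have hE₀0 : 0 ≤ E₀ := Finset.sum_nonneg fun i _ => ff_poleDiv_nonneg (![x, y] i)
  have hE₀zero : ∀ Q : Place k K, E₀ Q = 0 ↔ ∀ i, Q.1 (![x, y] i) ≤ 1 :=
    fun Q => ff_sum_poleDiv_eq_zero_iff hK ![x, y] Q
  have hRint : ∀ r ∈ Algebra.adjoin k (Set.range ![x, y]), ∀ Q : Place k K,
      (∀ i, Q.1 (![x, y] i) ≤ 1) → Q.1 r ≤ 1 := by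
    intro r hr Q hQ
    induction hr using Algebra.adjoin_induction with
    | mem r hr => obtain ⟨i, rfl⟩ := hr; exact hQ i
    | algebraMap c => exact Q.2.1 c
    | add a b _ _ ha hb => exact (Q.1.map_add a b).trans (max_le ha hb)
    | mul a b _ _ ha hb => rw [map_mul]; exact mul_le_one' ha hb
  have hRL : ∀ r ∈ Algebra.adjoin k (Set.range ![x, y]), ∃ M : ℕ, r ∈ L (M • E₀) := fun r hr =>
    ff_mem_L_nsmul_of_integral_outside hK hE₀0
      (fun Q hQ => hRint r hr Q ((hE₀zero Q).mp hQ))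
  have hxR : ∀ i, ![x, y] i ∈ Algebra.adjoin k (Set.range ![x, y]) := fun i =>
    Algebra.subset_adjoin ⟨i, rfl⟩
  have hsep : ∀ Q : Place k K, ¬ Over x y c Q → E₀ Q = 0 →
      ∃ h ∈ Algebra.adjoin k (Set.range ![x, y]), P.1 h = 1 ∧
        ∃ M : ℕ, h ∈ L (M • E₀ - Finsupp.single Q 1) := by
    intro Q hQns hEQ
    have hxQ : ∀ i, Q.1 (![x, y] i) ≤ 1 := (hE₀zero Q).mp hEQ
    choose b' hb' using fun i => ff_exists_const_approx hK Q (hxQ i)
    obtain ⟨i, hi⟩ : ∃ i, c i ≠ b' i := by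
      by_contra hcon
      push Not at hcon
      exact hQns (fun i => by rw [hcon i]; exact hb' i)
    set w := ![x, y] i - algebraMap k K (b' i) with hw
    have hwR : w ∈ Algebra.adjoin k (Set.range ![x, y]) :=
      Subalgebra.sub_mem _ (hxR i) (Subalgebra.algebraMap_mem _ _)
    have hwP : P.1 w = 1 := by
      have h1 : w = (![x, y] i - algebraMap k K (c i)) + algebraMap k K (c i - b' i) := by
        rw [hw, map_sub]; ring
      have h2 : P.1 (algebraMap k K (c i - b' i)) = 1 := ff_val_const P (sub_ne_zero.mpr hi)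
      rw [h1, add_comm, Valuation.map_add_eq_of_lt_left P.1 (by rw [h2]; exact hP i), h2]
    obtain ⟨M, hM⟩ := hRL w hwR
    refine ⟨w, hwR, hwP, M, ?_⟩
    rw [ff_mem_L_sub_single_iff]
    refine ⟨hM, ?_⟩
    rw [Finsupp.smul_apply, hEQ, smul_zero, WithZero.exp_zero]
    exact hb' i
  set z₁ := z / cc with hz₁
  have hA0 : (0 : Divisor k K) ≤ ff_poleDiv z₁ := ff_poleDiv_nonneg z₁
  have hAex : ∀ Q : Place k K, Over x y c Q → (ff_poleDiv z₁ : Divisor k K) Q = 0 := by
    intro Q hQ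
    have hQT : Q ∈ Ts := (hTs Q).2 hQ
    have h1 : Q.1 z₁ ≤ 1 := by
      rw [hz₁, map_div₀]
      refine (div_le_one₀ (zero_lt_iff.mpr (ff_val_ne_zero Q hc0))).mpr ?_
      refine (hz Q hQT).trans ?_
      rw [ff_val_eq_exp_neg_ord Q hc0, WithZero.exp_le_exp]
      have h2 : (Q.ord cc).toNat ≤ N :=
        Finset.le_sup (f := fun Q => (Q.ord cc).toNat) hQT
      have h3 : Q.ord cc ≤ ((Q.ord cc).toNat : ℤ) := Int.self_le_toNat _
      have h4 : ((Q.ord cc).toNat : ℤ) ≤ (N : ℤ) := by exact_mod_cast h2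
      omega
    rw [ff_poleDiv_apply hK]
    by_cases h0 : z₁ = 0
    · rw [h0]; simp [ff_ord_zero]
    · have := (ff_ord_nonneg_iff Q h0).mpr h1
      omega
  have hz₁L : z₁ ∈ L (ff_poleDiv z₁ + 0 • E₀) := by
    rw [zero_nsmul, add_zero, ff_mem_L_iff]
    exact fun Q => ff_val_le_exp_poleDiv hK z₁ Q
  obtain ⟨h, hh, hh1, M, hM⟩ := ff_clear_poles'' hK hE₀0 _ P (fun Q => Over x y c Q) hsep
    (ff_poleDiv z₁ : Divisor k K).deg.toNat _ hA0 hAex
    (by rw [Int.toNat_of_nonneg (ff_deg_nonneg hA0)]) 0 z₁ hz₁L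
  have hint : ∀ Q : Place k K, (∀ i, Q.1 (![x, y] i) ≤ 1) → Q.1 (h * z₁) ≤ 1 := by
    intro Q hQ
    have := (ff_mem_L_iff _ _).mp hM Q
    rwa [Finsupp.smul_apply, (hE₀zero Q).mpr hQ, smul_zero, WithZero.exp_zero] at this
  have h1 := hcond _ hint
  have h2 : cc * (h * z₁) = h * z := by
    rw [hz₁]
    field_simp
  rw [h2] at h1
  exact ⟨h * z, h1, h, hh, hh1, mul_comm _ _⟩

end Groth.Agent.Lib.Helper63.IntMultA
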