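import Groth.Agent.Lib.Helper63.IntMultC

/-! S11077, part D: the dimension count in the function field (helper63). -/

set_option autoImplicit false
set_option linter.style.haveILetI false
set_option linter.unusedSectionVars false

namespace Groth.Agent.Lib.Helper63.IntMultA

open WithZero FunFld Module IsLocalRing Groth.Agent.Lib.Helper55
  Groth.Agent.Lib.Helper63.RelFinrank Groth.Agent.Lib.Helper63.BallDim

variable {k K : Type*} [Field k] [Field K] [Algebra k K]

theorem mulLeft_injective {γ : K} (hγ0 : γ ≠ 0) :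
    Function.Injective (LinearMap.mulLeft k γ) := by
  intro a b hab
  exact mul_left_cancel₀ hγ0 hab

/-- The colength of `γ` in the local ring of the point is the sum of its orders at the places
over the point. -/
theorem relfinrank_locRing [IsAlgClosed k] (hK : IsFunctionField k K) (x y : K)
    (hxy : IntermediateField.adjoin k ({x, y} : Set K) = ⊤) (c : Fin 2 → k) (P : Place k K)
    (hP : Over x y c P) (Ts : Finset (Place k K)) (hTs : ∀ Q, Q ∈ Ts ↔ Over x y c Q)
    (g : MvPolynomial (Fin 2) k) (hγ0 : MvPolynomial.aeval ![x, y] g ≠ 0) :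
    RelFinite ((Subalgebra.toSubmodule (locRing x y P)).map
        (LinearMap.mulLeft k (MvPolynomial.aeval ![x, y] g)))
      (Subalgebra.toSubmodule (locRing x y P)) ∧
    (relfinrank ((Subalgebra.toSubmodule (locRing x y P)).map
        (LinearMap.mulLeft k (MvPolynomial.aeval ![x, y] g)))
      (Subalgebra.toSubmodule (locRing x y P)) : ℤ) =
      ∑ Q ∈ Ts, Q.ord (MvPolynomial.aeval ![x, y] g) := by
  classical
  set γ : K := MvPolynomial.aeval ![x, y] g with hγ
  set O : Submodule k K := Subalgebra.toSubmodule (locRing x y P) with hO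
  set μ : K →ₗ[k] K := LinearMap.mulLeft k γ with hμ
  have hμinj : Function.Injective μ := mulLeft_injective hγ0
  obtain ⟨N, hN⟩ := exists_ball_le hK x y hxy c P hP Ts hTs
  set n₀ : Place k K → ℤ := fun _ => (N : ℤ) with hn₀
  set e : Place k K → ℕ := fun Q => (Q.ord γ).toNat with he
  have hγQ : ∀ Q ∈ Ts, Q.1 γ = exp (-(e Q : ℤ)) := by
    intro Q hQ
    have h1 : Q.1 γ ≤ 1 := val_aeval_le_one ((hTs Q).1 hQ) g
    have h2 : 0 ≤ Q.ord γ := (ff_ord_nonneg_iff Q hγ0).2 h1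
    rw [ff_val_eq_exp_neg_ord Q hγ0, he]
    simp only
    rw [Int.toNat_of_nonneg h2]
  have hCO : ball Ts n₀ ≤ O := fun z hz => hN z (fun Q hQ => hz Q hQ)
  have hμC : (ball Ts n₀).map μ = ball Ts (fun Q => n₀ Q + e Q) := by
    ext z
    rw [Submodule.mem_map, mem_ball]
    constructor
    · rintro ⟨w, hw, rfl⟩ Q hQ
      change Q.1 (γ * w) ≤ _
      rw [map_mul, hγQ Q hQ]
      calc exp (-(e Q : ℤ)) * Q.1 w ≤ exp (-(e Q : ℤ)) * exp (-(n₀ Q)) :=
            mul_le_mul' le_rfl (hw Q hQ)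
        _ = exp (-(n₀ Q + e Q)) := by rw [← exp_add]; congr 1; ring
    · intro hz
      refine ⟨γ⁻¹ * z, ?_, ?_⟩
      · intro Q hQ
        rw [map_mul, map_inv₀, hγQ Q hQ, ← exp_neg, neg_neg]
        calc exp (e Q : ℤ) * Q.1 z ≤ exp (e Q : ℤ) * exp (-(n₀ Q + e Q)) :=
              mul_le_mul' le_rfl (hz Q hQ)
          _ = exp (-(n₀ Q)) := by rw [← exp_add]; congr 1; ring
      · change γ * (γ⁻¹ * z) = z
        rw [← mul_assoc, mul_inv_cancel₀ hγ0, one_mul]
  have hγO : γ ∈ locRing x y P :=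
    ff_le_locRing _ P ((mem_adjoin_iff x y γ).2 ⟨g, rfl⟩)
  have hμO : O.map μ ≤ O := by
    rintro _ ⟨w, hw, rfl⟩
    exact (locRing x y P).mul_mem hγO hw
  have hμC' : (ball Ts n₀).map μ ≤ ball Ts n₀ := by
    rw [hμC]
    apply ball_mono
    intro Q _
    have : (0 : ℤ) ≤ (e Q : ℤ) := Int.natCast_nonneg _
    linarith
  obtain ⟨f2, r2⟩ := relfinrank_ball hK Ts n₀ (∑ Q ∈ Ts, e Q) e rfl
  rw [← hμC] at f2 r2
  have hOB : O ≤ ball Ts (fun _ => 0) := by
    intro z hz Q hQ
    rw [neg_zero, exp_zero]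
    exact val_le_one_of_mem_locRing hP ((hTs Q).1 hQ) hz
  obtain ⟨f0, -⟩ := relfinrank_ball hK Ts (fun _ => 0) (∑ _Q ∈ Ts, N) (fun _ => N) rfl
  have hC0 : ball Ts (fun Q => (fun _ => (0 : ℤ)) Q + ((fun _ => N) Q : ℕ)) = ball Ts n₀ := by
    apply ball_congr
    intro Q _
    simp [hn₀]
  rw [hC0] at f0
  have f1 : RelFinite (ball Ts n₀) O := relFinite_of_le_right _ hOB f0
  obtain ⟨f3, r3⟩ := relfinrank_map_self μ hμinj (ball Ts n₀) O hCO hμO hμC' f1 f2
  refine ⟨f3, ?_⟩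
  rw [r3, r2]
  push_cast
  refine Finset.sum_congr rfl (fun Q hQ => ?_)
  have h1 : Q.1 γ ≤ 1 := val_aeval_le_one ((hTs Q).1 hQ) g
  have h2 : 0 ≤ Q.ord γ := (ff_ord_nonneg_iff Q hγ0).2 h1
  rw [he]
  simp only
  rw [Int.toNat_of_nonneg h2]

end Groth.Agent.Lib.Helper63.IntMultA
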