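import Groth.Agent.Lib.Helper63.IntMultD

/-! S11077, part E: the bridge to the local ring of the plane (helper63). -/

set_option autoImplicit false
set_option linter.style.haveILetI false
set_option linter.unusedSectionVars false

namespace Groth.Agent.Lib.Helper63.IntMultA

open WithZero FunFld Module IsLocalRing Groth.Agent.Lib.Helper55
  Groth.Agent.Lib.Helper63.RelFinrank Groth.Agent.Lib.Helper63.BallDim

variable {k K : Type*} [Field k] [Field K] [Algebra k K]

theorem ker_not_isMaximal (hK : IsFunctionField k K) (x y : K)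
    (hxy : IntermediateField.adjoin k ({x, y} : Set K) = ⊤) :
    ¬ (RingHom.ker (MvPolynomial.aeval ![x, y] : MvPolynomial (Fin 2) k →ₐ[k] K)).IsMaximal := by
  intro hmax
  letI := Ideal.Quotient.field (RingHom.ker
    (MvPolynomial.aeval ![x, y] : MvPolynomial (Fin 2) k →ₐ[k] K))
  haveI : Algebra.FiniteType k (MvPolynomial (Fin 2) k ⧸ RingHom.ker
      (MvPolynomial.aeval ![x, y] : MvPolynomial (Fin 2) k →ₐ[k] K)) :=
    Algebra.FiniteType.of_surjective (Ideal.Quotient.mkₐ k _)
      (Ideal.Quotient.mkₐ_surjective _ _)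
  haveI := finite_of_finite_type_of_isJacobsonRing k (MvPolynomial (Fin 2) k ⧸ RingHom.ker
      (MvPolynomial.aeval ![x, y] : MvPolynomial (Fin 2) k →ₐ[k] K))
  let ψ : (MvPolynomial (Fin 2) k ⧸ RingHom.ker
      (MvPolynomial.aeval ![x, y] : MvPolynomial (Fin 2) k →ₐ[k] K)) →ₐ[k] K :=
    Ideal.Quotient.liftₐ _ (MvPolynomial.aeval ![x, y]) (fun a ha => ha)
  obtain ⟨i, hi⟩ := exists_transcendental_gen hK x y hxy
  have h1 : IsIntegral k (Ideal.Quotient.mk (RingHom.ker
      (MvPolynomial.aeval ![x, y] : MvPolynomial (Fin 2) k →ₐ[k] K)) (MvPolynomial.X i)) :=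
    Algebra.IsIntegral.isIntegral _
  have h2 := h1.map ψ
  have h3 : ψ (Ideal.Quotient.mk _ (MvPolynomial.X i)) = ![x, y] i := by
    change MvPolynomial.aeval ![x, y] (MvPolynomial.X i) = _
    rw [MvPolynomial.aeval_X]
  rw [h3] at h2
  exact hi h2.isAlgebraic

theorem ker_eq_span (hK : IsFunctionField k K) (x y : K)
    (hxy : IntermediateField.adjoin k ({x, y} : Set K) = ⊤) (f : MvPolynomial (Fin 2) k)
    (hf : Irreducible f) (hfxy : MvPolynomial.aeval ![x, y] f = 0) :
    RingHom.ker (MvPolynomial.aeval ![x, y] : MvPolynomial (Fin 2) k →ₐ[k] K) =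
      Ideal.span {f} := by
  haveI : (RingHom.ker
      (MvPolynomial.aeval ![x, y] : MvPolynomial (Fin 2) k →ₐ[k] K)).IsPrime :=
    RingHom.ker_isPrime _
  exact AbsIrred.eq_span_of_not_isMaximal _ f hf hfxy (ker_not_isMaximal hK x y hxy)

section bridge

variable (x y : K) (c : Fin 2 → k) (P : Place k K) (hP : Over x y c P)
  (M : Ideal (MvPolynomial (Fin 2) k)) [hMm : M.IsMaximal]
  (hM : M = Ideal.span {MvPolynomial.X 0 - MvPolynomial.C (c 0),
      MvPolynomial.X 1 - MvPolynomial.C (c 1)})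

include hP hM in
theorem isUnit_aeval (s : M.primeCompl) :
    IsUnit ((MvPolynomial.aeval ![x, y] : MvPolynomial (Fin 2) k →ₐ[k] K) s) := by
  have hs : MvPolynomial.eval c s.1 ≠ 0 := fun h0 => s.2 ((mem_M_iff c M hM s.1).2 h0)
  have h1 := val_aeval_eq_one hP s.1 hs
  apply IsUnit.mk0
  intro h0
  rw [h0, map_zero] at h1
  exact zero_ne_one h1

/-- The evaluation map on the local ring of the plane at the point. -/
noncomputable def θ₀ : Localization.AtPrime M →ₐ[k] K :=
  IsLocalization.liftAlgHom (M := M.primeCompl) (f := MvPolynomial.aeval ![x, y])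
    (isUnit_aeval x y c P hP M hM)

theorem θ₀_algebraMap (a : MvPolynomial (Fin 2) k) :
    θ₀ x y c P hP M hM (algebraMap _ (Localization.AtPrime M) a) =
      MvPolynomial.aeval ![x, y] a :=
  IsLocalization.lift_eq _ a

theorem θ₀_mk' (a : MvPolynomial (Fin 2) k) (s : M.primeCompl) :
    θ₀ x y c P hP M hM (IsLocalization.mk' (Localization.AtPrime M) a s) *
      MvPolynomial.aeval ![x, y] s.1 = MvPolynomial.aeval ![x, y] a := by
  have h1 := IsLocalization.mk'_spec (Localization.AtPrime M) a s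
  have h2 := congrArg (θ₀ x y c P hP M hM) h1
  rw [map_mul, θ₀_algebraMap, θ₀_algebraMap] at h2
  exact h2

theorem θ₀_mem (z : Localization.AtPrime M) : θ₀ x y c P hP M hM z ∈ locRing x y P := by
  obtain ⟨a, s, rfl⟩ := IsLocalization.exists_mk'_eq M.primeCompl z
  rw [mem_locRing_iff hP]
  exact ⟨a, s.1, fun h0 => s.2 ((mem_M_iff c M hM s.1).2 h0), θ₀_mk' x y c P hP M hM a s⟩

theorem exists_θ₀_eq {w : K} (hw : w ∈ locRing x y P) :
    ∃ z : Localization.AtPrime M, θ₀ x y c P hP M hM z = w := by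
  obtain ⟨a, s, hs, hws⟩ := (mem_locRing_iff hP w).1 hw
  have hsM : s ∈ M.primeCompl := fun h => hs ((mem_M_iff c M hM s).1 h)
  refine ⟨IsLocalization.mk' (Localization.AtPrime M) a ⟨s, hsM⟩, ?_⟩
  have h1 := θ₀_mk' x y c P hP M hM a ⟨s, hsM⟩
  have hs0 : MvPolynomial.aeval ![x, y] s ≠ 0 := by
    intro h0
    have := val_aeval_eq_one hP s hs
    rw [h0, map_zero] at this
    exact zero_ne_one this
  exact mul_right_cancel₀ hs0 (h1.trans hws.symm)

theorem ker_θ₀ (f : MvPolynomial (Fin 2) k)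
    (hker : RingHom.ker (MvPolynomial.aeval ![x, y] : MvPolynomial (Fin 2) k →ₐ[k] K) =
      Ideal.span {f}) (z : Localization.AtPrime M) (hz : θ₀ x y c P hP M hM z = 0) :
    ∃ t : Localization.AtPrime M, z = t * algebraMap _ (Localization.AtPrime M) f := by
  obtain ⟨a, s, rfl⟩ := IsLocalization.exists_mk'_eq M.primeCompl z
  have h1 := θ₀_mk' x y c P hP M hM a s
  rw [hz, zero_mul] at h1
  have h2 : a ∈ RingHom.ker
      (MvPolynomial.aeval ![x, y] : MvPolynomial (Fin 2) k →ₐ[k] K) := h1.symm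
  rw [hker, Ideal.mem_span_singleton] at h2
  obtain ⟨b, rfl⟩ := h2
  refine ⟨IsLocalization.mk' (Localization.AtPrime M) b s, ?_⟩
  rw [mul_comm f b, IsLocalization.mk'_eq_mul_mk'_one, map_mul,
    IsLocalization.mk'_eq_mul_mk'_one (x := b)]
  ring

end bridge

end Groth.Agent.Lib.Helper63.IntMultA
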