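import Groth.Agent.Lib.Helper63.IntMultE

/-! S11077, part F: the intersection multiplicity formula (helper63). -/

set_option autoImplicit false
set_option linter.style.haveILetI false
set_option linter.unusedSectionVars false

namespace Groth.Agent.Lib.Helper63.IntMultA

open WithZero FunFld Module IsLocalRing Groth.Agent.Lib.Helper55
  Groth.Agent.Lib.Helper63.RelFinrank Groth.Agent.Lib.Helper63.BallDim

variable {k K : Type*} [Field k] [Field K] [Algebra k K]

section bridge

variable (hK : IsFunctionField k K) (x y : K)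
  (hxy : IntermediateField.adjoin k ({x, y} : Set K) = ⊤)
  (c : Fin 2 → k) (P : Place k K) (hP : Over x y c P)
  (M : Ideal (MvPolynomial (Fin 2) k)) [hMm : M.IsMaximal]
  (hM : M = Ideal.span {MvPolynomial.X 0 - MvPolynomial.C (c 0),
      MvPolynomial.X 1 - MvPolynomial.C (c 1)})
  (f g : MvPolynomial (Fin 2) k)

/-- The evaluation map to the local ring, modulo `g`. -/
noncomputable def θ : Localization.AtPrime M →ₗ[k]
    (↥(Subalgebra.toSubmodule (locRing x y P)) ⧸
      ((Subalgebra.toSubmodule (locRing x y P)).map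
        (LinearMap.mulLeft k (MvPolynomial.aeval ![x, y] g))).submoduleOf
        (Subalgebra.toSubmodule (locRing x y P))) :=
  (Submodule.mkQ _) ∘ₗ
    ((θ₀ x y c P hP M hM).toLinearMap.codRestrict (Subalgebra.toSubmodule (locRing x y P))
      (fun z => θ₀_mem x y c P hP M hM z))

theorem θ_surjective : Function.Surjective (θ x y c P hP M hM g) := by
  intro w
  obtain ⟨⟨w, hw⟩, rfl⟩ := Submodule.Quotient.mk_surjective _ w
  obtain ⟨z, hz⟩ := exists_θ₀_eq x y c P hP M hM hw
  refine ⟨z, ?_⟩
  change Submodule.Quotient.mk _ = Submodule.Quotient.mk _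
  congr 1
  exact Subtype.ext hz

theorem θ_eq_zero_iff (z : Localization.AtPrime M) :
    θ x y c P hP M hM g z = 0 ↔
      ∃ w ∈ locRing x y P, MvPolynomial.aeval ![x, y] g * w = θ₀ x y c P hP M hM z := by
  change Submodule.Quotient.mk _ = 0 ↔ _
  rw [Submodule.Quotient.mk_eq_zero, mem_submoduleOf, Submodule.mem_map]
  rfl

include hK hxy in
theorem ker_θ (hf : Irreducible f) (hfxy : MvPolynomial.aeval ![x, y] f = 0) :
    LinearMap.ker (θ x y c P hP M hM g) =
      (Ideal.map (algebraMap (MvPolynomial (Fin 2) k) (Localization.AtPrime M))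
        (Ideal.span {f, g})).restrictScalars k := by
  have hker := ker_eq_span hK x y hxy f hf hfxy
  ext z
  rw [LinearMap.mem_ker, θ_eq_zero_iff, Submodule.restrictScalars_mem, Ideal.map_span,
    Set.image_pair, Ideal.mem_span_pair]
  constructor
  · rintro ⟨w, hw, hgw⟩
    obtain ⟨z', hz'⟩ := exists_θ₀_eq x y c P hP M hM hw
    have h0 : θ₀ x y c P hP M hM
        (z - z' * algebraMap _ (Localization.AtPrime M) g) = 0 := by
      rw [map_sub, map_mul, θ₀_algebraMap, hz', ← hgw]
      ring
    obtain ⟨t, ht⟩ := ker_θ₀ x y c P hP M hM f hker _ h0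
    refine ⟨t, z', ?_⟩
    rw [← ht]
    ring
  · rintro ⟨α, β, rfl⟩
    refine ⟨θ₀ x y c P hP M hM β, θ₀_mem x y c P hP M hM β, ?_⟩
    rw [map_add, map_mul, map_mul, θ₀_algebraMap, θ₀_algebraMap, hfxy, mul_zero, zero_add,
      mul_comm]

include hK hxy hP hM in
theorem finrank_eq (hf : Irreducible f) (hfxy : MvPolynomial.aeval ![x, y] f = 0) :
    Module.finrank k (Localization.AtPrime M ⧸
        Ideal.map (algebraMap (MvPolynomial (Fin 2) k) (Localization.AtPrime M))
          (Ideal.span {f, g})) =
      relfinrank ((Subalgebra.toSubmodule (locRing x y P)).map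
          (LinearMap.mulLeft k (MvPolynomial.aeval ![x, y] g)))
        (Subalgebra.toSubmodule (locRing x y P)) := by
  let e1 := (θ x y c P hP M hM g).quotKerEquivOfSurjective (θ_surjective x y c P hP M hM g)
  let e2 := Submodule.quotEquivOfEq _ _ (ker_θ hK x y hxy c P hP M hM f g hf hfxy)
  let e3 := Submodule.Quotient.restrictScalarsEquiv k
    (Ideal.map (algebraMap (MvPolynomial (Fin 2) k) (Localization.AtPrime M))
      (Ideal.span {f, g}))
  unfold relfinrank
  rw [← e1.finrank_eq, e2.finrank_eq, e3.finrank_eq]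

end bridge

/-- S11077. -/
theorem main [IsAlgClosed k] (hK : IsFunctionField k K) (x y : K)
    (hxy : IntermediateField.adjoin k ({x, y} : Set K) = ⊤) (f g : MvPolynomial (Fin 2) k)
    (hf : Irreducible f) (hfxy : MvPolynomial.aeval ![x, y] f = 0)
    (hgxy : MvPolynomial.aeval ![x, y] g ≠ 0) (P : Place k K) (c : Fin 2 → k)
    (hc : ∀ i, P.1 (![x, y] i - algebraMap k K (c i)) < 1)
    (M : Ideal (MvPolynomial (Fin 2) k)) [M.IsMaximal]
    (hM : M = Ideal.span {MvPolynomial.X 0 - MvPolynomial.C (c 0),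
      MvPolynomial.X 1 - MvPolynomial.C (c 1)}) :
    ∑ᶠ Q ∈ {Q : Place k K | SameImage ![(1 : K), x, y] P Q},
        Q.ord (MvPolynomial.aeval ![x, y] g) =
      (Module.finrank k (Localization.AtPrime M ⧸
        Ideal.map (algebraMap (MvPolynomial (Fin 2) k) (Localization.AtPrime M))
          (Ideal.span {f, g})) : ℤ) := by
  classical
  have hP : Over x y c P := hc
  have hset : {Q : Place k K | SameImage ![(1 : K), x, y] P Q} = {Q | Over x y c Q} := by
    ext Q
    exact sameImage_iff hP Q
  have hfin := finite_over hK x y hxy c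
  have hTs : ∀ Q, Q ∈ hfin.toFinset ↔ Over x y c Q := fun Q => hfin.mem_toFinset
  obtain ⟨-, r⟩ := relfinrank_locRing hK x y hxy c P hP hfin.toFinset hTs g hgxy
  rw [hset, finsum_mem_eq_finite_toFinset_sum _ hfin, ← r,
    finrank_eq hK x y hxy c P hP M hM f g hf hfxy]

end Groth.Agent.Lib.Helper63.IntMultA
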