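import Groth.Agent.Lib.Helper63.NonsingSplit

/-! S12593: a place of `k̄ ⊗_k K` is defined over a finite extension of `k` (helper63). -/

set_option autoImplicit false
set_option linter.style.haveILetI false
set_option linter.unusedSectionVars false

namespace Groth.Agent.Lib.Helper63.KbarPlace

open WithZero FunFld TensorProduct Module Polynomial Groth.Agent.Lib.Helper55
  Groth.Agent.Lib.Helper63.FunFldExt Groth.Agent.Lib.Helper63.FundIneq
  Groth.Agent.Lib.Helper63.ConstExtGeometric Groth.Agent.Lib.Helper63.NonsingBasic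
  Groth.Agent.Lib.Helper63.NonsingCount Groth.Agent.Lib.Helper63.NonsingTower
  Groth.Agent.Lib.Helper63.NonsingFinite Groth.Agent.Lib.Helper63.NonsingModel
  Groth.Agent.Lib.Helper63.SumEF Groth.Agent.Lib.Helper63.NonsingSplit

universe u v w x

/-- A model of `k₁ ⊗_k K` maps to any field containing compatible copies of `k₁` and `K`. -/
theorem exists_embedding {k k₁ L : Type u} {K : Type v} {K₁ : Type w} {KL : Type x} [Field k]
    [Field k₁] [Field L] [Field K] [Field K₁] [Field KL]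
    [Algebra k k₁] [Algebra k K] [Algebra K K₁] [Algebra k₁ K₁] [Algebra k K₁]
    [IsScalarTower k k₁ K₁] [IsScalarTower k K K₁]
    [Algebra k L] [Algebra k₁ L] [IsScalarTower k k₁ L]
    [Algebra K KL] [Algebra L KL] [Algebra k KL] [IsScalarTower k L KL] [IsScalarTower k K KL]
    (h1 : Function.Bijective (Algebra.TensorProduct.productMap
      (IsScalarTower.toAlgHom k k₁ K₁) (IsScalarTower.toAlgHom k K K₁))) :
    ∃ f : K₁ →+* KL, (∀ c : k₁, f (algebraMap k₁ K₁ c) = algebraMap L KL (algebraMap k₁ L c)) ∧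
      (∀ x : K, f (algebraMap K K₁ x) = algebraMap K KL x) := by
  let e : k₁ ⊗[k] K ≃ₐ[k] K₁ := AlgEquiv.ofBijective _ h1
  let g : k₁ ⊗[k] K →ₐ[k] KL := Algebra.TensorProduct.productMap
    ((IsScalarTower.toAlgHom k L KL).comp (IsScalarTower.toAlgHom k k₁ L))
    (IsScalarTower.toAlgHom k K KL)
  refine ⟨(g.comp e.symm.toAlgHom : K₁ →ₐ[k] KL).toRingHom, fun c => ?_, fun x => ?_⟩
  · have h4 : e.symm (algebraMap k₁ K₁ c) = c ⊗ₜ[k] (1 : K) := by
      rw [AlgEquiv.symm_apply_eq]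
      change _ = Algebra.TensorProduct.productMap _ _ (c ⊗ₜ[k] (1 : K))
      simp
    change g (e.symm (algebraMap k₁ K₁ c)) = _
    rw [h4]
    simp [g]
  · have h4 : e.symm (algebraMap K K₁ x) = (1 : k₁) ⊗ₜ[k] x := by
      rw [AlgEquiv.symm_apply_eq]
      change _ = Algebra.TensorProduct.productMap _ _ ((1 : k₁) ⊗ₜ[k] x)
      simp
    change g (e.symm (algebraMap K K₁ x)) = _
    rw [h4]
    simp [g]


/-- Nonzero constants have value one. -/
theorem val_const_eq_one {k : Type*} {K : Type*} [Field k] [Field K] [Algebra k K]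
    (Q : Place k K) {c : k} (hc : c ≠ 0) : Q.1 (algebraMap k K c) = 1 := by
  have h1 := Q.2.1 c
  have h2 := Q.2.1 c⁻¹
  have h3 : Q.1 (algebraMap k K c) * Q.1 (algebraMap k K c⁻¹) = 1 := by
    rw [← map_mul, ← map_mul, mul_inv_cancel₀ hc, map_one, map_one]
  by_contra hne
  have hlt : Q.1 (algebraMap k K c) < 1 := lt_of_le_of_ne h1 hne
  have h4 : Q.1 (algebraMap k K c) * Q.1 (algebraMap k K c⁻¹) < 1 :=
    lt_of_le_of_lt (mul_le_of_le_one_right' h2) hlt
  rw [h3] at h4
  exact lt_irrefl _ h4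

/-- The coordinates, with respect to constants linearly independent over `k'`, of an element
integral at `Q` are integral at `Q`, when `Q` has degree one on the subfield `Ks`. -/
theorem coords_le_one {k' kbar : Type u} {Kbar : Type v} [Field k'] [Field kbar] [Field Kbar]
    [Algebra k' kbar] [Algebra kbar Kbar] (Q : Place kbar Kbar) (Ks : Set Kbar)
    (hmul : ∀ a ∈ Ks, ∀ b ∈ Ks, a * b ∈ Ks) (hinv : ∀ a ∈ Ks, a⁻¹ ∈ Ks)
    (hA : ∀ u ∈ Ks, Q.1 u ≤ 1 →
      ∃ c : k', Q.1 (u - algebraMap kbar Kbar (algebraMap k' kbar c)) < 1)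
    {J : Type*} [Fintype J] (β : J → kbar) (hβ : LinearIndependent k' β) (y : J → Kbar)
    (hy : ∀ j, y j ∈ Ks) (hz : Q.1 (∑ j, algebraMap kbar Kbar (β j) * y j) ≤ 1) :
    ∀ j, Q.1 (y j) ≤ 1 := by
  classical
  by_contra hcon
  push Not at hcon
  obtain ⟨j, hj⟩ := hcon
  obtain ⟨j0, -, hmax⟩ := Finset.exists_max_image Finset.univ (fun j => Q.1 (y j))
    ⟨j, Finset.mem_univ j⟩
  have h1 : 1 < Q.1 (y j0) := lt_of_lt_of_le hj (hmax j (Finset.mem_univ j))
  have hy0 : y j0 ≠ 0 := by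
    intro h0
    rw [h0, map_zero] at h1
    exact absurd h1 (not_lt.2 zero_le)
  have hQ0 : Q.1 (y j0) ≠ 0 := (Valuation.ne_zero_iff _).2 hy0
  have hu : ∀ j, Q.1 (y j * (y j0)⁻¹) ≤ 1 := by
    intro j
    rw [map_mul, map_inv₀, ← div_eq_mul_inv, div_le_one₀ (zero_lt_iff.2 hQ0)]
    exact hmax j (Finset.mem_univ j)
  choose lam hlam using fun j => hA (y j * (y j0)⁻¹) (hmul _ (hy j) _ (hinv _ (hy j0))) (hu j)
  have hlam0 : lam j0 ≠ 0 := by
    intro h0
    have := hlam j0
    rw [h0, map_zero, map_zero, sub_zero, mul_inv_cancel₀ hy0, map_one] at this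
    exact lt_irrefl _ this
  have hcst : ∑ j, lam j • β j ≠ 0 := by
    intro h0
    exact hlam0 (Fintype.linearIndependent_iff.1 hβ lam h0 j0)
  have hkey : (∑ j, algebraMap kbar Kbar (β j) * y j) * (y j0)⁻¹ =
      algebraMap kbar Kbar (∑ j, lam j • β j) +
        ∑ j, algebraMap kbar Kbar (β j) *
          (y j * (y j0)⁻¹ - algebraMap kbar Kbar (algebraMap k' kbar (lam j))) := by
    rw [map_sum, Finset.sum_mul, ← Finset.sum_add_distrib]
    refine Finset.sum_congr rfl (fun j _ => ?_)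
    rw [Algebra.smul_def, map_mul]
    ring
  have hsmall : Q.1 (∑ j, algebraMap kbar Kbar (β j) *
      (y j * (y j0)⁻¹ - algebraMap kbar Kbar (algebraMap k' kbar (lam j)))) < 1 := by
    refine Valuation.map_sum_lt Q.1 one_ne_zero (fun j _ => ?_)
    rw [map_mul]
    exact lt_of_le_of_lt (mul_le_of_le_one_left' (Q.2.1 _)) (hlam j)
  have hone : Q.1 ((∑ j, algebraMap kbar Kbar (β j) * y j) * (y j0)⁻¹) = 1 := by
    rw [hkey, Valuation.map_add_eq_of_lt_left]
    · exact val_const_eq_one Q hcst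
    · rw [val_const_eq_one Q hcst]
      exact hsmall
  rw [map_mul, map_inv₀, ← div_eq_mul_inv, div_eq_one_iff_eq hQ0] at hone
  rw [hone] at hz
  exact absurd h1 (not_lt.2 hz)


/-- S12593. -/
theorem main {k kbar : Type u} {K Kbar : Type v} [Field k] [Field kbar] [Field K] [Field Kbar]
    [Algebra k kbar] [IsAlgClosure k kbar] [Algebra k K] [Algebra K Kbar] [Algebra kbar Kbar]
    [Algebra k Kbar] [IsScalarTower k kbar Kbar] [IsScalarTower k K Kbar]
    (h : Function.Bijective (Algebra.TensorProduct.productMap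
      (IsScalarTower.toAlgHom k kbar Kbar) (IsScalarTower.toAlgHom k K Kbar)))
    (hK : FunFld.IsFunctionField k K) (hg : FunFld.IsGeometric k K) (Q : FunFld.Place kbar Kbar) :
    ∃ k' : IntermediateField k kbar, FiniteDimensional k k' ∧
      (∃ z ∈ Algebra.adjoin K (Set.range fun c : k' => algebraMap kbar Kbar c),
        Q.1 z = WithZero.exp (-1)) ∧
      ∀ Q' : FunFld.Place kbar Kbar,
        (∃ e : ℕ, ∀ z ∈ Algebra.adjoin K (Set.range fun c : k' => algebraMap kbar Kbar c),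
          Q'.1 z = Q.1 z ^ e) → Q' = Q := by
  classical
  haveI : IsAlgClosed kbar := IsAlgClosure.isAlgClosed k
  haveI : Algebra.IsAlgebraic k kbar := IsAlgClosure.isAlgebraic
  -- `Kbar` is algebraic over `K`
  have hint : ∀ y : Kbar, IsIntegral K y := by
    intro y
    obtain ⟨s, rfl⟩ := h.2 y
    induction s using TensorProduct.induction_on with
    | zero => rw [map_zero]; exact isIntegral_zero
    | tmul c x =>
      rw [Algebra.TensorProduct.productMap_apply_tmul]
      refine IsIntegral.mul ?_ isIntegral_algebraMap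
      have hc : IsIntegral k c := Algebra.IsIntegral.isIntegral c
      exact (hc.map (IsScalarTower.toAlgHom k kbar Kbar)).tower_top
    | add a b ha hb => rw [map_add]; exact ha.add hb
  haveI halg : Algebra.IsAlgebraic K Kbar := ⟨fun y => (hint y).isAlgebraic⟩
  obtain ⟨P, e, he⟩ := exists_isOver_below (K := K) (ofC (k := k) Q)
  obtain ⟨k₂, fk₂, akk₂, fink₂, hspl⟩ := main'.{u, v, max u v} k K hK hg P
  haveI : Algebra.IsAlgebraic k k₂ := Algebra.IsAlgebraic.of_finite k k₂
  obtain ⟨ι₂⟩ : Nonempty (k₂ →ₐ[k] kbar) := ⟨IsAlgClosed.lift⟩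
  haveI : FiniteDimensional k ι₂.fieldRange :=
    (AlgEquiv.ofInjectiveField ι₂).toLinearEquiv.finiteDimensional
  -- a uniformizer
  obtain ⟨t, ht⟩ := Q.2.2 (exp (-1))
  obtain ⟨s, hs⟩ := h.2 t
  obtain ⟨S, hS⟩ := TensorProduct.exists_finset s
  haveI : FiniteDimensional k
      (IntermediateField.adjoin k ((S.image Prod.fst : Finset kbar) : Set kbar)) :=
    IntermediateField.finiteDimensional_adjoin (fun x _ => Algebra.IsIntegral.isIntegral x)
  obtain ⟨k', hk₀, hk₂, hfin⟩ : ∃ k' : IntermediateField k kbar, (∀ i ∈ S, i.1 ∈ k') ∧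
      (∀ c : k₂, ι₂ c ∈ k') ∧ FiniteDimensional k k' := by
    refine ⟨IntermediateField.adjoin k ((S.image Prod.fst : Finset kbar) : Set kbar) ⊔
      ι₂.fieldRange, ?_, ?_, ?_⟩
    · intro i hi
      refine (le_sup_left : _ ≤ IntermediateField.adjoin k
        ((S.image Prod.fst : Finset kbar) : Set kbar) ⊔ ι₂.fieldRange)
        (IntermediateField.subset_adjoin k _ ?_)
      rw [Finset.mem_coe, Finset.mem_image]
      exact ⟨i, hi, rfl⟩
    · intro c
      exact (le_sup_right : _ ≤ IntermediateField.adjoin k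
        ((S.image Prod.fst : Finset kbar) : Set kbar) ⊔ ι₂.fieldRange) ⟨c, rfl⟩
    · exact IntermediateField.finiteDimensional_sup _ _
  haveI := hfin
  refine ⟨k', hfin, ?_⟩
  -- the uniformizer lies in `k' K`
  have htmem : t ∈ Algebra.adjoin K (Set.range fun c : k' => algebraMap kbar Kbar c) := by
    rw [← hs, hS, map_sum]
    refine Subalgebra.sum_mem _ (fun i hi => ?_)
    rw [Algebra.TensorProduct.productMap_apply_tmul]
    exact mul_mem (Algebra.subset_adjoin ⟨⟨i.1, hk₀ i hi⟩, rfl⟩) (Subalgebra.algebraMap_mem _ _)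
  refine ⟨⟨t, htmem, ht⟩, ?_⟩
  -- the model of `k' ⊗ K` and its embedding
  letI algk₂k' : Algebra k₂ ↥k' := ((ι₂.codRestrict k'.toSubalgebra hk₂).toRingHom).toAlgebra
  haveI : IsScalarTower k k₂ ↥k' :=
    IsScalarTower.of_algebraMap_eq (fun c => Subtype.ext (ι₂.commutes c).symm)
  obtain ⟨K₁, fK₁, aKK₁, ak'K₁, akK₁, tt1, tt2, hK₁⟩ := exists_model hg ↥k'
  obtain ⟨f, hf1, hf2⟩ := exists_embedding (k := k) (k₁ := ↥k') (L := kbar) (K := K) (K₁ := K₁)
    (KL := Kbar) hK₁
  have hrange : ∀ u ∈ Algebra.adjoin K (Set.range fun c : k' => algebraMap kbar Kbar c),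
      ∃ w, f w = u := by
    intro u hu
    induction hu using Algebra.adjoin_induction with
    | mem x hx =>
      obtain ⟨c, rfl⟩ := hx
      exact ⟨algebraMap ↥k' K₁ c, hf1 c⟩
    | algebraMap r => exact ⟨algebraMap K K₁ r, hf2 r⟩
    | add x y _ _ hx hy =>
      obtain ⟨a, rfl⟩ := hx
      obtain ⟨b, rfl⟩ := hy
      exact ⟨a + b, map_add _ _ _⟩
    | mul x y _ _ hx hy =>
      obtain ⟨a, rfl⟩ := hx
      obtain ⟨b, rfl⟩ := hy
      exact ⟨a * b, map_mul _ _ _⟩
  -- the restricted place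
  obtain ⟨wt, hwt⟩ := hrange t htmem
  let P'' : Place ↥k' K₁ := ⟨Q.1.comap f, fun c => by
      change Q.1 (f (algebraMap ↥k' K₁ c)) ≤ 1
      rw [hf1]
      exact Q.2.1 _, fun γ => by
      by_cases hγ : γ = 0
      · exact ⟨0, by rw [hγ, map_zero]⟩
      · refine ⟨wt ^ (-(log γ)), ?_⟩
        change Q.1 (f (wt ^ (-(log γ)))) = γ
        rw [map_zpow₀, hwt, map_zpow₀, ht, ← exp_zsmul, smul_eq_mul, neg_mul_neg, mul_one,
          exp_log hγ]⟩
  have hP'' : ∀ w : K₁, P''.1 w = Q.1 (f w) := fun _ => rfl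
  have hover : IsOver (ofC (k := k) P'') P := ⟨e, fun x => by
    change Q.1 (f (algebraMap K K₁ x)) = _
    rw [hf2]
    exact he x⟩
  have hA : ∀ u ∈ Algebra.adjoin K (Set.range fun c : k' => algebraMap kbar Kbar c),
      Q.1 u ≤ 1 → ∃ c : ↥k', Q.1 (u - algebraMap kbar Kbar (algebraMap ↥k' kbar c)) < 1 := by
    intro u hu hu1
    obtain ⟨w, rfl⟩ := hrange u hu
    obtain ⟨c, hc⟩ := hspl ↥k' K₁ hK₁ P'' hover w hu1
    refine ⟨c, ?_⟩
    rw [hP'', map_sub, hf1] at hc
    exact hc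
  -- uniqueness
  rintro Q' ⟨e', he'⟩
  symm
  apply ff_place_eq_of_O_le
  intro z hz
  change Q.1 z ≤ 1 at hz
  change Q'.1 z ≤ 1
  obtain ⟨sz, rfl⟩ := h.2 z
  obtain ⟨Sz, hSz⟩ := TensorProduct.exists_finset sz
  -- a basis of the span of the constants involved
  haveI : FiniteDimensional ↥k' ↥(Submodule.span ↥k' (Set.range fun i : ↥Sz => (i.1.1 : kbar))) :=
    FiniteDimensional.span_of_finite ↥k' (Set.finite_range _)
  let b := Module.finBasis ↥k' ↥(Submodule.span ↥k' (Set.range fun i : ↥Sz => (i.1.1 : kbar)))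
  have hβ : LinearIndependent ↥k' (fun j => ((b j : ↥(Submodule.span ↥k'
      (Set.range fun i : ↥Sz => (i.1.1 : kbar)))) : kbar)) :=
    b.linearIndependent.map' (Submodule.subtype _) (Submodule.ker_subtype _)
  have hci : ∀ i : ↥Sz, (i.1.1 : kbar) = ∑ j, (b.repr ⟨i.1.1, Submodule.subset_span ⟨i, rfl⟩⟩ j) •
      ((b j : ↥(Submodule.span ↥k' (Set.range fun i : ↥Sz => (i.1.1 : kbar)))) : kbar) := by
    intro i
    have := congrArg (Submodule.subtype _)
      (b.sum_repr ⟨i.1.1, Submodule.subset_span ⟨i, rfl⟩⟩)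
    rw [map_sum] at this
    simpa using this.symm
  set y : Fin _ → Kbar := fun j => ∑ i : ↥Sz,
    algebraMap kbar Kbar (algebraMap ↥k' kbar
      (b.repr ⟨i.1.1, Submodule.subset_span ⟨i, rfl⟩⟩ j)) * algebraMap K Kbar i.1.2 with hy
  have hymem : ∀ j, y j ∈ Algebra.adjoin K (Set.range fun c : k' => algebraMap kbar Kbar c) := by
    intro j
    refine Subalgebra.sum_mem _ (fun i _ => ?_)
    exact mul_mem (Algebra.subset_adjoin ⟨_, rfl⟩) (Subalgebra.algebraMap_mem _ _)
  have hzy : (Algebra.TensorProduct.productMap (IsScalarTower.toAlgHom k kbar Kbar)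
      (IsScalarTower.toAlgHom k K Kbar)) sz =
      ∑ j, algebraMap kbar Kbar ((b j : ↥(Submodule.span ↥k'
        (Set.range fun i : ↥Sz => (i.1.1 : kbar)))) : kbar) * y j := by
    rw [hSz, map_sum, ← Finset.sum_coe_sort Sz]
    simp only [hy, Finset.mul_sum]
    rw [Finset.sum_comm]
    refine Finset.sum_congr rfl (fun i _ => ?_)
    rw [Algebra.TensorProduct.productMap_apply_tmul]
    simp only [IsScalarTower.coe_toAlgHom']
    conv_lhs => rw [hci i]
    rw [map_sum, Finset.sum_mul]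
    refine Finset.sum_congr rfl (fun j _ => ?_)
    rw [Algebra.smul_def, map_mul]
    ring
  rw [hzy] at hz ⊢
  have hcoord := coords_le_one (k' := ↥k') Q
    (Algebra.adjoin K (Set.range fun c : k' => algebraMap kbar Kbar c) : Set Kbar)
    (fun a ha b hb => mul_mem ha hb)
    (fun a ha => Subalgebra.inv_mem_of_algebraic
      (Algebra.adjoin K (Set.range fun c : k' => algebraMap kbar Kbar c))
      (x := (⟨a, ha⟩ : ↥(Algebra.adjoin K (Set.range fun c : k' => algebraMap kbar Kbar c))))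
      (Algebra.IsAlgebraic.isAlgebraic a))
    hA _ hβ y hymem hz
  refine (Valuation.map_sum_le Q'.1 (fun j _ => ?_))
  rw [map_mul]
  have h5 : Q'.1 (y j) ≤ 1 := by
    rw [he' _ (hymem j)]
    exact pow_le_one₀ zero_le (hcoord j)
  exact mul_le_one' (Q'.2.1 _) h5

end Groth.Agent.Lib.Helper63.KbarPlace
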