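import Groth.Agent.Lib.Helper63.NormFormula
import Mathlib.FieldTheory.Normal.Closure
import Mathlib.FieldTheory.IsAlgClosed.AlgebraicClosure
import Mathlib.FieldTheory.SeparableClosure

/-! The norm formula for arbitrary finite extensions of a function field (helper63). -/

set_option autoImplicit false
set_option linter.style.haveILetI false
set_option linter.unusedSectionVars false

namespace Groth.Agent.Lib.Helper63.NormFormula

open IntermediateField FunFld WithZero Groth.Agent.Lib.Helper55
  Groth.Agent.Lib.Helper63.FunFldExt Groth.Agent.Lib.Helper63.SumEF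
  Groth.Agent.Lib.Helper63.Tower Groth.Agent.Lib.Helper63.PurelyInsep

variable {k K K' : Type*} [Field k] [Field K] [Field K'] [Algebra k K] [Algebra K K']
  [Algebra k K'] [IsScalarTower k K K'] [FiniteDimensional K K']

/-- The norm formula for finite separable extensions of a function field. -/
theorem separable [Algebra.IsSeparable K K'] (hK : IsFunctionField k K) (P : Place k K)
    (y : K') (Qs : Finset (Place k K')) (hQs : ∀ Q, Q ∈ Qs ↔ IsOver Q P) :
    (P.deg : ℤ) * P.ord (Algebra.norm K y) = ∑ Q ∈ Qs, (Q.deg : ℤ) * Q.ord y := by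
  let Ω := AlgebraicClosure K'
  haveI : IsScalarTower k K' Ω := inferInstanceAs (IsScalarTower k K' (AlgebraicClosure K'))
  haveI : IsScalarTower k K Ω := inferInstanceAs (IsScalarTower k K (AlgebraicClosure K'))
  let L : IntermediateField K Ω := normalClosure K K' Ω
  haveI : Algebra.IsSeparable K L := by
    change Algebra.IsSeparable K (normalClosure K K' Ω)
    rw [normalClosure_def]
    have : ∀ f : K' →ₐ[K] Ω, Algebra.IsSeparable K f.fieldRange := fun f =>
      AlgEquiv.Algebra.isSeparable (AlgEquiv.ofInjectiveField f)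
    exact IntermediateField.isSeparable_iSup K Ω
  haveI : Normal K L := inferInstanceAs (Normal K (normalClosure K K' Ω))
  haveI : IsGalois K L := ⟨⟩
  haveI : FiniteDimensional K L := inferInstanceAs (FiniteDimensional K (normalClosure K K' Ω))
  letI : Algebra K' L := inferInstanceAs (Algebra K' (normalClosure K K' Ω))
  haveI : IsScalarTower K K' L := inferInstanceAs (IsScalarTower K K' (normalClosure K K' Ω))
  haveI : IsScalarTower k K' L := IsScalarTower.of_algebraMap_eq (fun c => by
    apply Subtype.ext
    rfl)
  haveI : FiniteDimensional K' L := FiniteDimensional.right K K' L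
  have hNF : ∀ (x : L) (Rs : Finset (Place k L)), (∀ R, R ∈ Rs ↔ IsOver R P) →
      (P.deg : ℤ) * P.ord (Algebra.norm K x) = ∑ R ∈ Rs, (R.deg : ℤ) * R.ord x :=
    fun x Rs hRs => galois (K' := L) P (fun Qs hQs => sum_ramIdx_mul_deg_eq hK P Qs hQs)
      (exists_isOver hK P) x Rs hRs
  exact descend (K'' := L) P hNF
    (fun Q _ Rs hRs => sum_ramIdx_mul_deg_eq_tower hK Q Rs hRs) y Qs hQs

/-- S11033: the norm formula for finite extensions of a function field. -/
theorem norm_formula (hK : IsFunctionField k K) (P : Place k K)
    (x : K') (Qs : Finset (Place k K')) (hQs : ∀ Q, Q ∈ Qs ↔ IsOver Q P) :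
    (P.deg : ℤ) * P.ord (Algebra.norm K x) = ∑ Q ∈ Qs, (Q.deg : ℤ) * Q.ord x := by
  let Ks : IntermediateField K K' := separableClosure K K'
  haveI : IsScalarTower k Ks K' := IsScalarTower.of_algebraMap_eq (fun c => rfl)
  haveI : IsScalarTower k K Ks := inferInstanceAs (IsScalarTower k K (separableClosure K K'))
  haveI : Algebra.IsSeparable K Ks :=
    inferInstanceAs (Algebra.IsSeparable K (separableClosure K K'))
  haveI : IsPurelyInseparable Ks K' := separableClosure.isPurelyInseparable K K'
  refine tower (K' := Ks) P (fun y Qs' hQs' => separable hK P y Qs' hQs') ?_ x Qs hQs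
  intro Q _ z Rs hRs
  exact purelyInsep (K := Ks) Q
    (fun Rs' hRs' => sum_ramIdx_mul_deg_eq_tower hK Q Rs' hRs')
    (exists_isOver_tower hK Q) z Rs hRs

end Groth.Agent.Lib.Helper63.NormFormula
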