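import Groth.Agent.Lib.Helper63.LocResRam
import Groth.Agent.Lib.Helper63.NormFormulaMain
import Groth.Agent.Lib.Helper63.IntClosure
import Mathlib.RingTheory.Valuation.Extension

/-! Locally monogenic places: if `s` is a local parameter at `Q` (over `P`, residue degree one)
which is a unit at the other places over `P`, then `K' = K(s)` and `d(Q|P) = v_Q(f'(s))`
(helper63). -/

set_option autoImplicit false
set_option linter.style.haveILetI false
set_option linter.unusedSectionVars false

namespace Groth.Agent.Lib.Helper63.LocResMono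

open LaurentSeries HahnSeries WithZero Polynomial Groth.Agent.Lib.Helper63.LocResBasic
  Groth.Agent.Lib.Helper63.LocResRam
  IntermediateField FunFld Groth.Agent.Lib.Helper55 Groth.Agent.Lib.Helper63.FunFldExt
  Groth.Agent.Lib.Helper63.FundIneq Groth.Agent.Lib.Helper63.SumEF
  Groth.Agent.Lib.Helper63.IntClosure Groth.Agent.Lib.Helper63.Tower

section Main

variable {k : Type*} {K : Type*} {K' : Type*} {F : Type*} {F' : Type*} [Field k] [Field K]
  [Field K'] [Field F] [Field F'] [Algebra k K] [Algebra K K'] [Algebra k K']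
  [IsScalarTower k K K'] [Algebra k F] [Algebra k F']

/-- `d(Q|P) = v_Q(f'(s))` as soon as the minimal polynomial `f` of the uniformizer `s` has
coefficients integral below and constant coefficient a uniformizer below. -/
theorem diffExp_of_coeff (w : Valuation K ℤᵐ⁰)
    (w' : Valuation K' ℤᵐ⁰) (e : ℕ)
    (he : ∀ z : K, w' (algebraMap K K' z) = w z ^ e)
    (φ : K →ₐ[k] F⸨X⸩) (hφ : ∀ f : K, Valued.v (φ f) = w f)
    (ψ : K' →ₐ[k] F'⸨X⸩) (hψ : ∀ f : K', Valued.v (ψ f) = w' f)
    (hrank : ∀ {x : K}, KaehlerDifferential.D k K x ≠ 0 → ∀ y : K,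
      ∃ g : K, KaehlerDifferential.D k K y = g • KaehlerDifferential.D k K x)
    {x : K}
    (hx : LocRes.vDiff φ 1 x ≠ 0) (hx' : LocRes.vDiff ψ 1 (algebraMap K K' x) ≠ 0)
    {s : K'} (hs : w' s = exp (-1))
    (hcoef : ∀ i, w ((minpoly K s).coeff i) ≤ 1)
    (h0 : w ((minpoly K s).coeff 0) = exp (-1)) :
    - log (w' (aeval s (derivative (minpoly K s)))) = LocRes.diffExp φ ψ e x := by
  classical
  set f := minpoly K s with hf
  set t := f.coeff 0 with htdef
  have hDt : KaehlerDifferential.D k K t ≠ 0 := by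
    apply D_ne_zero_of_vDiff_ne_zero φ
    rw [vDiff_one, val_D_uniformizer w φ hφ h0]
    exact one_ne_zero
  choose g hg using fun a : K => hrank hDt a
  have hgt : g t = 1 := by
    have h1 := hg t
    have h2 : (g t - 1) • KaehlerDifferential.D k K t = 0 := by
      rw [sub_smul, one_smul, ← h1, sub_self]
    rcases smul_eq_zero.1 h2 with h3 | h3
    · exact sub_eq_zero.1 h3
    · exact absurd h3 hDt
  have hgle : ∀ a : K, w a ≤ 1 → w (g a) ≤ 1 := by
    intro a ha
    have h1 := D_exp_eq φ (hg a)
    have h2 : Valued.v (φ a) ≤ exp (-(0 : ℤ)) := by rw [hφ]; simpa using ha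
    have h3 := val_D_le_of_cast_eq_zero h2 (by simp)
    rw [h1, map_mul, hφ, val_D_uniformizer w φ hφ h0, mul_one] at h3
    simpa using h3
  -- the derivation identity
  have hmain : ψ (f.sum fun i a => s ^ i * algebraMap K K' (g a)) *
        LocRes.D F' (ψ (algebraMap K K' t)) +
      ψ (aeval s (derivative f)) * LocRes.D F' (ψ s) = 0 := by
    letI := ψ.toRingHom.toAlgebra
    haveI : IsScalarTower k K' F'⸨X⸩ := LocRes.isScalarTower_exp ψ
    have hd := derivation_aeval (R := k) (A := K) (B := K') (LocRes.dExp ψ) s f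
    rw [hf, minpoly.aeval, map_zero, ← hf] at hd
    have hterm : ∀ (i : ℕ) (a : K), s ^ i • (LocRes.dExp ψ) (algebraMap K K' a) =
        ψ (s ^ i * algebraMap K K' (g a)) * LocRes.D F' (ψ (algebraMap K K' t)) := by
      intro i a
      have h1 : (LocRes.dExp ψ) (algebraMap K K' a) = LocRes.D F' (ψ (algebraMap K K' a)) := rfl
      have h2 : ∀ m : F'⸨X⸩, s ^ i • m = ψ (s ^ i) * m := fun m => rfl
      rw [h1, h2, D_exp_eq' ψ (hg a), map_mul, mul_assoc]
    have hsum : (f.sum fun i a => s ^ i • (LocRes.dExp ψ) (algebraMap K K' a)) =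
        ψ (f.sum fun i a => s ^ i * algebraMap K K' (g a)) *
          LocRes.D F' (ψ (algebraMap K K' t)) := by
      rw [Polynomial.sum_def, Polynomial.sum_def, map_sum, Finset.sum_mul]
      exact Finset.sum_congr rfl fun i _ => hterm i _
    rw [hsum] at hd
    have h3 : aeval s (derivative f) • (LocRes.dExp ψ) s =
        ψ (aeval s (derivative f)) * LocRes.D F' (ψ s) := rfl
    rw [h3] at hd
    exact hd.symm
  -- valuations
  have hvs : Valued.v (LocRes.D F' (ψ s)) = 1 := val_D_uniformizer w' ψ hψ hs
  have hvh : w' (f.sum fun i a => s ^ i * algebraMap K K' (g a)) = 1 := by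
    have ht0 : t ≠ 0 := by
      intro h'; rw [h', map_zero] at h0; exact exp_ne_zero h0.symm
    have h0mem : 0 ∈ f.support := Polynomial.mem_support_iff.2 ht0
    rw [Polynomial.sum_def, ← Finset.add_sum_erase _ _ h0mem, pow_zero, one_mul, ← htdef, hgt,
      map_one]
    apply Valuation.map_one_add_of_lt
    apply Valuation.map_sum_lt _ one_ne_zero
    intro i hi
    have hi0 : i ≠ 0 := (Finset.mem_erase.1 hi).1
    rw [map_mul, map_pow, hs, he]
    have h1 : w (g (f.coeff i)) ^ e ≤ 1 := pow_le_one' (hgle _ (hcoef i)) e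
    have h2 : (exp (-1) : ℤᵐ⁰) ^ i < 1 := by
      rw [← exp_nsmul, ← exp_zero, exp_lt_exp]
      simp only [nsmul_eq_mul, mul_neg, mul_one, Left.neg_neg_iff]
      exact_mod_cast Nat.pos_of_ne_zero hi0
    calc (exp (-1) : ℤᵐ⁰) ^ i * w (g (f.coeff i)) ^ e ≤ exp (-1) ^ i * 1 :=
          mul_le_mul' le_rfl h1
      _ < 1 := by rw [mul_one]; exact h2
  have hval : w' (aeval s (derivative f)) =
      Valued.v (LocRes.D F' (ψ (algebraMap K K' t))) := by
    have h1 := eq_neg_of_add_eq_zero_left hmain
    have h2 := congrArg (Valued.v : F'⸨X⸩ → ℤᵐ⁰) h1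
    rw [Valuation.map_neg, map_mul, map_mul, hψ, hψ, hvh, hvs, one_mul, mul_one] at h2
    exact h2.symm
  obtain ⟨gx, hgx⟩ := hrank (D_ne_zero_of_vDiff_ne_zero φ hx) t
  have := (diffExp_eq_neg_log w w' e he φ hφ ψ hψ h0 hgx hx hx').2
  rw [this, hval]

end Main

section Integral

universe uk uK uK'

variable {k : Type uk} {K : Type uK} {K' : Type uK'} [Field k] [Field K] [Field K'] [Algebra k K]
  [Algebra K K'] [Algebra k K'] [IsScalarTower k K K']

/-- The ring of elements of `K'` integral at all places above `P`, as an `O_P`-subalgebra. -/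
def holSub (P : Place k K) [Algebra P.O K'] [IsScalarTower P.O K K'] : Subalgebra P.O K' where
  carrier := {y | ∀ Q : Place k K', IsOver Q P → Q.1 y ≤ 1}
  mul_mem' := by
    intro a b ha hb Q hQ
    rw [map_mul]
    exact mul_le_one' (ha Q hQ) (hb Q hQ)
  add_mem' := by
    intro a b ha hb Q hQ
    exact (Q.1.map_add a b).trans (max_le (ha Q hQ) (hb Q hQ))
  algebraMap_mem' := by
    intro r Q hQ
    obtain ⟨e, he⟩ := hQ
    rw [IsScalarTower.algebraMap_apply P.O K K']
    exact val_le_one_of_isOverWith he r.2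

theorem isIntegral_of_forall_le_one [FiniteDimensional K K'] (hK : IsFunctionField k K)
    (P : Place k K) [Algebra P.O K'] [IsScalarTower P.O K K'] {s : K'}
    (hs : ∀ Q : Place k K', IsOver Q P → Q.1 s ≤ 1) : IsIntegral P.O s := by
  classical
  obtain ⟨M, _, u, -, hspan⟩ := exists_integral_basis (K' := K') hK P
  have hle : Subalgebra.toSubmodule (holSub (K' := K') P) ≤
      Submodule.span P.O (Set.range u) := by
    intro y hy
    obtain ⟨c, hc, rfl⟩ := hspan y hy
    refine Submodule.sum_mem _ fun m _ => ?_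
    have : c m • u m = (⟨c m, hc m⟩ : P.O) • u m :=
      IsScalarTower.algebraMap_smul K (⟨c m, hc m⟩ : P.O) (u m)
    rw [this]
    exact Submodule.smul_mem _ _ (Submodule.subset_span ⟨m, rfl⟩)
  haveI : IsPrincipalIdealRing P.O := ff_vs_isPrincipalIdealRing hK P.O (fun c => P.2.1 c)
  haveI : Module.Finite P.O (Submodule.span P.O (Set.range u)) :=
    Module.Finite.span_of_finite P.O (Set.finite_range u)
  haveI : IsNoetherian P.O (Submodule.span P.O (Set.range u)) :=
    isNoetherian_of_isNoetherianRing_of_finite _ _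
  haveI : IsNoetherian P.O (Subalgebra.toSubmodule (holSub (K' := K') P)) :=
    isNoetherian_of_le hle
  have hfg : (Subalgebra.toSubmodule (holSub (K' := K') P)).FG :=
    Module.Finite.iff_fg.1 inferInstance
  exact IsIntegral.of_mem_of_fg _ hfg s hs

/-- If `s` is integral at all places above `P`, the coefficients of its minimal polynomial over
`K` are integral at `P`. -/
theorem coeff_minpoly_le_one [FiniteDimensional K K'] (hK : IsFunctionField k K)
    (P : Place k K) {s : K'}
    (hs : ∀ Q : Place k K', IsOver Q P → Q.1 s ≤ 1) (i : ℕ) :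
    P.1 ((minpoly K s).coeff i) ≤ 1 := by
  letI : Algebra P.O K' := ((algebraMap K K').comp P.O.subtype).toAlgebra
  haveI : IsScalarTower P.O K K' := IsScalarTower.of_algebraMap_eq (fun _ => rfl)
  have hint := isIntegral_of_forall_le_one hK P hs
  rw [minpoly.isIntegrallyClosed_eq_field_fractions' K hint, Polynomial.coeff_map]
  exact ((minpoly P.O s).coeff i).2

end Integral

section Gen

variable {k K K' : Type*} [Field k] [Field K] [Field K'] [Algebra k K]
  [Algebra K K'] [Algebra k K'] [IsScalarTower k K K']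

open IsLocalRing in
/-- Residue degree one (in the Mathlib `HasExtension` formulation) gives equal degrees. -/
theorem deg_eq_of_surjective {Q : Place k K'} {P : Place k K} [P.1.HasExtension Q.1]
    (hf : Function.Surjective
      (algebraMap (IsLocalRing.ResidueField P.O) (IsLocalRing.ResidueField Q.O))) :
    Q.deg = P.deg := by
  let g : ResidueField P.O →ₗ[k] ResidueField Q.O :=
    { toFun := algebraMap (ResidueField P.O) (ResidueField Q.O)
      map_add' := map_add _
      map_smul' := by
        intro c x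
        have hc : algebraMap (ResidueField P.O) (ResidueField Q.O)
            (algebraMap k (ResidueField P.O) c) = algebraMap k (ResidueField Q.O) c := by
          change algebraMap (ResidueField P.O) (ResidueField Q.O)
            (residue P.O (algebraMap k P.O c)) = residue Q.O (algebraMap k Q.O c)
          rw [Valuation.HasExtension.algebraMap_residue_eq_residue_algebraMap]
          congr 1
          apply Subtype.ext
          exact (IsScalarTower.algebraMap_apply k K K' c).symm
        calc algebraMap (ResidueField P.O) (ResidueField Q.O) (c • x)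
            = algebraMap (ResidueField P.O) (ResidueField Q.O)
                (algebraMap k (ResidueField P.O) c * x) := by rw [Algebra.smul_def]
          _ = algebraMap k (ResidueField Q.O) c *
                algebraMap (ResidueField P.O) (ResidueField Q.O) x := by rw [map_mul, hc]
          _ = _ := (Algebra.smul_def c _).symm }
  have hb : Function.Bijective g :=
    ⟨(algebraMap (ResidueField P.O) (ResidueField Q.O)).injective, hf⟩
  exact (LinearEquiv.ofBijective g hb).finrank_eq.symm

theorem adjoin_eq_top [FiniteDimensional K K'] (hK : IsFunctionField k K) {Q : Place k K'}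
    {P : Place k K} {e : ℕ} (he : IsOverWith Q P e) (hdeg : Q.deg = P.deg) {s : K'}
    (hs : Q.1 s = exp (-1))
    (hs' : ∀ Q' : Place k K', IsOver Q' P → Q' ≠ Q → Q'.1 s = 1) : K⟮s⟯ = ⊤ := by
  classical
  set L : IntermediateField K K' := K⟮s⟯ with hL
  haveI : IsScalarTower k L K' := IsScalarTower.of_algebraMap_eq (fun c => rfl)
  obtain ⟨QL, e₁, hQL⟩ := exists_isOver_below (K := L) Q
  have hQLP : IsOver QL P := isOver_of_isOver_of_isOver ⟨e, he⟩ ⟨e₁, hQL⟩
  let sL : L := ⟨s, mem_adjoin_simple_self K s⟩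
  have hsL : algebraMap L K' sL = s := rfl
  have h1 : QL.1 sL ^ e₁ = exp (-1) := by rw [← hQL sL, hsL, hs]
  have hne : QL.1 sL ≠ 0 := by
    intro h0
    rw [h0, zero_pow (isOverWith_ne_zero hQL)] at h1
    exact exp_ne_zero h1.symm
  have h2 : (e₁ : ℤ) * log (QL.1 sL) = -1 := by
    have := congrArg log h1
    rw [log_pow, log_exp] at this
    simpa using this
  have he₁ : e₁ = 1 := by
    have h3 : (e₁ : ℤ) ∣ 1 := ⟨-log (QL.1 sL), by linarith⟩
    have := Int.eq_one_of_dvd_one (by positivity) h3
    exact_mod_cast this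
  subst he₁
  have hlt : QL.1 sL < 1 := by
    rw [pow_one] at h1
    rw [h1, ← exp_zero, exp_lt_exp]
    norm_num
  -- `Q` is the only place above `QL`
  have huniq : ∀ R : Place k K', IsOver R QL → R = Q := by
    intro R hR
    by_contra hne'
    have h3 := hs' R (isOver_trans hR hQLP) hne'
    obtain ⟨e₂, hR⟩ := hR
    rw [← hsL, hR] at h3
    have : QL.1 sL ^ e₂ < 1 := pow_lt_one₀ zero_le hlt (isOverWith_ne_zero hR)
    exact absurd h3 this.ne
  have hFE := sum_ramIdx_mul_deg_eq_tower (K := K) (K' := L) (K'' := K') hK QL {Q} (by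
    intro R
    rw [Finset.mem_singleton]
    exact ⟨fun h => h ▸ ⟨1, hQL⟩, huniq R⟩)
  rw [Finset.sum_singleton, ramIdx_eq hQL, one_mul] at hFE
  obtain ⟨e₃, hQLP'⟩ := hQLP
  obtain ⟨f, hd⟩ : ∃ f, QL.deg = P.deg * f := ⟨_, deg_eq_mul hQLP'⟩
  rw [hd, hdeg] at hFE
  have hpos := ff_deg_pos hK P
  have h4 : Module.finrank L K' * f = 1 := by
    have : P.deg * 1 = P.deg * (Module.finrank L K' * f) := by
      rw [mul_one]; exact hFE.trans (by ring)
    exact (Nat.eq_of_mul_eq_mul_left hpos this).symm
  exact IntermediateField.finrank_eq_one_iff_eq_top.1 (Nat.eq_one_of_mul_eq_one_right h4)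

theorem norm_eq_of_adjoin_eq_top [FiniteDimensional K K'] {s : K'} (htop : K⟮s⟯ = ⊤) :
    Algebra.norm K s = (-1) ^ (minpoly K s).natDegree * (minpoly K s).coeff 0 := by
  have hint : IsIntegral K s := Algebra.IsIntegral.isIntegral s
  rw [Algebra.norm_eq_norm_adjoin K s, IntermediateField.finrank_eq_one_iff_eq_top.2 htop, pow_one]
  have h := Algebra.PowerBasis.norm_gen_eq_coeff_zero_minpoly (adjoin.powerBasis hint)
  rw [adjoin.powerBasis_gen, minpoly_gen, adjoin.powerBasis_dim] at h
  exact h

theorem val_coeff_zero [FiniteDimensional K K'] (hK : IsFunctionField k K) {Q : Place k K'}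
    {P : Place k K} {e : ℕ} (he : IsOverWith Q P e) (hdeg : Q.deg = P.deg) {s : K'}
    (hs : Q.1 s = exp (-1))
    (hs' : ∀ Q' : Place k K', IsOver Q' P → Q' ≠ Q → Q'.1 s = 1) (htop : K⟮s⟯ = ⊤) :
    P.1 ((minpoly K s).coeff 0) = exp (-1) := by
  classical
  have hfin := finite_setOf_isOver (K' := K') P
  have hnf := NormFormula.norm_formula hK P s hfin.toFinset (fun Q' => hfin.mem_toFinset)
  have hQmem : Q ∈ hfin.toFinset := hfin.mem_toFinset.2 ⟨e, he⟩
  rw [Finset.sum_eq_single_of_mem Q hQmem] at hnf
  swap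
  · intro Q' hQ' hne
    have := hs' Q' (hfin.mem_toFinset.1 hQ') hne
    unfold Place.ord
    rw [this, log_one, neg_zero, mul_zero]
  have hordQ : Q.ord s = 1 := by
    unfold Place.ord
    rw [hs, log_exp, neg_neg]
  rw [hordQ, mul_one, hdeg] at hnf
  have hpos : (0 : ℤ) < P.deg := by exact_mod_cast ff_deg_pos hK P
  have hord : P.ord (Algebra.norm K s) = 1 := by
    have : (P.deg : ℤ) * P.ord (Algebra.norm K s) = (P.deg : ℤ) * 1 := by rw [hnf, mul_one]
    exact mul_left_cancel₀ hpos.ne' this
  rw [norm_eq_of_adjoin_eq_top htop] at hord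
  unfold Place.ord at hord
  rw [map_mul, map_pow, Valuation.map_neg, map_one, one_pow, one_mul] at hord
  have hne : P.1 ((minpoly K s).coeff 0) ≠ 0 := by
    intro h0
    rw [h0, log_zero] at hord
    norm_num at hord
  rw [← exp_log hne]
  congr 1
  omega

end Gen

end Groth.Agent.Lib.Helper63.LocResMono
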