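import Groth.Agent.Lib.Helper63.LocResBasic

/-! Totally ramified places: Eisenstein minimal polynomials and the different exponent
`d(Q|P) = v_Q(f'(s))` through Laurent expansions (helper63). -/

set_option autoImplicit false
set_option linter.style.haveILetI false
set_option linter.unusedSectionVars false

namespace Groth.Agent.Lib.Helper63.LocResRam

open LaurentSeries HahnSeries WithZero Polynomial Groth.Agent.Lib.Helper63.LocResBasic

/-- A derivation applied to a polynomial expression with non-constant coefficients. -/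
theorem derivation_aeval {R A B M : Type*} [CommRing R] [CommRing A] [CommRing B] [Algebra R A]
    [Algebra R B] [Algebra A B] [IsScalarTower R A B] [AddCommGroup M] [Module B M] [Module R M]
    [IsScalarTower R B M] (d : Derivation R B M) (s : B) (p : A[X]) :
    d (aeval s p) = p.sum (fun i a => s ^ i • d (algebraMap A B a)) +
      aeval s (derivative p) • d s := by
  induction p using Polynomial.induction_on' with
  | add p q hp hq =>
    rw [map_add, map_add, hp, hq, Polynomial.sum_add_index, derivative_add, map_add, add_smul]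
    · abel
    · intro i; simp
    · intro i a b; simp [smul_add]
  | monomial n a =>
    rw [Polynomial.sum_monomial_index, aeval_monomial, Derivation.leibniz, Derivation.leibniz_pow,
      derivative_monomial, aeval_monomial]
    · rw [add_comm]
      congr 1
      rw [map_mul, map_natCast, smul_comm, ← Nat.cast_smul_eq_nsmul B, smul_smul, smul_smul]
      congr 1
      ring
    · simp

section Val

variable {K K' : Type*} [Field K] [Field K'] [Algebra K K']
  (w : Valuation K ℤᵐ⁰) (w' : Valuation K' ℤᵐ⁰) {n : ℕ}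
  (he : ∀ z : K, w' (algebraMap K K' z) = w z ^ n) {s : K'} (hs : w' s = exp (-1))

include he hs

theorem log_val_term {c : K} (hc : c ≠ 0) (i : ℕ) :
    w' (algebraMap K K' c * s ^ i) ≠ 0 ∧
      log (w' (algebraMap K K' c * s ^ i)) = n * log (w c) - i := by
  have hwc : w c ≠ 0 := (Valuation.ne_zero_iff _).2 hc
  have h1 : w' (algebraMap K K' c * s ^ i) = w c ^ n * exp (-1) ^ i := by
    rw [map_mul, map_pow, he, hs]
  refine ⟨?_, ?_⟩
  · rw [h1]; exact mul_ne_zero (pow_ne_zero _ hwc) (pow_ne_zero _ (by simp))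
  · rw [h1, log_mul (pow_ne_zero _ hwc) (pow_ne_zero _ (by simp)), log_pow, log_pow, log_exp]
    simp only [nsmul_eq_mul]
    ring

theorem val_term_ne {c c' : K} (hc : c ≠ 0) (hc' : c' ≠ 0) {i i' : ℕ} (hi : i < n) (hi' : i' < n)
    (hii : i ≠ i') : w' (algebraMap K K' c * s ^ i) ≠ w' (algebraMap K K' c' * s ^ i') := by
  intro h
  have h1 := (log_val_term w w' he hs hc i).2
  have h2 := (log_val_term w w' he hs hc' i').2
  rw [h, h2] at h1
  have h3 : (n : ℤ) * (log (w c') - log (w c)) = (i' : ℤ) - i := by linarith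
  have h4 : (n : ℤ) ∣ (i' : ℤ) - i := ⟨_, h3.symm⟩
  have h5 : ((i' : ℤ) - i) = 0 := by
    apply Int.eq_zero_of_abs_lt_dvd h4
    rw [abs_lt]; constructor <;> omega
  omega

theorem val_sum_pow_le_iff (c : ℕ → K) (B : ℤᵐ⁰) :
    w' (∑ i ∈ Finset.range n, algebraMap K K' (c i) * s ^ i) ≤ B ↔
      ∀ i < n, w' (algebraMap K K' (c i) * s ^ i) ≤ B := by
  classical
  constructor
  · intro h
    by_cases hn : n = 0
    · intro i hi; omega
    obtain ⟨j, hj, hmax⟩ := Finset.exists_max_image (Finset.range n)
      (fun i => w' (algebraMap K K' (c i) * s ^ i)) ⟨0, Finset.mem_range.2 (Nat.pos_of_ne_zero hn)⟩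
    by_cases h0 : w' (algebraMap K K' (c j) * s ^ j) = 0
    · intro i hi
      have := hmax i (Finset.mem_range.2 hi)
      rw [h0] at this
      exact (le_antisymm this zero_le).le.trans zero_le
    · have hcj : c j ≠ 0 := by
        intro h'; apply h0; rw [h', map_zero, zero_mul, map_zero]
      have hsum : w' (∑ i ∈ Finset.range n, algebraMap K K' (c i) * s ^ i) =
          w' (algebraMap K K' (c j) * s ^ j) := by
        apply Valuation.map_sum_eq_of_lt _ hj
        intro i hi
        rw [Finset.mem_sdiff, Finset.mem_singleton] at hi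
        refine lt_of_le_of_ne (hmax i hi.1) ?_
        by_cases hci : c i = 0
        · rw [hci, map_zero, zero_mul, map_zero]; exact fun h' => h0 h'.symm
        · exact val_term_ne w w' he hs hci hcj (Finset.mem_range.1 hi.1) (Finset.mem_range.1 hj)
            hi.2
      intro i hi
      exact (hmax i (Finset.mem_range.2 hi)).trans (hsum ▸ h)
  · intro h
    exact Valuation.map_sum_le _ (fun i hi => h i (Finset.mem_range.1 hi))

/-- In the totally ramified case the minimal polynomial of a uniformizer is Eisenstein. -/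
theorem totallyRamified_minpoly [FiniteDimensional K K'] (hn : n = Module.finrank K K')
    (hn0 : 0 < n) :
    (minpoly K s).natDegree = n ∧ (∀ i, w ((minpoly K s).coeff i) ≤ 1) ∧
      w ((minpoly K s).coeff 0) = exp (-1) := by
  have hint : IsIntegral K s := Algebra.IsIntegral.isIntegral s
  have hmonic := minpoly.monic hint
  have hs0 : s ≠ 0 := by
    intro h'; rw [h', map_zero] at hs; exact exp_ne_zero hs.symm
  have hdeg_le : (minpoly K s).natDegree ≤ n := hn ▸ minpoly.natDegree_le s
  have hterm0 : ∀ {c : K} {i : ℕ}, w' (algebraMap K K' c * s ^ i) ≤ 0 → c = 0 := by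
    intro c i h
    have h1 : algebraMap K K' c * s ^ i = 0 := (Valuation.zero_iff _).1 (le_antisymm h zero_le)
    rcases mul_eq_zero.1 h1 with h2 | h2
    · exact (map_eq_zero _).1 h2
    · exact absurd h2 (pow_ne_zero _ hs0)
  have hdeg_ge : n ≤ (minpoly K s).natDegree := by
    by_contra hlt
    rw [not_le] at hlt
    have h1 := Polynomial.aeval_eq_sum_range' hlt s
    rw [minpoly.aeval] at h1
    have h2 : w' (∑ i ∈ Finset.range n, algebraMap K K' ((minpoly K s).coeff i) * s ^ i) ≤ 0 := by
      simp_rw [← Algebra.smul_def]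
      rw [← h1, map_zero]
    have h3 := (val_sum_pow_le_iff w w' he hs (fun i => (minpoly K s).coeff i) 0).1 h2
      (minpoly K s).natDegree hlt
    have h4 := hterm0 h3
    rw [hmonic.coeff_natDegree] at h4
    exact one_ne_zero h4
  have hdeg : (minpoly K s).natDegree = n := le_antisymm hdeg_le hdeg_ge
  have hrel : ∑ i ∈ Finset.range n, algebraMap K K' ((minpoly K s).coeff i) * s ^ i = - s ^ n := by
    have h1 := Polynomial.aeval_eq_sum_range (p := minpoly K s) s
    rw [minpoly.aeval, hdeg, Finset.sum_range_succ] at h1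
    have h2 : (minpoly K s).coeff n = 1 := by rw [← hdeg]; exact hmonic.coeff_natDegree
    rw [h2, one_smul] at h1
    simp_rw [Algebra.smul_def] at h1
    exact eq_neg_of_add_eq_zero_left h1.symm
  have hval : w' (- s ^ n) = exp (-(n : ℤ)) := by
    rw [Valuation.map_neg, map_pow, hs, ← exp_nsmul]; simp
  have hle := (val_sum_pow_le_iff w w' he hs (fun i => (minpoly K s).coeff i) (exp (-(n : ℤ)))).1
    (by rw [hrel, hval])
  have hlog : ∀ i < n, (minpoly K s).coeff i ≠ 0 →
      (n : ℤ) * log (w ((minpoly K s).coeff i)) - i ≤ -(n : ℤ) := by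
    intro i hi hci
    obtain ⟨h1, h2⟩ := log_val_term w w' he hs hci i
    have h3 := hle i hi
    have h4 := (log_le_log h1 (by simp)).2 h3
    rw [h2, log_exp] at h4
    exact h4
  have hcoeff : ∀ i < n, w ((minpoly K s).coeff i) ≤ exp (-1) := by
    intro i hi
    by_cases hci : (minpoly K s).coeff i = 0
    · rw [hci, map_zero]; exact zero_le
    · have h1 := hlog i hi hci
      have hwc : w ((minpoly K s).coeff i) ≠ 0 := (Valuation.ne_zero_iff _).2 hci
      rw [← exp_log hwc, exp_le_exp]
      by_contra hcon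
      rw [not_le] at hcon
      have : (0 : ℤ) ≤ (n : ℤ) * log (w ((minpoly K s).coeff i)) :=
        mul_nonneg (by positivity) (by omega)
      omega
  refine ⟨hdeg, ?_, ?_⟩
  · intro i
    rcases lt_trichotomy i n with hi | hi | hi
    · exact (hcoeff i hi).trans (by rw [← exp_zero, exp_le_exp]; norm_num)
    · rw [hi, ← hdeg, hmonic.coeff_natDegree, map_one]
    · rw [Polynomial.coeff_eq_zero_of_natDegree_lt (by omega), map_zero]; exact zero_le
  · -- the constant coefficient has order exactly one
    have hnot : ¬ ∀ i < n, w' (algebraMap K K' ((minpoly K s).coeff i) * s ^ i) ≤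
        exp (-((n : ℤ) + 1)) := by
      intro hall
      have := (val_sum_pow_le_iff w w' he hs (fun i => (minpoly K s).coeff i)
        (exp (-((n : ℤ) + 1)))).2 hall
      rw [hrel, hval, exp_le_exp] at this
      omega
    push Not at hnot
    obtain ⟨i, hi, hlt⟩ := hnot
    have hci : (minpoly K s).coeff i ≠ 0 := by
      intro h0
      rw [h0, map_zero, zero_mul, map_zero] at hlt
      exact absurd hlt (not_lt.2 zero_le)
    obtain ⟨h1, h2⟩ := log_val_term w w' he hs hci i
    have h3 := (log_lt_log (by simp) h1).2 hlt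
    rw [h2, log_exp] at h3
    have h4 := hlog i hi hci
    have h5 : (n : ℤ) * (log (w ((minpoly K s).coeff i)) + 1) = i := by linarith
    have h6 : (n : ℤ) ∣ (i : ℤ) := ⟨_, h5.symm⟩
    have h7 : (i : ℤ) = 0 := by
      apply Int.eq_zero_of_abs_lt_dvd h6
      rw [abs_lt]; constructor <;> omega
    have hi0 : i = 0 := by exact_mod_cast h7
    subst hi0
    have hwc : w ((minpoly K s).coeff 0) ≠ 0 := (Valuation.ne_zero_iff _).2 hci
    have h8 : log (w ((minpoly K s).coeff 0)) = -1 := by
      have : (n : ℤ) * (log (w ((minpoly K s).coeff 0)) + 1) = 0 := by simpa using h5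
      rcases mul_eq_zero.1 this with h | h
      · omega
      · omega
    rw [← exp_log hwc, h8]

end Val

section Main

variable {k : Type*} {K : Type*} {K' : Type*} {F : Type*} {F' : Type*} [Field k] [Field K]
  [Field K'] [Field F] [Field F'] [Algebra k K] [Algebra K K'] [Algebra k K']
  [IsScalarTower k K K'] [Algebra k F] [Algebra k F']

/-- The different exponent computed with a uniformizer `t` below: `d = ord (dt)` above. -/
theorem diffExp_eq_neg_log (w : Valuation K ℤᵐ⁰) (w' : Valuation K' ℤᵐ⁰) (e : ℕ)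
    (he : ∀ z : K, w' (algebraMap K K' z) = w z ^ e)
    (φ : K →ₐ[k] F⸨X⸩) (hφ : ∀ f : K, Valued.v (φ f) = w f)
    (ψ : K' →ₐ[k] F'⸨X⸩) (hψ : ∀ f : K', Valued.v (ψ f) = w' f)
    {x t g : K} (ht : w t = exp (-1))
    (h : KaehlerDifferential.D k K t = g • KaehlerDifferential.D k K x)
    (hx : LocRes.vDiff φ 1 x ≠ 0) (hx' : LocRes.vDiff ψ 1 (algebraMap K K' x) ≠ 0) :
    Valued.v (LocRes.D F' (ψ (algebraMap K K' t))) ≠ 0 ∧
      LocRes.diffExp φ ψ e x = - log (Valued.v (LocRes.D F' (ψ (algebraMap K K' t)))) := by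
  have ht1 := val_D_uniformizer w φ hφ ht
  have hx2 : LocRes.vDiff φ 1 t ≠ 0 := by rw [vDiff_one, ht1]; exact one_ne_zero
  have heq := diffExp_eq_of_smul w w' e he φ hφ ψ hψ h hx hx' hx2
  refine ⟨?_, ?_⟩
  · have h2 := D_exp_eq' ψ h
    rw [vDiff_one] at hx'
    have hg : w g ≠ 0 := by
      intro h0
      rw [vDiff_one, D_exp_eq φ h, map_mul, hφ, h0, zero_mul] at hx2
      exact hx2 rfl
    rw [h2, map_mul, hψ, he]
    exact mul_ne_zero (pow_ne_zero e hg) hx'
  · rw [← heq, LocRes.diffExp, ordDiff_one, ordDiff_one, ht1, log_one, neg_zero, mul_zero,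
      sub_zero]

/-- Totally ramified places: `d(Q|P) = v_Q(f'(s))` for the minimal polynomial `f` of a
uniformizer `s` above. -/
theorem diffExp_totallyRamified [FiniteDimensional K K'] (w : Valuation K ℤᵐ⁰)
    (w' : Valuation K' ℤᵐ⁰) (e : ℕ)
    (he : ∀ z : K, w' (algebraMap K K' z) = w z ^ e)
    (φ : K →ₐ[k] F⸨X⸩) (hφ : ∀ f : K, Valued.v (φ f) = w f)
    (ψ : K' →ₐ[k] F'⸨X⸩) (hψ : ∀ f : K', Valued.v (ψ f) = w' f)
    (hrank : ∀ {x : K}, KaehlerDifferential.D k K x ≠ 0 → ∀ y : K,
      ∃ g : K, KaehlerDifferential.D k K y = g • KaehlerDifferential.D k K x)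
    (hn : e = Module.finrank K K') {x : K}
    (hx : LocRes.vDiff φ 1 x ≠ 0) (hx' : LocRes.vDiff ψ 1 (algebraMap K K' x) ≠ 0)
    {s : K'} (hs : w' s = exp (-1)) :
    - log (w' (aeval s (derivative (minpoly K s)))) = LocRes.diffExp φ ψ e x := by
  classical
  have he0 : 0 < e := by
    rcases Nat.eq_zero_or_pos e with h0 | h0
    · have := he 0
      rw [h0, map_zero, map_zero, pow_zero] at this
      exact absurd this zero_ne_one
    · exact h0
  obtain ⟨hdeg, hcoef, h0⟩ := totallyRamified_minpoly w w' he hs hn he0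
  set f := minpoly K s with hf
  set t := f.coeff 0 with htdef
  have hDt : KaehlerDifferential.D k K t ≠ 0 := by
    apply D_ne_zero_of_vDiff_ne_zero φ
    rw [vDiff_one, val_D_uniformizer w φ hφ h0]
    exact one_ne_zero
  choose g hg using fun a : K => hrank hDt a
  have hgt : g t = 1 := by
    have h1 := hg t
    have h2 : (g t - 1) • KaehlerDifferential.D k K t = 0 := by
      rw [sub_smul, one_smul, ← h1, sub_self]
    rcases smul_eq_zero.1 h2 with h3 | h3
    · exact sub_eq_zero.1 h3
    · exact absurd h3 hDt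
  have hgle : ∀ a : K, w a ≤ 1 → w (g a) ≤ 1 := by
    intro a ha
    have h1 := D_exp_eq φ (hg a)
    have h2 : Valued.v (φ a) ≤ exp (-(0 : ℤ)) := by rw [hφ]; simpa using ha
    have h3 := val_D_le_of_cast_eq_zero h2 (by simp)
    rw [h1, map_mul, hφ, val_D_uniformizer w φ hφ h0, mul_one] at h3
    simpa using h3
  -- the derivation identity
  have hmain : ψ (f.sum fun i a => s ^ i * algebraMap K K' (g a)) *
        LocRes.D F' (ψ (algebraMap K K' t)) +
      ψ (aeval s (derivative f)) * LocRes.D F' (ψ s) = 0 := by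
    letI := ψ.toRingHom.toAlgebra
    haveI : IsScalarTower k K' F'⸨X⸩ := LocRes.isScalarTower_exp ψ
    have hd := derivation_aeval (R := k) (A := K) (B := K') (LocRes.dExp ψ) s f
    rw [hf, minpoly.aeval, map_zero, ← hf] at hd
    have hterm : ∀ (i : ℕ) (a : K), s ^ i • (LocRes.dExp ψ) (algebraMap K K' a) =
        ψ (s ^ i * algebraMap K K' (g a)) * LocRes.D F' (ψ (algebraMap K K' t)) := by
      intro i a
      have h1 : (LocRes.dExp ψ) (algebraMap K K' a) = LocRes.D F' (ψ (algebraMap K K' a)) := rfl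
      have h2 : ∀ m : F'⸨X⸩, s ^ i • m = ψ (s ^ i) * m := fun m => rfl
      rw [h1, h2, D_exp_eq' ψ (hg a), map_mul, mul_assoc]
    have hsum : (f.sum fun i a => s ^ i • (LocRes.dExp ψ) (algebraMap K K' a)) =
        ψ (f.sum fun i a => s ^ i * algebraMap K K' (g a)) *
          LocRes.D F' (ψ (algebraMap K K' t)) := by
      rw [Polynomial.sum_def, Polynomial.sum_def, map_sum, Finset.sum_mul]
      exact Finset.sum_congr rfl fun i _ => hterm i _
    rw [hsum] at hd
    have h3 : aeval s (derivative f) • (LocRes.dExp ψ) s =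
        ψ (aeval s (derivative f)) * LocRes.D F' (ψ s) := rfl
    rw [h3] at hd
    exact hd.symm
  -- valuations
  have hvs : Valued.v (LocRes.D F' (ψ s)) = 1 := val_D_uniformizer w' ψ hψ hs
  have hvh : w' (f.sum fun i a => s ^ i * algebraMap K K' (g a)) = 1 := by
    have ht0 : t ≠ 0 := by
      intro h'; rw [h', map_zero] at h0; exact exp_ne_zero h0.symm
    have h0mem : 0 ∈ f.support := Polynomial.mem_support_iff.2 ht0
    rw [Polynomial.sum_def, ← Finset.add_sum_erase _ _ h0mem, pow_zero, one_mul, ← htdef, hgt,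
      map_one]
    apply Valuation.map_one_add_of_lt
    apply Valuation.map_sum_lt _ one_ne_zero
    intro i hi
    have hi0 : i ≠ 0 := (Finset.mem_erase.1 hi).1
    rw [map_mul, map_pow, hs, he]
    have h1 : w (g (f.coeff i)) ^ e ≤ 1 := pow_le_one' (hgle _ (hcoef i)) e
    have h2 : (exp (-1) : ℤᵐ⁰) ^ i < 1 := by
      rw [← exp_nsmul, ← exp_zero, exp_lt_exp]
      simp only [nsmul_eq_mul, mul_neg, mul_one, Left.neg_neg_iff]
      exact_mod_cast Nat.pos_of_ne_zero hi0
    calc (exp (-1) : ℤᵐ⁰) ^ i * w (g (f.coeff i)) ^ e ≤ exp (-1) ^ i * 1 :=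
          mul_le_mul' le_rfl h1
      _ < 1 := by rw [mul_one]; exact h2
  have hval : w' (aeval s (derivative f)) =
      Valued.v (LocRes.D F' (ψ (algebraMap K K' t))) := by
    have h1 := eq_neg_of_add_eq_zero_left hmain
    have h2 := congrArg (Valued.v : F'⸨X⸩ → ℤᵐ⁰) h1
    rw [Valuation.map_neg, map_mul, map_mul, hψ, hψ, hvh, hvs, one_mul, mul_one] at h2
    exact h2.symm
  obtain ⟨gx, hgx⟩ := hrank (D_ne_zero_of_vDiff_ne_zero φ hx) t
  have := (diffExp_eq_neg_log w w' e he φ hφ ψ hψ h0 hgx hx hx').2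
  rw [this, hval]

end Main

end Groth.Agent.Lib.Helper63.LocResRam
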