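import Groth.Agent.Lib.Helper63.FundIneq
import Mathlib.FieldTheory.IntermediateField.Adjoin.Basic
import Mathlib.Algebra.Polynomial.RingDivision
import Mathlib.Algebra.Polynomial.Roots

/-! Zeros of an element `x` of a field `K/k`: they all lie over one place of `k(x)` of degree
one, so `∑ ord_P(x) deg P ≤ [K : k(x)]` and there are finitely many (helper63). -/

set_option autoImplicit false
set_option linter.style.haveILetI false

namespace Groth.Agent.Lib.Helper63.ZerosBound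

open WithZero Polynomial IntermediateField Groth.Agent.Lib.Helper63.Approx
  Groth.Agent.Lib.Helper63.FunFldExt Groth.Agent.Lib.Helper63.FundIneq

local notation "ℤᵐ⁰" => WithZero (Multiplicative ℤ)

section gen

variable {k F : Type*} [Field k] [Field F] [Algebra k F] (v : Valuation F ℤᵐ⁰)

theorem val_const (hv : ∀ c : k, v (algebraMap k F c) ≤ 1) {c : k} (hc : c ≠ 0) :
    v (algebraMap k F c) = 1 := by
  apply le_antisymm (hv c)
  have h1 := hv c⁻¹
  have hne : algebraMap k F c ≠ 0 := by simpa using hc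
  rw [map_inv₀, map_inv₀] at h1
  have hv0 : v (algebraMap k F c) ≠ 0 := (Valuation.ne_zero_iff _).mpr hne
  rwa [inv_le_one₀ (zero_lt_iff.2 hv0)] at h1

theorem val_aeval_le_one (hv : ∀ c : k, v (algebraMap k F c) ≤ 1) {t : F} (ht : v t ≤ 1)
    (q : k[X]) : v (aeval t q) ≤ 1 := by
  rw [aeval_def, eval₂_eq_sum_range]
  refine v.map_sum_le fun i _ => ?_
  rw [map_mul, map_pow]
  exact mul_le_one' (hv _) (pow_le_one₀ zero_le ht)

theorem val_aeval_le (hv : ∀ c : k, v (algebraMap k F c) ≤ 1) {t : F} (ht : v t < 1)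
    {q : k[X]} (hq : q.coeff 0 = 0) : v (aeval t q) ≤ v t := by
  conv_lhs => rw [← divX_mul_X_add q, hq]
  simp only [map_mul, aeval_X, map_zero, add_zero]
  calc v (aeval t q.divX) * v t ≤ 1 * v t :=
        mul_le_mul' (val_aeval_le_one v hv ht.le _) le_rfl
    _ = v t := one_mul _

theorem val_aeval_eq_one (hv : ∀ c : k, v (algebraMap k F c) ≤ 1) {t : F} (ht : v t < 1)
    {q : k[X]} (hq : q.coeff 0 ≠ 0) : v (aeval t q) = 1 := by
  conv_lhs => rw [← divX_mul_X_add q]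
  simp only [map_add, map_mul, aeval_X, aeval_C]
  have h1 : v (aeval t q.divX * t) < v (algebraMap k F (q.coeff 0)) := by
    rw [val_const v hv hq, map_mul]
    calc v (aeval t q.divX) * v t ≤ 1 * v t :=
          mul_le_mul' (val_aeval_le_one v hv ht.le _) le_rfl
      _ = v t := one_mul _
      _ < 1 := ht
  rw [Valuation.map_add_eq_of_lt_right v h1, val_const v hv hq]

/-- `p(t)/q(t)` with `p(0), q(0) ≠ 0` is congruent to the constant `p(0)/q(0)`. -/
theorem val_div_sub_const_lt (hv : ∀ c : k, v (algebraMap k F c) ≤ 1) {t : F} (ht : v t < 1)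
    {p q : k[X]} (hq : q.coeff 0 ≠ 0) :
    v (aeval t p / aeval t q - algebraMap k F (p.coeff 0 / q.coeff 0)) < 1 := by
  have hq1 : v (aeval t q) = 1 := val_aeval_eq_one v hv ht hq
  have hq0 : aeval t q ≠ 0 := by
    intro h
    rw [h, map_zero] at hq1
    exact zero_ne_one hq1
  have hc0 : algebraMap k F (q.coeff 0) ≠ 0 := by simpa using hq
  have key : aeval t p / aeval t q - algebraMap k F (p.coeff 0 / q.coeff 0) =
      aeval t (p * C (q.coeff 0) - C (p.coeff 0) * q) /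
        (aeval t q * algebraMap k F (q.coeff 0)) := by
    simp only [map_sub, map_mul, aeval_C, map_div₀]
    field_simp
  rw [key, map_div₀, map_mul, hq1, val_const v hv hq, mul_one, div_one]
  refine (val_aeval_le v hv ht ?_).trans_lt ht
  simp [mul_comm]

end gen

section adjoin

variable {k K : Type*} [Field k] [Field K] [Algebra k K]

/-- Every nonzero element of `k(x)` is `x^m p(x)/q(x)` with `p(0), q(0) ≠ 0`. -/
theorem exists_decomp {x : K} (hx0 : x ≠ 0) (y : k⟮x⟯) (hy0 : y ≠ 0) :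
    ∃ (m : ℤ) (p q : k[X]), p.coeff 0 ≠ 0 ∧ q.coeff 0 ≠ 0 ∧
      y = AdjoinSimple.gen k x ^ m *
        (aeval (AdjoinSimple.gen k x) p / aeval (AdjoinSimple.gen k x) q) := by
  set g := AdjoinSimple.gen k x with hg
  have hg0 : g ≠ 0 := by
    intro h
    apply hx0
    have := congrArg (fun z : k⟮x⟯ => (z : K)) h
    exact this
  obtain ⟨r, s, hrs⟩ := (mem_adjoin_simple_iff k (y : K)).1 y.2
  have hy : y = aeval g r / aeval g s := by
    apply Subtype.ext
    rw [hrs]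
    push_cast
    rw [hg, AdjoinSimple.coe_aeval_gen_apply, AdjoinSimple.coe_aeval_gen_apply]
  have hr0 : r ≠ 0 := by
    rintro rfl
    rw [map_zero, zero_div] at hy
    exact hy0 hy
  have hs0 : s ≠ 0 := by
    rintro rfl
    rw [map_zero, div_zero] at hy
    exact hy0 hy
  obtain ⟨r₁, hr₁, hr₁'⟩ := exists_eq_pow_rootMultiplicity_mul_and_not_dvd r hr0 0
  obtain ⟨s₁, hs₁, hs₁'⟩ := exists_eq_pow_rootMultiplicity_mul_and_not_dvd s hs0 0
  rw [map_zero, sub_zero] at hr₁ hr₁' hs₁ hs₁'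
  rw [X_dvd_iff] at hr₁' hs₁'
  refine ⟨(rootMultiplicity 0 r : ℤ) - (rootMultiplicity 0 s : ℤ), r₁, s₁, hr₁', hs₁', ?_⟩
  rw [hy]
  conv_lhs => rw [hr₁, hs₁]
  simp only [map_mul, map_pow, aeval_X]
  rw [zpow_sub₀ hg0, zpow_natCast, zpow_natCast]
  have hs10 : aeval g s₁ ≠ 0 := by
    intro h
    rw [hs₁, map_mul, h, mul_zero, div_zero] at hy
    exact hy0 hy
  field_simp

/-- A valuation of `k(x)`, trivial on `k` and with `v x < 1`, is determined by `v x`. -/
theorem val_eq_zpow {x : K} (hx0 : x ≠ 0) (y : k⟮x⟯) (hy0 : y ≠ 0) :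
    ∃ (m : ℤ) (c : k), ∀ v : Valuation k⟮x⟯ ℤᵐ⁰, (∀ c : k, v (algebraMap k k⟮x⟯ c) ≤ 1) →
      v (AdjoinSimple.gen k x) < 1 →
      v y = v (AdjoinSimple.gen k x) ^ m ∧ (m = 0 → v (y - algebraMap k k⟮x⟯ c) < 1) := by
  obtain ⟨m, p, q, hp, hq, hy⟩ := exists_decomp hx0 y hy0
  refine ⟨m, p.coeff 0 / q.coeff 0, fun v hv hg => ⟨?_, ?_⟩⟩
  · rw [hy, map_mul, map_zpow₀, map_div₀, val_aeval_eq_one v hv hg hp,
      val_aeval_eq_one v hv hg hq, div_one, mul_one]
  · intro hm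
    rw [hy, hm, zpow_zero, one_mul]
    exact val_div_sub_const_lt v hv hg hq

end adjoin

section places

open FunFld IsLocalRing

variable {k K : Type*} [Field k] [Field K] [Algebra k K]

theorem gen_ne_zero {x : K} (hx0 : x ≠ 0) : AdjoinSimple.gen k x ≠ 0 := by
  intro h
  apply hx0
  have := congrArg (fun z : k⟮x⟯ => (z : K)) h
  exact this

/-- A place of `k(x)` with `x` in its maximal ideal has `x` as a uniformizer. -/
theorem val_gen_eq {x : K} (hx0 : x ≠ 0) (R : Place k k⟮x⟯)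
    (h : R.1 (AdjoinSimple.gen k x) < 1) : R.1 (AdjoinSimple.gen k x) = exp (-1) := by
  have hg0 := gen_ne_zero (k := k) hx0
  have hv0 : R.1 (AdjoinSimple.gen k x) ≠ 0 := (Valuation.ne_zero_iff _).2 hg0
  obtain ⟨b, hb⟩ : ∃ b : ℤ, R.1 (AdjoinSimple.gen k x) = exp b := ⟨_, (exp_log hv0).symm⟩
  have hb0 : b < 0 := by
    rw [hb, ← exp_zero, exp_lt_exp] at h
    exact h
  obtain ⟨y, hy⟩ := R.2.2 (exp (-1))
  have hy0 : y ≠ 0 := by
    rintro rfl
    rw [map_zero] at hy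
    exact exp_ne_zero hy.symm
  obtain ⟨m, c, hmc⟩ := val_eq_zpow hx0 y hy0
  have h1 := (hmc R.1 R.2.1 h).1
  rw [hy, hb, ← exp_zsmul, exp_inj, smul_eq_mul] at h1
  rw [hb, exp_inj]
  have hm : 0 < m := by
    by_contra hm
    push Not at hm
    nlinarith
  nlinarith

theorem place_eq_of_gen_lt_one {x : K} (hx0 : x ≠ 0) (R R' : Place k k⟮x⟯)
    (h : R.1 (AdjoinSimple.gen k x) < 1) (h' : R'.1 (AdjoinSimple.gen k x) < 1) : R = R' := by
  apply place_ext
  intro y
  obtain rfl | hy0 := eq_or_ne y 0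
  · rw [map_zero, map_zero]
  obtain ⟨m, c, hmc⟩ := val_eq_zpow hx0 y hy0
  rw [(hmc R.1 R.2.1 h).1, (hmc R'.1 R'.2.1 h').1, val_gen_eq hx0 R h, val_gen_eq hx0 R' h']

theorem deg_eq_one_of_gen_lt_one {x : K} (hx0 : x ≠ 0) (R : Place k k⟮x⟯)
    (h : R.1 (AdjoinSimple.gen k x) < 1) : R.deg = 1 := by
  have hgen := val_gen_eq hx0 R h
  change Module.finrank k (ResidueField R.O) = 1
  rw [finrank_eq_one_iff_of_nonzero' (1 : ResidueField R.O) one_ne_zero]
  intro w
  obtain ⟨y, rfl⟩ := residue_surjective w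
  have key : ∃ c : k, R.1 ((y : k⟮x⟯) - algebraMap k k⟮x⟯ c) < 1 := by
    obtain hy0 | hy0 := eq_or_ne (y : k⟮x⟯) 0
    · refine ⟨0, ?_⟩
      rw [hy0, map_zero, sub_zero, map_zero]
      exact zero_lt_one
    obtain ⟨m, c, hmc⟩ := val_eq_zpow hx0 (y : k⟮x⟯) hy0
    obtain ⟨h1, h2⟩ := hmc R.1 R.2.1 h
    have hy1 : R.1 (y : k⟮x⟯) ≤ 1 := y.2
    rw [h1, hgen, ← exp_zsmul, ← exp_zero, exp_le_exp, smul_eq_mul] at hy1
    by_cases hm : m = 0
    · exact ⟨c, h2 hm⟩
    · refine ⟨0, ?_⟩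
      rw [map_zero, sub_zero, h1, hgen, ← exp_zsmul, ← exp_zero, exp_lt_exp, smul_eq_mul]
      omega
  obtain ⟨c, hc⟩ := key
  refine ⟨c, ?_⟩
  have hmem : y - algebraMap k R.O c ∈ maximalIdeal R.O := by
    rw [Valuation.mem_maximalIdeal_iff]
    exact hc
  have : residue R.O (y - algebraMap k R.O c) = 0 := (residue_eq_zero_iff _).2 hmem
  rw [map_sub, sub_eq_zero] at this
  rw [this]
  refine Eq.trans (b := residue R.O (c • (1 : R.O))) rfl ?_
  rw [Algebra.smul_def, mul_one]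

/-- All zeros of `x` lie over one place of `k(x)`, of degree one, with `e = ord x`. -/
theorem exists_place_below_zeros {x : K} [FiniteDimensional k⟮x⟯ K] (hx0 : x ≠ 0)
    (P₁ : Place k K) (h₁ : P₁.1 x < 1) :
    ∃ R : Place k k⟮x⟯, R.deg = 1 ∧ R.1 (AdjoinSimple.gen k x) = exp (-1) ∧
      ∀ P : Place k K, P.1 x < 1 → IsOverWith P R (P.ord x).toNat ∧ 0 < P.ord x := by
  obtain ⟨R, e₁, hR⟩ := exists_isOver_below (K := k⟮x⟯) P₁
  have he₁ := isOverWith_ne_zero hR
  have hRg : R.1 (AdjoinSimple.gen k x) < 1 := by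
    have := hR (AdjoinSimple.gen k x)
    rw [AdjoinSimple.algebraMap_gen] at this
    rw [this] at h₁
    by_contra hcon
    push Not at hcon
    exact absurd h₁ (not_lt.2 (one_le_pow₀ hcon))
  refine ⟨R, deg_eq_one_of_gen_lt_one hx0 R hRg, val_gen_eq hx0 R hRg, ?_⟩
  intro P hP
  obtain ⟨R', e, hR'⟩ := exists_isOver_below (K := k⟮x⟯) P
  have he := isOverWith_ne_zero hR'
  have hx' := hR' (AdjoinSimple.gen k x)
  rw [AdjoinSimple.algebraMap_gen] at hx'
  have hR'g : R'.1 (AdjoinSimple.gen k x) < 1 := by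
    rw [hx'] at hP
    by_contra hcon
    push Not at hcon
    exact absurd hP (not_lt.2 (one_le_pow₀ hcon))
  have hRR' : R' = R := place_eq_of_gen_lt_one hx0 R' R hR'g hRg
  subst hRR'
  have hord : P.ord x = e := by
    unfold Place.ord
    rw [hx', val_gen_eq hx0 R' hR'g, ← exp_nsmul, log_exp]
    simp
  rw [hord]
  refine ⟨?_, by omega⟩
  rw [Int.toNat_natCast]
  exact hR'

/-- The zeros of `x` contribute at most `[K : k(x)]`. -/
theorem sum_ord_mul_deg_le {x : K} [FiniteDimensional k⟮x⟯ K] (hx0 : x ≠ 0)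
    (Ps : Finset (Place k K)) (hPs : ∀ P ∈ Ps, P.1 x < 1) :
    ∑ P ∈ Ps, P.ord x * (P.deg : ℤ) ≤ Module.finrank k⟮x⟯ K := by
  obtain rfl | ⟨P₁, hP₁⟩ := Ps.eq_empty_or_nonempty
  · simp
  obtain ⟨R, hdeg, -, hR⟩ := exists_place_below_zeros hx0 P₁ (hPs P₁ hP₁)
  have key := sum_mul_deg_le R Ps (fun P => (P.ord x).toNat) (fun P hP => (hR P (hPs P hP)).1)
  rw [hdeg, mul_one] at key
  have : ∑ P ∈ Ps, P.ord x * (P.deg : ℤ) = ((∑ P ∈ Ps, (P.ord x).toNat * P.deg : ℕ) : ℤ) := by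
    push_cast
    refine Finset.sum_congr rfl fun P hP => ?_
    rw [Int.toNat_of_nonneg (hR P (hPs P hP)).2.le]
  rw [this]
  exact_mod_cast key

/-- A nonzero `x` with `K/k(x)` finite has finitely many zeros. -/
theorem finite_zeros {x : K} [FiniteDimensional k⟮x⟯ K] (hx0 : x ≠ 0) :
    {P : Place k K | P.1 x < 1}.Finite := by
  obtain h | ⟨P₁, hP₁⟩ := Set.eq_empty_or_nonempty {P : Place k K | P.1 x < 1}
  · rw [h]; exact Set.finite_empty
  obtain ⟨R, -, -, hR⟩ := exists_place_below_zeros hx0 P₁ hP₁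
  refine (finite_setOf_isOver (K' := K) R).subset ?_
  intro P hP
  exact ⟨_, (hR P hP).1⟩

end places

end Groth.Agent.Lib.Helper63.ZerosBound
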