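import Groth.Agent.Lib.Helper63.SepVar
import Groth.Agent.Lib.Helper63.FiniteRamified
import Groth.Agent.Lib.Helper63.ZerosBound
import Groth.Agent.Lib.Helper55.FunFld.Approx
import Groth.Agent.Lib.Helper55.FunFld.AffineRing
import Groth.Agent.Lib.Helper55.FunFld.ProjMap

/-! A generator `y` of `K/k(x)` such that `1, x, y` span local parameters everywhere
(helper63). -/

set_option autoImplicit false
set_option linter.style.haveILetI false
set_option linter.unusedSectionVars false

namespace Groth.Agent.Lib.Helper63.LocalParamSpan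

open WithZero IntermediateField FunFld Groth.Agent.Lib.Helper55 Groth.Agent.Lib.Helper63.SepVar
  Groth.Agent.Lib.Helper63.ZerosBound

universe u v

variable {k : Type u} {K : Type v} [Field k] [Field K] [Algebra k K]

/-- Elements with valuation at most `exp n` at all places of a finite set. -/
def valSub (S : Finset (Place k K)) (n : ℤ) : Submodule k K where
  carrier := {y | ∀ P ∈ S, P.1 y ≤ exp n}
  add_mem' := by
    intro a b ha hb P hP
    exact (P.1.map_add a b).trans (max_le (ha P hP) (hb P hP))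
  zero_mem' := by
    intro P _
    rw [map_zero]
    exact zero_le
  smul_mem' := by
    intro c y hy P hP
    rw [Algebra.smul_def, map_mul]
    exact (mul_le_mul' (P.2.1 c) (hy P hP)).trans_eq (one_mul _)

theorem mem_valSub {S : Finset (Place k K)} {n : ℤ} {y : K} :
    y ∈ valSub S n ↔ ∀ P ∈ S, P.1 y ≤ exp n := Iff.rfl

/-- A variant of `exists_mem_adjoin_pair_eq_top` avoiding finitely many further proper
subspaces. -/
theorem exists_mem_adjoin_pair_eq_top' [Infinite k] (hK : IsFunctionField k K) (W : Submodule k K)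
    (hW : adjoin k (W : Set K) = ⊤) {x : K} (hsep : Algebra.IsSeparable k⟮x⟯ K)
    (t : Finset (Submodule k W)) (ht : ⊤ ∉ t) :
    ∃ y : W, (∀ q ∈ t, y ∉ q) ∧ adjoin k ({x, (y : K)} : Set K) = ⊤ := by
  classical
  have hx := transcendental_of_isSeparable hK hsep
  haveI : FiniteDimensional k⟮x⟯ K := ff_finite_of_transcendental hK hx
  haveI : Finite (IntermediateField k⟮x⟯ K) :=
    Field.finite_intermediateField_of_exists_primitive_element k⟮x⟯ K
      (Field.exists_primitive_element k⟮x⟯ K)
  haveI := Fintype.ofFinite (IntermediateField k⟮x⟯ K)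
  let p : IntermediateField k⟮x⟯ K → Submodule k W := fun L =>
    Submodule.comap W.subtype (L.restrictScalars k).toSubalgebra.toSubmodule
  let s : Finset (Submodule k W) :=
    (Finset.univ.filter fun L : IntermediateField k⟮x⟯ K => L ≠ ⊤).image p
  have hs : ⊤ ∉ s := by
    intro htop
    obtain ⟨L, hL, hpL⟩ := Finset.mem_image.1 htop
    have hLne : L ≠ ⊤ := (Finset.mem_filter.1 hL).2
    apply hLne
    have hsub : (W : Set K) ⊆ (L.restrictScalars k : Set K) := by
      intro w hw
      have : (⟨w, hw⟩ : W) ∈ p L := by rw [hpL]; trivial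
      exact this
    have h1 : adjoin k (W : Set K) ≤ L.restrictScalars k := adjoin_le_iff.2 hsub
    rw [hW] at h1
    rw [eq_top_iff]
    intro z _
    exact h1 (mem_top : z ∈ (⊤ : IntermediateField k K))
  have hst : ⊤ ∉ s ∪ t := by
    rw [Finset.mem_union]
    rintro (h | h)
    · exact hs h
    · exact ht h
  have hne := Subspace.biUnion_ne_univ_of_top_notMem hst
  obtain ⟨y, hy⟩ : ∃ y : W, y ∉ ⋃ q ∈ s ∪ t, (q : Set W) := by
    by_contra hcon
    push Not at hcon
    exact hne (Set.eq_univ_of_forall hcon)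
  simp only [Set.mem_iUnion, not_exists] at hy
  refine ⟨y, fun q hq hyq => hy q (Finset.mem_union_right _ hq) hyq, ?_⟩
  have htop : k⟮x⟯⟮(y : K)⟯ = ⊤ := by
    by_contra hL
    apply hy (p k⟮x⟯⟮(y : K)⟯) (Finset.mem_union_left _ (Finset.mem_image.2
      ⟨_, Finset.mem_filter.2 ⟨Finset.mem_univ _, hL⟩, rfl⟩))
    exact mem_adjoin_simple_self k⟮x⟯ (y : K)
  have := adjoin_simple_adjoin_simple k x (y : K)
  rw [htop, restrictScalars_top] at this
  exact this.symm

/-- At a place unramified over `k(x)` a zero of `x - a` is simple. -/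
theorem val_sub_const_eq {x : K} (hx : Transcendental k x) (P : Place k K)
    (hsurj : Function.Surjective (P.1.comap (algebraMap k⟮x⟯ K))) (a : k)
    (h : P.1 (x - algebraMap k K a) < 1) : P.1 (x - algebraMap k K a) = exp (-1) := by
  set x' := x - algebraMap k K a with hx'
  have hx0 : x' ≠ 0 := by
    intro h0
    apply hx
    have : x = algebraMap k K a := sub_eq_zero.1 h0
    rw [this]
    exact isAlgebraic_algebraMap a
  have hle : k⟮x⟯ ≤ k⟮x'⟯ := by
    rw [adjoin_simple_le_iff]
    have h1 : x = x' + algebraMap k K a := by rw [hx']; ring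
    rw [h1]
    exact add_mem (mem_adjoin_simple_self k x') (IntermediateField.algebraMap_mem _ a)
  have hsurj' : Function.Surjective (P.1.comap (algebraMap k⟮x'⟯ K)) := by
    intro γ
    obtain ⟨z, hz⟩ := hsurj γ
    exact ⟨⟨(z : K), hle z.2⟩, hz⟩
  let R' : Place k k⟮x'⟯ := ⟨P.1.comap (algebraMap k⟮x'⟯ K), fun c => by
    change P.1 (algebraMap k⟮x'⟯ K (algebraMap k k⟮x'⟯ c)) ≤ 1
    rw [← IsScalarTower.algebraMap_apply]
    exact P.2.1 c, hsurj'⟩
  have := val_gen_eq hx0 R' h
  exact this

theorem exists_generator [IsAlgClosed k] (hK : IsFunctionField k K) (x : K)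
    (hsep : Algebra.IsSeparable k⟮x⟯ K) :
    ∃ y : K, adjoin k ({x, y} : Set K) = ⊤ ∧ ∀ P : Place k K,
      ∃ f ∈ Submodule.span k ({1, x, y} : Set K), P.1 f = exp (-1) := by
  classical
  have hx := transcendental_of_isSeparable hK hsep
  haveI : FiniteDimensional k⟮x⟯ K := ff_finite_of_transcendental hK hx
  have hK₀ := ff_isFunctionField_adjoin_simple hK hx
  haveI : Infinite k := IsAlgClosed.instInfinite
  have hS₁ := Groth.Agent.Lib.Helper63.FiniteRamified.finite_poles hK x
  have hS₂ := Groth.Agent.Lib.Helper63.FiniteRamified.finite_ramified (K := k⟮x⟯) (K' := K) hK₀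
  set S : Finset (Place k K) := (hS₁.union hS₂).toFinset with hS
  have hmemS : ∀ P, P ∈ S ↔
      (1 < P.1 x ∨ ¬ Function.Surjective (P.1.comap (algebraMap k⟮x⟯ K))) := by
    intro P
    rw [hS, Set.Finite.mem_toFinset]
    rfl
  let W := valSub S (-1)
  have hW : adjoin k (W : Set K) = ⊤ := by
    rw [eq_top_iff]
    intro z _
    by_cases hSe : S = ∅
    · apply subset_adjoin
      intro P hP
      rw [hSe] at hP
      exact absurd hP (Finset.notMem_empty P)
    obtain ⟨P₁, hP₁⟩ := Finset.nonempty_iff_ne_empty.2 hSe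
    by_cases hz : z = 0
    · rw [hz]; exact zero_mem _
    obtain ⟨u, hu⟩ := ff_weak_approx_eq S (fun _ => (0 : K)) (fun P => -1 - |log (P.1 z)|)
    have hu' : ∀ P ∈ S, P.1 u = exp (-1 - |log (P.1 z)|) := by
      intro P hP
      simpa using hu P hP
    have huW : u ∈ W := fun P hP => by
      rw [hu' P hP, exp_le_exp]
      have := abs_nonneg (log (P.1 z))
      linarith
    have huzW : u * z ∈ W := fun P hP => by
      rw [map_mul, hu' P hP]
      have hz0 : P.1 z ≠ 0 := (Valuation.ne_zero_iff _).2 hz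
      obtain ⟨m, hm⟩ : ∃ m : ℤ, P.1 z = exp m := ⟨_, (exp_log hz0).symm⟩
      rw [hm, log_exp, ← exp_add, exp_le_exp]
      have := le_abs_self m
      linarith
    have hu0 : u ≠ 0 := by
      intro h0
      have := hu' P₁ hP₁
      rw [h0, map_zero] at this
      exact exp_ne_zero this.symm
    have h1 : z = u * z / u := by field_simp
    rw [h1]
    exact div_mem (subset_adjoin k _ huzW) (subset_adjoin k _ huW)
  let t : Finset (Submodule k W) :=
    S.image (fun P => Submodule.comap W.subtype (valSub {P} (-2)))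
  have ht : ⊤ ∉ t := by
    intro h
    obtain ⟨P, hP, hPtop⟩ := Finset.mem_image.1 h
    obtain ⟨u, hu⟩ := ff_weak_approx_eq S (fun _ => (0 : K)) (fun _ => -1)
    have hu' : ∀ P ∈ S, P.1 u = exp (-1) := by
      intro P hP
      simpa using hu P hP
    have huW : u ∈ W := fun P hP => (hu' P hP).le
    have h1 : (⟨u, huW⟩ : W) ∈ Submodule.comap W.subtype (valSub {P} (-2)) := by
      rw [hPtop]; trivial
    have h2 : P.1 u ≤ exp (-2) := h1 P (Finset.mem_singleton_self P)
    rw [hu' P hP, exp_le_exp] at h2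
    omega
  obtain ⟨y, hyt, htop⟩ := exists_mem_adjoin_pair_eq_top' hK W hW hsep t ht
  refine ⟨y, htop, fun P => ?_⟩
  by_cases hP : P ∈ S
  · refine ⟨y, Submodule.subset_span (by simp), ?_⟩
    have h1 : P.1 (y : K) ≤ exp (-1) := y.2 P hP
    have h2 : ¬ P.1 (y : K) ≤ exp (-2) := by
      intro h2
      apply hyt _ (Finset.mem_image.2 ⟨P, hP, rfl⟩)
      intro P' hP'
      rw [Finset.mem_singleton.1 hP']
      exact h2
    have h3 : P.1 (y : K) ≠ 0 := fun h0 => h2 (by rw [h0]; exact zero_le)
    obtain ⟨m, hm⟩ : ∃ m : ℤ, P.1 (y : K) = exp m := ⟨_, (exp_log h3).symm⟩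
    rw [hm, exp_le_exp] at h1 h2
    rw [hm]
    congr 1
    omega
  · rw [hmemS] at hP
    push Not at hP
    obtain ⟨hpole, hsurj⟩ := hP
    obtain ⟨a, ha⟩ := ff_exists_const_approx hK P hpole
    refine ⟨x - algebraMap k K a, ?_, val_sub_const_eq hx P hsurj a ha⟩
    have h1 : x - algebraMap k K a = x - a • (1 : K) := by rw [Algebra.smul_def, mul_one]
    rw [h1]
    exact sub_mem (Submodule.subset_span (by simp))
      (Submodule.smul_mem _ _ (Submodule.subset_span (by simp)))

end Groth.Agent.Lib.Helper63.LocalParamSpan
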