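import Groth.Agent.Lib.Helper63.ZerosBound
import Groth.Agent.Lib.Helper63.ConstField
import Mathlib.FieldTheory.RatFunc.IntermediateField
import Mathlib.Algebra.Polynomial.Reverse

/-! Places of the rational function field `k(X)` (helper63). -/

set_option autoImplicit false
set_option linter.style.haveILetI false

namespace Groth.Agent.Lib.Helper63.RatFuncPlaces

open WithZero Polynomial IntermediateField FunFld Groth.Agent.Lib.Helper55
  Groth.Agent.Lib.Helper63.ZerosBound

local notation "ℤᵐ⁰" => WithZero (Multiplicative ℤ)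

section gen

variable {k F : Type*} [Field k] [Field F] [Algebra k F] (v : Valuation F ℤᵐ⁰)

/-- At a pole `t` of `v`, the leading term of a polynomial dominates. -/
theorem val_aeval_of_one_lt (hv : ∀ c : k, v (algebraMap k F c) ≤ 1) {t : F} (ht : 1 < v t)
    {g : k[X]} (hg : g ≠ 0) : v (aeval t g) = v t ^ g.natDegree := by
  have ht0 : t ≠ 0 := by
    intro h
    rw [h, map_zero] at ht
    exact not_lt_zero ht
  letI : Invertible t := invertibleOfNonzero ht0
  have h1 := eval₂_reverse_mul_pow (algebraMap k F) t g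
  rw [← aeval_def, ← aeval_def] at h1
  rw [← h1, map_mul, map_pow]
  have h2 : v (⅟t) < 1 := by
    rw [invOf_eq_inv, map_inv₀]
    exact inv_lt_one_of_one_lt₀ ht
  rw [val_aeval_eq_one v hv h2 (by rw [coeff_zero_reverse]; exact leadingCoeff_ne_zero.2 hg),
    one_mul]

theorem val_le_one_of_val_aeval_lt_one (hv : ∀ c : k, v (algebraMap k F c) ≤ 1) {t : F}
    {p : k[X]} (hp0 : p ≠ 0) (hp : v (aeval t p) < 1) : v t ≤ 1 := by
  by_contra h
  push Not at h
  rw [val_aeval_of_one_lt v hv h hp0] at hp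
  exact absurd hp (not_lt.2 (one_le_pow₀ h.le))

theorem val_aeval_eq_one_of_isCoprime (hv : ∀ c : k, v (algebraMap k F c) ≤ 1) {t : F}
    {p g : k[X]} (hp0 : p ≠ 0) (hp : v (aeval t p) < 1) (hpg : IsCoprime p g) :
    v (aeval t g) = 1 := by
  have ht := val_le_one_of_val_aeval_lt_one v hv hp0 hp
  apply le_antisymm (val_aeval_le_one v hv ht g)
  by_contra h
  push Not at h
  obtain ⟨a, b, hab⟩ := hpg
  have h1 : v (aeval t (a * p + b * g)) < 1 := by
    rw [map_add, map_mul, map_mul]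
    refine (v.map_add _ _).trans_lt (max_lt ?_ ?_)
    · rw [map_mul]
      exact (mul_le_of_le_one_left zero_le (val_aeval_le_one v hv ht a)).trans_lt hp
    · rw [map_mul]
      exact (mul_le_of_le_one_left zero_le (val_aeval_le_one v hv ht b)).trans_lt h
  rw [hab, map_one, map_one] at h1
  exact lt_irrefl _ h1

end gen

variable {k : Type*} [Field k]

theorem isFunctionField_ratFunc : IsFunctionField k (RatFunc k) := by
  refine ⟨⟨RatFunc.X, ?_, ?_⟩, ?_⟩
  · apply RatFunc.transcendental_of_ne_C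
    rintro ⟨c, hc⟩
    have := congrArg RatFunc.num hc
    rw [RatFunc.num_X, RatFunc.num_C] at this
    have h2 := congrArg Polynomial.natDegree this
    rw [natDegree_X, natDegree_C] at h2
    exact one_ne_zero h2
  · rw [RatFunc.adjoin_X]
    exact Module.Finite.of_surjective
      (Algebra.linearMap (⊤ : IntermediateField k (RatFunc k)) (RatFunc k))
      (fun y => ⟨⟨y, IntermediateField.mem_top⟩, rfl⟩)
  · intro y hy
    by_contra h
    have : ¬ ∃ c, y = RatFunc.C c := by
      rintro ⟨c, rfl⟩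
      exact h ⟨c, rfl⟩
    exact RatFunc.transcendental_of_ne_C y this hy

section deg

variable {F : Type*} [Field F] [Algebra k F]

open IsLocalRing in
/-- A place all of whose integral elements are congruent to constants has degree one. -/
theorem deg_eq_one_of_forall_exists_const (P : Place k F)
    (h : ∀ y : F, P.1 y ≤ 1 → ∃ c : k, P.1 (y - algebraMap k F c) < 1) : P.deg = 1 := by
  change Module.finrank k (ResidueField P.O) = 1
  rw [finrank_eq_one_iff_of_nonzero' (1 : ResidueField P.O) one_ne_zero]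
  intro w
  obtain ⟨y, rfl⟩ := residue_surjective w
  obtain ⟨c, hc⟩ := h y.1 y.2
  refine ⟨c, ?_⟩
  have hmem : y - algebraMap k P.O c ∈ maximalIdeal P.O := by
    rw [Valuation.mem_maximalIdeal_iff]
    exact hc
  have : residue P.O (y - algebraMap k P.O c) = 0 := (residue_eq_zero_iff _).2 hmem
  rw [map_sub, sub_eq_zero] at this
  rw [this]
  refine Eq.trans (b := residue P.O (c • (1 : P.O))) rfl ?_
  rw [Algebra.smul_def, mul_one]

end deg

section places

variable (P : Place k (RatFunc k))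

theorem val_algebraMap_eq (g : k[X]) :
    P.1 (algebraMap k[X] (RatFunc k) g) = P.1 (aeval (RatFunc.X : RatFunc k) g) := by
  rw [RatFunc.aeval_X_left_eq_algebraMap]

/-- Finite places: polynomials are integral. -/
theorem val_poly_le_one (hX : P.1 RatFunc.X ≤ 1) (g : k[X]) :
    P.1 (algebraMap k[X] (RatFunc k) g) ≤ 1 := by
  rw [val_algebraMap_eq]
  exact val_aeval_le_one P.1 P.2.1 hX g

theorem val_X_le_one_of_poly {p : k[X]} (hp0 : p ≠ 0)
    (hp : P.1 (algebraMap k[X] (RatFunc k) p) < 1) : P.1 RatFunc.X ≤ 1 := by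
  rw [val_algebraMap_eq] at hp
  exact val_le_one_of_val_aeval_lt_one P.1 P.2.1 hp0 hp

theorem val_poly_eq_one_of_isCoprime {p g : k[X]} (hp0 : p ≠ 0)
    (hp : P.1 (algebraMap k[X] (RatFunc k) p) < 1) (hpg : IsCoprime p g) :
    P.1 (algebraMap k[X] (RatFunc k) g) = 1 := by
  rw [val_algebraMap_eq] at hp ⊢
  exact val_aeval_eq_one_of_isCoprime P.1 P.2.1 hp0 hp hpg

/-- The value of a polynomial at the `p`-adic place. -/
theorem val_poly_eq_pow {p : k[X]} (hp : Irreducible p)
    (hpv : P.1 (algebraMap k[X] (RatFunc k) p) < 1) {u : k[X]} (hu : u ≠ 0) :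
    ∃ a : ℕ, P.1 (algebraMap k[X] (RatFunc k) u) =
      P.1 (algebraMap k[X] (RatFunc k) p) ^ a := by
  obtain ⟨a, u', hu', rfl⟩ := WfDvdMonoid.max_power_factor hu hp
  refine ⟨a, ?_⟩
  rw [map_mul, map_pow, map_mul, map_pow,
    val_poly_eq_one_of_isCoprime P hp.ne_zero hpv ((hp.coprime_iff_not_dvd).2 hu'), mul_one]

/-- An irreducible polynomial is a local parameter at its place. -/
theorem val_irreducible {p : k[X]} (hp : Irreducible p)
    (hpv : P.1 (algebraMap k[X] (RatFunc k) p) < 1) :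
    P.1 (algebraMap k[X] (RatFunc k) p) = exp (-1) := by
  obtain ⟨r, hr⟩ := P.2.2 (exp (-1))
  have hp0' : algebraMap k[X] (RatFunc k) p ≠ 0 := by
    rw [Ne, map_eq_zero_iff _ (RatFunc.algebraMap_injective k)]; exact hp.ne_zero
  obtain ⟨c, hc⟩ : ∃ c : ℤ, P.1 (algebraMap k[X] (RatFunc k) p) = exp c :=
    ⟨_, (exp_log ((Valuation.ne_zero_iff _).2 hp0')).symm⟩
  have hr0 : r ≠ 0 := by
    rintro rfl
    rw [map_zero] at hr
    exact exp_ne_zero hr.symm
  have hnum : r.num ≠ 0 := RatFunc.num_ne_zero hr0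
  have hden : r.denom ≠ 0 := RatFunc.denom_ne_zero r
  obtain ⟨a, ha⟩ := val_poly_eq_pow P hp hpv hnum
  obtain ⟨b, hb⟩ := val_poly_eq_pow P hp hpv hden
  rw [← RatFunc.num_div_denom r, map_div₀, ha, hb, hc, ← exp_nsmul, ← exp_nsmul, ← exp_sub,
    exp_inj] at hr
  rw [hc] at hpv ⊢
  rw [← exp_zero, exp_lt_exp] at hpv
  rw [exp_inj]
  simp only [nsmul_eq_mul] at hr
  have h1 : c * ((b : ℤ) - a) = 1 := by linarith
  have h2 : c ∣ 1 := ⟨_, h1.symm⟩
  have h3 := Int.isUnit_iff.1 (isUnit_of_dvd_one h2)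
  omega

/-- The value of a squarefree polynomial at a place over one of its irreducible factors. -/
theorem val_squarefree {p f : k[X]} (hp : Irreducible p) (hf : Squarefree f) (hpf : p ∣ f)
    (hpv : P.1 (algebraMap k[X] (RatFunc k) p) < 1) :
    P.1 (algebraMap k[X] (RatFunc k) f) = exp (-1) := by
  obtain ⟨g, rfl⟩ := hpf
  have hpg : ¬ p ∣ g := by
    intro h
    obtain ⟨g', rfl⟩ := h
    exact hp.not_isUnit (hf p ⟨g', by ring⟩)
  rw [map_mul, map_mul, val_irreducible P hp hpv,
    val_poly_eq_one_of_isCoprime P hp.ne_zero hpv ((hp.coprime_iff_not_dvd).2 hpg), mul_one]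

/-- At the infinite place, the value of a polynomial is given by its degree. -/
theorem val_poly_inf (hX : 1 < P.1 RatFunc.X) {g : k[X]} (hg : g ≠ 0) :
    P.1 (algebraMap k[X] (RatFunc k) g) = P.1 RatFunc.X ^ g.natDegree := by
  rw [val_algebraMap_eq]
  exact val_aeval_of_one_lt P.1 P.2.1 hX hg

/-- `X` has a simple pole at the infinite place. -/
theorem val_X_inf (hX : 1 < P.1 RatFunc.X) : P.1 RatFunc.X = exp 1 := by
  obtain ⟨r, hr⟩ := P.2.2 (exp 1)
  have hX0 : (RatFunc.X : RatFunc k) ≠ 0 := RatFunc.X_ne_zero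
  obtain ⟨c, hc⟩ : ∃ c : ℤ, P.1 (RatFunc.X : RatFunc k) = exp c :=
    ⟨_, (exp_log ((Valuation.ne_zero_iff _).2 hX0)).symm⟩
  have hr0 : r ≠ 0 := by
    rintro rfl
    rw [map_zero] at hr
    exact exp_ne_zero hr.symm
  have hnum : r.num ≠ 0 := RatFunc.num_ne_zero hr0
  have hden : r.denom ≠ 0 := RatFunc.denom_ne_zero r
  rw [← RatFunc.num_div_denom r, map_div₀, val_poly_inf P hX hnum, val_poly_inf P hX hden, hc,
    ← exp_nsmul, ← exp_nsmul, ← exp_sub, exp_inj] at hr
  rw [hc] at hX ⊢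
  rw [← exp_zero, exp_lt_exp] at hX
  rw [exp_inj]
  simp only [nsmul_eq_mul] at hr
  have h1 : c * ((r.num.natDegree : ℤ) - r.denom.natDegree) = 1 := by linarith
  have h2 : c ∣ 1 := ⟨_, h1.symm⟩
  have h3 := Int.isUnit_iff.1 (isUnit_of_dvd_one h2)
  omega

theorem val_poly_inf' (hX : 1 < P.1 RatFunc.X) {g : k[X]} (hg : g ≠ 0) :
    P.1 (algebraMap k[X] (RatFunc k) g) = exp (g.natDegree : ℤ) := by
  rw [val_poly_inf P hX hg, val_X_inf P hX, ← exp_nsmul, nsmul_eq_mul, mul_one]

/-- The infinite place has degree one. -/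
theorem deg_inf (hX : 1 < P.1 RatFunc.X) : P.deg = 1 := by
  apply deg_eq_one_of_forall_exists_const
  intro r hr
  obtain rfl | hr0 := eq_or_ne r 0
  · exact ⟨0, by simp⟩
  have hnum : r.num ≠ 0 := RatFunc.num_ne_zero hr0
  have hden : r.denom ≠ 0 := RatFunc.denom_ne_zero r
  have hX0 : (RatFunc.X : RatFunc k) ≠ 0 := RatFunc.X_ne_zero
  have hval : P.1 r = exp ((r.num.natDegree : ℤ) - r.denom.natDegree) := by
    conv_lhs => rw [← RatFunc.num_div_denom r]
    rw [map_div₀, val_poly_inf' P hX hnum, val_poly_inf' P hX hden, ← exp_sub]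
  rw [hval, ← exp_zero, exp_le_exp] at hr
  rcases lt_or_eq_of_le hr with h | h
  · refine ⟨0, ?_⟩
    rw [map_zero, sub_zero, hval, ← exp_zero, exp_lt_exp]
    exact h
  · have hdeg : r.num.natDegree = r.denom.natDegree := by omega
    letI : Invertible (RatFunc.X : RatFunc k) := invertibleOfNonzero hX0
    have h1 := eval₂_reverse_mul_pow (algebraMap k (RatFunc k)) RatFunc.X r.num
    have h2 := eval₂_reverse_mul_pow (algebraMap k (RatFunc k)) RatFunc.X r.denom
    rw [← aeval_def, ← aeval_def, RatFunc.aeval_X_left_eq_algebraMap] at h1 h2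
    have ht : P.1 (⅟(RatFunc.X : RatFunc k)) < 1 := by
      rw [invOf_eq_inv, map_inv₀]
      exact inv_lt_one_of_one_lt₀ hX
    have h3 := val_div_sub_const_lt P.1 P.2.1 ht (p := r.num.reverse) (q := r.denom.reverse)
      (by rw [coeff_zero_reverse]; exact leadingCoeff_ne_zero.2 hden)
    refine ⟨r.num.reverse.coeff 0 / r.denom.reverse.coeff 0, ?_⟩
    have h4 : r = (aeval ⅟(RatFunc.X : RatFunc k)) r.num.reverse /
        (aeval ⅟(RatFunc.X : RatFunc k)) r.denom.reverse := by
      conv_lhs => rw [← RatFunc.num_div_denom r, ← h1, ← h2, hdeg]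
      rw [mul_div_mul_right _ _ (pow_ne_zero _ hX0)]
    rw [← h4] at h3
    exact h3

end places

end Groth.Agent.Lib.Helper63.RatFuncPlaces
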