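import Groth.Agent.Lib.Helper63.UnramifiedRes
import Groth.Agent.Lib.Helper63.ZerosBound
import Groth.Agent.Lib.Helper63.RatFuncPlaces
import Groth.Agent.Lib.Helper63.SepGen
import Groth.Agent.Lib.Helper55.FunFld.Zeros
import Mathlib.FieldTheory.PrimitiveElement

/-! Infinitely many places with separable residue field in a geometric function field (helper63).
Dedekind-type criterion without discriminants: if `K = k(x)(α)`, `g(x, α) = 0` and `∂g/∂T (x, α)`
is a unit at a place `Q` where `x ≡ c ∈ k` and `α` is integral, then `κ(Q) = k(ᾱ)` is separable. -/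

set_option autoImplicit false
set_option linter.style.haveILetI false

namespace Groth.Agent.Lib.Helper63.SepPlaces

open WithZero Polynomial IntermediateField FunFld IsLocalRing Groth.Agent.Lib.Helper55

local notation "ℤᵐ⁰" => WithZero (Multiplicative ℤ)

variable {k K : Type*} [Field k] [Field K] [Algebra k K]

/-- Evaluation at `x` as a ring hom. -/
noncomputable abbrev evx (x : K) : k[X] →+* K := (aeval x : k[X] →ₐ[k] K).toRingHom

/-- Clearing denominators of a polynomial over `k(x)`. -/
theorem exists_normalize {x : K} (α : K) (r : (k⟮x⟯)[X]) :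
    ∃ b : k[X], aeval x b ≠ 0 ∧ ∃ G : k[X][X],
      eval₂ (evx x) α G = aeval x b * aeval α r ∧
      eval₂ (evx x) α (derivative G) = aeval x b * aeval α (derivative r) := by
  set ι : k[X] →+* k⟮x⟯ := (aeval (AdjoinSimple.gen k x) : k[X] →ₐ[k] k⟮x⟯).toRingHom with hι
  have hιv : ∀ p : k[X], ((ι p : k⟮x⟯) : K) = aeval x p := by
    intro p
    change algebraMap k⟮x⟯ K (aeval (AdjoinSimple.gen k x) p) = _
    rw [← aeval_algebraMap_apply, AdjoinSimple.algebraMap_gen]
  have hcomp : (algebraMap k⟮x⟯ K).comp ι = evx x := by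
    refine RingHom.ext fun p => ?_
    exact hιv p
  have key : ∃ b : k[X], aeval x b ≠ 0 ∧ ∃ G : k[X][X], G.map ι = C (ι b) * r := by
    induction r using Polynomial.induction_on' with
    | add r₁ r₂ h₁ h₂ =>
      obtain ⟨b₁, hb₁, G₁, hG₁⟩ := h₁
      obtain ⟨b₂, hb₂, G₂, hG₂⟩ := h₂
      refine ⟨b₁ * b₂, by rw [map_mul]; exact mul_ne_zero hb₁ hb₂, C b₂ * G₁ + C b₁ * G₂, ?_⟩
      rw [Polynomial.map_add, Polynomial.map_mul, Polynomial.map_mul, map_C, map_C, hG₁, hG₂,
        map_mul, C_mul]
      ring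
    | monomial n y =>
      obtain ⟨a, s, hy⟩ := (IntermediateField.mem_adjoin_simple_iff k (y : K)).1 y.2
      by_cases hs : aeval x s = 0
      · refine ⟨1, by simp, 0, ?_⟩
        have hy0 : y = 0 := by
          apply Subtype.ext
          rw [hy, hs, div_zero]; rfl
        rw [hy0]; simp
      · refine ⟨s, hs, monomial n a, ?_⟩
        rw [map_monomial, C_mul_monomial]
        congr 1
        apply Subtype.ext
        rw [MulMemClass.coe_mul, hιv, hιv, hy]
        field_simp
  obtain ⟨b, hb, G, hG⟩ := key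
  refine ⟨b, hb, G, ?_, ?_⟩
  · rw [← hcomp, ← eval₂_map, hG, eval₂_mul, eval₂_C]
    change ((ι b : k⟮x⟯) : K) * _ = _
    rw [hιv]
    rfl
  · rw [← hcomp, ← eval₂_map, ← derivative_map, hG, derivative_mul, derivative_C, zero_mul,
      zero_add, eval₂_mul, eval₂_C]
    change ((ι b : k⟮x⟯) : K) * _ = _
    rw [hιv]
    rfl

section Local

variable (Q : Place k K) {x : K} {c : k}

theorem val_x_le_one (hxc : Q.1 (x - algebraMap k K c) < 1) : Q.1 x ≤ 1 := by
  have : x = (x - algebraMap k K c) + algebraMap k K c := by ring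
  rw [this]
  exact (Q.1.map_add _ _).trans (max_le hxc.le (Q.2.1 c))

theorem val_evx_le_one (hxc : Q.1 (x - algebraMap k K c) < 1) (r : k[X]) : Q.1 (evx x r) ≤ 1 :=
  Groth.Agent.Lib.Helper63.ZerosBound.val_aeval_le_one Q.1 Q.2.1 (val_x_le_one Q hxc) r

theorem eval_eq_zero_iff (hxc : Q.1 (x - algebraMap k K c) < 1) (r : k[X]) :
    r.eval c = 0 ↔ Q.1 (evx x r) < 1 := by
  have hdecomp : r = (X - C c) * (r /ₘ (X - C c)) + C (r.eval c) := by
    have := modByMonic_add_div r (X - C c)
    rw [modByMonic_X_sub_C_eq_C_eval] at this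
    rw [add_comm]
    exact this.symm
  have hval : evx x r = (x - algebraMap k K c) * aeval x (r /ₘ (X - C c)) +
      algebraMap k K (r.eval c) := by
    conv_lhs => rw [hdecomp]
    simp [evx]
  have h1 : Q.1 ((x - algebraMap k K c) * aeval x (r /ₘ (X - C c))) < 1 := by
    rw [map_mul]
    exact (mul_le_of_le_one_right zero_le (val_evx_le_one Q hxc _)).trans_lt hxc
  constructor
  · intro h0
    rw [hval, h0, map_zero, add_zero]; exact h1
  · intro hlt
    by_contra hne
    have h2 : Q.1 (algebraMap k K (r.eval c)) = 1 := ff_val_const Q hne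
    have h3 : Q.1 (evx x r) = 1 := by
      rw [hval, Valuation.map_add_eq_of_lt_right _ (by rw [h2]; exact h1), h2]
    rw [h3] at hlt
    exact lt_irrefl _ hlt

/-- Dedekind-type separability criterion at a place where `x ≡ c`. -/
theorem isSeparable_residueField_of_unit_derivative
    (hxc : Q.1 (x - algebraMap k K c) < 1) (hxt : x - algebraMap k K c ≠ 0) {α : K}
    (hα : Q.1 α ≤ 1) (hgen : ∀ z : K, ∃ r : (k⟮x⟯)[X], aeval α r = z)
    {g : k[X][X]} (hroot : eval₂ (evx x) α g = 0)
    (hder : Q.1 (eval₂ (evx x) α (derivative g)) = 1) :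
    Algebra.IsSeparable k (ResidueField Q.O) := by
  classical
  have hφ := val_evx_le_one Q hxc
  let φO : k[X] →+* Q.O := (evx x).codRestrict Q.O
    (fun r => (Valuation.mem_valuationSubring_iff _ _).2 (hφ r))
  let αO : Q.O := ⟨α, (Valuation.mem_valuationSubring_iff _ _).2 hα⟩
  let Φ : k[X][X] →+* Q.O := eval₂RingHom φO αO
  have hΦ : ∀ G : k[X][X], ((Φ G : Q.O) : K) = eval₂ (evx x) α G := by
    intro G
    exact hom_eval₂ G φO Q.O.subtype αO
  set res := residue Q.O with hres
  set ᾱ := res αO with hᾱ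
  have hresφ : ∀ p : k[X], res (φO p) = algebraMap k (ResidueField Q.O) (p.eval c) := by
    intro p
    have h0 : (p - C (p.eval c)).eval c = 0 := by simp
    have h1 := (eval_eq_zero_iff Q hxc _).1 h0
    have h2 : res (φO p - algebraMap k Q.O (p.eval c)) = 0 := by
      rw [residue_eq_zero_iff, Valuation.mem_maximalIdeal_iff]
      have : ((φO p - algebraMap k Q.O (p.eval c) : Q.O) : K) = evx x (p - C (p.eval c)) := by
        simp only [map_sub]
        simp [evx, φO]
        rfl
      rw [this]
      exact h1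
    rw [map_sub, sub_eq_zero] at h2
    exact h2
  have hresΦ : ∀ G : k[X][X], res (Φ G) = aeval ᾱ (G.map (evalRingHom c)) := by
    intro G
    have h1 := hom_eval₂ G φO res αO
    have h2 : res.comp φO = (algebraMap k (ResidueField Q.O)).comp (evalRingHom c) :=
      RingHom.ext fun p => hresφ p
    change res (eval₂ φO αO G) = _
    rw [h1, h2, aeval_def, eval₂_map]
  -- the residue subfield
  let E : IntermediateField k (ResidueField Q.O) := k⟮ᾱ⟯
  have hΦE : ∀ G : k[X][X], res (Φ G) ∈ E := by
    intro G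
    rw [hresΦ]
    exact (IntermediateField.algebra_adjoin_le_adjoin k _) (aeval_mem_adjoin_singleton k ᾱ)
  have hφE : ∀ p : k[X], res (φO p) ∈ E := by
    intro p
    rw [hresφ]
    exact E.algebraMap_mem _
  -- application of the criterion
  have hker : ∀ r : k[X], evalRingHom c r = 0 ↔ Q.1 (evx x r) < 1 :=
    fun r => eval_eq_zero_iff Q hxc r
  have ht : ∀ r : k[X], Q.1 (evx x r) < 1 → (X - C c) ∣ r := by
    intro r hr
    rw [dvd_iff_isRoot]
    exact (eval_eq_zero_iff Q hxc r).2 hr
  have hφt : evx x (X - C c) = x - algebraMap k K c := by simp [evx]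
  have hrep := UnramifiedRes.exists_residue_rep Q.1 (evx x) (evalRingHom c) hφ
    (fun a => ⟨C a, by simp⟩) hker ht (by rw [hφt]; exact hxc) (by rw [hφt]; exact hxt) hα hroot hder
  have hall : ∀ z : Q.O, res z ∈ E := by
    intro z
    obtain ⟨r, hr⟩ := hgen (z : K)
    obtain ⟨b, hb, G, hG, -⟩ := exists_normalize α r
    rw [hr] at hG
    have hb0 : b ≠ 0 := by
      rintro rfl
      simp at hb
    obtain ⟨b', hbb', hb'⟩ := exists_eq_pow_rootMultiplicity_mul_and_not_dvd b hb0 c
    set m := b.rootMultiplicity c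
    have hb'1 : Q.1 (evx x b') = 1 :=
      le_antisymm (hφ b') (not_lt.1 fun hlt => hb' (ht b' hlt))
    set t := x - algebraMap k K c with ht_def
    have hbx : aeval x b = t ^ m * evx x b' := by
      conv_lhs => rw [hbb']
      simp [evx, ht_def]
    have hGle : Q.1 (eval₂ (evx x) α G) ≤ Q.1 (evx x (X - C c)) ^ m := by
      rw [hG, hbx, map_mul, map_mul, map_pow, hb'1, mul_one, hφt]
      exact mul_le_of_le_one_right zero_le ((Valuation.mem_valuationSubring_iff _ _).1 z.2)
    obtain ⟨A, B, hB1, hAB⟩ := hrep m G hGle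
    rw [hφt] at hAB
    have hB0 : eval₂ (evx x) α B ≠ 0 := by
      intro h0
      rw [h0, map_zero] at hB1
      exact zero_ne_one hB1
    have hcong : res (z * (Φ B * φO b') - Φ A) = 0 := by
      rw [residue_eq_zero_iff, Valuation.mem_maximalIdeal_iff]
      have e1 : ((z * (Φ B * φO b') - Φ A : Q.O) : K) = eval₂ (evx x) α B *
          (eval₂ (evx x) α G / t ^ m - eval₂ (evx x) α A / eval₂ (evx x) α B) := by
        change (z : K) * (((Φ B : Q.O) : K) * evx x b') - ((Φ A : Q.O) : K) = _
        rw [hΦ, hΦ, hG, hbx]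
        field_simp
      rw [e1, map_mul, hB1, one_mul]
      exact hAB
    rw [map_sub, sub_eq_zero, map_mul, map_mul] at hcong
    have hu : res (Φ B) * res (φO b') ≠ 0 := by
      apply mul_ne_zero
      · rw [Ne, residue_eq_zero_iff, Valuation.mem_maximalIdeal_iff, hΦ, hB1]
        exact lt_irrefl _
      · rw [Ne, residue_eq_zero_iff, Valuation.mem_maximalIdeal_iff]
        change ¬ Q.1 (evx x b') < 1
        rw [hb'1]
        exact lt_irrefl _
    have hz : res z = res (Φ A) / (res (Φ B) * res (φO b')) := by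
      rw [eq_div_iff hu]
      exact hcong
    rw [hz]
    exact E.div_mem (hΦE A) (E.mul_mem (hΦE B) (hφE b'))
  -- `ᾱ` is separable
  set gb := g.map (evalRingHom c) with hgb
  have hroot' : aeval ᾱ gb = 0 := by
    rw [← hresΦ]
    have : Φ g = 0 := Subtype.ext (by rw [hΦ, hroot]; rfl)
    rw [this, map_zero]
  have hder' : aeval ᾱ (derivative gb) ≠ 0 := by
    rw [hgb, derivative_map, ← hresΦ, Ne, residue_eq_zero_iff, Valuation.mem_maximalIdeal_iff,
      hΦ, hder]
    exact lt_irrefl _
  have hgb0 : gb ≠ 0 := by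
    intro h
    rw [h] at hder'
    simp at hder'
  have hint : IsIntegral k ᾱ := isAlgebraic_iff_isIntegral.1 ⟨gb, hgb0, hroot'⟩
  have hsepα : IsSeparable k ᾱ := by
    change (minpoly k ᾱ).Separable
    rw [separable_iff_derivative_ne_zero (minpoly.irreducible hint)]
    intro hd0
    obtain ⟨s, hs⟩ := minpoly.dvd k ᾱ hroot'
    apply hder'
    rw [hs, derivative_mul, hd0, zero_mul, zero_add, map_mul, minpoly.aeval, zero_mul]
  haveI : Algebra.IsSeparable k E :=
    (IntermediateField.isSeparable_adjoin_simple_iff_isSeparable k _).2 hsepα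
  refine ⟨fun y => ?_⟩
  obtain ⟨z, rfl⟩ := residue_surjective y
  have h1 := Algebra.IsSeparable.isSeparable k (⟨res z, hall z⟩ : E)
  change (minpoly k (res z)).Separable
  have h2 : (minpoly k (⟨res z, hall z⟩ : E)).Separable := h1
  rwa [IntermediateField.minpoly_eq] at h2

end Local

section Global

theorem infinite_separable_of_infinite [Infinite k] (hK : IsFunctionField k K)
    (hg : IsGeometric k K) :
    {P : Place k K | Algebra.IsSeparable k (ResidueField P.O)}.Infinite := by
  classical
  obtain ⟨x, hx, hsep⟩ := Groth.Agent.Lib.Helper63.SepGen.exists_separating hK hg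
  haveI := hsep
  haveI : FiniteDimensional k⟮x⟯ K := ff_finite_of_transcendental hK hx
  obtain ⟨α, hα⟩ := Field.exists_primitive_element k⟮x⟯ K
  have hint : IsIntegral k⟮x⟯ α := Algebra.IsIntegral.isIntegral α
  have hgen : ∀ z : K, ∃ r : (k⟮x⟯)[X], aeval α r = z := by
    intro z
    have hz : z ∈ k⟮x⟯⟮α⟯ := by rw [hα]; exact IntermediateField.mem_top
    have h1 := IntermediateField.adjoin_simple_toSubalgebra_of_isAlgebraic hint.isAlgebraic
    have hz' : z ∈ Algebra.adjoin k⟮x⟯ {α} := by rw [← h1]; exact hz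
    rw [Algebra.adjoin_singleton_eq_range_aeval] at hz'
    exact hz'
  have hmsep : (minpoly k⟮x⟯ α).Separable := Algebra.IsSeparable.isSeparable k⟮x⟯ α
  obtain ⟨b, hb, g, hg0, hg1⟩ := exists_normalize α (minpoly k⟮x⟯ α)
  rw [minpoly.aeval, mul_zero] at hg0
  have hδ : eval₂ (evx x) α (derivative g) ≠ 0 := by
    rw [hg1]
    exact mul_ne_zero hb (hmsep.aeval_derivative_ne_zero (minpoly.aeval _ _))
  set δ := eval₂ (evx x) α (derivative g) with hδdef
  have hbad : (Function.support (fun P : Place k K => P.ord α) ∪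
      Function.support (fun P : Place k K => P.ord δ)).Finite :=
    (ff_finite_support_ord hK α).union (ff_finite_support_ord hK δ)
  have hxc : ∀ c : k, Transcendental k (x - algebraMap k K c) := by
    intro c halg
    apply hx
    have := halg.add (isAlgebraic_algebraMap c)
    rwa [sub_add_cancel] at this
  choose Qc hQc using fun c : k => ff_exists_zero hK (hxc c)
  have hinj : Function.Injective Qc := by
    intro c c' h
    by_contra hne
    have h1 := hQc c
    have h2 := hQc c'
    rw [← h] at h2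
    have h3 : (Qc c).1 (algebraMap k K (c' - c)) < 1 := by
      have : algebraMap k K (c' - c) = (x - algebraMap k K c) - (x - algebraMap k K c') := by
        rw [map_sub]; ring
      rw [this]
      exact (Valuation.map_sub _ _ _).trans_lt (max_lt h1 h2)
    rw [ff_val_const _ (sub_ne_zero.2 (Ne.symm hne))] at h3
    exact lt_irrefl _ h3
  have hSinf := (hbad.preimage hinj.injOn).infinite_compl
  refine (hSinf.image hinj.injOn).mono ?_
  rintro _ ⟨c, hc, rfl⟩
  have hc' : (Qc c).ord α = 0 ∧ (Qc c).ord δ = 0 := by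
    simpa [not_or] using hc
  have hα1 : (Qc c).1 α ≤ 1 := by
    by_cases h0 : α = 0
    · rw [h0, map_zero]; exact zero_le
    · rw [ff_val_eq_exp_neg_ord _ h0, hc'.1]; simp
  have hδ1 : (Qc c).1 δ = 1 := by
    rw [ff_val_eq_exp_neg_ord _ hδ, hc'.2]; simp
  exact isSeparable_residueField_of_unit_derivative (Qc c) (hQc c)
    (fun h => (hxc c) (h ▸ isAlgebraic_zero)) hα1 hgen hg0 hδ1

/-- At a place where `x` is integral some nonzero polynomial in `x` vanishes. -/
theorem exists_poly_val_lt_one (hK : IsFunctionField k K) (Q : Place k K) {x : K}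
    (hx1 : Q.1 x ≤ 1) : ∃ p : k[X], p ≠ 0 ∧ Q.1 (aeval x p) < 1 := by
  have hfd := ff_finiteDimensional_residueField hK Q
  have hint : Algebra.IsIntegral k (ResidueField Q.O) :=
    @Algebra.IsIntegral.of_finite k (ResidueField Q.O) _ _ (Place.algRes Q) hfd
  let xO : Q.O := ⟨x, (Valuation.mem_valuationSubring_iff _ _).2 hx1⟩
  let ψ : k[X] →+* Q.O := eval₂RingHom (algebraMap k Q.O) xO
  have hψ : ∀ p : k[X], ((ψ p : Q.O) : K) = aeval x p := by
    intro p
    exact hom_eval₂ p (algebraMap k Q.O) Q.O.subtype xO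
  have hres : ∀ p : k[X], residue Q.O (ψ p) = aeval (residue Q.O xO) p := by
    intro p
    exact hom_eval₂ p (algebraMap k Q.O) (residue Q.O) xO
  have hi := hint.isIntegral (residue Q.O xO)
  refine ⟨minpoly k (residue Q.O xO), minpoly.ne_zero hi, ?_⟩
  rw [← hψ, ← Valuation.mem_maximalIdeal_iff, ← residue_eq_zero_iff, hres, minpoly.aeval]

theorem infinite_places (hK : IsFunctionField k K) : (Set.univ : Set (Place k K)).Infinite := by
  classical
  intro hfin
  have hK' := hK
  obtain ⟨⟨x, hx, -⟩, -⟩ := hK'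
  have hp : ∀ Q : Place k K, ∃ p : k[X], p ≠ 0 ∧ (Q.1 x ≤ 1 → Q.1 (aeval x p) < 1) := by
    intro Q
    by_cases h : Q.1 x ≤ 1
    · obtain ⟨p, hp0, hp⟩ := exists_poly_val_lt_one hK Q h
      exact ⟨p, hp0, fun _ => hp⟩
    · exact ⟨1, one_ne_zero, fun h' => absurd h' h⟩
  choose p hp0 hp using hp
  set W := ∏ Q ∈ hfin.toFinset, p Q with hW
  have hW0 : W ≠ 0 := Finset.prod_ne_zero_iff.2 fun Q _ => hp0 Q
  set f : k[X] := 1 + X * W with hf
  have h1 : (X * W).natDegree = W.natDegree + 1 := natDegree_X_mul hW0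
  have hfdeg : f.natDegree = W.natDegree + 1 := by
    rw [hf, add_comm, natDegree_add_eq_left_of_natDegree_lt]
    · exact h1
    · rw [natDegree_one, h1]; omega
  have hf0 : f ≠ 0 := by
    intro h0
    rw [h0, natDegree_zero] at hfdeg
    omega
  have htr : Transcendental k (aeval x f) :=
    hx.aeval f (by omega) (mem_nonZeroDivisors_of_ne_zero (leadingCoeff_ne_zero.2 hf0))
  obtain ⟨Q, hQ⟩ := ff_exists_zero hK htr
  have hx1 : Q.1 x ≤ 1 := by
    by_contra h
    push Not at h
    have h2 := Groth.Agent.Lib.Helper63.RatFuncPlaces.val_aeval_of_one_lt Q.1 Q.2.1 h hf0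
    rw [h2] at hQ
    exact absurd hQ (not_lt.2 (one_le_pow₀ h.le))
  have hWQ : Q.1 (aeval x W) < 1 := by
    have hmem : Q ∈ hfin.toFinset := by simp
    rw [hW, ← Finset.mul_prod_erase _ _ hmem, map_mul, map_mul]
    exact (mul_le_of_le_one_right zero_le
      (Groth.Agent.Lib.Helper63.ZerosBound.val_aeval_le_one Q.1 Q.2.1 hx1 _)).trans_lt (hp Q hx1)
  have h3 : Q.1 1 < 1 := by
    have : (1 : K) = aeval x f - x * aeval x W := by rw [hf]; simp
    rw [this]
    refine (Valuation.map_sub _ _ _).trans_lt (max_lt hQ ?_)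
    rw [map_mul]
    exact (mul_le_of_le_one_left zero_le hx1).trans_lt hWQ
  rw [map_one] at h3
  exact lt_irrefl _ h3

theorem infinite_separable (hK : IsFunctionField k K) (hg : IsGeometric k K) :
    {P : Place k K | Algebra.IsSeparable k (ResidueField P.O)}.Infinite := by
  cases finite_or_infinite k with
  | inl hfin =>
    haveI := hfin
    have hall : {P : Place k K | Algebra.IsSeparable k (ResidueField P.O)} = Set.univ := by
      ext P
      simp only [Set.mem_ofPred_eq, Set.mem_univ, iff_true]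
      have hfd := ff_finiteDimensional_residueField hK P
      have hint : Algebra.IsIntegral k (ResidueField P.O) :=
        @Algebra.IsIntegral.of_finite k (ResidueField P.O) _ _ (Place.algRes P) hfd
      haveI : Algebra.IsAlgebraic k (ResidueField P.O) := hint.isAlgebraic
      exact Algebra.IsAlgebraic.isSeparable_of_perfectField
    rw [hall]
    exact infinite_places hK
  | inr hinf =>
    haveI := hinf
    exact infinite_separable_of_infinite hK hg

end Global

end Groth.Agent.Lib.Helper63.SepPlaces
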