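import Groth.Agent.Lib.Helper63.NonsingBasic
import Groth.Agent.Lib.Helper63.PurelyInsep
import Groth.Agent.Lib.Helper63.SepPlaces
import Groth.Agent.Lib.Helper55.FunFld.Apps

/-! The number of places singular with respect to a finite constant extension `k'/k` is at most
the genus drop `g_K - g_{K'}` (helper63). -/

set_option autoImplicit false
set_option linter.style.haveILetI false
set_option linter.unusedSectionVars false

namespace Groth.Agent.Lib.Helper63.NonsingCount

open WithZero FunFld TensorProduct Module IsLocalRing Groth.Agent.Lib.Helper55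
  Groth.Agent.Lib.Helper63.FunFldExt Groth.Agent.Lib.Helper63.FundIneq
  Groth.Agent.Lib.Helper63.ConstExtGeometric Groth.Agent.Lib.Helper63.NonsingBasic
  Groth.Agent.Lib.Helper63.SumEF

section places

variable {k k' L : Type*} [Field k] [Field k'] [Field L] [Algebra k k'] [Algebra k' L]
  [Algebra k L] [IsScalarTower k k' L]

/-- A place over `k'` is a place over `k`. -/
def ofC (Q' : Place k' L) : Place k L :=
  ⟨Q'.1, fun c => by rw [IsScalarTower.algebraMap_apply k k' L]; exact Q'.2.1 _, Q'.2.2⟩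

variable [Algebra.IsAlgebraic k k']

/-- A place over `k` is a place over an algebraic extension `k'`. -/
def toC (Q : Place k L) : Place k' L :=
  ⟨Q.1, fun c => val_le_one_of_isIntegral Q.1 Q.2.1
    ((Algebra.IsIntegral.isIntegral (R := k) c).map (IsScalarTower.toAlgHom k k' L)), Q.2.2⟩

@[simp] theorem toC_val (Q : Place k L) : (toC (k' := k') Q).1 = Q.1 := rfl

@[simp] theorem ofC_val (Q' : Place k' L) : (ofC (k := k) Q').1 = Q'.1 := rfl

@[simp] theorem toC_ofC (Q' : Place k' L) : toC (ofC (k := k) Q') = Q' := rfl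

@[simp] theorem ofC_toC (Q : Place k L) : ofC (toC (k' := k') Q) = Q := rfl

theorem toC_injective : Function.Injective (toC : Place k L → Place k' L) := fun Q₁ Q₂ h => by
  rw [← ofC_toC (k' := k') Q₁, h, ofC_toC]

theorem deg_eq_mul_deg_toC (Q : Place k L) :
    Q.deg = Module.finrank k k' * (toC (k' := k') Q).deg := by
  letI : Algebra k' Q.O := Place.algO (toC (k' := k') Q)
  haveI : IsScalarTower k k' Q.O := by
    refine IsScalarTower.of_algebraMap_eq fun c => ?_
    apply Subtype.ext
    exact IsScalarTower.algebraMap_apply k k' L c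
  exact (Module.finrank_mul_finrank k k' (ResidueField Q.O)).symm

end places

universe u v w

variable {k k' : Type u} {K : Type v} {K' : Type w} [Field k] [Field k'] [Field K] [Field K']
  [Algebra k k'] [FiniteDimensional k k'] [Algebra k K] [Algebra K K'] [Algebra k' K']
  [Algebra k K'] [IsScalarTower k k' K'] [IsScalarTower k K K']

section conorm

/-- `∑_{Q | P} e(Q|P) deg_{k'} Q = deg_k P` in a constant extension. -/
theorem sum_ramIdx_mul_deg_toC (h : Function.Bijective (Algebra.TensorProduct.productMap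
      (IsScalarTower.toAlgHom k k' K') (IsScalarTower.toAlgHom k K K')))
    (hK : IsFunctionField k K) (P : Place k K)
    (Qs : Finset (Place k K')) (hQs : ∀ Q, Q ∈ Qs ↔ IsOver Q P) :
    ∑ Q ∈ Qs, ramIdx Q P * (toC (k' := k') Q).deg = P.deg := by
  haveI : FiniteDimensional K K' := finite_of_bijective h
  have h1 := sum_ramIdx_mul_deg_eq hK P Qs hQs
  rw [finrank_eq h] at h1
  have hpos : 0 < Module.finrank k k' := Module.finrank_pos
  apply Nat.eq_of_mul_eq_mul_left hpos
  rw [← h1, Finset.mul_sum]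
  refine Finset.sum_congr rfl (fun Q _ => ?_)
  rw [deg_eq_mul_deg_toC (k' := k') Q]
  ring

end conorm


section stepA

variable {ι : Type*} [Fintype ι]

/-- The coordinates of the elements integral above `P` have bounded poles at `P`. -/
theorem exists_bound (h : Function.Bijective (Algebra.TensorProduct.productMap
      (IsScalarTower.toAlgHom k k' K') (IsScalarTower.toAlgHom k K K')))
    (hK : IsFunctionField k K) (P : Place k K) (b : Basis ι k k') :
    ∃ N : ℕ, ∀ y : K', (∀ Q : Place k K', IsOver Q P → Q.1 y ≤ 1) →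
      ∀ i, P.1 ((basisK h b).repr y i) ≤ exp (N : ℤ) := by
  classical
  haveI : FiniteDimensional K K' := finite_of_bijective h
  obtain ⟨M, _, u, -, hspan⟩ :=
    Groth.Agent.Lib.Helper63.IntClosure.exists_integral_basis (K' := K') hK P
  have : ∀ mi : M × ι, ∃ n : ℕ, P.1 ((basisK h b).repr (u mi.1) mi.2) ≤ exp (n : ℤ) := by
    intro mi
    by_cases h0 : P.1 ((basisK h b).repr (u mi.1) mi.2) = 0
    · exact ⟨0, by rw [h0]; exact zero_le⟩
    · refine ⟨(log (P.1 ((basisK h b).repr (u mi.1) mi.2))).toNat, ?_⟩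
      conv_lhs => rw [← exp_log h0]
      rw [exp_le_exp]
      exact Int.self_le_toNat _
  choose n hn using this
  refine ⟨Finset.univ.sup n, fun y hy i => ?_⟩
  obtain ⟨c, hc1, hc2⟩ := hspan y hy
  have e : (basisK h b).repr y i = ∑ m, c m * (basisK h b).repr (u m) i := by
    rw [hc2, map_sum, Finsupp.finsetSum_apply]
    refine Finset.sum_congr rfl (fun m _ => ?_)
    rw [map_smul, Finsupp.smul_apply, smul_eq_mul]
  rw [e]
  refine Valuation.map_sum_le _ (fun m _ => ?_)
  rw [map_mul]
  calc P.1 (c m) * P.1 ((basisK h b).repr (u m) i) ≤ 1 * exp ((n (m, i) : ℕ) : ℤ) :=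
        mul_le_mul' (hc1 m) (hn (m, i))
    _ = exp ((n (m, i) : ℕ) : ℤ) := one_mul _
    _ ≤ exp ((Finset.univ.sup n : ℕ) : ℤ) := by
        rw [exp_le_exp]
        exact_mod_cast Finset.le_sup (f := n) (Finset.mem_univ (m, i))

/-- Elements of `K'` that are small at all places above `P` lie in `O_P[k']`. -/
theorem mem_of_small (h : Function.Bijective (Algebra.TensorProduct.productMap
      (IsScalarTower.toAlgHom k k' K') (IsScalarTower.toAlgHom k K K')))
    (hK : IsFunctionField k K) (P : Place k K) (b : Basis ι k k') :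
    ∃ N : ℕ, ∀ u : K',
      (∀ Q : Place k K', IsOver Q P → Q.1 u ≤ exp (-((N * ramIdx Q P : ℕ) : ℤ))) →
      ∃ a : ι → K, (∀ i, P.1 (a i) ≤ 1) ∧
        u = ∑ i, algebraMap k' K' (b i) * algebraMap K K' (a i) := by
  obtain ⟨N, hN⟩ := exists_bound h hK P b
  refine ⟨N, fun u hu => ?_⟩
  obtain ⟨t, ht⟩ := P.2.2 (exp (-1))
  have ht0 : t ≠ 0 := by
    rintro rfl
    rw [map_zero] at ht
    exact exp_ne_zero ht.symm
  have hT0 : algebraMap K K' t ≠ 0 := (map_ne_zero _).2 ht0
  set y : K' := u * ((algebraMap K K' t)⁻¹) ^ N with hy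
  have hyint : ∀ Q : Place k K', IsOver Q P → Q.1 y ≤ 1 := by
    intro Q hQ
    have he := isOverWith_ramIdx hQ
    rw [hy, map_mul, map_pow, map_inv₀, he, ht, ← exp_nsmul, ← exp_neg, ← exp_nsmul]
    calc Q.1 u * exp (N • -(ramIdx Q P • (-1 : ℤ))) ≤
          exp (-((N * ramIdx Q P : ℕ) : ℤ)) * exp (N • -(ramIdx Q P • (-1 : ℤ))) :=
          mul_le_mul' (hu Q hQ) le_rfl
      _ = 1 := by
          rw [← exp_add, ← exp_zero]
          congr 1
          simp only [nsmul_eq_mul]
          push_cast
          ring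
  have hu_eq : u = (t ^ N) • y := by
    rw [hy, Algebra.smul_def, map_pow, mul_comm u, ← mul_assoc, ← mul_pow,
      mul_inv_cancel₀ hT0, one_pow, one_mul]
  refine ⟨fun i => (basisK h b).repr u i, fun i => ?_, ?_⟩
  · have e2 : (basisK h b).repr u i = t ^ N * (basisK h b).repr y i := by
      conv_lhs => rw [hu_eq]
      rw [map_smul, Finsupp.smul_apply, smul_eq_mul]
    change P.1 ((basisK h b).repr u i) ≤ 1
    rw [e2, map_mul, map_pow, ht, ← exp_nsmul]
    calc exp (N • (-1 : ℤ)) * P.1 ((basisK h b).repr y i) ≤ exp (N • (-1 : ℤ)) * exp (N : ℤ) :=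
          mul_le_mul' le_rfl (hN y hyint i)
      _ = 1 := by
          rw [← exp_add, ← exp_zero]
          congr 1
          simp
  · conv_lhs => rw [← (basisK h b).sum_repr u]
    refine Finset.sum_congr rfl (fun i _ => ?_)
    rw [basisK_apply, Algebra.smul_def, mul_comm]

end stepA


section li

variable {J : Type*} [Fintype J]

/-- A `k`-linearly independent family of `K` stays `k'`-linearly independent in `K' = k' ⊗ K`. -/
theorem linearIndependent_algebraMap (h : Function.Bijective (Algebra.TensorProduct.productMap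
      (IsScalarTower.toAlgHom k k' K') (IsScalarTower.toAlgHom k K K')))
    (v : J → K) (hv : LinearIndependent k v) :
    LinearIndependent k' (fun j => algebraMap K K' (v j)) := by
  classical
  let b := Module.finBasis k k'
  rw [Fintype.linearIndependent_iff] at hv ⊢
  intro g hg
  have e1 : ∑ j, g j • algebraMap K K' (v j) =
      ∑ i, algebraMap k' K' (b i) * algebraMap K K' (∑ j, b.repr (g j) i • v j) := by
    have e2 : ∀ j, g j • algebraMap K K' (v j) =
        ∑ i, algebraMap k' K' (b i) * algebraMap K K' (b.repr (g j) i • v j) := by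
      intro j
      conv_lhs => rw [← b.sum_repr (g j)]
      rw [Finset.sum_smul]
      refine Finset.sum_congr rfl (fun i _ => ?_)
      rw [Algebra.smul_def, Algebra.smul_def, map_mul, Algebra.smul_def, map_mul,
        ← IsScalarTower.algebraMap_apply k k' K', ← IsScalarTower.algebraMap_apply k K K']
      ring
    simp only [e2]
    rw [Finset.sum_comm]
    refine Finset.sum_congr rfl (fun i _ => ?_)
    rw [map_sum, Finset.mul_sum]
  rw [e1] at hg
  have h0 : ∑ i, algebraMap k' K' (b i) * algebraMap K K' (∑ j, b.repr (g j) i • v j) =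
      ∑ i, algebraMap k' K' (b i) * algebraMap K K' ((fun _ => (0 : K)) i) := by
    rw [hg]
    simp
  have h1 := coord_unique h b h0
  intro j
  have h2 : ∀ i, b.repr (g j) i = 0 := fun i => hv (fun j => b.repr (g j) i) (congrFun h1 i) j
  rw [← b.sum_repr (g j)]
  exact Finset.sum_eq_zero (fun i _ => by rw [h2 i, zero_smul])

end li


section count

/-- `O_P[k']`. -/
abbrev OP' (P : Place k K) : Subalgebra ↥(P.O.toSubring.map (algebraMap K K')) K' :=
  Algebra.adjoin ↥(P.O.toSubring.map (algebraMap K K')) (Set.range (algebraMap k' K'))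

omit [FiniteDimensional k k'] [IsScalarTower k k' K'] [IsScalarTower k K K'] in
theorem algebraMap_mem_OP' (P : Place k K) {a : K} (ha : P.1 a ≤ 1) :
    algebraMap K K' a ∈ OP' (k' := k') (K' := K') P :=
  Subalgebra.algebraMap_mem _
    (⟨algebraMap K K' a, Subring.mem_map.2 ⟨a, ha, rfl⟩⟩ : ↥(P.O.toSubring.map (algebraMap K K')))

omit [FiniteDimensional k k'] [IsScalarTower k k' K'] [IsScalarTower k K K'] in
theorem smul_mem_OP' (P : Place k K) (c : k') {x : K'} (hx : x ∈ OP' (k' := k') (K' := K') P) :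
    c • x ∈ OP' (k' := k') (K' := K') P := by
  rw [Algebra.smul_def]
  exact mul_mem (Algebra.subset_adjoin ⟨c, rfl⟩) hx

/-- The number of places singular with respect to `k'` is at most the genus drop. -/
theorem card_add_genus_le (h : Function.Bijective (Algebra.TensorProduct.productMap
      (IsScalarTower.toAlgHom k k' K') (IsScalarTower.toAlgHom k K K')))
    (hK : IsFunctionField k K) (hg : IsGeometric k K) (S : Finset (Place k K))
    (hS : ∀ P ∈ S, integralClosure ↥(P.O.toSubring.map (algebraMap K K')) K' ≠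
      Algebra.adjoin ↥(P.O.toSubring.map (algebraMap K K')) (Set.range (algebraMap k' K'))) :
    S.card + genus k' K' ≤ genus k K := by
  classical
  haveI : FiniteDimensional K K' := finite_of_bijective h
  have hK' : IsFunctionField k' K' := isFunctionField h hK hg
  let b := Module.finBasis k k'
  have hA : ∀ (P : Place k K) (c : k), algebraMap k K c ∈ P.O.toSubring := fun P c => P.2.1 c
  -- witnesses of singularity
  have hwit : ∀ P ∈ S, ∃ z : K', (∀ Q : Place k K', IsOver Q P → Q.1 z ≤ 1) ∧
      z ∉ OP' (k' := k') (K' := K') P := by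
    intro P hP
    have := hS P hP
    rw [Ne, ns_iff hK P b] at this
    push Not at this
    obtain ⟨z, hz1, hz2⟩ := this
    refine ⟨z, hz1, fun hmem => ?_⟩
    rw [mem_adjoin_iff b P.O.toSubring (hA P)] at hmem
    obtain ⟨a, ha1, ha2⟩ := hmem
    exact hz2 a ha1 ha2
  choose! z hz1 hz2 using hwit
  choose N hN using fun P : Place k K => mem_of_small h hK P b
  -- the place at infinity
  obtain ⟨Pinf, -, hPinf⟩ :=
    (Groth.Agent.Lib.Helper63.SepPlaces.infinite_places hK).exists_notMem_finset S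
  obtain ⟨Qinf, hQinf⟩ := Groth.Agent.Lib.Helper63.PurelyInsep.exists_isOver (K' := K') hK Pinf
  have hfin : ∀ P : Place k K, {Q : Place k K' | IsOver Q P}.Finite :=
    fun P => finite_setOf_isOver P
  set sK : Finset (Place k K') := S.biUnion (fun P => (hfin P).toFinset) with hsK_def
  have hsK : ∀ Q, Q ∈ sK ↔ ∃ P ∈ S, IsOver Q P := by
    intro Q
    rw [hsK_def, Finset.mem_biUnion]
    constructor
    · rintro ⟨P, hP, hQ⟩
      exact ⟨P, hP, (hfin P).mem_toFinset.1 hQ⟩
    · rintro ⟨P, hP, hQ⟩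
      exact ⟨P, hP, (hfin P).mem_toFinset.2 hQ⟩
  set s' : Finset (Place k' K') := sK.image (toC (k' := k')) with hs'
  have hinf : toC (k' := k') Qinf ∉ s' := by
    intro hmem
    obtain ⟨Q, hQ, hQeq⟩ := Finset.mem_image.1 hmem
    have : Q = Qinf := toC_injective hQeq
    subst this
    obtain ⟨P, hPS, hQP⟩ := (hsK _).1 hQ
    exact hPinf ((isOver_unique_below hQP hQinf) ▸ hPS)
  have hbelow : ∀ Q : Place k K', ∃ P : Place k K, IsOver Q P :=
    fun Q => exists_isOver_below (K := K) Q
  choose below hbelow using hbelow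
  have hbelow_eq : ∀ {Q : Place k K'} {P : Place k K}, IsOver Q P → below Q = P :=
    fun hQP => isOver_unique_below (hbelow _) hQP
  -- the approximating elements
  have happ : ∀ P₀ ∈ S, ∃ w : K',
      (∀ Q : Place k K', IsOver Q P₀ →
        Q.1 (w - z P₀) ≤ exp (-((N P₀ * ramIdx Q P₀ : ℕ) : ℤ))) ∧
      (∀ P ∈ S, P ≠ P₀ → ∀ Q : Place k K', IsOver Q P →
        Q.1 w ≤ exp (-((N P * ramIdx Q P : ℕ) : ℤ))) ∧
      (∀ Q : Place k K', Q ∉ sK → Q ≠ Qinf → Q.1 w ≤ 1) := by
    intro P₀ hP₀
    obtain ⟨w, hw1, hw2⟩ := ff_strong_approx_le hK' s' (toC (k' := k') Qinf) hinf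
      (fun Q' => if IsOver (ofC (k := k) Q') P₀ then z P₀ else 0)
      (fun Q' => -((N (below (ofC (k := k) Q')) *
        ramIdx (ofC (k := k) Q') (below (ofC (k := k) Q')) : ℕ) : ℤ))
    refine ⟨w, ?_, ?_, ?_⟩
    · intro Q hQ
      have hmem : toC (k' := k') Q ∈ s' :=
        Finset.mem_image.2 ⟨Q, (hsK Q).2 ⟨P₀, hP₀, hQ⟩, rfl⟩
      have this : Q.1 (w - if IsOver Q P₀ then z P₀ else 0) ≤
          exp (-((N (below Q) * ramIdx Q (below Q) : ℕ) : ℤ)) := hw1 _ hmem
      rw [if_pos hQ, hbelow_eq hQ] at this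
      exact this
    · intro P hP hne Q hQ
      have hmem : toC (k' := k') Q ∈ s' :=
        Finset.mem_image.2 ⟨Q, (hsK Q).2 ⟨P, hP, hQ⟩, rfl⟩
      have this : Q.1 (w - if IsOver Q P₀ then z P₀ else 0) ≤
          exp (-((N (below Q) * ramIdx Q (below Q) : ℕ) : ℤ)) := hw1 _ hmem
      rw [if_neg (fun hQ0 => hne (isOver_unique_below hQ hQ0)), sub_zero, hbelow_eq hQ] at this
      exact this
    · intro Q hQ hne
      refine hw2 (toC (k' := k') Q) (fun hmem => hQ ?_) (fun he => hne (toC_injective he))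
      obtain ⟨Q₁, hQ₁, he⟩ := Finset.mem_image.1 hmem
      rwa [← toC_injective he]
  choose! w hw1 hw2 hw3 using happ
  have hwz : ∀ P₀ ∈ S, w P₀ - z P₀ ∈ OP' (k' := k') (K' := K') P₀ := fun P₀ hP₀ => by
    rw [mem_adjoin_iff b _ (hA P₀)]
    exact hN P₀ _ (hw1 P₀ hP₀)
  have hwP : ∀ P₀ ∈ S, ∀ P ∈ S, P ≠ P₀ → w P₀ ∈ OP' (k' := k') (K' := K') P :=
    fun P₀ hP₀ P hP hne => by
      rw [mem_adjoin_iff b _ (hA P)]
      exact hN P _ (hw2 P₀ hP₀ P hP hne)
  have hwnot : ∀ P₀ ∈ S, w P₀ ∉ OP' (k' := k') (K' := K') P₀ := fun P₀ hP₀ hmem =>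
    hz2 P₀ hP₀ (by
      have := sub_mem hmem (hwz P₀ hP₀)
      rwa [sub_sub_cancel] at this)
  -- the divisors
  obtain ⟨N₁, hN₁⟩ := ff_riemann hK
  obtain ⟨N₂, hN₂⟩ := ff_riemann hK'
  have hM : ∀ P₀ : Place k K, ∃ M : ℕ, Qinf.1 (w P₀) ≤ exp (M : ℤ) := by
    intro P₀
    by_cases h0 : Qinf.1 (w P₀) = 0
    · exact ⟨0, by rw [h0]; exact zero_le⟩
    · refine ⟨(log (Qinf.1 (w P₀))).toNat, ?_⟩
      conv_lhs => rw [← exp_log h0]
      rw [exp_le_exp]
      exact Int.self_le_toNat _
  choose M hM using hM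
  set n : ℕ := max (max N₁.toNat N₂.toNat) (S.sup M) with hn
  have hdegpos : 1 ≤ Pinf.deg := ff_deg_pos hK Pinf
  set D : Divisor k K := Finsupp.single Pinf (n : ℤ) with hD
  set Qs := (hfin Pinf).toFinset with hQs
  have hQs_mem : ∀ Q, Q ∈ Qs ↔ IsOver Q Pinf := fun Q => (hfin Pinf).mem_toFinset
  set D' : Divisor k' K' :=
    ∑ Q ∈ Qs, Finsupp.single (toC (k' := k') Q) ((n * ramIdx Q Pinf : ℕ) : ℤ) with hD'
  have hD'apply : ∀ Q : Place k K', D' (toC (k' := k') Q) =
      if Q ∈ Qs then ((n * ramIdx Q Pinf : ℕ) : ℤ) else 0 := by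
    intro Q
    rw [hD', Finsupp.finsetSum_apply]
    simp only [Finsupp.single_apply]
    split_ifs with hQ
    · rw [Finset.sum_eq_single Q]
      · rw [if_pos rfl]
      · intro Q₁ _ hne
        rw [if_neg (fun he => hne (toC_injective he))]
      · intro hQ'
        exact absurd hQ hQ'
    · refine Finset.sum_eq_zero (fun Q₁ hQ₁ => ?_)
      rw [if_neg]
      intro he
      exact hQ (toC_injective he ▸ hQ₁)
  have hdegD : D.deg = n * Pinf.deg := by rw [hD, ff_deg_single]
  have hdegD' : D'.deg = n * Pinf.deg := by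
    rw [hD', ff_deg_sum]
    simp only [ff_deg_single]
    have := sum_ramIdx_mul_deg_toC h hK Pinf Qs hQs_mem
    rw [← this]
    push_cast
    rw [Finset.mul_sum]
    refine Finset.sum_congr rfl (fun Q _ => ?_)
    ring
  have hn1 : N₁ ≤ D.deg := by
    rw [hdegD]
    have h1 : N₁ ≤ (N₁.toNat : ℤ) := Int.self_le_toNat _
    have h2 : N₁.toNat ≤ n := (le_max_left _ _).trans (le_max_left _ _)
    have h3 : (n : ℤ) ≤ n * Pinf.deg := by
      have : (1 : ℤ) ≤ Pinf.deg := by exact_mod_cast hdegpos
      nlinarith [Int.natCast_nonneg n]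
    have h2' : (N₁.toNat : ℤ) ≤ n := by exact_mod_cast h2
    linarith
  have hn2 : N₂ ≤ D'.deg := by
    rw [hdegD']
    have h1 : N₂ ≤ (N₂.toNat : ℤ) := Int.self_le_toNat _
    have h2 : N₂.toNat ≤ n := (le_max_right _ _).trans (le_max_left _ _)
    have h3 : (n : ℤ) ≤ n * Pinf.deg := by
      have : (1 : ℤ) ≤ Pinf.deg := by exact_mod_cast hdegpos
      nlinarith [Int.natCast_nonneg n]
    have h2' : (N₂.toNat : ℤ) ≤ n := by exact_mod_cast h2
    linarith
  have hg1 := hN₁ D hn1
  have hg2 := hN₂ D' hn2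
  -- membership in `L(D')`
  have hQs_sK : ∀ Q, Q ∈ Qs → Q ∉ sK := by
    intro Q hQ hQ'
    obtain ⟨P, hPS, hQP⟩ := (hsK Q).1 hQ'
    exact hPinf ((isOver_unique_below hQP ((hQs_mem Q).1 hQ)) ▸ hPS)
  have hwL : ∀ P₀ ∈ S, w P₀ ∈ L D' := by
    intro P₀ hP₀ Q'
    change (toC (k' := k') (ofC (k := k) Q')).1 (w P₀) ≤
      exp (D' (toC (k' := k') (ofC (k := k) Q')))
    set Q := ofC (k := k) Q' with hQdef
    rw [hD'apply Q, toC_val]
    split_ifs with hQ
    · have hQo := (hQs_mem Q).1 hQ
      have he0 := isOverWith_ne_zero (isOverWith_ramIdx hQo)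
      have h1le : (1 : WithZero (Multiplicative ℤ)) ≤ exp (((n * ramIdx Q Pinf : ℕ) : ℤ)) := by
        rw [← exp_zero, exp_le_exp]
        exact Int.natCast_nonneg _
      by_cases hQi : Q = Qinf
      · rw [hQi]
        refine (hM P₀).trans ?_
        rw [exp_le_exp]
        have h1 : M P₀ ≤ n := (Finset.le_sup (f := M) hP₀).trans (le_max_right _ _)
        have h2 : n ≤ n * ramIdx Qinf Pinf := by
          rw [hQi] at he0
          exact Nat.le_mul_of_pos_right n (Nat.pos_of_ne_zero he0)
        exact_mod_cast h1.trans h2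
      · exact (hw3 P₀ hP₀ Q (hQs_sK Q hQ) hQi).trans h1le
    · rw [exp_zero]
      by_cases hQs' : Q ∈ sK
      · obtain ⟨P, hPS, hQP⟩ := (hsK Q).1 hQs'
        by_cases hPP : P = P₀
        · subst hPP
          have h1 := hw1 P hPS Q hQP
          have h2 : exp (-((N P * ramIdx Q P : ℕ) : ℤ)) ≤ (1 : WithZero (Multiplicative ℤ)) := by
            rw [← exp_zero, exp_le_exp]
            omega
          have e : w P = (w P - z P) + z P := by ring
          rw [e]
          exact (Q.1.map_add _ _).trans (max_le (h1.trans h2) (hz1 P hPS Q hQP))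
        · have h1 := hw2 P₀ hP₀ P hPS hPP Q hQP
          refine h1.trans ?_
          rw [← exp_zero, exp_le_exp]
          omega
      · refine hw3 P₀ hP₀ Q hQs' (fun hQi => hQ ?_)
        rw [hQi]
        exact (hQs_mem Qinf).2 hQinf
  have hLL : ∀ x ∈ L D, algebraMap K K' x ∈ L D' := by
    intro x hx Q'
    change (toC (k' := k') (ofC (k := k) Q')).1 (algebraMap K K' x) ≤
      exp (D' (toC (k' := k') (ofC (k := k) Q')))
    set Q := ofC (k := k) Q' with hQdef
    rw [hD'apply Q, toC_val]
    have he := isOverWith_ramIdx (hbelow Q)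
    split_ifs with hQ
    · have hQo := (hQs_mem Q).1 hQ
      have hb := hbelow_eq hQo
      rw [hb] at he
      rw [he]
      have := hx Pinf
      rw [hD, Finsupp.single_eq_same] at this
      calc Pinf.1 x ^ ramIdx Q Pinf ≤ exp (n : ℤ) ^ ramIdx Q Pinf := pow_le_pow_left₀ zero_le this _
        _ = exp (((n * ramIdx Q Pinf : ℕ) : ℤ)) := by
            rw [← exp_nsmul]
            congr 1
            simp only [nsmul_eq_mul]
            push_cast
            ring
    · rw [exp_zero, he]
      apply pow_le_one₀ zero_le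
      have := hx (below Q)
      rw [hD, Finsupp.single_apply, if_neg, exp_zero] at this
      · exact this
      · intro hPb
        apply hQ
        rw [hQs_mem, hPb]
        exact hbelow Q
  -- the dimension count
  haveI : FiniteDimensional k (L D) := ff_L_finiteDimensional hK D
  haveI : FiniteDimensional k' (L D') := ff_L_finiteDimensional hK' D'
  let vb := Module.finBasis k (L D)
  let v : Fin (finrank k (L D)) → K := fun j => ((vb j : L D) : K)
  have hv : LinearIndependent k v := by
    have := vb.linearIndependent.map' (L D).subtype (Submodule.ker_subtype _)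
    exact this
  have hvA := linearIndependent_algebraMap h v hv
  have hvL : ∀ j, v j ∈ L D := fun j => (vb j).2
  let fam : Fin (finrank k (L D)) ⊕ {P // P ∈ S} → K' :=
    Sum.elim (fun j => algebraMap K K' (v j)) (fun P => w P.1)
  have hfamL : ∀ x, fam x ∈ L D' := by
    rintro (j | P)
    · exact hLL _ (hvL j)
    · exact hwL P.1 P.2
  have hvO : ∀ (P₀ : Place k K), P₀ ∈ S → ∀ j, algebraMap K K' (v j) ∈
      OP' (k' := k') (K' := K') P₀ := by
    intro P₀ hP₀ j
    apply algebraMap_mem_OP'
    have := hvL j P₀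
    rw [hD, Finsupp.single_apply, if_neg, exp_zero] at this
    · exact this
    · intro he
      exact hPinf (he ▸ hP₀)
  have hfamLI : LinearIndependent k' fam := by
    rw [Fintype.linearIndependent_iff]
    intro g hgsum
    rw [Fintype.sum_sum_type] at hgsum
    simp only [fam, Sum.elim_inl, Sum.elim_inr] at hgsum
    have key : ∀ P₀ : {P // P ∈ S}, g (Sum.inr P₀) = 0 := by
      intro P₀
      by_contra hne
      rw [← Finset.add_sum_erase Finset.univ _ (Finset.mem_univ P₀)] at hgsum
      have h1 : g (Sum.inr P₀) • w P₀.1 =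
          -(∑ j, g (Sum.inl j) • algebraMap K K' (v j)) -
            ∑ P ∈ Finset.univ.erase P₀, g (Sum.inr P) • w P.1 := by
        linear_combination hgsum
      have h2 : g (Sum.inr P₀) • w P₀.1 ∈ OP' (k' := k') (K' := K') P₀.1 := by
        rw [h1]
        refine sub_mem (neg_mem (Subalgebra.sum_mem _ (fun j _ => ?_)))
          (Subalgebra.sum_mem _ (fun P hP => ?_))
        · exact smul_mem_OP' _ _ (hvO P₀.1 P₀.2 j)
        · refine smul_mem_OP' _ _ (hwP P.1 P.2 P₀.1 P₀.2 ?_)
          intro he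
          exact (Finset.mem_erase.1 hP).1 (Subtype.ext he.symm)
      have h3 := smul_mem_OP' P₀.1 (g (Sum.inr P₀))⁻¹ h2
      rw [smul_smul, inv_mul_cancel₀ hne, one_smul] at h3
      exact hwnot P₀.1 P₀.2 h3
    have hsum2 : ∑ j, g (Sum.inl j) • algebraMap K K' (v j) = 0 := by
      rw [← hgsum]
      rw [Finset.sum_eq_zero (s := Finset.univ) (f := fun P : {P // P ∈ S} =>
        g (Sum.inr P) • w P.1) (fun P _ => by rw [key P, zero_smul]), add_zero]
    have hinl := (Fintype.linearIndependent_iff.1 hvA) (fun j => g (Sum.inl j)) hsum2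
    rintro (j | P)
    · exact hinl j
    · exact key P
  have hspan : Submodule.span k' (Set.range fam) ≤ L D' := by
    rw [Submodule.span_le]
    rintro _ ⟨x, rfl⟩
    exact hfamL x
  have hcard := Submodule.finrank_mono hspan
  rw [finrank_span_eq_card hfamLI, Fintype.card_sum, Fintype.card_fin, Fintype.card_coe] at hcard
  have hell : ell D + S.card ≤ ell D' := hcard
  have hell' : (ell D : ℤ) + S.card ≤ ell D' := by exact_mod_cast hell
  have : (S.card : ℤ) + genus k' K' ≤ genus k K := by
    rw [← hg1, ← hg2, hdegD, hdegD']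
    linarith
  exact_mod_cast this

end count

end Groth.Agent.Lib.Helper63.NonsingCount
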