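import Groth.Agent.Lib.Helper63.NonsingBasic

/-! Nonsingular places in towers of constant extensions `k ⊆ k' ⊆ k''` (S12534) (helper63). -/

set_option autoImplicit false
set_option linter.style.haveILetI false
set_option linter.unusedSectionVars false

namespace Groth.Agent.Lib.Helper63.NonsingTower

open WithZero FunFld TensorProduct Module Groth.Agent.Lib.Helper55
  Groth.Agent.Lib.Helper63.FunFldExt Groth.Agent.Lib.Helper63.FundIneq
  Groth.Agent.Lib.Helper63.ConstExtGeometric Groth.Agent.Lib.Helper63.NonsingBasic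

universe u v w x

variable {k k' k'' : Type u} {K : Type v} {K' : Type w} {K'' : Type x} [Field k] [Field k'] [Field k''] [Field K]
  [Field K'] [Field K'']
  [Algebra k k'] [Algebra k' k''] [Algebra k k''] [a1 : IsScalarTower k k' k'']
  [FiniteDimensional k k'] [FiniteDimensional k' k'']
  [Algebra k K] [Algebra K K'] [Algebra k' K'] [Algebra k K'] [a2 : IsScalarTower k k' K']
  [a3 : IsScalarTower k K K']
  [Algebra K' K''] [Algebra k'' K''] [Algebra k' K''] [Algebra k K''] [Algebra K K'']
  [a4 : IsScalarTower k' k'' K''] [a5 : IsScalarTower k' K' K''] [a6 : IsScalarTower K K' K'']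
  [a7 : IsScalarTower k K K'']

include a1 a2 a3 a4 a5 a6 a7 in
theorem algebraMap_k_K'' (c : k) :
    algebraMap k K'' c = algebraMap k'' K'' (algebraMap k k'' c) := by
  rw [IsScalarTower.algebraMap_apply k K K'', IsScalarTower.algebraMap_apply K K' K'',
    ← IsScalarTower.algebraMap_apply k K K', IsScalarTower.algebraMap_apply k k' K',
    ← IsScalarTower.algebraMap_apply k' K' K'', IsScalarTower.algebraMap_apply k' k'' K'',
    ← IsScalarTower.algebraMap_apply k k' k'']

include a1 a2 a3 a4 a5 a6 a7 in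
theorem tower_k_k''_K'' : IsScalarTower k k'' K'' :=
  IsScalarTower.of_algebraMap_eq (algebraMap_k_K'' (k' := k') (K := K) (K' := K'))

include a3 a6 a7 in
theorem tower_k_K'_K'' : IsScalarTower k K' K'' :=
  IsScalarTower.of_algebraMap_eq (fun c => by
    rw [IsScalarTower.algebraMap_apply k K K'', IsScalarTower.algebraMap_apply K K' K'',
      ← IsScalarTower.algebraMap_apply k K K'])

/-- The nonsingularity of a place `Q` of `K'` (over `k`) with respect to `k''/k'` in
coordinates. -/
theorem ns_iff_Q {J : Type*} [Fintype J]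
    (h1 : Function.Bijective (Algebra.TensorProduct.productMap
      (IsScalarTower.toAlgHom k k' K') (IsScalarTower.toAlgHom k K K')))
    (h2 : Function.Bijective (Algebra.TensorProduct.productMap
      (IsScalarTower.toAlgHom k' k'' K'') (IsScalarTower.toAlgHom k' K' K'')))
    (hK : IsFunctionField k K) (hg : IsGeometric k K) (c : Basis J k' k'') (Q : Place k K') :
    integralClosure ↥(Q.O.toSubring.map (algebraMap K' K'')) K'' =
        Algebra.adjoin ↥(Q.O.toSubring.map (algebraMap K' K'')) (Set.range (algebraMap k'' K'')) ↔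
      ∀ z : K'', (∀ Q'' : Place k K'', IsOver Q'' Q → Q''.1 z ≤ 1) →
        ∃ a : J → K', (∀ j, Q.1 (a j) ≤ 1) ∧
          z = ∑ j, algebraMap k'' K'' (c j) * algebraMap K' K'' (a j) := by
  haveI : FiniteDimensional K' K'' := finite_of_bijective h2
  haveI := tower_k_K'_K'' (k := k) (K := K) (K' := K') (K'' := K'')
  have hK' : IsFunctionField k' K' := isFunctionField h1 hK hg
  let Q' : Place k' K' := ⟨Q.1, fun x => val_le_one_of_isIntegral Q.1 Q.2.1
    ((Algebra.IsIntegral.isIntegral (R := k) x).map (IsScalarTower.toAlgHom k k' K')), Q.2.2⟩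
  have := ns_iff' (K' := K'') hK' Q' c
  rw [show Q'.O = Q.O from rfl] at this
  rw [this]
  constructor
  · intro hall z hz
    exact hall z ((forall_isOver_iff Q z).1 hz)
  · intro hall z hz
    exact hall z ((forall_isOver_iff Q z).2 hz)


include a4 a5 a6 in
omit [FiniteDimensional k k'] [FiniteDimensional k' k''] in
/-- Regrouping coordinates. -/
theorem sum_prod_eq {I J : Type*} [Fintype I] [Fintype J] (b : Basis I k k')
    (c : Basis J k' k'') (A : I × J → K) :
    ∑ ij, algebraMap k'' K'' ((b.smulTower c) ij) * algebraMap K K'' (A ij) =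
      ∑ j, algebraMap k'' K'' (c j) * algebraMap K' K''
        (∑ i, algebraMap k' K' (b i) * algebraMap K K' (A (i, j))) := by
  rw [Fintype.sum_prod_type, Finset.sum_comm]
  refine Finset.sum_congr rfl (fun j _ => ?_)
  rw [map_sum, Finset.mul_sum]
  refine Finset.sum_congr rfl (fun i _ => ?_)
  rw [Basis.smulTower_apply, Algebra.smul_def, map_mul, map_mul,
    ← IsScalarTower.algebraMap_apply k' k'' K'', ← IsScalarTower.algebraMap_apply k' K' K'',
    ← IsScalarTower.algebraMap_apply K K' K'']
  ring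

/-- The easy direction of the tower lemma. -/
theorem tower_mpr {I J : Type*} [Fintype I] [Fintype J] (b : Basis I k k') (c : Basis J k' k'')
    (h2 : Function.Bijective (Algebra.TensorProduct.productMap
      (IsScalarTower.toAlgHom k' k'' K'') (IsScalarTower.toAlgHom k' K' K'')))
    (P : Place k K)
    (hP' : ∀ z : K', (∀ Q : Place k K', IsOver Q P → Q.1 z ≤ 1) →
        ∃ a : I → K, (∀ i, P.1 (a i) ≤ 1) ∧
          z = ∑ i, algebraMap k' K' (b i) * algebraMap K K' (a i))
    (hQ'' : ∀ Q : Place k K', IsOver Q P →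
      ∀ z : K'', (∀ Q'' : Place k K'', IsOver Q'' Q → Q''.1 z ≤ 1) →
        ∃ a : J → K', (∀ j, Q.1 (a j) ≤ 1) ∧
          z = ∑ j, algebraMap k'' K'' (c j) * algebraMap K' K'' (a j))
    (z : K'') (hz : ∀ Q'' : Place k K'', IsOver Q'' P → Q''.1 z ≤ 1) :
    ∃ A : I × J → K, (∀ ij, P.1 (A ij) ≤ 1) ∧
      z = ∑ ij, algebraMap k'' K'' ((b.smulTower c) ij) * algebraMap K K'' (A ij) := by
  obtain ⟨a, ha⟩ := exists_coord h2 c z
  have hcl : ∀ Q : Place k K', IsOver Q P → ∀ j, Q.1 (a j) ≤ 1 := by
    intro Q hQ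
    obtain ⟨a', ha'1, ha'2⟩ := hQ'' Q hQ z (fun Q'' hQ''Q => hz Q'' (isOver_trans (K' := K') hQ''Q hQ))
    have : a = a' := coord_unique h2 c (ha.symm.trans ha'2)
    rw [this]
    exact ha'1
  choose α hα1 hα2 using fun j => hP' (a j) (fun Q hQ => hcl Q hQ j)
  refine ⟨fun ij => α ij.2 ij.1, fun ij => hα1 ij.2 ij.1, ?_⟩
  rw [sum_prod_eq (K' := K') b c, ha]
  refine Finset.sum_congr rfl (fun j _ => ?_)
  rw [← hα2 j]


include a3 a7 in
/-- Descent of nonsingularity to the intermediate constant field. -/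
theorem tower_mp_one {I J : Type*} [Fintype I] [Fintype J] (b : Basis I k k')
    (c : Basis J k' k'')
    (h2 : Function.Bijective (Algebra.TensorProduct.productMap
      (IsScalarTower.toAlgHom k' k'' K'') (IsScalarTower.toAlgHom k' K' K'')))
    (P : Place k K)
    (hP'' : ∀ z : K'', (∀ Q'' : Place k K'', IsOver Q'' P → Q''.1 z ≤ 1) →
      ∃ A : I × J → K, (∀ ij, P.1 (A ij) ≤ 1) ∧
        z = ∑ ij, algebraMap k'' K'' ((b.smulTower c) ij) * algebraMap K K'' (A ij))
    (z : K') (hz : ∀ Q : Place k K', IsOver Q P → Q.1 z ≤ 1) :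
    ∃ a : I → K, (∀ i, P.1 (a i) ≤ 1) ∧
      z = ∑ i, algebraMap k' K' (b i) * algebraMap K K' (a i) := by
  haveI := tower_k_K'_K'' (k := k) (K := K) (K' := K') (K'' := K'')
  haveI : FiniteDimensional K' K'' := finite_of_bijective h2
  have hz'' : ∀ Q'' : Place k K'', IsOver Q'' P → Q''.1 (algebraMap K' K'' z) ≤ 1 := by
    intro Q'' hQ''
    obtain ⟨Q, hQ⟩ := exists_isOver_below (K := K') Q''
    have hQP : IsOver Q P := isOver_of_isOver_of_isOver hQ'' hQ
    obtain ⟨e, he⟩ := hQ
    rw [he]
    exact pow_le_one₀ zero_le (hz Q hQP)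
  obtain ⟨A, hA1, hA2⟩ := hP'' _ hz''
  rw [sum_prod_eq (K' := K') b c] at hA2
  set γ := c.repr 1 with hγ
  have h1 : algebraMap K' K'' z =
      ∑ j, algebraMap k'' K'' (c j) * algebraMap K' K'' (algebraMap k' K' (γ j) * z) := by
    have e1 : (1 : k'') = ∑ j, γ j • c j := (c.sum_repr 1).symm
    calc algebraMap K' K'' z = algebraMap k'' K'' 1 * algebraMap K' K'' z := by
          rw [map_one, one_mul]
      _ = _ := by
          rw [e1, map_sum, Finset.sum_mul]
          refine Finset.sum_congr rfl (fun j _ => ?_)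
          rw [Algebra.smul_def, map_mul, map_mul, ← IsScalarTower.algebraMap_apply k' k'' K'',
            ← IsScalarTower.algebraMap_apply k' K' K'']
          ring
  have h3 := coord_unique h2 c (h1.symm.trans hA2)
  obtain ⟨j₀, hj₀⟩ : ∃ j, γ j ≠ 0 := by
    by_contra hcon
    push Not at hcon
    have : (1 : k'') = 0 := by
      rw [← c.sum_repr 1]
      exact Finset.sum_eq_zero (fun j _ => by rw [← hγ, hcon j, zero_smul])
    exact one_ne_zero this
  have h4 : algebraMap k' K' (γ j₀) * z =
      ∑ i, algebraMap k' K' (b i) * algebraMap K K' (A (i, j₀)) := congrFun h3 j₀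
  have hz_eq : z = algebraMap k' K' (γ j₀)⁻¹ *
      ∑ i, algebraMap k' K' (b i) * algebraMap K K' (A (i, j₀)) := by
    rw [← h4, ← mul_assoc, ← map_mul, inv_mul_cancel₀ hj₀, map_one, one_mul]
  have hA : ∀ c : k, algebraMap k K c ∈ P.O.toSubring := fun c => P.2.1 c
  refine (mem_adjoin_iff b P.O.toSubring hA z).1 ?_
  rw [hz_eq]
  refine mul_mem (Algebra.subset_adjoin ⟨_, rfl⟩) ?_
  rw [mem_adjoin_iff b P.O.toSubring hA]
  exact ⟨fun i => A (i, j₀), fun i => hA1 (i, j₀), rfl⟩


include a3 a7 in
/-- Ascent of nonsingularity to the places of the intermediate field. -/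
theorem tower_mp_two {I J : Type*} [Fintype I] [Fintype J] (b : Basis I k k')
    (c : Basis J k' k'')
    (h1 : Function.Bijective (Algebra.TensorProduct.productMap
      (IsScalarTower.toAlgHom k k' K') (IsScalarTower.toAlgHom k K K')))
    (h2 : Function.Bijective (Algebra.TensorProduct.productMap
      (IsScalarTower.toAlgHom k' k'' K'') (IsScalarTower.toAlgHom k' K' K'')))
    (P : Place k K)
    (hP'' : ∀ z : K'', (∀ Q'' : Place k K'', IsOver Q'' P → Q''.1 z ≤ 1) →
      ∃ A : I × J → K, (∀ ij, P.1 (A ij) ≤ 1) ∧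
        z = ∑ ij, algebraMap k'' K'' ((b.smulTower c) ij) * algebraMap K K'' (A ij))
    (Q : Place k K') (hQ : IsOver Q P)
    (z : K'') (hz : ∀ Q'' : Place k K'', IsOver Q'' Q → Q''.1 z ≤ 1) :
    ∃ a : J → K', (∀ j, Q.1 (a j) ≤ 1) ∧
      z = ∑ j, algebraMap k'' K'' (c j) * algebraMap K' K'' (a j) := by
  classical
  haveI := tower_k_K'_K'' (k := k) (K := K) (K' := K') (K'' := K'')
  haveI : FiniteDimensional K K' := finite_of_bijective h1
  haveI : FiniteDimensional K' K'' := finite_of_bijective h2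
  haveI : FiniteDimensional K K'' := Module.Finite.trans K' K''
  have hT := finite_setOf_isOver (K' := K'') P
  have hS := finite_setOf_isOver (K' := K') P
  obtain ⟨N, hN⟩ : ∃ N : ℕ, ∀ Q'' : Place k K'', IsOver Q'' P → Q''.1 z ≤ exp (N : ℤ) := by
    have : ∀ Q'' : Place k K'', ∃ n : ℕ, Q''.1 z ≤ exp (n : ℤ) := by
      intro Q''
      by_cases h0 : Q''.1 z = 0
      · exact ⟨0, by rw [h0]; exact zero_le⟩
      · refine ⟨(log (Q''.1 z)).toNat, ?_⟩
        conv_lhs => rw [← exp_log h0]
        rw [exp_le_exp]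
        exact Int.self_le_toNat _
    choose n hn using this
    refine ⟨hT.toFinset.sup n, fun Q'' hQ'' => (hn Q'').trans ?_⟩
    rw [exp_le_exp]
    exact_mod_cast Finset.le_sup (f := n) (hT.mem_toFinset.2 hQ'')
  obtain ⟨s, hs⟩ := ff_weak_approx_eq hS.toFinset (fun Ql => if Ql = Q then (1 : K') else 0)
    (fun Ql => if Ql = Q then -1 else -(N : ℤ))
  have hsQ : Q.1 s = 1 := by
    have := hs Q (hS.mem_toFinset.2 hQ)
    rw [if_pos rfl, if_pos rfl] at this
    have e : s = 1 + (s - 1) := by ring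
    rw [e, Valuation.map_add_eq_of_lt_left, map_one]
    rw [map_one, this, ← exp_zero, exp_lt_exp]
    norm_num
  have hsl : ∀ Ql : Place k K', IsOver Ql P → Ql ≠ Q → Ql.1 s = exp (-(N : ℤ)) := by
    intro Ql hQl hne
    have := hs Ql (hS.mem_toFinset.2 hQl)
    rwa [if_neg hne, if_neg hne, sub_zero] at this
  have hs0 : s ≠ 0 := by
    rintro rfl
    rw [map_zero] at hsQ
    exact zero_ne_one hsQ
  have hsz : ∀ Q'' : Place k K'', IsOver Q'' P → Q''.1 (algebraMap K' K'' s * z) ≤ 1 := by
    intro Q'' hQ''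
    obtain ⟨Ql, hQl⟩ := exists_isOver_below (K := K') Q''
    have hQlP : IsOver Ql P := isOver_of_isOver_of_isOver hQ'' hQl
    have he := isOverWith_ramIdx hQl
    have he0 := isOverWith_ne_zero he
    rw [map_mul, he]
    by_cases hQlQ : Ql = Q
    · subst hQlQ
      rw [hsQ, one_pow, one_mul]
      exact hz Q'' hQl
    · rw [hsl Ql hQlP hQlQ]
      have hle1 : exp (-(N : ℤ)) ≤ 1 := by
        rw [← exp_zero, exp_le_exp]
        omega
      calc exp (-(N : ℤ)) ^ ramIdx Q'' Ql * Q''.1 z ≤ exp (-(N : ℤ)) * exp (N : ℤ) :=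
            mul_le_mul' (pow_le_of_le_one zero_le hle1 he0) (hN Q'' hQ'')
        _ = 1 := by rw [← exp_add, neg_add_cancel, exp_zero]
  obtain ⟨A, hA1, hA2⟩ := hP'' _ hsz
  rw [sum_prod_eq (K' := K') b c] at hA2
  refine ⟨fun j => s⁻¹ * ∑ i, algebraMap k' K' (b i) * algebraMap K K' (A (i, j)), ?_, ?_⟩
  · intro j
    rw [map_mul, map_inv₀, hsQ, inv_one, one_mul]
    refine Valuation.map_sum_le _ (fun i _ => ?_)
    rw [map_mul]
    refine mul_le_one' (val_le_one_of_isIntegral Q.1 Q.2.1
      ((Algebra.IsIntegral.isIntegral (R := k) (b i)).map (IsScalarTower.toAlgHom k k' K'))) ?_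
    obtain ⟨e, he⟩ := hQ
    rw [he]
    exact pow_le_one₀ zero_le (hA1 _)
  · have hs'' : algebraMap K' K'' s ≠ 0 := (map_ne_zero _).2 hs0
    apply mul_left_cancel₀ hs''
    rw [hA2, Finset.mul_sum]
    refine Finset.sum_congr rfl (fun j _ => ?_)
    rw [map_mul, map_inv₀]
    field_simp


include a1 a2 a3 a4 a5 a6 a7 in
/-- S12534: nonsingular places in towers of constant extensions. -/
theorem tower
    (h1 : Function.Bijective (Algebra.TensorProduct.productMap
      (IsScalarTower.toAlgHom k k' K') (IsScalarTower.toAlgHom k K K')))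
    (h2 : Function.Bijective (Algebra.TensorProduct.productMap
      (IsScalarTower.toAlgHom k' k'' K'') (IsScalarTower.toAlgHom k' K' K'')))
    (hK : IsFunctionField k K) (hg : IsGeometric k K) (P : Place k K) :
    (integralClosure (P.O.toSubring.map (algebraMap K K'')) K'' =
        Algebra.adjoin (P.O.toSubring.map (algebraMap K K'')) (Set.range (algebraMap k'' K''))) ↔
      (integralClosure (P.O.toSubring.map (algebraMap K K')) K' =
          Algebra.adjoin (P.O.toSubring.map (algebraMap K K')) (Set.range (algebraMap k' K')) ∧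
        ∀ Q : Place k K', IsOver Q P →
          integralClosure (Q.O.toSubring.map (algebraMap K' K'')) K'' =
            Algebra.adjoin (Q.O.toSubring.map (algebraMap K' K''))
              (Set.range (algebraMap k'' K''))) := by
  haveI := tower_k_k''_K'' (k := k) (k' := k') (k'' := k'') (K := K) (K' := K') (K'' := K'')
  haveI : FiniteDimensional K K' := finite_of_bijective h1
  haveI : FiniteDimensional K' K'' := finite_of_bijective h2
  haveI : FiniteDimensional K K'' := Module.Finite.trans K' K''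
  haveI : FiniteDimensional k k'' := Module.Finite.trans k' k''
  let b := Module.finBasis k k'
  let c := Module.finBasis k' k''
  rw [ns_iff hK P (b.smulTower c), ns_iff hK P b]
  constructor
  · intro hP''
    refine ⟨fun z hz => tower_mp_one b c h2 P hP'' z hz, fun Q hQ => ?_⟩
    rw [ns_iff_Q h1 h2 hK hg c Q]
    exact fun z hz => tower_mp_two b c h1 h2 P hP'' Q hQ z hz
  · rintro ⟨hP', hQ''⟩
    exact fun z hz => tower_mpr b c h2 P hP'
      (fun Q hQ => (ns_iff_Q h1 h2 hK hg c Q).1 (hQ'' Q hQ)) z hz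

end Groth.Agent.Lib.Helper63.NonsingTower
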