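import Groth.Agent.Lib.Helper63.NonsingCount
import Groth.Agent.Lib.Helper63.NonsingTower

/-! S12527: a geometric function field has finitely many singular places (helper63). -/

set_option autoImplicit false
set_option linter.style.haveILetI false
set_option linter.unusedSectionVars false

namespace Groth.Agent.Lib.Helper63.NonsingFinite

open WithZero FunFld TensorProduct Module Groth.Agent.Lib.Helper55
  Groth.Agent.Lib.Helper63.FunFldExt Groth.Agent.Lib.Helper63.FundIneq
  Groth.Agent.Lib.Helper63.ConstExtGeometric Groth.Agent.Lib.Helper63.NonsingBasic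
  Groth.Agent.Lib.Helper63.NonsingCount Groth.Agent.Lib.Helper63.NonsingTower

universe u v

variable {k : Type u} {K : Type v} [Field k] [Field K] [Algebra k K]

/-- `P` is singular with respect to `k'`, in the raw tensor product form. -/
def RawSing (k' : Type u) [Field k'] [Algebra k k'] (P : Place k K) : Prop :=
  integralClosure (P.O.toSubring.map
      (Algebra.TensorProduct.includeRight : K →ₐ[k] k' ⊗[k] K).toRingHom) (k' ⊗[k] K) ≠
    Algebra.adjoin (P.O.toSubring.map
      (Algebra.TensorProduct.includeRight : K →ₐ[k] k' ⊗[k] K).toRingHom)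
      (Set.range (Algebra.TensorProduct.includeLeftRingHom : k' →+* k' ⊗[k] K))

theorem productMap_bijective (k' : Type u) [Field k'] [Algebra k k']
    (hF : IsField (k' ⊗[k] K)) :
    letI : Field (k' ⊗[k] K) := hF.toField
    letI : Algebra K (k' ⊗[k] K) := Algebra.TensorProduct.rightAlgebra
    Function.Bijective (Algebra.TensorProduct.productMap
      (IsScalarTower.toAlgHom k k' (k' ⊗[k] K)) (IsScalarTower.toAlgHom k K (k' ⊗[k] K))) := by
  letI : Field (k' ⊗[k] K) := hF.toField
  letI : Algebra K (k' ⊗[k] K) := Algebra.TensorProduct.rightAlgebra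
  have : (Algebra.TensorProduct.productMap
      (IsScalarTower.toAlgHom k k' (k' ⊗[k] K)) (IsScalarTower.toAlgHom k K (k' ⊗[k] K))) =
      AlgHom.id k (k' ⊗[k] K) := by
    apply Algebra.TensorProduct.ext'
    intro a b
    rw [Algebra.TensorProduct.productMap_apply_tmul]
    change (a ⊗ₜ[k] (1 : K)) * ((1 : k') ⊗ₜ[k] b) = _
    rw [Algebra.TensorProduct.tmul_mul_tmul, mul_one, one_mul]
    rfl
  rw [this]
  exact Function.bijective_id

/-- The places singular with respect to a fixed `k''` are at most `g` in number. -/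
theorem raw_count (hK : IsFunctionField k K) (hg : IsGeometric k K)
    (k'' : Type u) [Field k''] [Algebra k k''] [FiniteDimensional k k'']
    (S : Finset (Place k K)) (hS : ∀ P ∈ S, RawSing k'' P) : S.card ≤ genus k K := by
  have hF := hg k'' inferInstance
  letI : Field (k'' ⊗[k] K) := hF.toField
  letI : Algebra K (k'' ⊗[k] K) := Algebra.TensorProduct.rightAlgebra
  have h1 := productMap_bijective (K := K) k'' hF
  have := card_add_genus_le h1 hK hg S hS
  omega


/-- Singularity with respect to `k'` persists in every larger finite extension `k''`. -/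
theorem raw_down (hK : IsFunctionField k K) (hg : IsGeometric k K)
    (k' k'' : Type u) [Field k'] [Algebra k k'] [FiniteDimensional k k']
    [Field k''] [Algebra k k''] [FiniteDimensional k k''] (f : k' →ₐ[k] k'')
    (P : Place k K) (hP : RawSing k' P) : RawSing k'' P := by
  have hF' := hg k' inferInstance
  have hF'' := hg k'' inferInstance
  letI : Algebra k' k'' := f.toRingHom.toAlgebra
  haveI : IsScalarTower k k' k'' := IsScalarTower.of_algebraMap_eq (fun c => (f.commutes c).symm)
  haveI : FiniteDimensional k' k'' := Module.Finite.of_restrictScalars_finite k k' k''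
  letI F1 : Field (k' ⊗[k] K) := hF'.toField
  letI F2 : Field (k'' ⊗[k] K) := hF''.toField
  letI : Algebra K (k' ⊗[k] K) := Algebra.TensorProduct.rightAlgebra
  letI : Algebra K (k'' ⊗[k] K) := Algebra.TensorProduct.rightAlgebra
  letI : Algebra (k' ⊗[k] K) (k'' ⊗[k] K) :=
    (Algebra.TensorProduct.map f (AlgHom.id k K)).toRingHom.toAlgebra
  haveI : IsScalarTower k' k'' (k'' ⊗[k] K) := inferInstance
  have hmap : ∀ (c : k') (x : K), algebraMap (k' ⊗[k] K) (k'' ⊗[k] K) (c ⊗ₜ[k] x) =
      (f c) ⊗ₜ[k] x := fun c x => by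
    change (Algebra.TensorProduct.map f (AlgHom.id k K)) (c ⊗ₜ[k] x) = _
    rw [Algebra.TensorProduct.map_tmul]
    rfl
  haveI : IsScalarTower k' (k' ⊗[k] K) (k'' ⊗[k] K) := IsScalarTower.of_algebraMap_eq (fun c => by
    change (f c) ⊗ₜ[k] (1 : K) = algebraMap (k' ⊗[k] K) (k'' ⊗[k] K) (c ⊗ₜ[k] (1 : K))
    rw [hmap])
  haveI : IsScalarTower K (k' ⊗[k] K) (k'' ⊗[k] K) := IsScalarTower.of_algebraMap_eq (fun x => by
    change (1 : k'') ⊗ₜ[k] x = algebraMap (k' ⊗[k] K) (k'' ⊗[k] K) ((1 : k') ⊗ₜ[k] x)
    rw [hmap, map_one])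
  have h1 := productMap_bijective (K := K) k' hF'
  have hgeo' : IsGeometric k' (k' ⊗[k] K) := isGeometric h1 hg
  have hF3 := hgeo' k'' inferInstance
  have h2 : Function.Bijective (Algebra.TensorProduct.productMap
      (IsScalarTower.toAlgHom k' k'' (k'' ⊗[k] K))
      (IsScalarTower.toAlgHom k' (k' ⊗[k] K) (k'' ⊗[k] K))) := by
    constructor
    · letI : Field (k'' ⊗[k'] (k' ⊗[k] K)) := hF3.toField
      exact RingHom.injective ((Algebra.TensorProduct.productMap
        (IsScalarTower.toAlgHom k' k'' (k'' ⊗[k] K))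
        (IsScalarTower.toAlgHom k' (k' ⊗[k] K) (k'' ⊗[k] K))) :
          k'' ⊗[k'] (k' ⊗[k] K) →+* k'' ⊗[k] K)
    · intro t
      induction t using TensorProduct.induction_on with
      | zero => exact ⟨0, map_zero _⟩
      | tmul c x =>
        refine ⟨c ⊗ₜ[k'] ((1 : k') ⊗ₜ[k] x), ?_⟩
        rw [Algebra.TensorProduct.productMap_apply_tmul]
        change (c ⊗ₜ[k] (1 : K)) * algebraMap (k' ⊗[k] K) (k'' ⊗[k] K) ((1 : k') ⊗ₜ[k] x) = _
        rw [hmap, map_one, Algebra.TensorProduct.tmul_mul_tmul, mul_one, one_mul]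
      | add a b ha hb =>
        obtain ⟨a', rfl⟩ := ha
        obtain ⟨b', rfl⟩ := hb
        exact ⟨a' + b', map_add _ _ _⟩
  intro hNS
  exact hP ((tower h1 h2 hK hg P).1 hNS).1


/-- Singularity is detected inside a fixed algebraic closure. -/
theorem exists_intermediate (hK : IsFunctionField k K) (hg : IsGeometric k K)
    (k' : Type u) [Field k'] [Algebra k k'] [FiniteDimensional k k'] (P : Place k K)
    (hP : RawSing k' P) :
    ∃ E : IntermediateField k (AlgebraicClosure k), FiniteDimensional k E ∧ RawSing (↥E) P := by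
  obtain ⟨ι⟩ : Nonempty (k' →ₐ[k] AlgebraicClosure k) := ⟨IsAlgClosed.lift⟩
  have hfd : FiniteDimensional k ι.fieldRange :=
    (AlgEquiv.ofInjectiveField ι).toLinearEquiv.finiteDimensional
  refine ⟨ι.fieldRange, hfd, ?_⟩
  exact @raw_down k K _ _ _ hK hg k' ι.fieldRange _ _ _ _ _ hfd
    (AlgEquiv.ofInjectiveField ι).toAlgHom P hP

/-- S12527. -/
theorem main (hK : IsFunctionField k K) (hg : IsGeometric k K) :
    {P : Place k K | ∃ (k' : Type u) (_ : Field k') (_ : Algebra k k'),
      FiniteDimensional k k' ∧ RawSing k' P}.Finite := by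
  classical
  by_contra hinf
  obtain ⟨T, hT, hcard⟩ := Set.Infinite.exists_subset_card_eq hinf (genus k K + 1)
  have hdata : ∀ P ∈ T, ∃ E : IntermediateField k (AlgebraicClosure k),
      FiniteDimensional k E ∧ RawSing (↥E) P := by
    intro P hP
    obtain ⟨k', fk', ak', fd', hsing⟩ := hT hP
    exact exists_intermediate hK hg k' P hsing
  choose! E hEfd hEsing using hdata
  let F : IntermediateField k (AlgebraicClosure k) := ⨆ P : ↥T, E P.1
  haveI : ∀ P : ↥T, FiniteDimensional k (E P.1) := fun P => hEfd P.1 P.2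
  haveI : FiniteDimensional k F := IntermediateField.finiteDimensional_iSup_of_finite
  have hall : ∀ P ∈ T, RawSing ↥F P := fun P hP => by
    haveI := hEfd P hP
    exact raw_down hK hg (E P) F
      (IntermediateField.inclusion (le_iSup (fun P : ↥T => E P.1) ⟨P, hP⟩)) P (hEsing P hP)
  have := raw_count hK hg F T hall
  omega

end Groth.Agent.Lib.Helper63.NonsingFinite
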