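import Groth.Agent.Lib.Helper63.NonsingFinite

/-! Models of constant field extensions `k' ⊗_k K`: existence, transitivity, comparison, and
the monotonicity of the genus (helper63). -/

set_option autoImplicit false
set_option linter.style.haveILetI false
set_option linter.unusedSectionVars false

namespace Groth.Agent.Lib.Helper63.NonsingModel

open WithZero FunFld TensorProduct Module Groth.Agent.Lib.Helper55
  Groth.Agent.Lib.Helper63.FunFldExt Groth.Agent.Lib.Helper63.FundIneq
  Groth.Agent.Lib.Helper63.ConstExtGeometric Groth.Agent.Lib.Helper63.NonsingBasic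
  Groth.Agent.Lib.Helper63.NonsingCount Groth.Agent.Lib.Helper63.NonsingTower
  Groth.Agent.Lib.Helper63.NonsingFinite

universe u v w x

/-- Two finite extensions of a field have a common finite overfield. -/
theorem exists_compositum (k' N k'' : Type u) [Field k'] [Field N] [Field k''] [Algebra k' N]
    [Algebra k' k''] [FiniteDimensional k' N] [FiniteDimensional k' k''] :
    ∃ (M : Type u) (_ : Field M) (_ : Algebra N M) (_ : Algebra k'' M) (_ : Algebra k' M)
      (_ : IsScalarTower k' N M) (_ : IsScalarTower k' k'' M), FiniteDimensional k' M := by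
  haveI : Nontrivial (N ⊗[k'] k'') := by
    apply Module.nontrivial_of_finrank_pos (R := k')
    rw [Module.finrank_tensorProduct]
    exact Nat.mul_pos Module.finrank_pos Module.finrank_pos
  obtain ⟨m, hm⟩ := Ideal.exists_maximal (N ⊗[k'] k'')
  haveI := hm
  letI : Field ((N ⊗[k'] k'') ⧸ m) := Ideal.Quotient.field m
  letI : Algebra k'' (N ⊗[k'] k'') := Algebra.TensorProduct.rightAlgebra
  refine ⟨(N ⊗[k'] k'') ⧸ m, inferInstance, inferInstance, inferInstance, inferInstance,
    inferInstance, inferInstance, ?_⟩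
  exact Module.Finite.of_surjective (Ideal.Quotient.mkₐ k' m).toLinearMap
    (Ideal.Quotient.mkₐ_surjective k' m)

/-- Existence of a model of `k' ⊗_k K`. -/
theorem exists_model {k : Type u} {K : Type v} [Field k] [Field K] [Algebra k K]
    (hg : IsGeometric k K) (k' : Type u) [Field k'] [Algebra k k'] [FiniteDimensional k k'] :
    ∃ (K' : Type (max u v)) (_ : Field K') (_ : Algebra K K') (_ : Algebra k' K')
      (_ : Algebra k K') (_ : IsScalarTower k k' K') (_ : IsScalarTower k K K'),
      Function.Bijective (Algebra.TensorProduct.productMap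
        (IsScalarTower.toAlgHom k k' K') (IsScalarTower.toAlgHom k K K')) := by
  have hF := hg k' inferInstance
  letI : Field (k' ⊗[k] K) := hF.toField
  letI : Algebra K (k' ⊗[k] K) := Algebra.TensorProduct.rightAlgebra
  exact ⟨k' ⊗[k] K, inferInstance, inferInstance, inferInstance, inferInstance, inferInstance,
    inferInstance, productMap_bijective (K := K) k' hF⟩


/-- The genus does not increase under a constant field extension. -/
theorem genus_le {k k' : Type u} {K : Type v} {K' : Type w} [Field k] [Field k'] [Field K]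
    [Field K'] [Algebra k k'] [FiniteDimensional k k'] [Algebra k K] [Algebra K K']
    [Algebra k' K'] [Algebra k K'] [IsScalarTower k k' K'] [IsScalarTower k K K']
    (h : Function.Bijective (Algebra.TensorProduct.productMap
      (IsScalarTower.toAlgHom k k' K') (IsScalarTower.toAlgHom k K K')))
    (hK : IsFunctionField k K) (hg : IsGeometric k K) : genus k' K' ≤ genus k K := by
  have := card_add_genus_le h hK hg ∅ (by simp)
  simpa using this

section tower

variable {k k' k'' : Type u} {K : Type v} {K' : Type w} {K'' : Type x} [Field k] [Field k']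
  [Field k''] [Field K] [Field K'] [Field K'']
  [Algebra k k'] [Algebra k' k''] [Algebra k k''] [a1 : IsScalarTower k k' k'']
  [FiniteDimensional k k'] [FiniteDimensional k' k'']
  [Algebra k K] [Algebra K K'] [Algebra k' K'] [Algebra k K'] [a2 : IsScalarTower k k' K']
  [a3 : IsScalarTower k K K']

/-- The composite algebra structures on a model over a model. -/
theorem exists_tower_instances [Algebra K' K''] [Algebra k'' K''] [Algebra k' K'']
    [a4 : IsScalarTower k' k'' K''] [a5 : IsScalarTower k' K' K''] :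
    ∃ (_ : Algebra K K'') (_ : Algebra k K'') (_ : IsScalarTower K K' K'')
      (_ : IsScalarTower k K K'') (_ : IsScalarTower k k'' K'') (_ : IsScalarTower k k' K'')
      (_ : IsScalarTower k K' K''), True := by
  letI : Algebra K K'' := ((algebraMap K' K'').comp (algebraMap K K')).toAlgebra
  letI : Algebra k K'' := ((algebraMap k' K'').comp (algebraMap k k')).toAlgebra
  have a6 : IsScalarTower K K' K'' := IsScalarTower.of_algebraMap_eq (fun _ => rfl)
  have a10 : IsScalarTower k k' K'' := IsScalarTower.of_algebraMap_eq (fun _ => rfl)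
  have a9 : IsScalarTower k K' K'' := IsScalarTower.of_algebraMap_eq (fun c => by
    change algebraMap k' K'' (algebraMap k k' c) = algebraMap K' K'' (algebraMap k K' c)
    rw [IsScalarTower.algebraMap_apply k k' K', ← IsScalarTower.algebraMap_apply k' K' K''])
  have a7 : IsScalarTower k K K'' := IsScalarTower.of_algebraMap_eq (fun c => by
    change algebraMap k' K'' (algebraMap k k' c) =
      algebraMap K' K'' (algebraMap K K' (algebraMap k K c))
    rw [← IsScalarTower.algebraMap_apply k K K', IsScalarTower.algebraMap_apply k k' K',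
      ← IsScalarTower.algebraMap_apply k' K' K''])
  have a8 : IsScalarTower k k'' K'' := IsScalarTower.of_algebraMap_eq (fun c => by
    change algebraMap k' K'' (algebraMap k k' c) = algebraMap k'' K'' (algebraMap k k'' c)
    rw [IsScalarTower.algebraMap_apply k k' k'', ← IsScalarTower.algebraMap_apply k' k'' K''])
  exact ⟨inferInstance, inferInstance, a6, a7, a8, a10, a9, trivial⟩

variable [Algebra K' K''] [Algebra k'' K''] [Algebra k' K''] [Algebra k K''] [Algebra K K'']
  [a4 : IsScalarTower k' k'' K''] [a5 : IsScalarTower k' K' K''] [a6 : IsScalarTower K K' K'']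
  [a7 : IsScalarTower k K K''] [a8 : IsScalarTower k k'' K'']

include a1 a2 a3 a4 a5 a6 a7 a8 in
/-- Transitivity of models. -/
theorem trans_bijective
    (h1 : Function.Bijective (Algebra.TensorProduct.productMap
      (IsScalarTower.toAlgHom k k' K') (IsScalarTower.toAlgHom k K K')))
    (h2 : Function.Bijective (Algebra.TensorProduct.productMap
      (IsScalarTower.toAlgHom k' k'' K'') (IsScalarTower.toAlgHom k' K' K'')))
    (hg : IsGeometric k K) :
    Function.Bijective (Algebra.TensorProduct.productMap
      (IsScalarTower.toAlgHom k k'' K'') (IsScalarTower.toAlgHom k K K'')) := by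
  haveI : FiniteDimensional k k'' := Module.Finite.trans k' k''
  constructor
  · have hF := hg k'' inferInstance
    letI : Field (k'' ⊗[k] K) := hF.toField
    exact RingHom.injective ((Algebra.TensorProduct.productMap
      (IsScalarTower.toAlgHom k k'' K'') (IsScalarTower.toAlgHom k K K'')) : k'' ⊗[k] K →+* K'')
  · intro y
    obtain ⟨t, rfl⟩ := h2.2 y
    induction t using TensorProduct.induction_on with
    | zero => exact ⟨0, by rw [map_zero, map_zero]⟩
    | add a b ha hb =>
      obtain ⟨a', ha'⟩ := ha
      obtain ⟨b', hb'⟩ := hb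
      exact ⟨a' + b', by rw [map_add, map_add, ha', hb']⟩
    | tmul c x' =>
      obtain ⟨s, rfl⟩ := h1.2 x'
      induction s using TensorProduct.induction_on with
      | zero => exact ⟨0, by rw [map_zero, map_zero, TensorProduct.tmul_zero, map_zero]⟩
      | add a b ha hb =>
        obtain ⟨a', ha'⟩ := ha
        obtain ⟨b', hb'⟩ := hb
        exact ⟨a' + b', by rw [map_add, map_add, TensorProduct.tmul_add, map_add, ha', hb']⟩
      | tmul d x =>
        refine ⟨(c * algebraMap k' k'' d) ⊗ₜ[k] x, ?_⟩
        simp only [Algebra.TensorProduct.productMap_apply_tmul, IsScalarTower.coe_toAlgHom',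
          map_mul]
        rw [← IsScalarTower.algebraMap_apply k' k'' K'', IsScalarTower.algebraMap_apply k' K' K'',
          ← IsScalarTower.algebraMap_apply K K' K'', mul_assoc]

include a1 a2 a3 a4 a5 a6 a7 a8 in
/-- A model of `k'' ⊗_k K` over a model of `k' ⊗_k K` is a model of `k'' ⊗_{k'} K'`. -/
theorem cancel_bijective
    (h1 : Function.Bijective (Algebra.TensorProduct.productMap
      (IsScalarTower.toAlgHom k k' K') (IsScalarTower.toAlgHom k K K')))
    (h3 : Function.Bijective (Algebra.TensorProduct.productMap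
      (IsScalarTower.toAlgHom k k'' K'') (IsScalarTower.toAlgHom k K K'')))
    (hg : IsGeometric k K) :
    Function.Bijective (Algebra.TensorProduct.productMap
      (IsScalarTower.toAlgHom k' k'' K'') (IsScalarTower.toAlgHom k' K' K'')) := by
  constructor
  · have hF := isGeometric h1 hg k'' inferInstance
    letI : Field (k'' ⊗[k'] K') := hF.toField
    exact RingHom.injective ((Algebra.TensorProduct.productMap
      (IsScalarTower.toAlgHom k' k'' K'') (IsScalarTower.toAlgHom k' K' K'')) :
        k'' ⊗[k'] K' →+* K'')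
  · intro y
    obtain ⟨t, rfl⟩ := h3.2 y
    induction t using TensorProduct.induction_on with
    | zero => exact ⟨0, by rw [map_zero, map_zero]⟩
    | add a b ha hb =>
      obtain ⟨a', ha'⟩ := ha
      obtain ⟨b', hb'⟩ := hb
      exact ⟨a' + b', by rw [map_add, map_add, ha', hb']⟩
    | tmul c x =>
      refine ⟨c ⊗ₜ[k'] (algebraMap K K' x), ?_⟩
      simp only [Algebra.TensorProduct.productMap_apply_tmul, IsScalarTower.coe_toAlgHom']
      rw [← IsScalarTower.algebraMap_apply K K' K'']

end tower


section compare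

variable {k k₁ k₂ : Type u} {K : Type v} {K₁ : Type w} {K₂ : Type x} [Field k] [Field k₁]
  [Field k₂] [Field K] [Field K₁] [Field K₂]
  [Algebra k k₁] [Algebra k₁ k₂] [Algebra k k₂] [a1 : IsScalarTower k k₁ k₂]
  [FiniteDimensional k k₁] [FiniteDimensional k₁ k₂]
  [Algebra k K] [Algebra K K₁] [Algebra k₁ K₁] [Algebra k K₁] [a2 : IsScalarTower k k₁ K₁]
  [a3 : IsScalarTower k K K₁]
  [Algebra K K₂] [Algebra k₂ K₂] [Algebra k K₂] [b2 : IsScalarTower k k₂ K₂]
  [b3 : IsScalarTower k K K₂]

include a1 a2 a3 b2 b3 in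
/-- A model of `k₂ ⊗_k K` is an algebra over any model of `k₁ ⊗_k K`, `k₁ ⊆ k₂`, and a model of
`k₂ ⊗_{k₁} K₁`. -/
theorem exists_algebra_of_models
    (h1 : Function.Bijective (Algebra.TensorProduct.productMap
      (IsScalarTower.toAlgHom k k₁ K₁) (IsScalarTower.toAlgHom k K K₁)))
    (h3 : Function.Bijective (Algebra.TensorProduct.productMap
      (IsScalarTower.toAlgHom k k₂ K₂) (IsScalarTower.toAlgHom k K K₂)))
    (hg : IsGeometric k K) :
    ∃ (_ : Algebra K₁ K₂) (_ : Algebra k₁ K₂) (_ : IsScalarTower k₁ k₂ K₂)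
      (_ : IsScalarTower k₁ K₁ K₂) (_ : IsScalarTower K K₁ K₂) (_ : IsScalarTower k k₁ K₂),
      Function.Bijective (Algebra.TensorProduct.productMap
        (IsScalarTower.toAlgHom k₁ k₂ K₂) (IsScalarTower.toAlgHom k₁ K₁ K₂)) := by
  letI ak₁K₂ : Algebra k₁ K₂ := ((algebraMap k₂ K₂).comp (algebraMap k₁ k₂)).toAlgebra
  haveI a4 : IsScalarTower k₁ k₂ K₂ := IsScalarTower.of_algebraMap_eq (fun _ => rfl)
  haveI a10 : IsScalarTower k k₁ K₂ := IsScalarTower.of_algebraMap_eq (fun c => by
    change algebraMap k K₂ c = algebraMap k₂ K₂ (algebraMap k₁ k₂ (algebraMap k k₁ c))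
    rw [← IsScalarTower.algebraMap_apply k k₁ k₂, ← IsScalarTower.algebraMap_apply k k₂ K₂])
  let φ : k₁ ⊗[k] K →ₐ[k₁] K₁ :=
    Algebra.TensorProduct.productLeftAlgHom (Algebra.ofId k₁ K₁) (IsScalarTower.toAlgHom k K K₁)
  have hφ : Function.Bijective φ := h1
  let e : k₁ ⊗[k] K ≃ₐ[k₁] K₁ := AlgEquiv.ofBijective φ hφ
  let g : k₁ ⊗[k] K →ₐ[k₁] K₂ :=
    Algebra.TensorProduct.productLeftAlgHom (Algebra.ofId k₁ K₂) (IsScalarTower.toAlgHom k K K₂)
  let f : K₁ →ₐ[k₁] K₂ := g.comp e.symm.toAlgHom
  letI aK₁K₂ : Algebra K₁ K₂ := f.toRingHom.toAlgebra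
  haveI a5 : IsScalarTower k₁ K₁ K₂ :=
    IsScalarTower.of_algebraMap_eq (fun c => (f.commutes c).symm)
  haveI a6 : IsScalarTower K K₁ K₂ := IsScalarTower.of_algebraMap_eq (fun x => by
    change algebraMap K K₂ x = g (e.symm (algebraMap K K₁ x))
    have h4 : e.symm (algebraMap K K₁ x) = (1 : k₁) ⊗ₜ[k] x := by
      rw [AlgEquiv.symm_apply_eq]
      change _ = φ ((1 : k₁) ⊗ₜ[k] x)
      simp [φ]
    rw [h4]
    simp [g])
  exact ⟨aK₁K₂, ak₁K₂, a4, a5, a6, a10, cancel_bijective h1 h3 hg⟩

include a1 a2 a3 b2 b3 in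
/-- The genus is monotone along constant field extensions. -/
theorem genus_le_of_models
    (h1 : Function.Bijective (Algebra.TensorProduct.productMap
      (IsScalarTower.toAlgHom k k₁ K₁) (IsScalarTower.toAlgHom k K K₁)))
    (h3 : Function.Bijective (Algebra.TensorProduct.productMap
      (IsScalarTower.toAlgHom k k₂ K₂) (IsScalarTower.toAlgHom k K K₂)))
    (hK : IsFunctionField k K) (hg : IsGeometric k K) : genus k₂ K₂ ≤ genus k₁ K₁ := by
  obtain ⟨_, _, _, _, _, _, h2⟩ := exists_algebra_of_models h1 h3 hg
  exact genus_le h2 (isFunctionField h1 hK hg) (isGeometric h1 hg)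

end compare

/-- The genera of the models of constant field extensions. -/
def IsModelGenus (k : Type u) (K : Type v) [Field k] [Field K] [Algebra k K] (g : ℕ) : Prop :=
  ∃ (k₁ : Type u) (_ : Field k₁) (_ : Algebra k k₁) (_ : FiniteDimensional k k₁)
    (K₁ : Type (max u v)) (_ : Field K₁) (_ : Algebra K K₁) (_ : Algebra k₁ K₁) (_ : Algebra k K₁)
    (_ : IsScalarTower k k₁ K₁) (_ : IsScalarTower k K K₁),
    Function.Bijective (Algebra.TensorProduct.productMap
      (IsScalarTower.toAlgHom k k₁ K₁) (IsScalarTower.toAlgHom k K K₁)) ∧ genus k₁ K₁ = g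

section minimal

variable {k k₁ k₂ : Type u} {K : Type v} {K₁ : Type w} {K₂ : Type (max u v)} [Field k] [Field k₁]
  [Field k₂] [Field K] [Field K₁] [Field K₂]
  [Algebra k k₁] [FiniteDimensional k k₁]
  [Algebra k K] [Algebra K K₁] [Algebra k₁ K₁] [Algebra k K₁] [a2 : IsScalarTower k k₁ K₁]
  [a3 : IsScalarTower k K K₁]
  [Algebra k₁ k₂] [FiniteDimensional k₁ k₂] [Algebra K₁ K₂] [Algebra k₂ K₂] [Algebra k₁ K₂]
  [a4 : IsScalarTower k₁ k₂ K₂] [a5 : IsScalarTower k₁ K₁ K₂]

include a2 a3 a4 a5 in
/-- A model of minimal genus is nonsingular with respect to every further constant field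
extension. -/
theorem nonsingular_of_minimal (hK : IsFunctionField k K) (hg : IsGeometric k K)
    (h1 : Function.Bijective (Algebra.TensorProduct.productMap
      (IsScalarTower.toAlgHom k k₁ K₁) (IsScalarTower.toAlgHom k K K₁)))
    (h2 : Function.Bijective (Algebra.TensorProduct.productMap
      (IsScalarTower.toAlgHom k₁ k₂ K₂) (IsScalarTower.toAlgHom k₁ K₁ K₂)))
    (hmin : ∀ g, IsModelGenus k K g → genus k₁ K₁ ≤ g) (P : Place k₁ K₁) :
    integralClosure ↥(P.O.toSubring.map (algebraMap K₁ K₂)) K₂ =
      Algebra.adjoin ↥(P.O.toSubring.map (algebraMap K₁ K₂)) (Set.range (algebraMap k₂ K₂)) := by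
  classical
  by_contra hns
  letI : Algebra k k₂ := ((algebraMap k₁ k₂).comp (algebraMap k k₁)).toAlgebra
  haveI a1 : IsScalarTower k k₁ k₂ := IsScalarTower.of_algebraMap_eq (fun _ => rfl)
  haveI : FiniteDimensional k k₂ := Module.Finite.trans k₁ k₂
  obtain ⟨aKK₂, akK₂, a6, a7, a8, a10, a9, -⟩ := exists_tower_instances (k := k) (k' := k₁)
    (k'' := k₂) (K := K) (K' := K₁) (K'' := K₂)
  have h3 := trans_bijective h1 h2 hg
  have hge := hmin (genus k₂ K₂) ⟨k₂, inferInstance, inferInstance, inferInstance, K₂,
    inferInstance, aKK₂, inferInstance, akK₂, a8, a7, h3, rfl⟩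
  have hle := card_add_genus_le h2 (isFunctionField h1 hK hg) (isGeometric h1 hg) {P} (by
    intro P' hP'
    rw [Finset.mem_singleton] at hP'
    subst hP'
    exact hns)
  rw [Finset.card_singleton] at hle
  omega

end minimal

end Groth.Agent.Lib.Helper63.NonsingModel
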