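import Mathlib

/-! A finite normal extension is separable over a purely inseparable subextension (helper63). -/

set_option autoImplicit false
set_option linter.style.haveILetI false

namespace Groth.Agent.Lib.Helper63.NormalPI

open Polynomial

theorem exists_purelyInseparable_sub (k N : Type*) [Field k] [Field N] [Algebra k N]
    [FiniteDimensional k N] [Normal k N] :
    ∃ k' : IntermediateField k N, IsPurelyInseparable k k' ∧ Algebra.IsSeparable k' N := by
  classical
  let k' : IntermediateField k N := IntermediateField.fixedField (⊤ : Subgroup (N ≃ₐ[k] N))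
  refine ⟨k', ?_, ?_⟩
  · rw [isPurelyInseparable_iff_natSepDegree_eq_one]
    intro x
    have hx : ∀ σ : N ≃ₐ[k] N, σ x.1 = x.1 := fun σ =>
      (IntermediateField.mem_fixedField_iff _ _).1 x.2 σ (Subgroup.mem_top σ)
    have hint : IsIntegral k x.1 := Algebra.IsIntegral.isIntegral _
    rw [IntermediateField.minpoly_eq x]
    have hsplit : ((minpoly k x.1).map (algebraMap k N)).Splits := Normal.splits inferInstance x.1
    rw [Polynomial.natSepDegree_eq_of_splits _ hsplit]
    have : ((minpoly k x.1).aroots N).toFinset = {x.1} := by
      ext y
      simp only [Multiset.mem_toFinset, Finset.mem_singleton, Polynomial.mem_aroots]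
      constructor
      · rintro ⟨-, hy⟩
        obtain ⟨σ, hσ⟩ := minpoly.exists_algEquiv_of_root hint.isAlgebraic hy
        have h1 := hx σ.symm
        rw [← hσ, AlgEquiv.symm_apply_apply] at h1
        rw [h1]
        exact hσ
      · rintro rfl
        exact ⟨minpoly.ne_zero hint, minpoly.aeval _ _⟩
    rw [this, Finset.card_singleton]
  · haveI : IsGalois k' N := IsGalois.of_fixed_field N (⊤ : Subgroup (N ≃ₐ[k] N))
    infer_instance

end Groth.Agent.Lib.Helper63.NormalPI
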