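import Groth.Agent.Lib.Helper63.NonsingModel
import Groth.Agent.Lib.Helper63.ConstExtUnramSub
import Groth.Agent.Lib.Helper63.NormalPI

/-! S12594: a finite purely inseparable constant field extension makes a geometric function field
nonsingular (helper63). -/

set_option autoImplicit false
set_option linter.style.haveILetI false
set_option linter.unusedSectionVars false

namespace Groth.Agent.Lib.Helper63.NonsingPI

open WithZero FunFld TensorProduct Module Groth.Agent.Lib.Helper55
  Groth.Agent.Lib.Helper63.FunFldExt Groth.Agent.Lib.Helper63.FundIneq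
  Groth.Agent.Lib.Helper63.ConstExtGeometric Groth.Agent.Lib.Helper63.NonsingBasic
  Groth.Agent.Lib.Helper63.NonsingCount Groth.Agent.Lib.Helper63.NonsingTower
  Groth.Agent.Lib.Helper63.NonsingFinite Groth.Agent.Lib.Helper63.NonsingModel

universe u v

/-- A finite normal extension `N` containing a given finite extension, with a purely inseparable
subextension `k'` over which `N` is separable. -/
theorem exists_normal_pi (k k₁ : Type u) [Field k] [Field k₁] [Algebra k k₁]
    [FiniteDimensional k k₁] :
    ∃ (N : Type u) (_ : Field N) (_ : Algebra k N) (_ : Algebra k₁ N) (_ : IsScalarTower k k₁ N)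
      (k' : Type u) (_ : Field k') (_ : Algebra k k') (_ : Algebra k' N) (_ : IsScalarTower k k' N),
      FiniteDimensional k N ∧ FiniteDimensional k k' ∧ IsPurelyInseparable k k' ∧
        Algebra.IsSeparable k' N := by
  haveI : Algebra.IsAlgebraic k k₁ := Algebra.IsAlgebraic.of_finite k k₁
  haveI : Normal k (AlgebraicClosure k₁) := IsAlgClosure.normal k _
  obtain ⟨k', hpi, hsep⟩ := Groth.Agent.Lib.Helper63.NormalPI.exists_purelyInseparable_sub k
    ↥(IntermediateField.normalClosure k k₁ (AlgebraicClosure k₁))
  exact ⟨↥(IntermediateField.normalClosure k k₁ (AlgebraicClosure k₁)), inferInstance,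
    inferInstance, inferInstance, inferInstance, k', inferInstance, inferInstance, inferInstance,
    inferInstance, inferInstance, inferInstance, hpi, hsep⟩

theorem main (k : Type u) (K : Type v) [Field k] [Field K] [Algebra k K]
    (hK : FunFld.IsFunctionField k K) (hg : FunFld.IsGeometric k K) :
    ∃ (k' : Type u) (_ : Field k') (_ : Algebra k k'), FiniteDimensional k k' ∧ IsPurelyInseparable k k' ∧
      ∀ (K' : Type v) [Field K'] [Algebra K K'] [Algebra k' K'] [Algebra k K']
        [IsScalarTower k k' K'] [IsScalarTower k K K'],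
        Function.Bijective (Algebra.TensorProduct.productMap
          (IsScalarTower.toAlgHom k k' K') (IsScalarTower.toAlgHom k K K')) →
        ∀ (Q : FunFld.Place k' K') (k'' : Type u) [Field k''] [Algebra k' k''] [FiniteDimensional k' k'']
          (K'' : Type v) [Field K''] [Algebra K' K''] [Algebra k'' K''] [Algebra k' K'']
          [IsScalarTower k' k'' K''] [IsScalarTower k' K' K''],
          Function.Bijective (Algebra.TensorProduct.productMap
            (IsScalarTower.toAlgHom k' k'' K'') (IsScalarTower.toAlgHom k' K' K'')) →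
          integralClosure (Q.O.toSubring.map (algebraMap K' K'')) K'' =
            Algebra.adjoin (Q.O.toSubring.map (algebraMap K' K'')) (Set.range (algebraMap k'' K'')) := by
  classical
  -- a model of minimal genus
  have hne : ∃ g, IsModelGenus k K g := by
    obtain ⟨K₁, fK₁, aKK₁, ak'K₁, akK₁, t1, t2, h₁⟩ := exists_model hg k
    exact ⟨_, k, inferInstance, inferInstance, inferInstance, K₁, fK₁, aKK₁, ak'K₁, akK₁, t1, t2,
      h₁, rfl⟩
  obtain ⟨k₁, fk₁, ak₁, fin₁, K₁, fK₁, aKK₁, ak₁K₁, akK₁, t1, t2, h₁, hgen₁⟩ := Nat.find_spec hne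
  have hmin : ∀ g, IsModelGenus k K g → genus k₁ K₁ ≤ g := fun g hg' => by
    rw [hgen₁]; exact Nat.find_min' hne hg'
  -- the normal closure and its purely inseparable part
  obtain ⟨N, fN, akN, ak₁N, tN, k', fk', akk', ak'N, tk'N, finN, fink', hpi, hsep⟩ :=
    exists_normal_pi k k₁
  refine ⟨k', fk', akk', fink', hpi, ?_⟩
  intro K' _ _ _ _ _ _ h Q k'' _ _ _ K'' _ _ _ _ _ _ h'
  have hK' : IsFunctionField k' K' := isFunctionField h hK hg
  have hg' : IsGeometric k' K' := isGeometric h hg
  have hK'' : IsFunctionField k'' K'' := isFunctionField h' hK' hg'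
  have hg'' : IsGeometric k'' K'' := isGeometric h' hg'
  haveI : FiniteDimensional k' N := Module.Finite.of_restrictScalars_finite k k' N
  haveI : FiniteDimensional k₁ N := Module.Finite.of_restrictScalars_finite k k₁ N
  -- a common overfield of `N` and `k''`
  obtain ⟨M, fM, aNM, ak''M, ak'M, tNM, tk''M, finM⟩ := exists_compositum k' N k''
  haveI : FiniteDimensional k'' M := Module.Finite.of_restrictScalars_finite k' k'' M
  haveI : FiniteDimensional N M := Module.Finite.of_restrictScalars_finite k' N M
  -- the models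
  obtain ⟨KN, fKN, aK'KN, aNKN, ak'KN, tKN1, tKN2, hN⟩ := exists_model hg' N
  obtain ⟨KM, fKM, aK''KM, aMKM, ak''KM, tKM1, tKM2, hM⟩ := exists_model hg'' M
  obtain ⟨aK'KM, ak'KM, b6, b7, b8, b10, b9, -⟩ := exists_tower_instances (k := k') (k' := k'')
    (k'' := M) (K := K') (K' := K'') (K'' := KM)
  have h3 : Function.Bijective (Algebra.TensorProduct.productMap
      (IsScalarTower.toAlgHom k' M KM) (IsScalarTower.toAlgHom k' K' KM)) :=
    trans_bijective h' hM hg'
  obtain ⟨aKNKM, aNKM, c4, c5, c6, c10, h2'⟩ := exists_algebra_of_models (k := k') (k₁ := N)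
    (k₂ := M) (K := K') (K₁ := KN) (K₂ := KM) hN h3 hg'
  -- `KN` over `(k, K)`
  obtain ⟨aKKN, akKN, d6, d7, d8, d10, d9, -⟩ := exists_tower_instances (k := k) (k' := k')
    (k'' := N) (K := K) (K' := K') (K'' := KN)
  have hNk : Function.Bijective (Algebra.TensorProduct.productMap
      (IsScalarTower.toAlgHom k N KN) (IsScalarTower.toAlgHom k K KN)) :=
    trans_bijective h hN hg
  have hminN : ∀ g, IsModelGenus k K g → genus N KN ≤ g := fun g hg₀ =>
    le_trans (genus_le_of_models (k := k) (k₁ := k₁) (k₂ := N) (K := K) (K₁ := K₁) (K₂ := KN)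
      h₁ hNk hK hg) (hmin g hg₀)
  -- it suffices to be nonsingular with respect to `M`
  refine ((tower (k := k') (k' := k'') (k'' := M) (K := K') (K' := K'') (K'' := KM)
    h' hM hK' hg' Q).1 ?_).1
  refine (tower (k := k') (k' := N) (k'' := M) (K := K') (K' := KN) (K'' := KM)
    hN h2' hK' hg' Q).2 ⟨?_, ?_⟩
  · haveI := hsep
    exact Groth.Agent.Lib.Helper63.ConstExtUnramSub.integralClosure_map_eq hN hK' Q
  · intro Q' hQ'
    haveI : Algebra.IsAlgebraic k' N := Algebra.IsAlgebraic.of_finite k' N
    exact nonsingular_of_minimal (k := k) (k₁ := N) (k₂ := M) (K := K) (K₁ := KN) (K₂ := KM)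
      hK hg hNk h2' hminN (toC (k' := N) Q')

end Groth.Agent.Lib.Helper63.NonsingPI
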