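import Groth.Agent.Lib.Helper63.NonsingModel
import Groth.Agent.Lib.Helper63.HasExt

/-! S12591: every place of a geometric function field has a splitting field of finite degree
(helper63). -/

set_option autoImplicit false
set_option linter.style.haveILetI false
set_option linter.unusedSectionVars false

namespace Groth.Agent.Lib.Helper63.NonsingSplit

open WithZero FunFld TensorProduct Module Polynomial Groth.Agent.Lib.Helper55
  Groth.Agent.Lib.Helper63.FunFldExt Groth.Agent.Lib.Helper63.FundIneq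
  Groth.Agent.Lib.Helper63.ConstExtGeometric Groth.Agent.Lib.Helper63.NonsingBasic
  Groth.Agent.Lib.Helper63.NonsingCount Groth.Agent.Lib.Helper63.NonsingTower
  Groth.Agent.Lib.Helper63.NonsingFinite Groth.Agent.Lib.Helper63.NonsingModel
  Groth.Agent.Lib.Helper63.SumEF

universe u v w x

/-- A finite extension of `k₁` in which the minimal polynomials of all elements of finitely many
finite extensions split. -/
theorem exists_splitting_constants (k k₁ : Type u) [Field k] [Field k₁] [Algebra k k₁]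
    {ι : Type*} [Finite ι] (F : ι → Type w) [∀ i, Field (F i)] (alg : ∀ i, Algebra k₁ (F i))
    (fin : ∀ i, @Module.Finite k₁ (F i) _ _ (alg i).toModule) :
    ∃ (k₂ : Type u) (_ : Field k₂) (_ : Algebra k₁ k₂) (_ : Algebra k k₂)
      (_ : IsScalarTower k k₁ k₂), FiniteDimensional k₁ k₂ ∧
      ∀ i (a : F i), ((@minpoly k₁ (F i) _ _ (alg i) a).map (algebraMap k₁ k₂)).Splits := by
  letI := alg
  haveI := fin
  haveI : ∀ i, Algebra.IsAlgebraic k₁ (F i) := fun i => Algebra.IsAlgebraic.of_finite k₁ (F i)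
  have hσ : ∀ i, Nonempty (F i →ₐ[k₁] AlgebraicClosure k₁) := fun i => ⟨IsAlgClosed.lift⟩
  let σ : ∀ i, F i →ₐ[k₁] AlgebraicClosure k₁ := fun i => (hσ i).some
  haveI : ∀ i, FiniteDimensional k₁ (σ i).fieldRange := fun i =>
    (AlgEquiv.ofInjectiveField (σ i)).toLinearEquiv.finiteDimensional
  haveI : FiniteDimensional k₁ ↥(⨆ i, (σ i).fieldRange) :=
    IntermediateField.finiteDimensional_iSup_of_finite
  haveI : Normal k₁ (AlgebraicClosure k₁) := IsAlgClosure.normal k₁ _
  refine ⟨↥(IntermediateField.normalClosure k₁ ↥(⨆ i, (σ i).fieldRange) (AlgebraicClosure k₁)),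
    inferInstance, inferInstance, inferInstance, inferInstance, inferInstance, ?_⟩
  intro i a
  have hmem : ∀ a : F i, σ i a ∈
      IntermediateField.normalClosure k₁ ↥(⨆ i, (σ i).fieldRange) (AlgebraicClosure k₁) :=
    fun a => (IntermediateField.le_normalClosure (⨆ i, (σ i).fieldRange))
      (le_iSup (fun i => (σ i).fieldRange) i ⟨a, rfl⟩)
  let τ : F i →ₐ[k₁]
      ↥(IntermediateField.normalClosure k₁ ↥(⨆ i, (σ i).fieldRange) (AlgebraicClosure k₁)) :=
    (σ i).codRestrict (IntermediateField.normalClosure k₁ ↥(⨆ i, (σ i).fieldRange)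
      (AlgebraicClosure k₁)).toSubalgebra hmem
  have h1 : minpoly k₁ (τ a) = minpoly k₁ a := minpoly.algHom_eq τ τ.injective a
  rw [← h1]
  exact Normal.splits inferInstance (τ a)


/-- From splitting of the minimal polynomials of residues to monic split congruences. -/
theorem exists_monic_splits {k₁ k₂ : Type u} {K₁ : Type v} [Field k₁] [Field k₂] [Field K₁]
    [Algebra k₁ k₂] [Algebra k₁ K₁] (hK₁ : IsFunctionField k₁ K₁) (P₁ : Place k₁ K₁)
    (hsplit : ∀ a : IsLocalRing.ResidueField P₁.O,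
      ((@minpoly k₁ (IsLocalRing.ResidueField P₁.O) _ _ (Place.algRes P₁) a).map
        (algebraMap k₁ k₂)).Splits)
    (a : K₁) (ha : P₁.1 a ≤ 1) :
    ∃ p : Polynomial k₁, p.Monic ∧ (p.map (algebraMap k₁ k₂)).Splits ∧
      P₁.1 (Polynomial.aeval a p) < 1 := by
  letI : Algebra k₁ (IsLocalRing.ResidueField P₁.O) := Place.algRes P₁
  have hfd := ff_finiteDimensional_residueField hK₁ P₁
  haveI hint' : Algebra.IsIntegral k₁ (IsLocalRing.ResidueField P₁.O) :=
    @Algebra.IsIntegral.of_finite k₁ (IsLocalRing.ResidueField P₁.O) _ _ (Place.algRes P₁) hfd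
  have hint : IsIntegral k₁ (IsLocalRing.residue P₁.O ⟨a, ha⟩) := Algebra.IsIntegral.isIntegral _
  refine ⟨minpoly k₁ (IsLocalRing.residue P₁.O ⟨a, ha⟩), minpoly.monic hint, hsplit _, ?_⟩
  let resA : P₁.O →ₐ[k₁] IsLocalRing.ResidueField P₁.O :=
    { IsLocalRing.residue P₁.O with commutes' := fun c => rfl }
  let subA : P₁.O →ₐ[k₁] K₁ := { P₁.O.subtype with commutes' := fun c => rfl }
  have h1 : Polynomial.aeval a (minpoly k₁ (IsLocalRing.residue P₁.O ⟨a, ha⟩)) =
      subA (Polynomial.aeval (⟨a, ha⟩ : P₁.O) (minpoly k₁ (IsLocalRing.residue P₁.O ⟨a, ha⟩))) := by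
    rw [← Polynomial.aeval_algHom_apply]; rfl
  have h2 : resA (Polynomial.aeval (⟨a, ha⟩ : P₁.O)
      (minpoly k₁ (IsLocalRing.residue P₁.O ⟨a, ha⟩))) = 0 := by
    rw [← Polynomial.aeval_algHom_apply]
    exact minpoly.aeval k₁ _
  rw [h1]
  have h3 := (IsLocalRing.residue_eq_zero_iff _).1 h2
  rw [Valuation.mem_maximalIdeal_iff] at h3
  exact h3

/-- A place all of whose integral elements are congruent to constants has degree one. -/
theorem deg_eq_one_of_forall {k : Type u} {K : Type v} [Field k] [Field K] [Algebra k K]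
    (P : Place k K)
    (h : ∀ z : K, P.1 z ≤ 1 → ∃ c : k, P.1 (z - algebraMap k K c) < 1) : P.deg = 1 := by
  letI : Algebra k (IsLocalRing.ResidueField P.O) := Place.algRes P
  have hsurj : Function.Surjective (algebraMap k (IsLocalRing.ResidueField P.O)) := by
    intro w
    obtain ⟨⟨z, hz⟩, rfl⟩ := IsLocalRing.residue_surjective w
    obtain ⟨c, hc⟩ := h z hz
    refine ⟨c, ?_⟩
    change IsLocalRing.residue P.O (algebraMap k P.O c) = _
    rw [eq_comm, ← sub_eq_zero, ← map_sub, IsLocalRing.residue_eq_zero_iff,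
      Valuation.mem_maximalIdeal_iff]
    exact hc
  have hbij : Function.Bijective (Algebra.linearMap k (IsLocalRing.ResidueField P.O)) :=
    ⟨(algebraMap k (IsLocalRing.ResidueField P.O)).injective, hsurj⟩
  let e : k ≃ₗ[k] IsLocalRing.ResidueField P.O :=
    LinearEquiv.ofBijective (Algebra.linearMap k (IsLocalRing.ResidueField P.O)) hbij
  unfold Place.deg
  exact e.finrank_eq.symm.trans (Module.finrank_self k)

section approx

variable {k₁ k₂ : Type u} {K₁ : Type v} {K' : Type w} [Field k₁] [Field k₂] [Field K₁] [Field K']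
  [Algebra k₁ k₂] [FiniteDimensional k₁ k₂] [Algebra k₁ K₁] [Algebra K₁ K'] [Algebra k₂ K']
  [Algebra k₁ K'] [IsScalarTower k₁ k₂ K'] [IsScalarTower k₁ K₁ K']

/-- At a nonsingular place whose residue field splits in `k₂`, the integral elements at a place
above are congruent to constants. -/
theorem exists_const_approx
    (h2 : Function.Bijective (Algebra.TensorProduct.productMap
      (IsScalarTower.toAlgHom k₁ k₂ K') (IsScalarTower.toAlgHom k₁ K₁ K')))
    (hK₁ : IsFunctionField k₁ K₁) (P₁ : Place k₁ K₁) (Q : Place k₂ K') {e : ℕ}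
    (he : IsOverWith (ofC (k := k₁) Q) P₁ e)
    (hns : integralClosure ↥(P₁.O.toSubring.map (algebraMap K₁ K')) K' =
      Algebra.adjoin ↥(P₁.O.toSubring.map (algebraMap K₁ K')) (Set.range (algebraMap k₂ K')))
    (hsp : ∀ a : K₁, P₁.1 a ≤ 1 → ∃ p : Polynomial k₁, p.Monic ∧
      (p.map (algebraMap k₁ k₂)).Splits ∧ P₁.1 (Polynomial.aeval a p) < 1)
    (z : K') (hz : Q.1 z ≤ 1) : ∃ c : k₂, Q.1 (z - algebraMap k₂ K' c) < 1 := by
  classical
  haveI : FiniteDimensional K₁ K' := finite_of_bijective h2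
  have hcoord := (ns_iff hK₁ P₁ (Module.finBasis k₁ k₂)).1 hns
  have hfin := finite_setOf_isOver (K' := K') P₁
  have hexp : exp (-1 : ℤ) < (1 : ℤᵐ⁰) := by
    rw [← exp_zero, exp_lt_exp]; omega
  obtain ⟨z', hz'⟩ := ff_weak_approx_le hfin.toFinset
    (fun Q' => if Q' = ofC (k := k₁) Q then z else 0)
    (fun Q' => if Q' = ofC (k := k₁) Q then -1 else 0)
  have hz'Q : Q.1 (z' - z) ≤ exp (-1 : ℤ) := by
    have := hz' (ofC (k := k₁) Q) (hfin.mem_toFinset.2 ⟨e, he⟩)
    rw [if_pos rfl, if_pos rfl] at this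
    exact this
  have hz'int : ∀ Q' : Place k₁ K', IsOver Q' P₁ → Q'.1 z' ≤ 1 := by
    intro Q' hQ'
    have := hz' Q' (hfin.mem_toFinset.2 hQ')
    by_cases hQQ : Q' = ofC (k := k₁) Q
    · rw [hQQ]
      have h3 : z' = (z' - z) + z := by ring
      rw [h3]
      exact (Q.1.map_add _ _).trans (max_le (hz'Q.trans hexp.le) hz)
    · rw [if_neg hQQ, if_neg hQQ, sub_zero, exp_zero] at this
      exact this
  obtain ⟨a, ha, hza⟩ := hcoord z' hz'int
  -- each coordinate is congruent to a constant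
  have hc : ∀ i, ∃ c : k₂, Q.1 (algebraMap K₁ K' (a i) - algebraMap k₂ K' c) < 1 := by
    intro i
    obtain ⟨p, hpm, hps, hpa⟩ := hsp (a i) (ha i)
    have hev : aeval (algebraMap K₁ K' (a i)) (p.map (algebraMap k₁ k₂)) =
        algebraMap K₁ K' (aeval (a i) p) := by
      rw [aeval_map_algebraMap, aeval_algebraMap_apply]
    have hlt : Q.1 (aeval (algebraMap K₁ K' (a i)) (p.map (algebraMap k₁ k₂))) < 1 := by
      rw [hev]
      exact (val_lt_one_iff_of_isOverWith he _).2 hpa
    have h5 : aeval (algebraMap K₁ K' (a i)) (p.map (algebraMap k₁ k₂)) =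
        ((p.map (algebraMap k₁ k₂)).roots.map
          (fun r => algebraMap K₁ K' (a i) - algebraMap k₂ K' r)).prod := by
      have h6 := congrArg (aeval (algebraMap K₁ K' (a i)))
        (hps.eq_prod_roots_of_monic (hpm.map _))
      rw [h6, map_multiset_prod, Multiset.map_map]
      congr 1
      apply Multiset.map_congr rfl
      intro r _
      simp
    by_contra hcon
    push Not at hcon
    rw [h5, map_multiset_prod, Multiset.map_map] at hlt
    refine absurd hlt (not_lt.2 (Multiset.one_le_prod_of_one_le ?_))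
    intro y hy
    obtain ⟨r, -, rfl⟩ := Multiset.mem_map.1 hy
    exact hcon r
  choose c hc using hc
  refine ⟨∑ i, Module.finBasis k₁ k₂ i * c i, ?_⟩
  have h7 : z - algebraMap k₂ K' (∑ i, Module.finBasis k₁ k₂ i * c i) =
      (z - z') + ∑ i, algebraMap k₂ K' (Module.finBasis k₁ k₂ i) *
        (algebraMap K₁ K' (a i) - algebraMap k₂ K' (c i)) := by
    rw [hza, map_sum]
    simp only [map_mul, mul_sub, Finset.sum_sub_distrib]
    ring
  rw [h7]
  refine lt_of_le_of_lt (Q.1.map_add _ _) (max_lt ?_ ?_)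
  · rw [← neg_sub, Valuation.map_neg]
    exact lt_of_le_of_lt hz'Q hexp
  · refine Valuation.map_sum_lt Q.1 one_ne_zero (fun i _ => ?_)
    rw [map_mul]
    have hb : Q.1 (algebraMap k₂ K' (Module.finBasis k₁ k₂ i)) ≤ 1 := Q.2.1 _
    calc Q.1 (algebraMap k₂ K' (Module.finBasis k₁ k₂ i)) *
          Q.1 (algebraMap K₁ K' (a i) - algebraMap k₂ K' (c i))
        ≤ 1 * Q.1 (algebraMap K₁ K' (a i) - algebraMap k₂ K' (c i)) :=
          mul_le_mul_left hb _
      _ < 1 := by rw [one_mul]; exact hc i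

end approx


section minimal

variable {k k₁ k₂ : Type u} {K : Type v} {K₁ : Type w} {K₂ : Type x} [Field k] [Field k₁]
  [Field k₂] [Field K] [Field K₁] [Field K₂]
  [Algebra k k₁] [FiniteDimensional k k₁]
  [Algebra k K] [Algebra K K₁] [Algebra k₁ K₁] [Algebra k K₁] [a2 : IsScalarTower k k₁ K₁]
  [a3 : IsScalarTower k K K₁]
  [Algebra k₁ k₂] [FiniteDimensional k₁ k₂] [Algebra K₁ K₂] [Algebra k₂ K₂] [Algebra k₁ K₂]
  [a4 : IsScalarTower k₁ k₂ K₂] [a5 : IsScalarTower k₁ K₁ K₂]

include a2 a3 a4 a5 in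
/-- A model of minimal genus is nonsingular with respect to every further constant field
extension (the model of the extension in any universe). -/
theorem nonsingular_of_minimal' (hK : IsFunctionField k K) (hg : IsGeometric k K)
    (h1 : Function.Bijective (Algebra.TensorProduct.productMap
      (IsScalarTower.toAlgHom k k₁ K₁) (IsScalarTower.toAlgHom k K K₁)))
    (h2 : Function.Bijective (Algebra.TensorProduct.productMap
      (IsScalarTower.toAlgHom k₁ k₂ K₂) (IsScalarTower.toAlgHom k₁ K₁ K₂)))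
    (hmin : ∀ g, IsModelGenus k K g → genus k₁ K₁ ≤ g) (P : Place k₁ K₁) :
    integralClosure ↥(P.O.toSubring.map (algebraMap K₁ K₂)) K₂ =
      Algebra.adjoin ↥(P.O.toSubring.map (algebraMap K₁ K₂)) (Set.range (algebraMap k₂ K₂)) := by
  classical
  by_contra hns
  letI : Algebra k k₂ := ((algebraMap k₁ k₂).comp (algebraMap k k₁)).toAlgebra
  haveI a1 : IsScalarTower k k₁ k₂ := IsScalarTower.of_algebraMap_eq (fun _ => rfl)
  haveI : FiniteDimensional k k₂ := Module.Finite.trans k₁ k₂
  obtain ⟨aKK₂, akK₂, a6, a7, a8, a10, a9, -⟩ := exists_tower_instances (k := k) (k' := k₁)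
    (k'' := k₂) (K := K) (K' := K₁) (K'' := K₂)
  have h3 := trans_bijective h1 h2 hg
  obtain ⟨R, fR, aKR, ak₂R, akR, tR1, tR2, hR⟩ := exists_model hg k₂
  have hRK₂ : genus k₂ R ≤ genus k₂ K₂ :=
    genus_le_of_models (k := k) (k₁ := k₂) (k₂ := k₂) (K := K) (K₁ := K₂) (K₂ := R) h3 hR hK hg
  have hge := hmin (genus k₂ R) ⟨k₂, inferInstance, inferInstance, inferInstance, R, fR, aKR,
    ak₂R, akR, tR1, tR2, hR, rfl⟩
  have hle := card_add_genus_le h2 (isFunctionField h1 hK hg) (isGeometric h1 hg) {P} (by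
    intro P' hP'
    rw [Finset.mem_singleton] at hP'
    subst hP'
    exact hns)
  rw [Finset.card_singleton] at hle
  omega

end minimal

/-- A model of minimal genus among all constant field extensions. -/
theorem exists_minimal_model (k : Type u) (K : Type v) [Field k] [Field K] [Algebra k K]
    (hg : IsGeometric k K) :
    ∃ (k₁ : Type u) (_ : Field k₁) (_ : Algebra k k₁) (_ : FiniteDimensional k k₁)
      (K₁ : Type (max u v)) (_ : Field K₁) (_ : Algebra K K₁) (_ : Algebra k₁ K₁)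
      (_ : Algebra k K₁) (_ : IsScalarTower k k₁ K₁) (_ : IsScalarTower k K K₁),
      Function.Bijective (Algebra.TensorProduct.productMap
        (IsScalarTower.toAlgHom k k₁ K₁) (IsScalarTower.toAlgHom k K K₁)) ∧
      ∀ g, IsModelGenus k K g → genus k₁ K₁ ≤ g := by
  classical
  have hne : ∃ g, IsModelGenus k K g := by
    obtain ⟨K₁, fK₁, aKK₁, ak'K₁, akK₁, t1, t2, h₁⟩ := exists_model hg k
    exact ⟨_, k, inferInstance, inferInstance, inferInstance, K₁, fK₁, aKK₁, ak'K₁, akK₁, t1, t2,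
      h₁, rfl⟩
  obtain ⟨k₁, fk₁, ak₁, fin₁, K₁, fK₁, aKK₁, ak₁K₁, akK₁, t1, t2, h₁, hgen₁⟩ := Nat.find_spec hne
  refine ⟨k₁, fk₁, ak₁, fin₁, K₁, fK₁, aKK₁, ak₁K₁, akK₁, t1, t2, h₁, fun g hg' => ?_⟩
  rw [hgen₁]
  exact Nat.find_min' hne hg'

/-- S12591. -/
theorem main (k : Type u) (K : Type v) [Field k] [Field K] [Algebra k K]
    (hK : FunFld.IsFunctionField k K) (hg : FunFld.IsGeometric k K) (P : FunFld.Place k K) :
    ∃ (k' : Type u) (_ : Field k') (_ : Algebra k k'), FiniteDimensional k k' ∧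
      ∀ (K' : Type v) [Field K'] [Algebra K K'] [Algebra k' K'] [Algebra k K']
        [IsScalarTower k k' K'] [IsScalarTower k K K'],
        Function.Bijective (Algebra.TensorProduct.productMap
          (IsScalarTower.toAlgHom k k' K') (IsScalarTower.toAlgHom k K K')) →
        ∀ Q : FunFld.Place k' K', P.1.HasExtension Q.1 → Q.deg = 1 := by
  classical
  obtain ⟨k₁, fk₁, ak₁, fin₁, K₁, fK₁, aKK₁, ak₁K₁, akK₁, t1, t2, h₁, hmin⟩ :=
    exists_minimal_model k K hg
  have hK₁ : IsFunctionField k₁ K₁ := isFunctionField h₁ hK hg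
  have hg₁ : IsGeometric k₁ K₁ := isGeometric h₁ hg
  haveI : FiniteDimensional K K₁ := finite_of_bijective h₁
  haveI : Algebra.IsAlgebraic k k₁ := Algebra.IsAlgebraic.of_finite k k₁
  -- the places of `K₁` over `P`
  have hinj : Function.Injective (ofC (k := k) : Place k₁ K₁ → Place k K₁) := fun Q₁ Q₂ h => by
    rw [← toC_ofC (k := k) Q₁, h, toC_ofC]
  have hT : {P₁ : Place k₁ K₁ | IsOver (ofC (k := k) P₁) P}.Finite :=
    (finite_setOf_isOver (K' := K₁) P).preimage
      (f := (ofC (k := k) : Place k₁ K₁ → Place k K₁)) hinj.injOn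
  haveI : Finite ↥{P₁ : Place k₁ K₁ | IsOver (ofC (k := k) P₁) P} := hT.to_subtype
  obtain ⟨k₂, fk₂, ak₁k₂, akk₂, tk₂, fink₂, hsplit⟩ := exists_splitting_constants k k₁
    (ι := ↥{P₁ : Place k₁ K₁ | IsOver (ofC (k := k) P₁) P})
    (fun i => IsLocalRing.ResidueField i.1.O) (fun i => Place.algRes i.1)
    (fun i => ff_finiteDimensional_residueField hK₁ i.1)
  haveI : FiniteDimensional k k₂ := Module.Finite.trans k₁ k₂
  refine ⟨k₂, fk₂, akk₂, inferInstance, ?_⟩
  intro K' _ _ _ _ _ _ h Q hQ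
  haveI : FiniteDimensional K K' := finite_of_bijective h
  obtain ⟨aK₁K', ak₁K', c4, c5, c6, c10, h2⟩ := exists_algebra_of_models (k := k) (k₁ := k₁)
    (k₂ := k₂) (K := K) (K₁ := K₁) (K₂ := K') h₁ h hg
  haveI : FiniteDimensional K₁ K' := finite_of_bijective h2
  obtain ⟨P₁, e, he⟩ := exists_isOver_below (K := K₁) (ofC (k := k₁) Q)
  have hP₁P : IsOver (ofC (k := k) P₁) P := by
    haveI : P.1.HasExtension (ofC (k := k) Q).1 := hQ
    have hQP : IsOver (ofC (k := k) Q) P :=
      Groth.Agent.Lib.Helper63.HasExt.isOver_of_hasExtension P (ofC (k := k) Q)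
    obtain ⟨P', hP'⟩ := exists_isOver_below (K := K) (ofC (k := k) P₁)
    have hQP' : IsOver (ofC (k := k) Q) P' :=
      isOver_trans (R := ofC (k := k) Q) (Q := ofC (k := k) P₁) ⟨e, he⟩ hP'
    rw [isOver_unique_below hQP hQP']
    exact hP'
  have hns := nonsingular_of_minimal' (k := k) (k₁ := k₁) (k₂ := k₂) (K := K) (K₁ := K₁)
    (K₂ := K') hK hg h₁ h2 hmin P₁
  have hsp := fun a ha => exists_monic_splits (k₂ := k₂) hK₁ P₁ (hsplit ⟨P₁, hP₁P⟩) a ha
  apply deg_eq_one_of_forall
  intro z hz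
  exact exists_const_approx h2 hK₁ P₁ Q he hns hsp z hz


/-- A strengthening of S12591: the splitting property, in the form of congruences to constants,
for every finite constant field extension containing the splitting field. -/
theorem main' (k : Type u) (K : Type v) [Field k] [Field K] [Algebra k K]
    (hK : FunFld.IsFunctionField k K) (hg : FunFld.IsGeometric k K) (P : FunFld.Place k K) :
    ∃ (k' : Type u) (_ : Field k') (_ : Algebra k k'), FiniteDimensional k k' ∧
      ∀ (k'' : Type u) [Field k''] [Algebra k k''] [Algebra k' k''] [IsScalarTower k k' k'']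
        [FiniteDimensional k k'']
        (K'' : Type w) [Field K''] [Algebra K K''] [Algebra k'' K''] [Algebra k K'']
        [IsScalarTower k k'' K''] [IsScalarTower k K K''],
        Function.Bijective (Algebra.TensorProduct.productMap
          (IsScalarTower.toAlgHom k k'' K'') (IsScalarTower.toAlgHom k K K'')) →
        ∀ Q : FunFld.Place k'' K'', IsOver (ofC (k := k) Q) P →
          ∀ z : K'', Q.1 z ≤ 1 → ∃ c : k'', Q.1 (z - algebraMap k'' K'' c) < 1 := by
  classical
  obtain ⟨k₁, fk₁, ak₁, fin₁, K₁, fK₁, aKK₁, ak₁K₁, akK₁, t1, t2, h₁, hmin⟩ :=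
    exists_minimal_model k K hg
  have hK₁ : IsFunctionField k₁ K₁ := isFunctionField h₁ hK hg
  have hg₁ : IsGeometric k₁ K₁ := isGeometric h₁ hg
  haveI : FiniteDimensional K K₁ := finite_of_bijective h₁
  haveI : Algebra.IsAlgebraic k k₁ := Algebra.IsAlgebraic.of_finite k k₁
  have hinj : Function.Injective (ofC (k := k) : Place k₁ K₁ → Place k K₁) := fun Q₁ Q₂ h => by
    rw [← toC_ofC (k := k) Q₁, h, toC_ofC]
  have hT : {P₁ : Place k₁ K₁ | IsOver (ofC (k := k) P₁) P}.Finite :=
    (finite_setOf_isOver (K' := K₁) P).preimage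
      (f := (ofC (k := k) : Place k₁ K₁ → Place k K₁)) hinj.injOn
  haveI : Finite ↥{P₁ : Place k₁ K₁ | IsOver (ofC (k := k) P₁) P} := hT.to_subtype
  obtain ⟨k₂, fk₂, ak₁k₂, akk₂, tk₂, fink₂, hsplit⟩ := exists_splitting_constants k k₁
    (ι := ↥{P₁ : Place k₁ K₁ | IsOver (ofC (k := k) P₁) P})
    (fun i => IsLocalRing.ResidueField i.1.O) (fun i => Place.algRes i.1)
    (fun i => ff_finiteDimensional_residueField hK₁ i.1)
  haveI : FiniteDimensional k k₂ := Module.Finite.trans k₁ k₂
  refine ⟨k₂, fk₂, akk₂, inferInstance, ?_⟩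
  intro k'' _ _ _ _ _ K'' _ _ _ _ _ _ h Q hQ z hz
  letI : Algebra k₁ k'' := ((algebraMap k₂ k'').comp (algebraMap k₁ k₂)).toAlgebra
  haveI : IsScalarTower k₁ k₂ k'' := IsScalarTower.of_algebraMap_eq (fun _ => rfl)
  haveI : IsScalarTower k k₁ k'' := IsScalarTower.of_algebraMap_eq (fun c => by
    change algebraMap k k'' c = algebraMap k₂ k'' (algebraMap k₁ k₂ (algebraMap k k₁ c))
    rw [← IsScalarTower.algebraMap_apply k k₁ k₂, ← IsScalarTower.algebraMap_apply k k₂ k''])
  haveI : FiniteDimensional k₁ k'' := Module.Finite.of_restrictScalars_finite k k₁ k''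
  haveI : FiniteDimensional K K'' := finite_of_bijective h
  obtain ⟨aK₁K', ak₁K', c4, c5, c6, c10, h2⟩ := exists_algebra_of_models (k := k) (k₁ := k₁)
    (k₂ := k'') (K := K) (K₁ := K₁) (K₂ := K'') h₁ h hg
  haveI : FiniteDimensional K₁ K'' := finite_of_bijective h2
  obtain ⟨P₁, e, he⟩ := exists_isOver_below (K := K₁) (ofC (k := k₁) Q)
  have hP₁P : IsOver (ofC (k := k) P₁) P := by
    obtain ⟨P', hP'⟩ := exists_isOver_below (K := K) (ofC (k := k) P₁)
    have hQP' : IsOver (ofC (k := k) Q) P' :=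
      isOver_trans (R := ofC (k := k) Q) (Q := ofC (k := k) P₁) ⟨e, he⟩ hP'
    rw [isOver_unique_below hQ hQP']
    exact hP'
  have hns := nonsingular_of_minimal' (k := k) (k₁ := k₁) (k₂ := k'') (K := K) (K₁ := K₁)
    (K₂ := K'') hK hg h₁ h2 hmin P₁
  have hsplit'' : ∀ a : IsLocalRing.ResidueField P₁.O,
      ((@minpoly k₁ (IsLocalRing.ResidueField P₁.O) _ _ (Place.algRes P₁) a).map
        (algebraMap k₁ k'')).Splits := by
    intro a
    have h5 := (hsplit ⟨P₁, hP₁P⟩ a).map (algebraMap k₂ k'')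
    rw [Polynomial.map_map] at h5
    exact h5
  have hsp := fun a ha => exists_monic_splits (k₂ := k'') hK₁ P₁ hsplit'' a ha
  exact exists_const_approx h2 hK₁ P₁ Q he hns hsp z hz

end Groth.Agent.Lib.Helper63.NonsingSplit
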