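import Groth.Agent.Lib.Helper63.PurelyInsep
import Groth.Agent.Lib.Helper63.Galois
import Groth.Agent.Lib.Helper63.Inertia
import Mathlib.RingTheory.Norm.Transitivity
import Mathlib.FieldTheory.PurelyInseparable.Basic

/-! The norm formula `deg P · v_P(N x) = ∑_{Q|P} deg Q · v_Q(x)` (helper63). -/

set_option autoImplicit false
set_option linter.style.haveILetI false
set_option linter.unusedSectionVars false

namespace Groth.Agent.Lib.Helper63.NormFormula

open IntermediateField FunFld WithZero Groth.Agent.Lib.Helper55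
  Groth.Agent.Lib.Helper63.FunFldExt Groth.Agent.Lib.Helper63.SumEF
  Groth.Agent.Lib.Helper63.Galois Groth.Agent.Lib.Helper63.Inertia
  Groth.Agent.Lib.Helper63.PurelyInsep

section Basic

variable {k K : Type*} [Field k] [Field K] [Algebra k K]

theorem ord_prod {ι : Type*} (P : Place k K) (s : Finset ι) (f : ι → K)
    (hf : ∀ i ∈ s, f i ≠ 0) : P.ord (∏ i ∈ s, f i) = ∑ i ∈ s, P.ord (f i) := by
  classical
  induction s using Finset.induction_on with
  | empty => simp [Place.ord]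
  | insert a s ha ih =>
    rw [Finset.prod_insert ha, Finset.sum_insert ha,
      ff_ord_mul P (hf a (Finset.mem_insert_self a s))
        (Finset.prod_ne_zero_iff.2 fun i hi => hf i (Finset.mem_insert_of_mem hi)),
      ih fun i hi => hf i (Finset.mem_insert_of_mem hi)]

theorem ord_pow (P : Place k K) (x : K) (n : ℕ) : P.ord (x ^ n) = n * P.ord x := by
  simp only [Place.ord, map_pow, log_pow, nsmul_eq_mul, mul_neg]

end Basic

section Galois

variable {k K K' : Type*} [Field k] [Field K] [Field K'] [Algebra k K] [Algebra K K']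
  [Algebra k K'] [IsScalarTower k K K'] [FiniteDimensional K K']

/-- `comapEquiv` is a right action. -/
theorem comapEquiv_mul (σ τ : K' ≃ₐ[K] K') (Q : Place k K') :
    comapEquiv (τ * σ) Q = comapEquiv σ (comapEquiv τ Q) := by
  apply place_ext
  intro x
  rfl

/-- The norm formula for Galois extensions, given the fundamental equality. -/
theorem galois [IsGalois K K'] (P : Place k K)
    (hFE : ∀ Qs : Finset (Place k K'), (∀ Q', Q' ∈ Qs ↔ IsOver Q' P) →
      ∑ Q' ∈ Qs, ramIdx Q' P * Q'.deg = Module.finrank K K' * P.deg)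
    (hex : ∃ Q : Place k K', IsOver Q P)
    (x : K') (Qs : Finset (Place k K')) (hQs : ∀ Q, Q ∈ Qs ↔ IsOver Q P) :
    (P.deg : ℤ) * P.ord (Algebra.norm K x) = ∑ Q ∈ Qs, (Q.deg : ℤ) * Q.ord x := by
  classical
  by_cases hx : x = 0
  · subst hx
    simp [Algebra.norm_zero, ff_ord_zero]
  obtain ⟨Q₀, hQ₀⟩ := hex
  obtain ⟨e, he⟩ := hQ₀
  have he0 := isOverWith_ne_zero he
  -- step 1: order of the norm at `Q₀`
  have h1 : Q₀.ord (algebraMap K K' (Algebra.norm K x)) = e * P.ord (Algebra.norm K x) :=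
    ord_algebraMap he _
  rw [Algebra.norm_eq_prod_automorphisms,
    ord_prod Q₀ Finset.univ (fun σ : K' ≃ₐ[K] K' => σ x)
      (fun σ _ => (map_ne_zero_iff _ σ.injective).2 hx)] at h1
  have h2 : ∀ σ : K' ≃ₐ[K] K', Q₀.ord (σ x) = (comapEquiv σ Q₀).ord x := fun σ => rfl
  simp_rw [h2] at h1
  have hmaps : ∀ σ ∈ (Finset.univ : Finset (K' ≃ₐ[K] K')), comapEquiv σ Q₀ ∈ Qs :=
    fun σ _ => (hQs _).2 ⟨e, comapEquiv_isOverWith σ he⟩
  rw [← Finset.sum_fiberwise_of_maps_to hmaps] at h1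
  -- the fibres all have the cardinality of the decomposition group
  set d := Nat.card ((Q₀.O).decompositionSubgroup K) with hd
  have hcard₀ : (Finset.univ.filter fun σ : K' ≃ₐ[K] K' => comapEquiv σ Q₀ = Q₀).card = d := by
    rw [hd, Nat.card_eq_fintype_card, Fintype.card_subtype]
    congr 1
    ext σ
    simp only [Finset.mem_filter, Finset.mem_univ, true_and]
    exact (mem_decomposition_iff σ Q₀).symm
  have hcard : ∀ Q ∈ Qs,
      (Finset.univ.filter fun σ : K' ≃ₐ[K] K' => comapEquiv σ Q₀ = Q).card = d := by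
    intro Q hQ
    obtain ⟨σ₀, hσ₀⟩ := exists_comapEquiv_eq (K := K) ⟨e, he⟩ ((hQs Q).1 hQ)
    rw [← hcard₀]
    symm
    apply Finset.card_bij (fun τ _ => τ * σ₀)
    · intro τ hτ
      simp only [Finset.mem_filter, Finset.mem_univ, true_and] at hτ ⊢
      rw [comapEquiv_mul, hτ, hσ₀]
    · intro τ₁ _ τ₂ _ h12
      exact mul_right_cancel h12
    · intro τ hτ
      simp only [Finset.mem_filter, Finset.mem_univ, true_and] at hτ
      refine ⟨τ * σ₀⁻¹, ?_, by simp⟩
      simp only [Finset.mem_filter, Finset.mem_univ, true_and]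
      rw [comapEquiv_mul, hτ, ← hσ₀, ← comapEquiv_mul, mul_inv_cancel]
      apply place_ext
      intro y
      rfl
  have h3 : ∑ Q ∈ Qs, ∑ σ ∈ (Finset.univ : Finset (K' ≃ₐ[K] K')) with comapEquiv σ Q₀ = Q,
        (comapEquiv σ Q₀).ord x = ∑ Q ∈ Qs, (d : ℤ) * Q.ord x := by
    refine Finset.sum_congr rfl fun Q hQ => ?_
    have h5 : ∀ σ ∈ (Finset.univ.filter fun σ : K' ≃ₐ[K] K' => comapEquiv σ Q₀ = Q),
        (comapEquiv σ Q₀).ord x = Q.ord x := by
      intro σ hσ
      rw [(Finset.mem_filter.1 hσ).2]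
    rw [Finset.sum_congr rfl h5, Finset.sum_const, hcard Q hQ, nsmul_eq_mul]
  rw [h3, ← Finset.mul_sum] at h1
  have hD := card_decomposition_mul_deg' he hFE
  rw [← hd] at hD
  have hdeg : ∀ Q ∈ Qs, Q.deg = Q₀.deg :=
    fun Q hQ => (isOverWith_and_deg_eq he ((hQs Q).1 hQ)).2
  have h4 : ∑ Q ∈ Qs, (Q.deg : ℤ) * Q.ord x = (Q₀.deg : ℤ) * ∑ Q ∈ Qs, Q.ord x := by
    rw [Finset.mul_sum]
    exact Finset.sum_congr rfl fun Q hQ => by rw [hdeg Q hQ]
  rw [h4]
  have he0' : (e : ℤ) ≠ 0 := by exact_mod_cast he0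
  apply mul_left_cancel₀ he0'
  have hD' : (d : ℤ) * P.deg = e * Q₀.deg := by exact_mod_cast hD
  calc (e : ℤ) * ((P.deg : ℤ) * P.ord (Algebra.norm K x))
      = (P.deg : ℤ) * ((e : ℤ) * P.ord (Algebra.norm K x)) := by ring
    _ = (P.deg : ℤ) * ((d : ℤ) * ∑ Q ∈ Qs, Q.ord x) := by rw [h1]
    _ = ((d : ℤ) * P.deg) * ∑ Q ∈ Qs, Q.ord x := by ring
    _ = (e : ℤ) * ((Q₀.deg : ℤ) * ∑ Q ∈ Qs, Q.ord x) := by rw [hD']; ring

end Galois

section PurelyInsep

variable {k K K' : Type*} [Field k] [Field K] [Field K'] [Algebra k K] [Algebra K K']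
  [Algebra k K'] [IsScalarTower k K K'] [FiniteDimensional K K']

open Polynomial in
/-- The norm of a purely inseparable extension is the `[K':K]`-th power. -/
theorem norm_of_isPurelyInseparable [IsPurelyInseparable K K'] (x : K') :
    algebraMap K K' (Algebra.norm K x) = x ^ Module.finrank K K' := by
  set q := ringExpChar K with hq
  haveI : ExpChar K q := ringExpChar.expChar K
  obtain ⟨n, hn⟩ := IsPurelyInseparable.minpoly_eq_X_sub_C_pow K q x
  have hsplit : ((minpoly K x).map (algebraMap K K')).Splits := by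
    rw [hn]
    exact (Polynomial.Splits.X_sub_C x).pow _
  rw [Algebra.norm_eq_prod_roots K' hsplit, Polynomial.aroots, hn, Polynomial.roots_pow,
    Polynomial.roots_X_sub_C, Multiset.prod_nsmul, Multiset.prod_singleton, ← pow_mul]
  congr 1
  have hint : IsIntegral K x := Algebra.IsIntegral.isIntegral x
  have hdeg : (minpoly K x).natDegree = q ^ n := by
    have := congrArg Polynomial.natDegree hn
    rwa [Polynomial.natDegree_map, Polynomial.natDegree_pow, Polynomial.natDegree_X_sub_C,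
      mul_one] at this
  rw [← hdeg, ← IntermediateField.adjoin.finrank hint, Module.finrank_mul_finrank]

/-- The norm formula for purely inseparable extensions. -/
theorem purelyInsep [IsPurelyInseparable K K'] (P : Place k K)
    (hFE : ∀ Qs : Finset (Place k K'), (∀ Q', Q' ∈ Qs ↔ IsOver Q' P) →
      ∑ Q' ∈ Qs, ramIdx Q' P * Q'.deg = Module.finrank K K' * P.deg)
    (hex : ∃ Q : Place k K', IsOver Q P)
    (x : K') (Qs : Finset (Place k K')) (hQs : ∀ Q, Q ∈ Qs ↔ IsOver Q P) :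
    (P.deg : ℤ) * P.ord (Algebra.norm K x) = ∑ Q ∈ Qs, (Q.deg : ℤ) * Q.ord x := by
  classical
  obtain ⟨Q₀, hQ₀⟩ := hex
  obtain ⟨e, he⟩ := hQ₀
  have he0 := isOverWith_ne_zero he
  set q := ringExpChar K with hq
  haveI : ExpChar K q := ringExpChar.expChar K
  have huniq : ∀ Q, IsOver Q P → Q = Q₀ := by
    intro Q hQ
    refine eq_of_pow_mem (K := K) (fun z => ?_) hQ ⟨e, he⟩
    obtain ⟨n, hn⟩ := IsPurelyInseparable.pow_mem K q z
    exact ⟨q ^ n, pow_pos (expChar_pos K q) n, hn⟩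
  have hQs' : Qs = {Q₀} := by
    ext Q
    rw [hQs, Finset.mem_singleton]
    exact ⟨huniq Q, fun h => h ▸ ⟨e, he⟩⟩
  have hfe := hFE Qs hQs
  rw [hQs', Finset.sum_singleton, ramIdx_eq he] at hfe
  rw [hQs', Finset.sum_singleton]
  have h1 : Q₀.ord (algebraMap K K' (Algebra.norm K x)) = e * P.ord (Algebra.norm K x) :=
    ord_algebraMap he _
  rw [norm_of_isPurelyInseparable, ord_pow] at h1
  have he0' : (e : ℤ) ≠ 0 := by exact_mod_cast he0
  apply mul_left_cancel₀ he0'
  have hfe' : (e : ℤ) * Q₀.deg = Module.finrank K K' * P.deg := by exact_mod_cast hfe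
  calc (e : ℤ) * ((P.deg : ℤ) * P.ord (Algebra.norm K x))
      = (P.deg : ℤ) * ((e : ℤ) * P.ord (Algebra.norm K x)) := by ring
    _ = (P.deg : ℤ) * ((Module.finrank K K' : ℤ) * Q₀.ord x) := by rw [h1]
    _ = ((Module.finrank K K' : ℤ) * P.deg) * Q₀.ord x := by ring
    _ = (e : ℤ) * ((Q₀.deg : ℤ) * Q₀.ord x) := by rw [← hfe']; ring

end PurelyInsep

section Tower

variable {k K K' K'' : Type*} [Field k] [Field K] [Field K'] [Field K''] [Algebra k K]
  [Algebra K K'] [Algebra k K'] [IsScalarTower k K K'] [Algebra K' K''] [Algebra K K'']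
  [Algebra k K''] [IsScalarTower K K' K''] [IsScalarTower k K' K'']
  [FiniteDimensional K K'] [FiniteDimensional K' K'']

/-- Summing over the places of `K''` above `P` through the places of `K'`. -/
theorem sum_over_tower (P : Place k K) (F : Place k K'' → ℤ)
    (Qs : Finset (Place k K')) (hQs : ∀ Q, Q ∈ Qs ↔ IsOver Q P)
    (Rs : Finset (Place k K'')) (hRs : ∀ R, R ∈ Rs ↔ IsOver R P) :
    ∑ R ∈ Rs, F R =
      ∑ Q ∈ Qs, ∑ R ∈ (finite_setOf_isOver (K' := K'') Q).toFinset, F R := by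
  classical
  choose below hbelow using fun R : Place k K'' => exists_isOver_below (K := K') R
  have hmaps : ∀ R ∈ Rs, below R ∈ Qs := fun R hR =>
    (hQs _).2 (isOver_of_isOver_of_isOver ((hRs R).1 hR) (hbelow R))
  rw [← Finset.sum_fiberwise_of_maps_to hmaps]
  refine Finset.sum_congr rfl fun Q hQ => ?_
  apply Finset.sum_congr _ (fun _ _ => rfl)
  ext R
  simp only [Finset.mem_filter, Set.Finite.mem_toFinset, Set.mem_setOf_eq]
  constructor
  · rintro ⟨-, rfl⟩
    exact hbelow R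
  · intro hRQ
    refine ⟨(hRs R).2 (isOver_trans hRQ ((hQs Q).1 hQ)), ?_⟩
    exact isOver_unique_below (hbelow R) hRQ

/-- Transitivity of the norm formula. -/
theorem tower (P : Place k K)
    (h₁ : ∀ (y : K') (Qs : Finset (Place k K')), (∀ Q, Q ∈ Qs ↔ IsOver Q P) →
      (P.deg : ℤ) * P.ord (Algebra.norm K y) = ∑ Q ∈ Qs, (Q.deg : ℤ) * Q.ord y)
    (h₂ : ∀ Q : Place k K', IsOver Q P → ∀ (x : K'') (Rs : Finset (Place k K'')),
      (∀ R, R ∈ Rs ↔ IsOver R Q) →
      (Q.deg : ℤ) * Q.ord (Algebra.norm K' x) = ∑ R ∈ Rs, (R.deg : ℤ) * R.ord x)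
    (x : K'') (Rs : Finset (Place k K'')) (hRs : ∀ R, R ∈ Rs ↔ IsOver R P) :
    (P.deg : ℤ) * P.ord (Algebra.norm K x) = ∑ R ∈ Rs, (R.deg : ℤ) * R.ord x := by
  classical
  have hfin := finite_setOf_isOver (K' := K') P
  rw [sum_over_tower P (fun R => (R.deg : ℤ) * R.ord x) hfin.toFinset
    (fun Q => hfin.mem_toFinset) Rs hRs, ← Algebra.norm_norm (S := K'),
    h₁ (Algebra.norm K' x) hfin.toFinset (fun Q => hfin.mem_toFinset)]
  refine Finset.sum_congr rfl fun Q hQ => ?_
  exact h₂ Q (hfin.mem_toFinset.1 hQ) x _ (fun R => (finite_setOf_isOver Q).mem_toFinset)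

/-- Descent of the norm formula from `K''/K` to `K'/K`, given the fundamental equality for
`K''/K'`. -/
theorem descend (P : Place k K)
    (h : ∀ (x : K'') (Rs : Finset (Place k K'')), (∀ R, R ∈ Rs ↔ IsOver R P) →
      (P.deg : ℤ) * P.ord (Algebra.norm K x) = ∑ R ∈ Rs, (R.deg : ℤ) * R.ord x)
    (hFE : ∀ Q : Place k K', IsOver Q P → ∀ Rs : Finset (Place k K''),
      (∀ R, R ∈ Rs ↔ IsOver R Q) →
      ∑ R ∈ Rs, ramIdx R Q * R.deg = Module.finrank K' K'' * Q.deg)
    (y : K') (Qs : Finset (Place k K')) (hQs : ∀ Q, Q ∈ Qs ↔ IsOver Q P) :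
    (P.deg : ℤ) * P.ord (Algebra.norm K y) = ∑ Q ∈ Qs, (Q.deg : ℤ) * Q.ord y := by
  classical
  haveI : FiniteDimensional K K'' := FiniteDimensional.trans K K' K''
  have hfin := finite_setOf_isOver (K' := K'') P
  have h1 := h (algebraMap K' K'' y) hfin.toFinset (fun R => hfin.mem_toFinset)
  rw [← Algebra.norm_norm (S := K'), Algebra.norm_algebraMap, map_pow, ord_pow,
    sum_over_tower P (fun R => (R.deg : ℤ) * R.ord (algebraMap K' K'' y)) Qs hQs hfin.toFinset
      (fun R => hfin.mem_toFinset)] at h1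
  have h2 : ∀ Q ∈ Qs, ∑ R ∈ (finite_setOf_isOver (K' := K'') Q).toFinset,
      (R.deg : ℤ) * R.ord (algebraMap K' K'' y) =
      (Module.finrank K' K'' : ℤ) * ((Q.deg : ℤ) * Q.ord y) := by
    intro Q hQ
    have h3 := hFE Q ((hQs Q).1 hQ) _ (fun R => (finite_setOf_isOver Q).mem_toFinset)
    have h4 : ∀ R ∈ (finite_setOf_isOver (K' := K'') Q).toFinset,
        (R.deg : ℤ) * R.ord (algebraMap K' K'' y) =
          ((ramIdx R Q * R.deg : ℕ) : ℤ) * Q.ord y := by
      intro R hR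
      have hRQ := (finite_setOf_isOver Q).mem_toFinset.1 hR
      rw [ord_algebraMap (isOverWith_ramIdx hRQ)]
      push_cast
      ring
    rw [Finset.sum_congr rfl h4, ← Finset.sum_mul, ← Nat.cast_sum, h3]
    push_cast
    ring
  rw [Finset.sum_congr rfl h2, ← Finset.mul_sum] at h1
  have hm : (Module.finrank K' K'' : ℤ) ≠ 0 := by
    have : 0 < Module.finrank K' K'' := Module.finrank_pos
    exact_mod_cast this.ne'
  apply mul_left_cancel₀ hm
  rw [← h1]
  ring

end Tower

end Groth.Agent.Lib.Helper63.NormFormula
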