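import Mathlib
import Groth.Agent.Lib.Helper84.WQ9
import Groth.Agent.Lib.Helper84.Coprod1

/-!
# A complete regular local ring is finite free over the power series ring on a system of
parameters (assembly of Helper76 PSComplete, Helper88 CohenStruct2, Helper84 WQ9/Coprod1).
-/

set_option autoImplicit false
set_option linter.style.haveILetI false
set_option linter.unusedSectionVars false
set_option linter.unusedVariables false

universe u v

namespace Groth.Agent.Lib.Helper63.PSFree

open IsLocalRing MvPowerSeries Groth.Agent.Lib.Helper76.PSComplete Groth.Agent.Lib.Helper84.WQ9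

theorem finite_of_sop (A : Type u) [CommRing A] [IsLocalRing A] [IsNoetherianRing A]
    [IsAdicComplete (maximalIdeal A) A] (k : Type v) [Field k] [Algebra k A]
    (hk : Function.Surjective (residue A ∘ algebraMap k A)) {n : ℕ}
    (x : Fin n → A) (hx : (Ideal.span (Set.range x)).radical = maximalIdeal A)
    (φ : MvPowerSeries (Fin n) k →ₐ[k] A) (hφ : ∀ i, φ (X i) = x i) :
    (φ : MvPowerSeries (Fin n) k →+* A).Finite := by
  have hxm : ∀ i, x i ∈ maximalIdeal A := fun i => by
    rw [← hx]; exact Ideal.le_radical (Ideal.subset_span ⟨i, rfl⟩)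
  obtain ⟨M, hM⟩ := Ideal.exists_pow_le_of_le_radical_of_fg (le_of_eq hx.symm)
    (IsNoetherian.noetherian (maximalIdeal A))
  let e : kA A k ≃+* k := @Shrink.ringEquiv k (small_k A k) _ _
  have hres : Function.Surjective ((residue A).comp (algebraMap (kA A k) A)) := by
    intro y
    obtain ⟨c', hc'⟩ := hk y
    refine ⟨e.symm c', ?_⟩
    rw [RingHom.comp_apply, algebraMap_kA, RingEquiv.apply_symm_apply]
    exact hc'
  have hfin := Groth.Agent.Lib.Helper88.CohenStruct2.finite_evC (⊥ : Ideal (kA A k)) hres
    (by simp) x hxm M (hM.trans le_sup_right)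
  let ψ : MvPowerSeries (Fin n) (kA A k) →+* MvPowerSeries (Fin n) k :=
    MvPowerSeries.map e.toRingHom
  let ψ' : MvPowerSeries (Fin n) (kA A k) →ₐ[kA A k] A :=
    { (φ : MvPowerSeries (Fin n) k →+* A).comp ψ with
      commutes' := fun c => by
        change φ (MvPowerSeries.map e.toRingHom (algebraMap _ _ c)) = _
        rw [← MvPowerSeries.c_eq_algebraMap, MvPowerSeries.map_C,
          MvPowerSeries.c_eq_algebraMap, φ.commutes]
        rfl }
  have hψ'X : ∀ s, ψ' (X s) = x s := fun s => by
    change φ (MvPowerSeries.map e.toRingHom (X s)) = _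
    rw [MvPowerSeries.map_X, hφ]
  have hmem : ∀ s, ψ' (X s) ∈ maximalIdeal A := fun s => by rw [hψ'X]; exact hxm s
  have h1 : ψ' = evC (maximalIdeal A) (fun s => ψ' (X s)) hmem :=
    evC_unique (maximalIdeal A) ψ' hmem
  have h2 : (evC (maximalIdeal A) (fun s => ψ' (X s)) hmem :
      MvPowerSeries (Fin n) (kA A k) →ₐ[kA A k] A) = evC (maximalIdeal A) x hxm :=
    evC_congr' A k (funext hψ'X) hmem hxm
  have h3 : (φ : MvPowerSeries (Fin n) k →+* A) =
      ((evC (maximalIdeal A) x hxm : MvPowerSeries (Fin n) (kA A k) →ₐ[kA A k] A) :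
        MvPowerSeries (Fin n) (kA A k) →+* A).comp (MvPowerSeries.map e.symm.toRingHom) := by
    refine RingHom.ext fun p => ?_
    rw [← h2, ← h1]
    change φ p = φ (MvPowerSeries.map e.toRingHom (MvPowerSeries.map e.symm.toRingHom p))
    congr 1
    ext m
    simp
  rw [h3]
  refine hfin.comp (RingHom.Finite.of_surjective _ fun q => ⟨MvPowerSeries.map e.toRingHom q, ?_⟩)
  ext m
  simp

theorem injective_of_finite_of_dim {P A : Type*} [CommRing P] [IsDomain P] [CommRing A]
    (f : P →+* A) (hf : f.Finite) (n : ℕ) (hP : ringKrullDim P = n) (hA : ringKrullDim A = n) :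
    Function.Injective f := by
  rw [injective_iff_map_eq_zero]
  intro r hr
  by_contra hr0
  let g : P ⧸ RingHom.ker f →+* A := RingHom.kerLift f
  have hginj : Function.Injective g := RingHom.kerLift_injective f
  letI : Algebra (P ⧸ RingHom.ker f) A := g.toAlgebra
  have hcomp : g.comp (Ideal.Quotient.mk (RingHom.ker f)) = f := by
    ext p; rfl
  have hint : Algebra.IsIntegral (P ⧸ RingHom.ker f) A := by
    have : g.IsIntegral := RingHom.IsIntegral.tower_top (Ideal.Quotient.mk (RingHom.ker f)) g
      (by rw [hcomp]; exact hf.to_isIntegral)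
    exact ⟨this⟩
  have h1 : ringKrullDim A = ringKrullDim (P ⧸ RingHom.ker f) :=
    Groth.Agent.Lib.Helper84.Kummer.ringKrullDim_eq_of_isIntegral_of_injective hginj
  have hle : Ideal.span {r} ≤ RingHom.ker f := by
    rw [Ideal.span_singleton_le_iff_mem]; exact hr
  have h2 : ringKrullDim (P ⧸ RingHom.ker f) ≤ ringKrullDim (P ⧸ Ideal.span {r}) :=
    ringKrullDim_le_of_surjective (Ideal.Quotient.factor hle) (Ideal.Quotient.factor_surjective hle)
  have h3 : ringKrullDim (P ⧸ Ideal.span {r}) + 1 ≤ ringKrullDim P :=
    ringKrullDim_quotient_succ_le_of_nonZeroDivisor (mem_nonZeroDivisors_of_ne_zero hr0)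
  rw [hP] at h3
  rw [hA] at h1
  rw [← h1] at h2
  have h4 : ((n + 1 : ℕ) : WithBot ℕ∞) ≤ (n : ℕ) := by
    push_cast
    exact le_trans (add_le_add_left h2 1) h3
  have h5 : n + 1 ≤ n := by exact_mod_cast h4
  omega

attribute [local instance] Ideal.Quotient.field in
theorem main
    (A : Type u) [CommRing A] [IsRegularLocalRing A]
    [IsAdicComplete (IsLocalRing.maximalIdeal A) A] (n : ℕ) (hn : ringKrullDim A = n)
    (k : Type v) [Field k] [Algebra k A]
    (hk : Function.Surjective (IsLocalRing.residue A ∘ algebraMap k A))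
    (x : Fin n → A) (hx : (Ideal.span (Set.range x)).radical = IsLocalRing.maximalIdeal A)
    (φ : MvPowerSeries (Fin n) k →ₐ[k] A) (hφ : ∀ i, φ (MvPowerSeries.X i) = x i) :
    ∃ (d : ℕ) (b : Fin d → A), (d : ℕ∞) = Module.length A (A ⧸ Ideal.span (Set.range x)) ∧
      Function.Bijective (fun r : Fin d → MvPowerSeries (Fin n) k => ∑ i, φ (r i) * b i) := by
  classical
  have hxm : ∀ i, x i ∈ maximalIdeal A := fun i => by
    rw [← hx]; exact Ideal.le_radical (Ideal.subset_span ⟨i, rfl⟩)
  have hfin := finite_of_sop A k hk x hx φ hφ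
  haveI : IsDomain (MvPowerSeries (Fin n) k) := NoZeroDivisors.to_isDomain _
  have hinj : Function.Injective (φ : MvPowerSeries (Fin n) k →+* A) :=
    injective_of_finite_of_dim _ hfin n (ringKrullDim_eq_card k n) hn
  letI : Algebra (MvPowerSeries (Fin n) k) A := (φ : MvPowerSeries (Fin n) k →+* A).toAlgebra
  have halg : ∀ p : MvPowerSeries (Fin n) k, algebraMap (MvPowerSeries (Fin n) k) A p = φ p :=
    fun p => rfl
  haveI : Module.Finite (MvPowerSeries (Fin n) k) A := hfin
  have hfree : Module.Free (MvPowerSeries (Fin n) k) A :=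
    Groth.Agent.Lib.Helper84.Coprod.free_of_finite_regular (MvPowerSeries (Fin n) k) A hinj
  -- ideal generated by x is the extension of the maximal ideal
  have hI : Ideal.span (Set.range x) =
      (maximalIdeal (MvPowerSeries (Fin n) k)).map (algebraMap (MvPowerSeries (Fin n) k) A) := by
    rw [maximalIdeal_eq_varIdeal]
    unfold varIdeal
    rw [Ideal.map_span, ← Set.range_comp]
    congr 2
    funext i
    exact (hφ i).symm
  -- local hom
  haveI : IsLocalHom (algebraMap (MvPowerSeries (Fin n) k) A) := by
    refine ⟨fun p hp => ?_⟩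
    by_contra hnp
    have h1 : p ∈ maximalIdeal (MvPowerSeries (Fin n) k) := (IsLocalRing.mem_maximalIdeal p).2 hnp
    have h2 : algebraMap (MvPowerSeries (Fin n) k) A p ∈ Ideal.span (Set.range x) := by
      rw [hI]; exact Ideal.mem_map_of_mem _ h1
    have h3 : algebraMap (MvPowerSeries (Fin n) k) A p ∈ maximalIdeal A := by
      rw [← hx]; exact Ideal.le_radical h2
    exact (IsLocalRing.mem_maximalIdeal _).1 h3 hp
  refine ⟨Module.finrank (MvPowerSeries (Fin n) k) A,
    fun i => Module.finBasis (MvPowerSeries (Fin n) k) A i, ?_, ?_⟩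
  · -- the length
    rw [hI]
    have key := IsLocalRing.length_restrictScalars (MvPowerSeries (Fin n) k) A
      (A ⧸ (maximalIdeal (MvPowerSeries (Fin n) k)).map (algebraMap (MvPowerSeries (Fin n) k) A))
    -- residue field extension is trivial
    have hone : Module.length (ResidueField (MvPowerSeries (Fin n) k)) (ResidueField A) = 1 := by
      have hsurj : Function.Surjective
          (algebraMap (ResidueField (MvPowerSeries (Fin n) k)) (ResidueField A)) := by
        intro y
        obtain ⟨c, hc⟩ := hk y
        refine ⟨residue _ (algebraMap k _ c), ?_⟩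
        change ResidueField.map (algebraMap (MvPowerSeries (Fin n) k) A) (residue _ _) = _
        rw [ResidueField.map_residue, halg, φ.commutes]
        exact hc
      rw [Module.length_eq_of_surjective hsurj, Module.length_eq_finrank, Module.finrank_self]
      rfl
    rw [hone, mul_one] at key
    rw [← key]
    rw [Module.length_eq_of_surjective (R := MvPowerSeries (Fin n) k ⧸ maximalIdeal (MvPowerSeries (Fin n) k))
      (S := MvPowerSeries (Fin n) k) Ideal.Quotient.mk_surjective]
    rw [Module.length_eq_finrank, IsLocalRing.finrank_quotient_map]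
  · -- bijectivity
    have heq : (fun r : Fin (Module.finrank (MvPowerSeries (Fin n) k) A) → MvPowerSeries (Fin n) k =>
        ∑ i, φ (r i) * Module.finBasis (MvPowerSeries (Fin n) k) A i) =
        (Module.finBasis (MvPowerSeries (Fin n) k) A).equivFun.symm := by
      funext r
      rw [Module.Basis.equivFun_symm_apply]
      refine Finset.sum_congr rfl fun i _ => ?_
      rw [Algebra.smul_def, halg]
    rw [heq]
    exact (Module.finBasis (MvPowerSeries (Fin n) k) A).equivFun.symm.bijective

end Groth.Agent.Lib.Helper63.PSFree
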