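import Groth.Agent.Lib.Helper63.AbsIrred

/-! S11073: the ideal of a projective plane curve is principal (helper63). -/

set_option autoImplicit false
set_option linter.style.haveILetI false
set_option linter.unusedSectionVars false

namespace Groth.Agent.Lib.Helper63.PlaneIdeal

open IntermediateField FunFld Groth.Agent.Lib.Helper55

universe u v

section dims

open scoped nonZeroDivisors

theorem quot_succ_le {R : Type*} [CommRing R] (I J : Ideal R) [I.IsPrime] (h : I < J) :
    ringKrullDim (R ⧸ J) + 1 ≤ ringKrullDim (R ⧸ I) := by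
  obtain ⟨a, haJ, haI⟩ := SetLike.exists_of_lt h
  refine ringKrullDim_succ_le_of_surjective (Ideal.Quotient.factor h.le)
    (Ideal.Quotient.factor_surjective h.le) (r := Ideal.Quotient.mk I a) ?_ ?_
  · apply mem_nonZeroDivisors_of_ne_zero
    rw [Ne, Ideal.Quotient.eq_zero_iff_mem]
    exact haI
  · rw [Ideal.Quotient.factor_mk, Ideal.Quotient.eq_zero_iff_mem]
    exact haJ

end dims

variable {k : Type u} {K : Type v} [Field k] [Field K] [Algebra k K]

/-- The graded evaluation map `X₀ ↦ T, X₁ ↦ xT, X₂ ↦ yT`. -/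
noncomputable abbrev Φ (x y : K) : MvPolynomial (Fin 3) k →ₐ[k] Polynomial K :=
  MvPolynomial.aeval fun i => Polynomial.C (![(1 : K), x, y] i) * Polynomial.X

/-- The affine evaluation map `X₀ ↦ 1, X₁ ↦ x, X₂ ↦ y`. -/
noncomputable abbrev E (x y : K) : MvPolynomial (Fin 3) k →ₐ[k] K :=
  MvPolynomial.aeval ![(1 : K), x, y]

theorem E_eq (x y : K) :
    E (k := k) x y = ((Polynomial.aeval (1 : K)).restrictScalars k).comp (Φ x y) := by
  apply MvPolynomial.algHom_ext
  intro i
  rw [AlgHom.comp_apply, MvPolynomial.aeval_X, MvPolynomial.aeval_X, AlgHom.restrictScalars_apply,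
    map_mul, Polynomial.aeval_C, Polynomial.aeval_X, mul_one]
  rfl

theorem trdeg_le_one (hK : IsFunctionField k K) : Algebra.trdeg k K ≤ 1 := by
  obtain ⟨⟨x₀, hx₀, hfin⟩, -⟩ := hK
  haveI := hfin
  haveI := AbsIrred.isAlgebraic_algebra_adjoin (k := k) x₀
  have := Algebra.IsAlgebraic.trdeg_le_cardinalMk k ({x₀} : Set K)
  simpa using this

theorem ker_ne_bot (hK : IsFunctionField k K) (x y : K) : RingHom.ker (Φ (k := k) x y) ≠ ⊥ := by
  intro hbot
  have hinj : Function.Injective (Φ (k := k) x y) := (RingHom.injective_iff_ker_eq_bot _).2 hbot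
  have hai : AlgebraicIndependent k
      (fun i : Fin 3 => Polynomial.C (![(1 : K), x, y] i) * (Polynomial.X : Polynomial K)) :=
    algebraicIndependent_iff_injective_aeval.2 hinj
  have h1 := hai.lift_cardinalMk_le_trdeg
  have h2 : Algebra.trdeg k K + Algebra.trdeg K (Polynomial K) = Algebra.trdeg k (Polynomial K) :=
    trdeg_add_eq k K (A := Polynomial K)
  rw [Polynomial.trdeg_of_isDomain] at h2
  have h3 := trdeg_le_one hK
  have h4 : Algebra.trdeg k (Polynomial K) ≤ 2 := by
    rw [← h2]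
    calc Algebra.trdeg k K + 1 ≤ 1 + 1 := add_le_add_left h3 1
      _ = 2 := one_add_one_eq_two
  have h5 : Cardinal.lift.{0} (Algebra.trdeg k (Polynomial K)) ≤ 2 := by
    rw [Cardinal.lift_uzero]; exact h4
  have h6 := h1.trans h5
  simp at h6
  norm_num at h6


theorem ker_le_kerE (x y : K) :
    RingHom.ker (Φ (k := k) x y) ≤ RingHom.ker (E (k := k) x y) := by
  intro G hG
  rw [RingHom.mem_ker] at hG ⊢
  rw [E_eq, AlgHom.comp_apply, hG, map_zero]

theorem ker_ne_kerE (x y : K) :
    RingHom.ker (Φ (k := k) x y) ≠ RingHom.ker (E (k := k) x y) := by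
  intro h
  have h1 : (MvPolynomial.X 0 - 1 : MvPolynomial (Fin 3) k) ∈ RingHom.ker (E (k := k) x y) := by
    rw [RingHom.mem_ker, map_sub, MvPolynomial.aeval_X, map_one]
    exact sub_self _
  rw [← h, RingHom.mem_ker, map_sub, MvPolynomial.aeval_X, map_one] at h1
  have h2 := congrArg (Polynomial.eval (0 : K)) h1
  simp at h2

theorem not_isMaximal_kerE (hK : IsFunctionField k K) (x y : K)
    (hxy : IntermediateField.adjoin k ({x, y} : Set K) = ⊤) :
    ¬ (RingHom.ker (E (k := k) x y)).IsMaximal := by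
  intro hmax
  letI := Ideal.Quotient.field (RingHom.ker (E (k := k) x y))
  haveI : Algebra.FiniteType k (MvPolynomial (Fin 3) k ⧸ RingHom.ker (E (k := k) x y)) :=
    Algebra.FiniteType.of_surjective (Ideal.Quotient.mkₐ k _)
      (Ideal.Quotient.mkₐ_surjective _ _)
  haveI := finite_of_finite_type_of_isJacobsonRing k
    (MvPolynomial (Fin 3) k ⧸ RingHom.ker (E (k := k) x y))
  let ψ : (MvPolynomial (Fin 3) k ⧸ RingHom.ker (E (k := k) x y)) →ₐ[k] K :=
    Ideal.Quotient.liftₐ _ (E (k := k) x y) (fun a ha => ha)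
  have hint : ∀ i : Fin 3, IsIntegral k (![(1 : K), x, y] i) := by
    intro i
    have h1 : IsIntegral k (Ideal.Quotient.mk (RingHom.ker (E (k := k) x y))
        (MvPolynomial.X i)) := Algebra.IsIntegral.isIntegral _
    have h2 := h1.map ψ
    have h3 : ψ (Ideal.Quotient.mk _ (MvPolynomial.X i)) = ![(1 : K), x, y] i := by
      change MvPolynomial.aeval ![(1 : K), x, y] (MvPolynomial.X i) = _
      rw [MvPolynomial.aeval_X]
    rw [h3] at h2
    exact h2
  have hx : IsIntegral k x := hint 1
  have hy : IsIntegral k y := hint 2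
  haveI : Algebra.IsAlgebraic k (IntermediateField.adjoin k ({x, y} : Set K)) := by
    apply IntermediateField.isAlgebraic_adjoin
    intro z hz
    rcases hz with rfl | hz
    · exact hx
    · rw [Set.mem_singleton_iff] at hz
      rw [hz]; exact hy
  obtain ⟨⟨t, ht, -⟩, -⟩ := hK
  apply ht
  have htm : t ∈ IntermediateField.adjoin k ({x, y} : Set K) := by rw [hxy]; trivial
  have h4 : IsAlgebraic k (⟨t, htm⟩ : IntermediateField.adjoin k ({x, y} : Set K)) :=
    Algebra.IsAlgebraic.isAlgebraic _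
  exact (isAlgebraic_algebraMap_iff (A := K)
    (IntermediateField.adjoin k ({x, y} : Set K)).val.injective).2 h4

theorem ker_eq_span (hK : IsFunctionField k K) (x y : K)
    (hxy : IntermediateField.adjoin k ({x, y} : Set K) = ⊤) (f : MvPolynomial (Fin 3) k)
    (hf : Irreducible f) (hfp : f ∈ RingHom.ker (Φ (k := k) x y)) :
    RingHom.ker (Φ (k := k) x y) = Ideal.span {f} := by
  by_contra hne
  haveI : (RingHom.ker (Φ (k := k) x y)).IsPrime := RingHom.ker_isPrime _
  haveI : (RingHom.ker (E (k := k) x y)).IsPrime := RingHom.ker_isPrime _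
  haveI : (Ideal.span {f}).IsPrime := (Ideal.span_singleton_prime hf.ne_zero).2 hf.prime
  have h01 : Ideal.span {f} < RingHom.ker (Φ (k := k) x y) :=
    lt_of_le_of_ne ((Ideal.span_singleton_le_iff_mem _).2 hfp) (Ne.symm hne)
  have h12 : RingHom.ker (Φ (k := k) x y) < RingHom.ker (E (k := k) x y) :=
    lt_of_le_of_ne (ker_le_kerE x y) (ker_ne_kerE x y)
  obtain ⟨M, hM, hEM⟩ := Ideal.exists_le_maximal (RingHom.ker (E (k := k) x y))
    (Ideal.IsPrime.ne_top inferInstance)
  have h23 : RingHom.ker (E (k := k) x y) < M :=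
    lt_of_le_of_ne hEM (fun h => not_isMaximal_kerE hK x y hxy (h ▸ hM))
  have d1 := quot_succ_le _ _ h23
  have d2 := quot_succ_le _ _ h12
  have d3 := quot_succ_le _ _ h01
  have d4 : ringKrullDim (MvPolynomial (Fin 3) k ⧸ Ideal.span {f}) + 1 ≤
      ringKrullDim (MvPolynomial (Fin 3) k) :=
    ringKrullDim_quotient_succ_le_of_nonZeroDivisor (mem_nonZeroDivisors_of_ne_zero hf.ne_zero)
  have hR : ringKrullDim (MvPolynomial (Fin 3) k) = 3 := by
    rw [MvPolynomial.ringKrullDim_of_isNoetherianRing, ringKrullDim_eq_zero_of_field]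
    simp
  haveI : Nontrivial (MvPolynomial (Fin 3) k ⧸ M) := Ideal.Quotient.nontrivial_iff.2 hM.ne_top
  have d0 : 0 ≤ ringKrullDim (MvPolynomial (Fin 3) k ⧸ M) := ringKrullDim_nonneg_of_nontrivial
  have hch : (0 : WithBot ℕ∞) + 1 + 1 + 1 + 1 ≤ 3 := by
    calc (0 : WithBot ℕ∞) + 1 + 1 + 1 + 1
        ≤ ringKrullDim (MvPolynomial (Fin 3) k ⧸ M) + 1 + 1 + 1 + 1 := by gcongr
      _ ≤ ringKrullDim (MvPolynomial (Fin 3) k ⧸ RingHom.ker (E (k := k) x y)) + 1 + 1 + 1 := by
          gcongr
      _ ≤ ringKrullDim (MvPolynomial (Fin 3) k ⧸ RingHom.ker (Φ (k := k) x y)) + 1 + 1 := by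
          gcongr
      _ ≤ ringKrullDim (MvPolynomial (Fin 3) k ⧸ Ideal.span {f}) + 1 := by gcongr
      _ ≤ ringKrullDim (MvPolynomial (Fin 3) k) := d4
      _ = 3 := hR
  have h4 : (0 : WithBot ℕ∞) + 1 + 1 + 1 + 1 = ((4 : ℕ) : WithBot ℕ∞) := by
    norm_num
  have h3 : (3 : WithBot ℕ∞) = ((3 : ℕ) : WithBot ℕ∞) := rfl
  rw [h4, h3, Nat.cast_le] at hch
  omega


section homog

theorem Φ_monomial (x y : K) (m : Fin 3 →₀ ℕ) (c : k) :
    Φ (k := k) x y (MvPolynomial.monomial m c) =
      Polynomial.C (algebraMap k K c * (x ^ m 1 * y ^ m 2)) * Polynomial.X ^ m.degree := by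
  rw [MvPolynomial.aeval_monomial, Finsupp.prod_fintype _ _ (fun i => pow_zero _),
    Fin.prod_univ_three, Finsupp.degree_eq_sum, Fin.sum_univ_three,
    IsScalarTower.algebraMap_apply k K (Polynomial K), Polynomial.algebraMap_apply,
    Algebra.algebraMap_self_apply]
  simp only [Matrix.cons_val_zero, Matrix.cons_val_one, Matrix.cons_val_two, Matrix.head_cons,
    Matrix.tail_cons, mul_pow, map_one, one_mul, map_mul, map_pow, pow_add]
  ring

/-- The graded evaluation map is compatible with homogeneous components. -/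
theorem Φ_homogeneousComponent (x y : K) (n : ℕ) (G : MvPolynomial (Fin 3) k) :
    Φ (k := k) x y (MvPolynomial.homogeneousComponent n G) =
      Polynomial.C ((Φ (k := k) x y G).coeff n) * Polynomial.X ^ n := by
  induction G using MvPolynomial.induction_on' with
  | monomial m c =>
    rw [MvPolynomial.homogeneousComponent_of_mem (MvPolynomial.isHomogeneous_monomial c rfl),
      Φ_monomial, Polynomial.coeff_C_mul, Polynomial.coeff_X_pow]
    split_ifs with h
    · rw [Φ_monomial, mul_one, h]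
    · rw [map_zero, mul_zero, map_zero, zero_mul]
  | add p q hp hq =>
    rw [map_add, map_add, hp, hq, map_add, Polynomial.coeff_add, map_add, add_mul]

theorem homogeneousComponent_mem_ker (x y : K) (n : ℕ) (G : MvPolynomial (Fin 3) k)
    (hG : G ∈ RingHom.ker (Φ (k := k) x y)) :
    MvPolynomial.homogeneousComponent n G ∈ RingHom.ker (Φ (k := k) x y) := by
  rw [RingHom.mem_ker] at hG ⊢
  rw [Φ_homogeneousComponent, hG, Polynomial.coeff_zero, map_zero, zero_mul]

theorem homogeneousComponent_totalDegree_ne_zero {σ R : Type*} [CommSemiring R]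
    (f : MvPolynomial σ R) (hf : f ≠ 0) :
    MvPolynomial.homogeneousComponent f.totalDegree f ≠ 0 := by
  obtain ⟨m, hm, hdeg⟩ := Finset.exists_mem_eq_sup f.support
    (MvPolynomial.support_nonempty.2 hf) (fun s => s.sum fun _ e => e)
  intro h0
  have h1 := congrArg (MvPolynomial.coeff m) h0
  rw [MvPolynomial.coeff_homogeneousComponent, MvPolynomial.coeff_zero, if_pos] at h1
  · exact (MvPolynomial.mem_support_iff.1 hm) h1
  · rw [MvPolynomial.totalDegree, hdeg]
    rfl

theorem isHomogeneous_of_ker_eq_span (x y : K) (f : MvPolynomial (Fin 3) k) (hf0 : f ≠ 0)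
    (hker : RingHom.ker (Φ (k := k) x y) = Ideal.span {f}) :
    f.IsHomogeneous f.totalDegree := by
  have hfd : MvPolynomial.homogeneousComponent f.totalDegree f ∈ Ideal.span {f} := by
    rw [← hker]
    apply homogeneousComponent_mem_ker
    rw [hker]
    exact Ideal.mem_span_singleton_self f
  obtain ⟨u, hu⟩ := Ideal.mem_span_singleton.1 hfd
  have hne := homogeneousComponent_totalDegree_ne_zero f hf0
  have hu0 : u ≠ 0 := by
    rintro rfl
    rw [mul_zero] at hu
    exact hne hu
  have hhom := MvPolynomial.homogeneousComponent_isHomogeneous f.totalDegree f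
  have hdeg := hhom.totalDegree hne
  rw [hu, MvPolynomial.totalDegree_mul_of_isDomain hf0 hu0] at hdeg
  have hu1 : u.totalDegree = 0 := by omega
  rw [MvPolynomial.totalDegree_eq_zero_iff_eq_C] at hu1
  obtain ⟨c, hcu⟩ : ∃ c : k, u = MvPolynomial.C c := ⟨_, hu1⟩
  have hc : c ≠ 0 := by
    intro h0
    rw [h0, map_zero] at hcu
    exact hu0 hcu
  have hfeq : f = MvPolynomial.C c⁻¹ *
      MvPolynomial.homogeneousComponent f.totalDegree f := by
    rw [hu, hcu, mul_comm f, ← mul_assoc, ← map_mul, inv_mul_cancel₀ hc, map_one, one_mul]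
  have h3 := hhom.C_mul c⁻¹
  rw [← hfeq] at h3
  exact h3

end homog

/-- S11073. -/
theorem main (hK : IsFunctionField k K) (x y : K)
    (hxy : IntermediateField.adjoin k ({x, y} : Set K) = ⊤) :
    ∃ f : MvPolynomial (Fin 3) k, Irreducible f ∧ f.IsHomogeneous f.totalDegree ∧
      RingHom.ker (MvPolynomial.aeval fun i => Polynomial.C (![(1 : K), x, y] i) * Polynomial.X) =
        Ideal.span {f} := by
  haveI : (RingHom.ker (Φ (k := k) x y)).IsPrime := RingHom.ker_isPrime _
  obtain ⟨f, hfp, hf⟩ := AbsIrred.exists_irreducible_mem _ (ker_ne_bot hK x y)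
  have hker := ker_eq_span hK x y hxy f hf hfp
  exact ⟨f, hf, isHomogeneous_of_ker_eq_span x y f hf.ne_zero hker, hker⟩

end Groth.Agent.Lib.Helper63.PlaneIdeal
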