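import Mathlib
import Groth.Prelude.Def_CAlgX
import Groth.Agent.Lib.Helper77.QuasiReg

/-!
# Truncations of a ring along a quasi-regular sequence

For a quasi-regular sequence `x` generating `J` and a ring section `σ : A/J → A/J^N` of the
projection, the map `(A/J)[T] → A/J^N`, `T_i ↦ x_i` is surjective with kernel `(T)^N`.
-/

set_option autoImplicit false
set_option linter.style.haveILetI false
set_option linter.unusedSectionVars false
set_option linter.unusedVariables false

universe v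

namespace Groth.Agent.Lib.Helper63.QRegTrunc

open MvPolynomial

variable {A : Type v} [CommRing A] {d : ℕ} (x : Fin d → A) (N : ℕ)

/-- the ideal generated by the sequence -/
abbrev JJ : Ideal A := Ideal.span (Set.range x)

/-- the image of `J` in `A/J^N` -/
abbrev KK : Ideal (A ⧸ JJ x ^ N) := (JJ x).map (Ideal.Quotient.mk (JJ x ^ N))

/-- the images of the `x i` in `A/J^N`. -/
abbrev xb : Fin d → A ⧸ JJ x ^ N := fun i => Ideal.Quotient.mk (JJ x ^ N) (x i)

theorem KK_eq_span : KK x N = Ideal.span (Set.range (xb x N)) := by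
  unfold KK JJ xb
  rw [Ideal.map_span, ← Set.range_comp]
  rfl

theorem KK_pow_N : KK x N ^ N = ⊥ := by
  unfold KK
  rw [← Ideal.map_pow, Ideal.map_quotient_self]

theorem mem_of_mk_mem_KK_pow {k : ℕ} (hk : k ≤ N) {a : A}
    (ha : Ideal.Quotient.mk (JJ x ^ N) a ∈ KK x N ^ k) : a ∈ JJ x ^ k := by
  unfold KK at ha
  rw [← Ideal.map_pow, Ideal.mem_quotient_iff_mem_sup] at ha
  have : JJ x ^ k ⊔ JJ x ^ N = JJ x ^ k := sup_eq_left.2 (Ideal.pow_le_pow_right hk)
  rwa [this] at ha

/-- two coefficient maps congruent modulo `K` give evaluations congruent modulo `K^(k+1)` on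
homogeneous polynomials of degree `k`. -/
theorem eval₂_sub_mem {C : Type*} [CommRing C] (τ₁ τ₂ : C →+* A ⧸ JJ x ^ N)
    (hτ : ∀ c, τ₁ c - τ₂ c ∈ KK x N) {k : ℕ} (G : MvPolynomial (Fin d) C)
    (hG : G.IsHomogeneous k) :
    eval₂ τ₁ (xb x N) G - eval₂ τ₂ (xb x N) G ∈ KK x N ^ (k + 1) := by
  have h1 : eval₂ τ₁ (xb x N) G - eval₂ τ₂ (xb x N) G =
      eval (xb x N) (MvPolynomial.map τ₁ G - MvPolynomial.map τ₂ G) := by
    rw [map_sub, MvPolynomial.eval_map, MvPolynomial.eval_map]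
  rw [h1, pow_succ']
  have h2 := Groth.Agent.Lib.Helper77.QuasiReg.eval_mem_mul_pow (xb x N) (KK x N)
    (MvPolynomial.map τ₁ G - MvPolynomial.map τ₂ G) ((hG.map τ₁).sub (hG.map τ₂))
    (fun m => by
      rw [coeff_sub, coeff_map, coeff_map]
      exact hτ _)
  rwa [← KK_eq_span] at h2

variable (σ : (A ⧸ JJ x) →+* (A ⧸ JJ x ^ N))

/-- the comparison map `(A/J)[T] → A/J^N`. -/
noncomputable def phi : MvPolynomial (Fin d) (A ⧸ JJ x) →+* (A ⧸ JJ x ^ N) :=
  eval₂Hom σ (xb x N)

theorem phi_X (i : Fin d) : phi x N σ (X i) = Ideal.Quotient.mk _ (x i) := by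
  unfold phi
  rw [coe_eval₂Hom, eval₂_X]

theorem phi_C (b : A ⧸ JJ x) : phi x N σ (C b) = σ b := by
  unfold phi
  rw [coe_eval₂Hom, eval₂_C]

theorem phi_mem_pow {k : ℕ} {P : MvPolynomial (Fin d) (A ⧸ JJ x)}
    (hP : P ∈ idealOfVars (Fin d) (A ⧸ JJ x) ^ k) : phi x N σ P ∈ KK x N ^ k := by
  have h1 : (idealOfVars (Fin d) (A ⧸ JJ x)).map (phi x N σ) = KK x N := by
    rw [KK_eq_span]
    unfold idealOfVars
    rw [Ideal.map_span, ← Set.range_comp]
    congr 2
    funext i
    exact phi_X x N σ i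
  have h2 := Ideal.mem_map_of_mem (phi x N σ) hP
  rwa [Ideal.map_pow, h1] at h2

theorem map_homogeneousComponent {S T : Type*} [CommSemiring S] [CommSemiring T] (f : S →+* T)
    (k : ℕ) (p : MvPolynomial (Fin d) S) :
    MvPolynomial.map f (homogeneousComponent k p) = homogeneousComponent k (MvPolynomial.map f p) := by
  ext m
  rw [coeff_map, coeff_homogeneousComponent, coeff_homogeneousComponent, coeff_map]
  split_ifs <;> simp

variable (hσ : ∀ a : A, Ideal.Quotient.mk (JJ x ^ N) a - σ (Ideal.Quotient.mk (JJ x) a) ∈ KK x N)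

include hσ in
theorem coeff_eq_zero_step (hx : CAlgX.IsQuasiRegular x)
    (P : MvPolynomial (Fin d) (A ⧸ JJ x)) (hP : phi x N σ P = 0) (k : ℕ) (hk : k < N)
    (ih : ∀ m : Fin d →₀ ℕ, m.degree < k → P.coeff m = 0) :
    ∀ m : Fin d →₀ ℕ, m.degree = k → P.coeff m = 0 := by
  intro m hm
  -- the homogeneous component
  obtain ⟨P', hP'⟩ := MvPolynomial.map_surjective (Ideal.Quotient.mk (JJ x))
    Ideal.Quotient.mk_surjective P
  set Pt := homogeneousComponent k P' with hPt
  have hPth : Pt.IsHomogeneous k := homogeneousComponent_isHomogeneous k P'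
  have hmap : MvPolynomial.map (Ideal.Quotient.mk (JJ x)) Pt = homogeneousComponent k P := by
    rw [hPt, map_homogeneousComponent, hP']
  have hdiff : P - homogeneousComponent k P ∈ idealOfVars (Fin d) (A ⧸ JJ x) ^ (k + 1) := by
    rw [mem_pow_idealOfVars_iff']
    intro m' hm'
    rw [coeff_sub, coeff_homogeneousComponent]
    split_ifs with h
    · exact sub_self _
    · rw [sub_zero]
      exact ih m' (lt_of_le_of_ne (Nat.lt_succ_iff.1 hm') h)
  have h1 := phi_mem_pow x N σ hdiff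
  rw [map_sub, hP, zero_sub, neg_mem_iff] at h1
  -- compare with the lift
  have h2 := eval₂_sub_mem x N (Ideal.Quotient.mk (JJ x ^ N)) (σ.comp (Ideal.Quotient.mk (JJ x)))
    (fun c => hσ c) Pt hPth
  have h3 : eval₂ (σ.comp (Ideal.Quotient.mk (JJ x))) (xb x N) Pt =
      phi x N σ (homogeneousComponent k P) := by
    rw [← hmap]
    unfold phi
    rw [coe_eval₂Hom, eval₂_map]
  have h4 : eval₂ (Ideal.Quotient.mk (JJ x ^ N)) (xb x N) Pt =
      Ideal.Quotient.mk (JJ x ^ N) (eval x Pt) := by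
    have := eval₂_comp_left (Ideal.Quotient.mk (JJ x ^ N)) (RingHom.id A) x Pt
    rw [RingHom.comp_id] at this
    exact this.symm
  rw [h3, h4] at h2
  have h5 : Ideal.Quotient.mk (JJ x ^ N) (eval x Pt) ∈ KK x N ^ (k + 1) := by
    have := add_mem h2 h1
    rwa [sub_add_cancel] at this
  have h6 := mem_of_mk_mem_KK_pow x N (Nat.succ_le_of_lt hk) h5
  have h7 := hx k Pt hPth h6 m
  have h8 : (homogeneousComponent k P).coeff m = 0 := by
    rw [← hmap, coeff_map]
    exact Ideal.Quotient.eq_zero_iff_mem.2 h7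
  rwa [coeff_homogeneousComponent, if_pos hm] at h8

include hσ in
theorem mem_pow_of_phi_eq_zero (hx : CAlgX.IsQuasiRegular x)
    (P : MvPolynomial (Fin d) (A ⧸ JJ x)) (hP : phi x N σ P = 0) :
    P ∈ idealOfVars (Fin d) (A ⧸ JJ x) ^ N := by
  rw [mem_pow_idealOfVars_iff']
  have key : ∀ k, k < N → ∀ m : Fin d →₀ ℕ, m.degree = k → P.coeff m = 0 := by
    intro k
    induction k using Nat.strong_induction_on with
    | _ k ih =>
      intro hk
      refine coeff_eq_zero_step x N σ hσ hx P hP k hk fun m hm => ?_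
      exact ih m.degree hm (lt_trans hm hk) m rfl
  intro m hm
  exact key m.degree hm m rfl

include hσ in
theorem exists_phi_sub_mem (hN : N ≠ 0) (n : ℕ) (y : A ⧸ JJ x ^ N) :
    ∃ P : MvPolynomial (Fin d) (A ⧸ JJ x), y - phi x N σ P ∈ KK x N ^ n := by
  induction n with
  | zero => exact ⟨0, by rw [pow_zero, Ideal.one_eq_top]; trivial⟩
  | succ n ih =>
    obtain ⟨P, hP⟩ := ih
    rw [KK_eq_span, Ideal.mem_span_pow_iff_exists_isHomogeneous] at hP
    obtain ⟨G, hG, hGe⟩ := hP
    let qr : (A ⧸ JJ x ^ N) →+* (A ⧸ JJ x) := Ideal.Quotient.factor (Ideal.pow_le_self hN)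
    have hτ : ∀ c : A ⧸ JJ x ^ N, (RingHom.id _) c - (σ.comp qr) c ∈ KK x N := by
      intro c
      obtain ⟨a, rfl⟩ := Ideal.Quotient.mk_surjective c
      exact hσ a
    have h2 := eval₂_sub_mem x N (RingHom.id _) (σ.comp qr) hτ G hG
    refine ⟨P + MvPolynomial.map qr G, ?_⟩
    have h3 : eval₂ (RingHom.id _) (xb x N) G = y - phi x N σ P := by
      rw [← hGe]; rfl
    have h4 : eval₂ (σ.comp qr) (xb x N) G = phi x N σ (MvPolynomial.map qr G) := by
      unfold phi
      rw [coe_eval₂Hom, eval₂_map]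
    rw [h3, h4] at h2
    rw [map_add]
    have : y - (phi x N σ P + phi x N σ (MvPolynomial.map qr G)) =
        y - phi x N σ P - phi x N σ (MvPolynomial.map qr G) := by ring
    rwa [this]

include hσ in
theorem phi_surjective (hN : N ≠ 0) : Function.Surjective (phi x N σ) := by
  intro y
  obtain ⟨P, hP⟩ := exists_phi_sub_mem x N σ hσ hN N y
  rw [KK_pow_N, Ideal.mem_bot, sub_eq_zero] at hP
  exact ⟨P, hP.symm⟩

theorem phi_eq_zero_of_mem {P : MvPolynomial (Fin d) (A ⧸ JJ x)}
    (hP : P ∈ idealOfVars (Fin d) (A ⧸ JJ x) ^ N) : phi x N σ P = 0 := by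
  have := phi_mem_pow x N σ hP
  rwa [KK_pow_N, Ideal.mem_bot] at this

end Groth.Agent.Lib.Helper63.QRegTrunc
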