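import Groth.Agent.Lib.Helper63.GeometricPerfect
import Groth.Agent.Lib.Helper63.ConstField
import Mathlib.RingTheory.Unramified.Field
import Mathlib.RingTheory.Artinian.Module
import Mathlib.RingTheory.Jacobson.Semiprimary
import Mathlib.FieldTheory.PurelyInseparable.Basic
import Mathlib.FieldTheory.SeparableClosure
import Mathlib.RingTheory.Flat.Basic

/-! A finite separable extension of a geometric function field is geometric over its constant
field (helper63). -/

set_option autoImplicit false
set_option linter.style.haveILetI false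
set_option linter.unusedSectionVars false

namespace Groth.Agent.Lib.Helper63.SepExtGeometric

open IntermediateField FunFld TensorProduct Polynomial

universe u v

/-- A reduced ring all of whose elements have a `q`-power in the image of a field is a field. -/
theorem isField_of_pow_mem_range {R F : Type*} [CommRing R] [IsReduced R] [Nontrivial R] [Field F]
    (ι : F →+* R) (q : ℕ) (hq : 0 < q) (h : ∀ z : R, ∃ n : ℕ, z ^ q ^ n ∈ ι.range) :
    IsField R := by
  refine ⟨exists_pair_ne R, mul_comm, fun {z} hz => ?_⟩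
  obtain ⟨n, w, hw⟩ := h z
  have hw0 : w ≠ 0 := by
    rintro rfl
    rw [map_zero] at hw
    exact hz (IsNilpotent.eq_zero ⟨_, hw.symm⟩)
  obtain ⟨m, hm⟩ : ∃ m, q ^ n = m + 1 := Nat.exists_eq_succ_of_ne_zero (pow_pos hq n).ne'
  refine ⟨z ^ m * ι w⁻¹, ?_⟩
  rw [← mul_assoc, ← pow_succ', ← hm, ← hw, ← map_mul, mul_inv_cancel₀ hw0, map_one]

/-- Purely inseparable base change: every element has a `q`-power coming from the separable part. -/
theorem exists_pow_mem_range {k' k'' : Type*} [Field k'] [Field k''] [Algebra k' k'']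
    (ks : IntermediateField k' k'') [IsPurelyInseparable ks k''] (A : Type*) [CommRing A]
    [Algebra k' A] (q : ℕ) [ExpChar k' q] [ExpChar (k'' ⊗[k'] A) q] (z : k'' ⊗[k'] A) :
    ∃ n : ℕ, z ^ q ^ n ∈ (Algebra.TensorProduct.map ks.val (AlgHom.id k' A)).range := by
  haveI : ExpChar ks q := expChar_of_injective_algebraMap (algebraMap k' ks).injective q
  set S := (Algebra.TensorProduct.map ks.val (AlgHom.id k' A)).range with hS
  have hmono : ∀ (z : k'' ⊗[k'] A) (n N : ℕ), n ≤ N → z ^ q ^ n ∈ S → z ^ q ^ N ∈ S := by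
    intro z n N hnN hz
    obtain ⟨d, rfl⟩ := Nat.exists_eq_add_of_le hnN
    rw [pow_add, pow_mul]
    exact S.pow_mem hz _
  induction z using TensorProduct.induction_on with
  | zero => exact ⟨0, by simp [S.zero_mem]⟩
  | tmul a y =>
    obtain ⟨n, b, hb⟩ := IsPurelyInseparable.pow_mem ks q a
    refine ⟨n, ?_⟩
    rw [Algebra.TensorProduct.tmul_pow, ← hb]
    exact ⟨b ⊗ₜ (y ^ q ^ n), by simp⟩
  | add z₁ z₂ h₁ h₂ =>
    obtain ⟨n₁, h₁⟩ := h₁
    obtain ⟨n₂, h₂⟩ := h₂
    refine ⟨max n₁ n₂, ?_⟩
    rw [add_pow_expChar_pow]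
    exact S.add_mem (hmono _ _ _ (le_max_left _ _) h₁) (hmono _ _ _ (le_max_right _ _) h₂)

section Reduced

variable {k : Type u} {K K' : Type v} [Field k] [Field K] [Field K'] [Algebra k K] [Algebra K K']
  [Algebra k K'] [IsScalarTower k K K']

/-- Quotients of `k'' ⊗[k] K'` are reduced when `K'/K` is finite separable and `K/k` geometric. -/
theorem isReduced_of_surjective_tensor (hg : IsGeometric k K) [FiniteDimensional K K']
    [Algebra.IsSeparable K K'] (k'' : Type u) [Field k''] [Algebra k k''] [FiniteDimensional k k'']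
    {R : Type*} [CommRing R] (f : k'' ⊗[k] K' →+* R) (hf : Function.Surjective f) :
    IsReduced R := by
  have hfield : IsField (K ⊗[k] k'') :=
    (Algebra.TensorProduct.comm k K k'').toMulEquiv.isField (hg k'' inferInstance)
  letI : Field (K ⊗[k] k'') := hfield.toField
  haveI : Algebra.FormallyUnramified K K' := Algebra.FormallyUnramified.of_isSeparable K K'
  haveI : Algebra.FormallyUnramified (K ⊗[k] k'') ((K ⊗[k] k'') ⊗[K] K') := inferInstance
  haveI : IsReduced ((K ⊗[k] k'') ⊗[K] K') :=
    Algebra.FormallyUnramified.isReduced_of_field (K ⊗[k] k'') ((K ⊗[k] k'') ⊗[K] K')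
  haveI : IsArtinianRing ((K ⊗[k] k'') ⊗[K] K') :=
    IsArtinianRing.of_finite (K ⊗[k] k'') ((K ⊗[k] k'') ⊗[K] K')
  haveI : IsSemisimpleRing ((K ⊗[k] k'') ⊗[K] K') :=
    IsArtinianRing.isSemisimpleRing_of_isReduced _
  let e₁ : (K ⊗[k] k'') ⊗[K] K' ≃ₐ[K] K' ⊗[K] (K ⊗[k] k'') := Algebra.TensorProduct.comm K _ _
  let e₂ : K' ⊗[K] (K ⊗[k] k'') ≃ₐ[K] K' ⊗[k] k'' :=
    Algebra.TensorProduct.cancelBaseChange k K K K' k''
  let e₃ : K' ⊗[k] k'' ≃ₐ[k] k'' ⊗[k] K' := Algebra.TensorProduct.comm k K' k''
  let g : (K ⊗[k] k'') ⊗[K] K' →+* R :=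
    f.comp ((e₃ : K' ⊗[k] k'' →+* k'' ⊗[k] K').comp
      ((e₂ : K' ⊗[K] (K ⊗[k] k'') →+* K' ⊗[k] k'').comp
        (e₁ : (K ⊗[k] k'') ⊗[K] K' →+* K' ⊗[K] (K ⊗[k] k''))))
  have hg' : Function.Surjective g :=
    hf.comp (e₃.surjective.comp (e₂.surjective.comp e₁.surjective))
  haveI : IsSemisimpleRing R := RingHom.isSemisimpleRing_of_surjective g hg'
  infer_instance

end Reduced

section Finite

variable {k : Type*} {E : Type*} [Field k] [Field E] [Algebra k E]

open scoped IntermediateField.algebraAdjoinAdjoin in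
/-- If `E` is finite over `k(x₀)`, it is finite over `k(x)` for every transcendental `x`. -/
theorem finite_adjoin_of_transcendental {x₀ x : E} [FiniteDimensional k⟮x₀⟯ E]
    (hx : Transcendental k x) : FiniteDimensional k⟮x⟯ E := by
  have : Algebra.EssFiniteType k k⟮x₀⟯ :=
    IntermediateField.essFiniteType_iff.mpr
      (IntermediateField.fg_adjoin_of_finite (Set.finite_singleton x₀))
  have : Algebra.EssFiniteType k⟮x₀⟯ E := inferInstance
  have : Algebra.EssFiniteType k E := Algebra.EssFiniteType.comp k k⟮x₀⟯ E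
  have : Algebra.EssFiniteType k⟮x⟯ E := Algebra.EssFiniteType.of_comp k _ E
  have : Algebra.IsAlgebraic k⟮x₀⟯ E := Algebra.IsAlgebraic.of_finite _ _
  have : Algebra.IsAlgebraic (Algebra.adjoin k ({x₀} : Set E)) E :=
    Algebra.IsAlgebraic.trans (Algebra.adjoin k ({x₀} : Set E)) k⟮x₀⟯ E
  have htr : Algebra.trdeg k E ≤ 1 := by
    have := Algebra.IsAlgebraic.trdeg_le_cardinalMk k ({x₀} : Set E)
    simpa using this
  have hai : AlgebraicIndependent k (fun _ : Unit => x) :=
    algebraicIndependent_unique_type_iff.mpr hx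
  have hbasis : IsTranscendenceBasis k (fun _ : Unit => x) :=
    hai.isTranscendenceBasis_of_lift_trdeg_le_of_finite (by simpa using htr)
  have : Algebra.IsAlgebraic k⟮x⟯ E := by
    have := hbasis.isAlgebraic_field
    have hrange : Set.range (fun _ : Unit => x) = {x} := by
      ext y; simp [eq_comm]
    rwa [hrange] at this
  exact Algebra.finite_of_essFiniteType_of_isAlgebraic

/-- The constant field of a field finite over `k(x₀)` is finite over `k`. -/
theorem finiteDimensional_constants {k' : Type*} [Field k'] [Algebra k k'] [Algebra k' E]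
    [IsScalarTower k k' E] {x₀ : E} [FiniteDimensional k⟮x₀⟯ E]
    {x : E} (hx : Transcendental k' x) : FiniteDimensional k k' := by
  have hxk : Transcendental k x := fun h => hx (h.tower_top k')
  haveI := finite_adjoin_of_transcendental (x₀ := x₀) hxk
  let b := Module.Basis.ofVectorSpace k k'
  have hli := Groth.Agent.Lib.Helper63.ConstField.linearIndependent_adjoin_of_transcendental
    (k := k) hx b b.linearIndependent
  haveI : Finite (Module.Basis.ofVectorSpaceIndex k k') := hli.finite_of_isNoetherian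
  exact Module.Finite.of_basis b

end Finite

section Main

variable {k k' : Type u} {K K' : Type v} [Field k] [Field k'] [Field K] [Field K']
  [Algebra k k'] [Algebra k K] [Algebra K K'] [Algebra k' K'] [Algebra k K']
  [IsScalarTower k k' K'] [IsScalarTower k K K']

theorem isGeometric_of_isSeparable [FiniteDimensional K K'] [Algebra.IsSeparable K K']
    (hK : IsFunctionField k K) (hg : IsGeometric k K) (hK' : IsFunctionField k' K') :
    IsGeometric k' K' := by
  intro k'' _ _ hfin
  haveI : FiniteDimensional k' k'' := hfin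
  -- the constant field is finite over `k`
  obtain ⟨⟨x₀, hx₀, hfin₀⟩, -⟩ := hK
  haveI : FiniteDimensional k⟮x₀⟯ K := hfin₀
  haveI : FiniteDimensional k⟮algebraMap K K' x₀⟯ K' :=
    Groth.Agent.Lib.Helper63.ConstField.finiteDimensional_adjoin_map
  obtain ⟨⟨x, hx, -⟩, hconst⟩ := hK'
  haveI : FiniteDimensional k k' :=
    finiteDimensional_constants (x₀ := algebraMap K K' x₀) hx
  letI : Algebra k k'' := ((algebraMap k' k'').comp (algebraMap k k')).toAlgebra
  haveI : IsScalarTower k k' k'' := IsScalarTower.of_algebraMap_eq (fun _ => rfl)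
  haveI : FiniteDimensional k k'' := FiniteDimensional.trans k k' k''
  -- reducedness
  let f₁ : k'' →ₐ[k] k'' ⊗[k'] K' := Algebra.TensorProduct.includeLeft
  let f₂ : K' →ₐ[k] k'' ⊗[k'] K' :=
    (Algebra.TensorProduct.includeRight : K' →ₐ[k'] k'' ⊗[k'] K').restrictScalars k
  let f : k'' ⊗[k] K' →ₐ[k] k'' ⊗[k'] K' :=
    Algebra.TensorProduct.productMap f₁ f₂
  have hsurj : Function.Surjective f := by
    intro z
    induction z using TensorProduct.induction_on with
    | zero => exact ⟨0, map_zero _⟩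
    | tmul a y =>
      refine ⟨a ⊗ₜ y, ?_⟩
      rw [Algebra.TensorProduct.productMap_apply_tmul]
      change (a ⊗ₜ[k'] (1 : K')) * ((1 : k'') ⊗ₜ[k'] y) = _
      rw [Algebra.TensorProduct.tmul_mul_tmul, mul_one, one_mul]
    | add z₁ z₂ h₁ h₂ =>
      obtain ⟨w₁, rfl⟩ := h₁
      obtain ⟨w₂, rfl⟩ := h₂
      exact ⟨w₁ + w₂, map_add _ _ _⟩
  haveI : IsReduced (k'' ⊗[k'] K') :=
    isReduced_of_surjective_tensor hg k'' (f : k'' ⊗[k] K' →+* k'' ⊗[k'] K') hsurj
  -- the separable part
  have hF₁ : IsField (separableClosure k' k'' ⊗[k'] K') :=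
    Groth.Agent.Lib.Helper63.GeometricPerfect.isField_tensor_of_separable hconst
      (separableClosure k' k'')
  letI : Field (separableClosure k' k'' ⊗[k'] K') := hF₁.toField
  obtain ⟨q, hq⟩ := ExpChar.exists k'
  haveI := hq
  haveI : Nontrivial (k'' ⊗[k'] K') :=
    (Algebra.TensorProduct.includeRight_injective (R := k') (A := k'') (B := K')
      (algebraMap k' k'').injective).nontrivial
  haveI : ExpChar (k'' ⊗[k'] K') q :=
    expChar_of_injective_algebraMap (algebraMap k' (k'' ⊗[k'] K')).injective q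
  refine isField_of_pow_mem_range
    ((Algebra.TensorProduct.map (separableClosure k' k'').val (AlgHom.id k' K') :
      separableClosure k' k'' ⊗[k'] K' →ₐ[k'] k'' ⊗[k'] K') :
      separableClosure k' k'' ⊗[k'] K' →+* k'' ⊗[k'] K') q (expChar_pos k' q) (fun z => ?_)
  obtain ⟨n, w, hw⟩ := exists_pow_mem_range (separableClosure k' k'') K' q z
  exact ⟨n, w, hw⟩

end Main

end Groth.Agent.Lib.Helper63.SepExtGeometric
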