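import Groth.Agent.Lib.Helper63.NonsingCount
import Groth.Agent.Lib.Helper63.SepExtGeometric
import Groth.Agent.Lib.Helper63.LocResBasic
import Groth.Agent.Lib.Helper55.FunFld.TateCanonGen
import Groth.Agent.Lib.Helper55.FunFld.WeilDim

/-! The Riemann–Hurwitz genus formula for a finite separable extension of function fields,
through expansions (helper63). -/

set_option autoImplicit false
set_option linter.style.haveILetI false
set_option linter.unusedSectionVars false

namespace Groth.Agent.Lib.Helper63.RHurwitz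

open WithZero FunFld Module LocRes Groth.Agent.Lib.Helper55
  Groth.Agent.Lib.Helper63.FunFldExt Groth.Agent.Lib.Helper63.SumEF
  Groth.Agent.Lib.Helper63.NonsingCount

universe u v w

theorem main (k k' : Type u) (K K' : Type v) [Field k] [Field k'] [Field K] [Field K']
    [Algebra k k'] [Algebra k K] [Algebra K K'] [Algebra k' K'] [Algebra k K']
    [IsScalarTower k k' K'] [IsScalarTower k K K'] [FiniteDimensional k k'] [FiniteDimensional K K']
    [Algebra.IsSeparable K K']
    (hK : FunFld.IsFunctionField k K) (hg : FunFld.IsGeometric k K) (hK' : FunFld.IsFunctionField k' K')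
    (F : FunFld.Place k K → Type w) [∀ P, Field (F P)] [∀ P, Algebra k (F P)]
    (φ : ∀ P, K →ₐ[k] LaurentSeries (F P)) (hφ : ∀ P, LocRes.IsExpansionAt P.1 (φ P))
    (F' : FunFld.Place k' K' → Type w) [∀ Q, Field (F' Q)] [∀ Q, Algebra k' (F' Q)]
    (ψ : ∀ Q, K' →ₐ[k'] LaurentSeries (F' Q)) (hψ : ∀ Q, LocRes.IsExpansionAt Q.1 (ψ Q))
    (below : FunFld.Place k' K' → FunFld.Place k K) (e : FunFld.Place k' K' → ℕ)
    (he : ∀ Q (z : K), Q.1 (algebraMap K K' z) = (below Q).1 z ^ e Q)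
    (x : K) (hx : ∀ P, LocRes.vDiff (φ P) 1 x ≠ 0) (hx' : ∀ Q, LocRes.vDiff (ψ Q) 1 (algebraMap K K' x) ≠ 0) :
    (Function.support fun Q => LocRes.diffExp (φ (below Q)) (ψ Q) (e Q) x).Finite ∧
    (Module.finrank k k' : ℤ) * (2 * (FunFld.genus k' K' : ℤ) - 2) =
      (Module.finrank K K' : ℤ) * (2 * (FunFld.genus k K : ℤ) - 2) +
      (Module.finrank k k' : ℤ) * ∑ᶠ Q, LocRes.diffExp (φ (below Q)) (ψ Q) (e Q) x * (Q.deg : ℤ) := by
  classical
  haveI : Algebra.IsAlgebraic k k' := Algebra.IsAlgebraic.of_finite k k'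
  obtain ⟨P₀⟩ : Nonempty (Place k K) := by
    obtain ⟨⟨y, hy, -⟩, -⟩ := id hK
    obtain ⟨P, -⟩ := ff_exists_zero hK hy
    exact ⟨P⟩
  obtain ⟨Q₀⟩ : Nonempty (Place k' K') := by
    obtain ⟨⟨y, hy, -⟩, -⟩ := id hK'
    obtain ⟨P, -⟩ := ff_exists_zero hK' hy
    exact ⟨P⟩
  have hDx : KaehlerDifferential.D k K x ≠ 0 :=
    LocResBasic.D_ne_zero_of_vDiff_ne_zero (φ P₀) (hx P₀)
  have hDx' : KaehlerDifferential.D k' K' (algebraMap K K' x) ≠ 0 :=
    LocResBasic.D_ne_zero_of_vDiff_ne_zero (ψ Q₀) (hx' Q₀)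
  have hg' : IsGeometric k' K' := SepExtGeometric.isGeometric_of_isSeparable hK hg hK'
  obtain ⟨W, hWc, hW⟩ := ff_exists_canonical_of_expansions hK hg hDx φ hφ
  obtain ⟨W', hWc', hW'⟩ := ff_exists_canonical_of_expansions hK' hg' hDx' ψ hψ
  have hdW := (ff_canonical_ell_deg hK hWc).2
  have hdW' := (ff_canonical_ell_deg hK' hWc').2
  have hdiff : ∀ Q, diffExp (φ (below Q)) (ψ Q) (e Q) x = W' Q - e Q * W (below Q) := fun Q => by
    rw [diffExp, hW, hW']
  have hover : ∀ Q, IsOverWith (ofC (k := k) Q) (below Q) (e Q) := fun Q z => he Q z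
  have hbelow : ∀ (Q : Place k' K') (P : Place k K), IsOver (ofC (k := k) Q) P → below Q = P :=
    fun Q P h => isOver_unique_below ⟨e Q, hover Q⟩ h
  have hinj : Function.Injective (ofC (k := k) : Place k' K' → Place k K') := fun Q₁ Q₂ h => by
    rw [← toC_ofC (k := k) Q₁, h, toC_ofC]
  have hfib : ∀ P : Place k K, {Q : Place k' K' | below Q = P}.Finite := fun P => by
    have h1 := finite_setOf_isOver (K' := K') P
    refine (h1.preimage hinj.injOn).subset ?_
    intro Q hQ
    exact ⟨e Q, hQ ▸ hover Q⟩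
  set Qs : Place k K → Finset (Place k' K') := fun P => (hfib P).toFinset with hQsdef
  have hQs : ∀ P Q, Q ∈ Qs P ↔ below Q = P := fun P Q => (hfib P).mem_toFinset
  -- the fundamental equality over each place
  have hsum : ∀ P : Place k K, (Module.finrank k k' : ℤ) * ∑ Q ∈ Qs P, (e Q : ℤ) * (Q.deg : ℤ) =
      (Module.finrank K K' : ℤ) * (P.deg : ℤ) := fun P => by
    have h1 := sum_ramIdx_mul_deg_eq (K' := K') hK P ((Qs P).image (ofC (k := k))) (fun Q₁ => by
      rw [Finset.mem_image]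
      constructor
      · rintro ⟨Q, hQ, rfl⟩
        exact ⟨e Q, ((hQs P Q).1 hQ) ▸ hover Q⟩
      · intro h
        refine ⟨toC (k' := k') Q₁, (hQs P _).2 (hbelow _ P ?_), ofC_toC _⟩
        rw [ofC_toC]; exact h)
    rw [Finset.sum_image (fun Q₁ _ Q₂ _ h => hinj h)] at h1
    have h2 : ∀ Q ∈ Qs P, ramIdx (ofC (k := k) Q) P * (ofC (k := k) Q).deg =
        Module.finrank k k' * (e Q * Q.deg) := fun Q hQ => by
      have hb := (hQs P Q).1 hQ
      rw [ramIdx_eq (hb ▸ hover Q), deg_eq_mul_deg_toC (k' := k') (ofC (k := k) Q), toC_ofC]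
      ring
    rw [Finset.sum_congr rfl h2, ← Finset.mul_sum] at h1
    exact_mod_cast h1
  -- the support
  set S : Finset (Place k' K') := W'.support ∪ W.support.biUnion Qs with hS
  have hsupp : (Function.support fun Q => diffExp (φ (below Q)) (ψ Q) (e Q) x * (Q.deg : ℤ)) ⊆ S := by
    intro Q hQ
    rw [Function.mem_support, hdiff] at hQ
    by_contra hQS
    rw [hS, Finset.coe_union, Set.mem_union, not_or] at hQS
    obtain ⟨h1, h2⟩ := hQS
    have h3 : W' Q = 0 := by simpa using h1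
    have h4 : W (below Q) = 0 := by
      by_contra h4
      apply h2
      rw [Finset.mem_coe, Finset.mem_biUnion]
      exact ⟨below Q, Finsupp.mem_support_iff.2 h4, (hQs _ _).2 rfl⟩
    apply hQ
    rw [h3, h4]; ring
  refine ⟨(S.finite_toSet.subset ?_), ?_⟩
  · intro Q hQ
    apply hsupp
    rw [Function.mem_support] at hQ ⊢
    have hd : (Q.deg : ℤ) ≠ 0 := by
      have := ff_deg_pos hK' Q
      exact_mod_cast this.ne'
    exact mul_ne_zero hQ hd
  · rw [finsum_eq_sum_of_support_subset _ hsupp]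
    have e1 : ∑ Q ∈ S, diffExp (φ (below Q)) (ψ Q) (e Q) x * (Q.deg : ℤ) =
        ∑ Q ∈ S, W' Q * (Q.deg : ℤ) - ∑ Q ∈ S, (e Q : ℤ) * W (below Q) * (Q.deg : ℤ) := by
      rw [← Finset.sum_sub_distrib]
      refine Finset.sum_congr rfl (fun Q _ => ?_)
      rw [hdiff]; ring
    have e2 : ∑ Q ∈ S, W' Q * (Q.deg : ℤ) = W'.deg := by
      unfold Divisor.deg Finsupp.sum
      symm
      refine Finset.sum_subset Finset.subset_union_left (fun Q _ hQ => ?_)
      show W' Q * (Q.deg : ℤ) = 0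
      rw [Finsupp.notMem_support_iff.1 hQ, zero_mul]
    have e3 : ∑ Q ∈ S, (e Q : ℤ) * W (below Q) * (Q.deg : ℤ) =
        ∑ P ∈ W.support, W P * ∑ Q ∈ Qs P, (e Q : ℤ) * (Q.deg : ℤ) := by
      have h1 : ∑ Q ∈ S, (e Q : ℤ) * W (below Q) * (Q.deg : ℤ) =
          ∑ Q ∈ W.support.biUnion Qs, (e Q : ℤ) * W (below Q) * (Q.deg : ℤ) := by
        symm
        refine Finset.sum_subset Finset.subset_union_right (fun Q _ hQ => ?_)
        have h4 : W (below Q) = 0 := by
          by_contra h4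
          apply hQ
          rw [Finset.mem_biUnion]
          exact ⟨below Q, Finsupp.mem_support_iff.2 h4, (hQs _ _).2 rfl⟩
        rw [h4]; ring
      rw [h1, Finset.sum_biUnion]
      · refine Finset.sum_congr rfl (fun P _ => ?_)
        rw [Finset.mul_sum]
        refine Finset.sum_congr rfl (fun Q hQ => ?_)
        rw [(hQs P Q).1 hQ]; ring
      · intro P₁ _ P₂ _ hne
        refine Finset.disjoint_left.2 (fun Q h1 h2 => hne ?_)
        rw [← (hQs _ _).1 h1, (hQs _ _).1 h2]
    have e4 : (Module.finrank k k' : ℤ) * ∑ P ∈ W.support, W P * ∑ Q ∈ Qs P, (e Q : ℤ) * (Q.deg : ℤ) =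
        (Module.finrank K K' : ℤ) * W.deg := by
      unfold Divisor.deg Finsupp.sum
      rw [Finset.mul_sum, Finset.mul_sum]
      refine Finset.sum_congr rfl (fun P _ => ?_)
      rw [mul_left_comm, hsum P]; ring
    rw [e1, e2, e3]
    linear_combination e4 + (Module.finrank K K' : ℤ) * hdW - (Module.finrank k k' : ℤ) * hdW'

end Groth.Agent.Lib.Helper63.RHurwitz
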