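import Groth.Agent.Lib.Helper55.FunFld.Apps
import Mathlib.RingTheory.Polynomial.Basic

/-! Uniqueness of the rational subfield of index two in genus at least two (helper63). -/

set_option autoImplicit false
set_option linter.style.haveILetI false
set_option linter.unusedSectionVars false

namespace Groth.Agent.Lib.Helper63.RationalSubfield

open WithZero Polynomial IntermediateField FunFld Groth.Agent.Lib.Helper55

variable {k K : Type*} [Field k] [Field K] [Algebra k K]

instance (n : ℕ) : FiniteDimensional k (degreeLT k n) :=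
  Module.Finite.equiv (degreeLTEquiv k n).symm

theorem finrank_degreeLT (n : ℕ) : Module.finrank k (degreeLT k n) = n := by
  rw [LinearEquiv.finrank_eq (degreeLTEquiv k n), Module.finrank_fin_fun]

theorem natDegree_le_of_mem_degreeLT (N : ℕ) (A : degreeLT k (N + 1)) :
    (A : k[X]).natDegree ≤ N := by
  have h1 := mem_degreeLT.1 A.2
  by_cases hA0 : (A : k[X]) = 0
  · rw [hA0, natDegree_zero]
    exact Nat.zero_le _
  · rw [degree_eq_natDegree hA0] at h1
    have : (A : k[X]).natDegree < N + 1 := by exact_mod_cast h1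
    omega

theorem aeval_mem_L_poleDiv (hK : IsFunctionField k K) (t : K) {l : ℕ} {A : k[X]}
    (hA : A.natDegree ≤ l) : aeval t A ∈ L (l • (ff_poleDiv t : Divisor k K)) := by
  rw [aeval_eq_sum_range]
  refine sum_mem fun i hi => ?_
  refine Submodule.smul_mem _ _ (ff_pow_mem_L_poleDiv hK t ?_)
  have := Finset.mem_range.1 hi
  omega

theorem transcendental_of_finrank (hK : IsFunctionField k K) {x : K}
    (hx : Module.finrank k⟮x⟯ K = 2) : Transcendental k x := by
  intro halg
  haveI : FiniteDimensional k⟮x⟯ K := Module.finite_of_finrank_pos (by omega)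
  haveI : FiniteDimensional k k⟮x⟯ := IntermediateField.adjoin.finiteDimensional halg.isIntegral
  haveI : FiniteDimensional k K := FiniteDimensional.trans k k⟮x⟯ K
  obtain ⟨⟨t, ht, -⟩, -⟩ := hK
  exact ht (Algebra.IsAlgebraic.isAlgebraic t)

/-- A function field of genus at least two has at most one rational subfield of index two. -/
theorem adjoin_eq_of_finrank_two (hK : IsFunctionField k K) (hg : 2 ≤ genus k K) (x x' : K)
    (hx : Module.finrank k⟮x⟯ K = 2) (hx' : Module.finrank k⟮x'⟯ K = 2) : k⟮x⟯ = k⟮x'⟯ := by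
  have hxtr := transcendental_of_finrank hK hx
  have hxtr' := transcendental_of_finrank hK hx'
  haveI : FiniteDimensional k⟮x⟯ K := Module.finite_of_finrank_pos (by omega)
  haveI : FiniteDimensional k⟮x'⟯ K := Module.finite_of_finrank_pos (by omega)
  by_cases hmem : x' ∈ k⟮x⟯
  · symm
    apply IntermediateField.eq_of_le_of_finrank_eq'
    · rw [adjoin_simple_le_iff]
      exact hmem
    · rw [hx, hx']
  exfalso
  obtain ⟨N, hN⟩ := ff_riemann hK
  set l := N.toNat with hl
  set D : Divisor k K := l • (ff_poleDiv x : Divisor k K) + (ff_poleDiv x' : Divisor k K) with hD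
  have hdeg : D.deg = 2 * l + 2 := by
    rw [hD, ff_deg_add, ff_deg_nsmul, ff_deg_poleDiv hK hxtr, ff_deg_poleDiv hK hxtr', hx, hx']
    push_cast
    ring
  have hup := hN D (by
    rw [hdeg]
    have := Int.self_le_toNat N
    omega)
  -- the parametrisation
  let Φ : (degreeLT k (l + 1) × degreeLT k (l + 1)) →ₗ[k] K :=
    LinearMap.coprod ((aeval x).toLinearMap ∘ₗ (degreeLT k (l + 1)).subtype)
      ((LinearMap.mulRight k x') ∘ₗ (aeval x).toLinearMap ∘ₗ (degreeLT k (l + 1)).subtype)
  have hΦ : ∀ p, Φ p = aeval x (p.1 : k[X]) + aeval x (p.2 : k[X]) * x' := fun p => rfl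
  have hle : l • (ff_poleDiv x : Divisor k K) ≤ D := by
    rw [hD]
    exact le_add_of_nonneg_right (ff_poleDiv_nonneg x')
  have hΦL : ∀ p, Φ p ∈ L D := by
    intro p
    rw [hΦ]
    refine add_mem (ff_L_mono hle (aeval_mem_L_poleDiv hK x (natDegree_le_of_mem_degreeLT l p.1)))
      ?_
    intro Q
    rw [map_mul, hD, Finsupp.add_apply, exp_add]
    exact mul_le_mul' (aeval_mem_L_poleDiv hK x (natDegree_le_of_mem_degreeLT l p.2) Q)
      (ff_val_le_exp_poleDiv hK x' Q)
  let Φ' : (degreeLT k (l + 1) × degreeLT k (l + 1)) →ₗ[k] L D := Φ.codRestrict (L D) hΦL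
  have hinj : Function.Injective Φ' := by
    rw [← LinearMap.ker_eq_bot, LinearMap.ker_eq_bot']
    intro p hp
    have h0 : Φ p = 0 := congrArg Subtype.val hp
    rw [hΦ] at h0
    have hB0 : (p.2 : k[X]) = 0 := by
      by_contra hne
      have hne' : aeval x (p.2 : k[X]) ≠ 0 := fun h => hne (by
        by_contra hne2
        exact hxtr ⟨_, hne2, h⟩)
      apply hmem
      have h1 : x' = -(aeval x (p.1 : k[X])) / aeval x (p.2 : k[X]) := by
        rw [eq_div_iff hne']
        linear_combination h0
      rw [h1]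
      have hmemp : ∀ q : k[X], aeval x q ∈ k⟮x⟯ := fun q =>
        (IntermediateField.algebra_adjoin_le_adjoin k _) (by
          rw [Algebra.adjoin_singleton_eq_range_aeval]
          exact ⟨q, rfl⟩)
      exact div_mem (neg_mem (hmemp _)) (hmemp _)
    have hA0 : (p.1 : k[X]) = 0 := by
      rw [hB0, map_zero, zero_mul, add_zero] at h0
      by_contra hne
      exact hxtr ⟨_, hne, h0⟩
    exact Prod.ext (Subtype.ext hA0) (Subtype.ext hB0)
  haveI := ff_L_finiteDimensional hK D
  have h1 := LinearMap.finrank_le_finrank_of_injective hinj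
  rw [Module.finrank_prod, finrank_degreeLT] at h1
  have h2 : ((l + 1 + (l + 1) : ℕ) : ℤ) ≤ (ell D : ℤ) := by exact_mod_cast h1
  rw [hdeg] at hup
  push_cast at h2
  have : (genus k K : ℤ) ≤ 1 := by linarith
  omega

end Groth.Agent.Lib.Helper63.RationalSubfield
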