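import Mathlib

/-! Relative codimension of subspaces (helper63). -/

set_option autoImplicit false
set_option linter.style.haveILetI false
set_option linter.unusedSectionVars false

namespace Groth.Agent.Lib.Helper63.RelFinrank

open Module

variable {k V : Type*} [Field k] [AddCommGroup V] [Module k V]

/-- The codimension of `A ⊓ B` in `B`. -/
noncomputable def relfinrank (A B : Submodule k V) : ℕ :=
  finrank k (↥B ⧸ A.submoduleOf B)

/-- `A ⊓ B` has finite codimension in `B`. -/
def RelFinite (A B : Submodule k V) : Prop :=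
  FiniteDimensional k (↥B ⧸ A.submoduleOf B)

theorem mem_submoduleOf {A B : Submodule k V} (b : B) : b ∈ A.submoduleOf B ↔ (b : V) ∈ A :=
  Iff.rfl

/-- The map `B / A → C / A` induced by the inclusion `B ≤ C`. -/
noncomputable def incl (A : Submodule k V) {B C : Submodule k V} (hBC : B ≤ C) :
    (↥B ⧸ A.submoduleOf B) →ₗ[k] (↥C ⧸ A.submoduleOf C) :=
  Submodule.mapQ _ _ (Submodule.inclusion hBC) (fun _ hb => hb)

theorem incl_mk (A : Submodule k V) {B C : Submodule k V} (hBC : B ≤ C) (b : B) :
    incl A hBC (Submodule.Quotient.mk b) = Submodule.Quotient.mk (Submodule.inclusion hBC b) :=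
  rfl

theorem incl_injective (A : Submodule k V) {B C : Submodule k V} (hBC : B ≤ C) :
    Function.Injective (incl A hBC) := by
  rw [← LinearMap.ker_eq_bot, LinearMap.ker_eq_bot']
  intro z hz
  obtain ⟨b, rfl⟩ := Submodule.Quotient.mk_surjective _ z
  rw [incl_mk, Submodule.Quotient.mk_eq_zero] at hz
  rw [Submodule.Quotient.mk_eq_zero]
  exact hz

/-- The map `C / A → C / B` for `A ≤ B`. -/
noncomputable def proj {A B : Submodule k V} (hAB : A ≤ B) (C : Submodule k V) :
    (↥C ⧸ A.submoduleOf C) →ₗ[k] (↥C ⧸ B.submoduleOf C) :=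
  Submodule.mapQ _ _ LinearMap.id (fun _ hc => hAB hc)

theorem proj_mk {A B : Submodule k V} (hAB : A ≤ B) (C : Submodule k V) (c : C) :
    proj hAB C (Submodule.Quotient.mk c) = Submodule.Quotient.mk c :=
  rfl

theorem proj_surjective {A B : Submodule k V} (hAB : A ≤ B) (C : Submodule k V) :
    Function.Surjective (proj hAB C) := by
  intro z
  obtain ⟨c, rfl⟩ := Submodule.Quotient.mk_surjective _ z
  exact ⟨Submodule.Quotient.mk c, rfl⟩

theorem ker_proj {A B C : Submodule k V} (hAB : A ≤ B) (hBC : B ≤ C) :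
    LinearMap.ker (proj hAB C) = LinearMap.range (incl A hBC) := by
  ext z
  obtain ⟨c, rfl⟩ := Submodule.Quotient.mk_surjective _ z
  rw [LinearMap.mem_ker, proj_mk, Submodule.Quotient.mk_eq_zero, LinearMap.mem_range]
  constructor
  · intro hc
    exact ⟨Submodule.Quotient.mk ⟨c.1, hc⟩, rfl⟩
  · rintro ⟨w, hw⟩
    obtain ⟨b, rfl⟩ := Submodule.Quotient.mk_surjective _ w
    rw [incl_mk, Submodule.Quotient.eq] at hw
    have h1 : ((Submodule.inclusion hBC b - c : C) : V) ∈ A := hw
    have h2 : (c : V) = (b : V) - ((Submodule.inclusion hBC b - c : C) : V) := by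
      simp
    change (c : V) ∈ B
    rw [h2]
    exact B.sub_mem b.2 (hAB h1)

theorem relFinite_of_le {A B : Submodule k V} (hAB : A ≤ B) (C : Submodule k V)
    (h : RelFinite A C) : RelFinite B C := by
  haveI : FiniteDimensional k (↥C ⧸ A.submoduleOf C) := h
  exact Module.Finite.of_surjective (proj hAB C) (proj_surjective hAB C)

theorem relFinite_of_le_right (A : Submodule k V) {B C : Submodule k V} (hBC : B ≤ C)
    (h : RelFinite A C) : RelFinite A B := by
  haveI : FiniteDimensional k (↥C ⧸ A.submoduleOf C) := h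
  exact Module.Finite.of_injective (incl A hBC) (incl_injective A hBC)

theorem relfinrank_add {A B C : Submodule k V} (hAB : A ≤ B) (hBC : B ≤ C)
    (h1 : RelFinite A B) (h2 : RelFinite B C) :
    RelFinite A C ∧ relfinrank A C = relfinrank A B + relfinrank B C := by
  haveI : FiniteDimensional k (↥B ⧸ A.submoduleOf B) := h1
  haveI : FiniteDimensional k (↥C ⧸ B.submoduleOf C) := h2
  set N := LinearMap.ker (proj hAB C) with hN
  have hNr : N = LinearMap.range (incl A hBC) := ker_proj hAB hBC
  haveI : Module.Finite k N := by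
    rw [hNr]
    exact Module.Finite.range _
  let e := (proj hAB C).quotKerEquivOfSurjective (proj_surjective hAB C)
  haveI : Module.Finite k ((↥C ⧸ A.submoduleOf C) ⧸ N) := Module.Finite.equiv e.symm
  haveI hfin : Module.Finite k (↥C ⧸ A.submoduleOf C) := Module.Finite.of_submodule_quotient N
  refine ⟨hfin, ?_⟩
  have h3 := Submodule.finrank_quotient_add_finrank N
  have h4 : finrank k ((↥C ⧸ A.submoduleOf C) ⧸ N) = relfinrank B C := e.finrank_eq
  have h5 : finrank k N = relfinrank A B := by
    rw [hNr]
    exact LinearMap.finrank_range_of_inj (incl_injective A hBC)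
  unfold relfinrank at h4 h5 ⊢
  omega

theorem relfinrank_self (A : Submodule k V) : RelFinite A A ∧ relfinrank A A = 0 := by
  have h : A.submoduleOf A = ⊤ := by
    ext b
    simp [mem_submoduleOf]
  unfold RelFinite relfinrank
  rw [h]
  exact ⟨inferInstance, finrank_zero_of_subsingleton⟩

section map

variable (μ : V →ₗ[k] V) (hμ : Function.Injective μ)
include hμ

/-- Codimension is preserved by an injective linear map. -/
noncomputable def mapEquiv (A B : Submodule k V) (hAB : A ≤ B) :
    (↥B ⧸ A.submoduleOf B) ≃ₗ[k] (↥(B.map μ) ⧸ (A.map μ).submoduleOf (B.map μ)) :=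
  Submodule.Quotient.equiv _ _ (Submodule.equivMapOfInjective μ hμ B) (by
    ext z
    rw [Submodule.mem_map, mem_submoduleOf]
    constructor
    · rintro ⟨b, hb, rfl⟩
      exact Submodule.mem_map_of_mem hb
    · intro hz
      obtain ⟨a, ha, haz⟩ := Submodule.mem_map.1 hz
      refine ⟨⟨a, hAB ha⟩, ha, ?_⟩
      apply Subtype.ext
      exact haz)

theorem relfinrank_map (A B : Submodule k V) (hAB : A ≤ B) :
    relfinrank (A.map μ) (B.map μ) = relfinrank A B :=
  (mapEquiv μ hμ A B hAB).finrank_eq.symm

theorem relFinite_map (A B : Submodule k V) (hAB : A ≤ B) (h : RelFinite A B) :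
    RelFinite (A.map μ) (B.map μ) := by
  haveI : FiniteDimensional k (↥B ⧸ A.submoduleOf B) := h
  exact Module.Finite.equiv (mapEquiv μ hμ A B hAB)

/-- The key counting lemma: the cokernel of an injective endomorphism has the same dimension on
two commensurable stable subspaces. -/
theorem relfinrank_map_self (C O : Submodule k V) (hCO : C ≤ O) (hμO : O.map μ ≤ O)
    (hμC : C.map μ ≤ C) (hfin1 : RelFinite C O) (hfin2 : RelFinite (C.map μ) C) :
    RelFinite (O.map μ) O ∧ relfinrank (O.map μ) O = relfinrank (C.map μ) C := by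
  have hμCO : C.map μ ≤ O.map μ := Submodule.map_mono hCO
  obtain ⟨f1, e1⟩ := relfinrank_add hμC hCO hfin2 hfin1
  have f2 : RelFinite (O.map μ) O := relFinite_of_le hμCO O f1
  have f3 : RelFinite (C.map μ) (O.map μ) := relFinite_map μ hμ C O hCO hfin1
  obtain ⟨-, e2⟩ := relfinrank_add hμCO hμO f3 f2
  rw [relfinrank_map μ hμ C O hCO] at e2
  refine ⟨f2, ?_⟩
  omega

end map

end Groth.Agent.Lib.Helper63.RelFinrank
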