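import Groth.Agent.Lib.Helper63.FundIneq
import Groth.Agent.Lib.Helper55.FunFld.Residue
import Mathlib.RingTheory.Unramified.Field
import Mathlib.LinearAlgebra.TensorProduct.RightExactness
import Mathlib.RingTheory.Polynomial.ScaleRoots
import Mathlib.RingTheory.Flat.Basic

/-! Places with separable residue field are nonsingular: the integral closure of `O_P` in
`k' ⊗ K` is `O_P[k']` (helper63). -/

set_option autoImplicit false
set_option linter.style.haveILetI false
set_option linter.unusedSectionVars false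

namespace Groth.Agent.Lib.Helper63.SepNonsingular

open WithZero Polynomial FunFld IsLocalRing TensorProduct Groth.Agent.Lib.Helper55
  Groth.Agent.Lib.Helper63.FundIneq

universe u v

variable {k k' : Type u} {K K' : Type v} [Field k] [Field k'] [Field K] [Field K']
  [Algebra k k'] [FiniteDimensional k k'] [Algebra k K] [Algebra K K'] [Algebra k' K']
  [Algebra k K'] [IsScalarTower k k' K'] [IsScalarTower k K K']

variable (P : Place k K) [Algebra P.O K'] [IsScalarTower P.O K K']

theorem algebraMap_comp (c : k) :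
    algebraMap P.O K' (algebraMap k P.O c) = algebraMap k K' c := by
  rw [IsScalarTower.algebraMap_apply P.O K K', IsScalarTower.algebraMap_apply k K K']
  rfl

theorem algebraMap_O (o : P.O) : algebraMap P.O K' o = algebraMap K K' (o : K) := by
  rw [IsScalarTower.algebraMap_apply P.O K K']
  rfl

/-- `O_P → K'` as a `k`-algebra hom. -/
noncomputable def ψ₂ : P.O →ₐ[k] K' :=
  { (algebraMap P.O K') with commutes' := algebraMap_comp P }

/-- `O_P → K` as a `k`-algebra hom. -/
noncomputable def ι₂ : P.O →ₐ[k] K :=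
  { P.O.subtype with commutes' := fun _ => rfl }

/-- `k' ⊗ O_P → K'`. -/
noncomputable def φ : k' ⊗[k] P.O →ₐ[k] K' :=
  Algebra.TensorProduct.productMap (IsScalarTower.toAlgHom k k' K') (ψ₂ P)

theorem φ_tmul (c : k') (o : P.O) :
    φ P (c ⊗ₜ o) = algebraMap k' K' c * algebraMap P.O K' o := by
  rw [φ, Algebra.TensorProduct.productMap_apply_tmul]
  rfl

theorem φ_injective (h : Function.Injective (Algebra.TensorProduct.productMap
      (IsScalarTower.toAlgHom k k' K') (IsScalarTower.toAlgHom k K K'))) :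
    Function.Injective (φ (k' := k') (K' := K') P) := by
  have h1 : (φ (k' := k') (K' := K') P) = (Algebra.TensorProduct.productMap
      (IsScalarTower.toAlgHom k k' K') (IsScalarTower.toAlgHom k K K')).comp
      (Algebra.TensorProduct.map (AlgHom.id k k') (ι₂ P)) := by
    apply Algebra.TensorProduct.ext'
    intro c o
    rw [φ_tmul, AlgHom.comp_apply, Algebra.TensorProduct.map_tmul,
      Algebra.TensorProduct.productMap_apply_tmul, algebraMap_O]
    rfl
  have h2 : Function.Injective (Algebra.TensorProduct.map (AlgHom.id k k') (ι₂ P)) := by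
    have := Module.Flat.lTensor_preserves_injective_linearMap (M := k') (ι₂ P).toLinearMap
      (fun a b hab => Subtype.ext hab)
    exact this
  rw [h1]
  exact h.comp h2

section Abstract

variable {F : Type*} [Field F] [Algebra k F] (ρ : P.O →ₐ[k] F)

/-- `k' ⊗ O_P → k' ⊗ F`. -/
noncomputable def π : k' ⊗[k] P.O →ₐ[k] k' ⊗[k] F :=
  Algebra.TensorProduct.map (AlgHom.id k k') ρ

variable {P} in
theorem exists_eq_mul_of_π_eq_zero (hρ : Function.Surjective ρ)
    (hker : ∀ o : P.O, ρ o = 0 ↔ P.1 (o : K) < 1) {t : P.O} (ht : P.1 (t : K) = exp (-1))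
    {a : k' ⊗[k] P.O} (ha : π (k' := k') P ρ a = 0) :
    ∃ a' : k' ⊗[k] P.O, a = ((1 : k') ⊗ₜ[k] t) * a' := by
  have hmem : a ∈ RingHom.ker (Algebra.TensorProduct.map (AlgHom.id k k') ρ) := ha
  rw [Algebra.TensorProduct.lTensor_ker ρ hρ] at hmem
  have hkerρ : RingHom.ker ρ = Ideal.span {t} := by
    ext o
    rw [RingHom.mem_ker, hker, Ideal.mem_span_singleton]
    constructor
    · intro ho
      have h1 := le_exp_neg_one_of_lt_one ho
      have ht0 : (t : K) ≠ 0 := by
        intro h0
        rw [h0, map_zero] at ht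
        exact exp_ne_zero ht.symm
      refine ⟨⟨(o : K) / t, ?_⟩, ?_⟩
      · change P.1 ((o : K) / t) ≤ 1
        rw [map_div₀, ht, div_le_iff₀ exp_pos, one_mul]
        exact h1
      · apply Subtype.ext
        change (o : K) = t * ((o : K) / t)
        field_simp
    · rintro ⟨o', rfl⟩
      change P.1 ((t : K) * (o' : K)) < 1
      rw [map_mul, ht]
      refine (mul_le_of_le_one_right zero_le o'.2).trans_lt ?_
      rw [← exp_zero, exp_lt_exp]; omega
  rw [hkerρ, Ideal.map_span, Set.image_singleton, Ideal.mem_span_singleton] at hmem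
  obtain ⟨a', ha'⟩ := hmem
  exact ⟨a', ha'⟩

theorem isReduced_tensor [FiniteDimensional k F] [Algebra.IsSeparable k F] :
    IsReduced (k' ⊗[k] F) := by
  haveI : Algebra.FormallyUnramified k F := Algebra.FormallyUnramified.of_isSeparable k F
  haveI : Algebra.FormallyUnramified k' (k' ⊗[k] F) := inferInstance
  exact Algebra.FormallyUnramified.isReduced_of_field k' (k' ⊗[k] F)

variable {P} in
theorem exists_scaled (hsurj : Function.Surjective (Algebra.TensorProduct.productMap
      (IsScalarTower.toAlgHom k k' K') (IsScalarTower.toAlgHom k K K')))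
    {t : P.O} (ht : P.1 (t : K) = exp (-1)) (z : K') :
    ∃ (n : ℕ) (a : k' ⊗[k] P.O), φ P a = algebraMap P.O K' t ^ n * z := by
  obtain ⟨w, rfl⟩ := hsurj z
  induction w using TensorProduct.induction_on with
  | zero => exact ⟨0, 0, by simp⟩
  | tmul c x =>
    obtain ⟨n, hn⟩ : ∃ n : ℕ, P.1 ((t : K) ^ n * x) ≤ 1 := by
      by_cases hx : x = 0
      · exact ⟨0, by simp [hx]⟩
      · obtain ⟨m, hm⟩ : ∃ m : ℤ, P.1 x = exp m :=
          ⟨_, (exp_log ((Valuation.ne_zero_iff _).2 hx)).symm⟩
        refine ⟨m.toNat, ?_⟩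
        rw [map_mul, map_pow, ht, hm, ← exp_nsmul, ← exp_add, ← exp_zero, exp_le_exp]
        have := Int.self_le_toNat m
        simp only [nsmul_eq_mul]
        omega
    refine ⟨n, c ⊗ₜ ⟨(t : K) ^ n * x, hn⟩, ?_⟩
    rw [φ_tmul, algebraMap_O, Algebra.TensorProduct.productMap_apply_tmul, algebraMap_O, map_mul,
      map_pow]
    change _ = _ * (algebraMap k' K' c * algebraMap K K' x)
    ring
  | add w₁ w₂ h₁ h₂ =>
    obtain ⟨n₁, a₁, h₁⟩ := h₁
    obtain ⟨n₂, a₂, h₂⟩ := h₂
    refine ⟨n₁ + n₂, ((1 : k') ⊗ₜ t) ^ n₂ * a₁ + ((1 : k') ⊗ₜ t) ^ n₁ * a₂, ?_⟩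
    rw [map_add, map_mul, map_mul, map_pow, map_pow, φ_tmul, map_one, one_mul, h₁, h₂, map_add]
    ring

variable {P} in
theorem mem_range_of_isIntegral (h : Function.Bijective (Algebra.TensorProduct.productMap
      (IsScalarTower.toAlgHom k k' K') (IsScalarTower.toAlgHom k K K')))
    (hρ : Function.Surjective ρ) (hker : ∀ o : P.O, ρ o = 0 ↔ P.1 (o : K) < 1)
    [FiniteDimensional k F] [Algebra.IsSeparable k F] {z : K'} (hz : IsIntegral P.O z) :
    z ∈ (φ (k' := k') (K' := K') P).range := by
  obtain ⟨t₀, ht₀⟩ := P.2.2 (exp (-1))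
  have ht₀1 : P.1 t₀ ≤ 1 := by rw [ht₀, ← exp_zero, exp_le_exp]; omega
  set t : P.O := ⟨t₀, ht₀1⟩ with ht_def
  have ht : P.1 (t : K) = exp (-1) := ht₀
  set T := algebraMap P.O K' t with hT
  have hT0 : T ≠ 0 := by
    rw [hT, algebraMap_O]
    intro h0
    have h1 : (t : K) = 0 := (map_eq_zero_iff _ (algebraMap K K').injective).1 h0
    rw [h1, map_zero] at ht
    exact exp_ne_zero ht.symm
  haveI : IsReduced (k' ⊗[k] F) := isReduced_tensor (k' := k') (F := F)
  obtain ⟨p, hpm, hp0⟩ := hz
  let ιA : P.O →+* k' ⊗[k] P.O :=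
    ((Algebra.TensorProduct.includeRight : P.O →ₐ[k] k' ⊗[k] P.O) : P.O →+* k' ⊗[k] P.O)
  let ιF : F →+* k' ⊗[k] F :=
    ((Algebra.TensorProduct.includeRight : F →ₐ[k] k' ⊗[k] F) : F →+* k' ⊗[k] F)
  have hφι : ((φ (k' := k') (K' := K') P : k' ⊗[k] P.O →+* K')).comp ιA = algebraMap P.O K' := by
    refine RingHom.ext fun o => ?_
    change φ P ((1 : k') ⊗ₜ o) = _
    rw [φ_tmul, map_one, one_mul]
  have hπι : ((π (k' := k') P ρ : k' ⊗[k] P.O →+* k' ⊗[k] F)).comp ιA =
      ιF.comp (ρ : P.O →+* F) := by
    refine RingHom.ext fun o => ?_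
    change π P ρ ((1 : k') ⊗ₜ o) = _
    rw [π, Algebra.TensorProduct.map_tmul]
    rfl
  have key : ∀ n : ℕ, ∀ a : k' ⊗[k] P.O, φ P a = T ^ n * z →
      z ∈ (φ (k' := k') (K' := K') P).range := by
    intro n
    induction n with
    | zero =>
      intro a ha
      refine ⟨a, ?_⟩
      change φ P a = z
      rw [ha, pow_zero, one_mul]
    | succ n ih =>
      intro a ha
      set s : P.O := t ^ (n + 1) with hs_def
      have hs : (ρ : P.O →+* F) s = 0 := by
        change ρ s = 0
        rw [hker]
        change P.1 ((t : K) ^ (n + 1)) < 1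
        rw [map_pow, ht, ← exp_nsmul, ← exp_zero, exp_lt_exp]
        simp only [nsmul_eq_mul]
        push_cast
        omega
      have h1 : eval₂ (algebraMap P.O K') (φ P a) (scaleRoots p s) = 0 := by
        rw [ha]
        have := scaleRoots_eval₂_eq_zero (algebraMap P.O K') (s := s) hp0
        rwa [map_pow] at this
      have h2 : eval₂ ιA a (scaleRoots p s) = 0 := by
        apply φ_injective P h.1
        rw [map_zero]
        have h' := hom_eval₂ (scaleRoots p s) ιA
          (φ (k' := k') (K' := K') P : k' ⊗[k] P.O →+* K') a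
        rw [hφι] at h'
        exact h'.trans h1
      have h3 := hom_eval₂ (scaleRoots p s) ιA
        (π (k' := k') P ρ : k' ⊗[k] P.O →+* k' ⊗[k] F) a
      rw [h2, map_zero, hπι, ← eval₂_map] at h3
      have hmap : (scaleRoots p s).map (ρ : P.O →+* F) = X ^ p.natDegree := by
        rw [map_scaleRoots _ _ _ (by rw [hpm.leadingCoeff, map_one]; exact one_ne_zero), hs,
          scaleRoots_zero, (hpm.map _).leadingCoeff, one_smul, hpm.natDegree_map]
      rw [hmap, eval₂_pow, eval₂_X] at h3
      have h4 : π (k' := k') P ρ a = 0 := IsNilpotent.eq_zero ⟨_, h3.symm⟩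
      obtain ⟨a', rfl⟩ := exists_eq_mul_of_π_eq_zero ρ hρ hker ht h4
      apply ih a'
      have h5 : T * φ P a' = T * (T ^ n * z) := by
        rw [← mul_assoc, ← pow_succ', ← ha, map_mul, φ_tmul, map_one, one_mul]
      exact mul_left_cancel₀ hT0 h5
  obtain ⟨n, a, ha⟩ := exists_scaled (k' := k') h.2 ht z
  exact key n a ha

end Abstract

/-- Places with separable residue field are nonsingular. -/
theorem integralClosure_eq (h : Function.Bijective (Algebra.TensorProduct.productMap
      (IsScalarTower.toAlgHom k k' K') (IsScalarTower.toAlgHom k K K')))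
    (hK : IsFunctionField k K) [Algebra.IsSeparable k (ResidueField P.O)] :
    integralClosure P.O K' = Algebra.adjoin P.O (Set.range (algebraMap k' K')) := by
  have hfd := ff_finiteDimensional_residueField hK P
  haveI : @Module.Finite k (ResidueField P.O) _ _
      (@Algebra.toModule _ _ _ _ (Place.algRes P)) := hfd
  let ρ : P.O →ₐ[k] ResidueField P.O := { residue P.O with commutes' := fun _ => rfl }
  have hρ : Function.Surjective ρ := residue_surjective
  have hker : ∀ o : P.O, ρ o = 0 ↔ P.1 (o : K) < 1 := by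
    intro o
    change residue P.O o = 0 ↔ _
    rw [residue_eq_zero_iff, Valuation.mem_maximalIdeal_iff]
  apply le_antisymm
  · intro z hz
    have hrange : ∀ a : k' ⊗[k] P.O,
        φ P a ∈ Algebra.adjoin P.O (Set.range (algebraMap k' K')) := by
      intro a
      induction a using TensorProduct.induction_on with
      | zero => rw [map_zero]; exact zero_mem _
      | tmul c o =>
        rw [φ_tmul]
        exact mul_mem (Algebra.subset_adjoin ⟨c, rfl⟩) (Subalgebra.algebraMap_mem _ o)
      | add a b ha hb => rw [map_add]; exact add_mem ha hb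
    obtain ⟨a, ha⟩ := mem_range_of_isIntegral (k' := k') ρ h hρ hker hz
    have hza : z = φ P a := ha.symm
    rw [hza]
    exact hrange a
  · apply Algebra.adjoin_le
    rintro _ ⟨c, rfl⟩
    have hintc : IsIntegral k (algebraMap k' K' c) :=
      (Algebra.IsIntegral.isIntegral (R := k) c).map (IsScalarTower.toAlgHom k k' K')
    obtain ⟨q, hq, hq0⟩ := hintc
    refine ⟨q.map (algebraMap k P.O), hq.map _, ?_⟩
    rw [eval₂_map]
    have : (algebraMap P.O K').comp (algebraMap k P.O) = algebraMap k K' := by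
      ext c; exact algebraMap_comp P c
    rw [this]
    exact hq0

end Groth.Agent.Lib.Helper63.SepNonsingular
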