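import Groth.Agent.Lib.Helper63.KbarPlace

/-! S12592: the places above a nonsingular place in a splitting field (helper63). -/

set_option autoImplicit false
set_option linter.style.haveILetI false
set_option linter.unusedSectionVars false

namespace Groth.Agent.Lib.Helper63.SplitCount

open WithZero FunFld TensorProduct Module Polynomial IsLocalRing Groth.Agent.Lib.Helper55
  Groth.Agent.Lib.Helper63.FunFldExt Groth.Agent.Lib.Helper63.FundIneq
  Groth.Agent.Lib.Helper63.ConstExtGeometric Groth.Agent.Lib.Helper63.NonsingBasic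
  Groth.Agent.Lib.Helper63.NonsingCount Groth.Agent.Lib.Helper63.SumEF
  Groth.Agent.Lib.Helper63.KbarPlace

universe u v w

section degone

variable {k : Type u} {K : Type v} [Field k] [Field K] [Algebra k K]

theorem algebraMap_surjective_of_deg_eq_one (Q : Place k K) (hdeg : Q.deg = 1) :
    Function.Surjective (algebraMap k (ResidueField Q.O)) := by
  intro w
  have h1 : Module.finrank k (ResidueField Q.O) = 1 := hdeg
  obtain ⟨c, hc⟩ := (finrank_eq_one_iff_of_nonzero' (1 : ResidueField Q.O) one_ne_zero).1 h1 w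
  exact ⟨c, by rw [← hc, Algebra.algebraMap_eq_smul_one]; rfl⟩

theorem exists_const_of_deg_eq_one (Q : Place k K) (hdeg : Q.deg = 1) (z : K) (hz : Q.1 z ≤ 1) :
    ∃ c : k, Q.1 (z - algebraMap k K c) < 1 := by
  obtain ⟨c, hc⟩ := algebraMap_surjective_of_deg_eq_one Q hdeg (residue Q.O ⟨z, hz⟩)
  refine ⟨c, ?_⟩
  have h2 : residue Q.O (⟨z, hz⟩ - algebraMap k Q.O c) = 0 := by
    rw [map_sub, ← hc]
    exact sub_self _
  rw [residue_eq_zero_iff, Valuation.mem_maximalIdeal_iff] at h2
  exact h2

theorem const_eq_zero_of_lt (Q : Place k K) {c : k} (hc : Q.1 (algebraMap k K c) < 1) : c = 0 := by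
  by_contra hne
  rw [val_const_eq_one Q hne] at hc
  exact lt_irrefl _ hc

end degone


section sigma

variable {k k' : Type u} {K : Type v} {K' : Type w} [Field k] [Field k'] [Field K] [Field K']
  [Algebra k k'] [Algebra k K] [Algebra K K'] [Algebra k' K'] [Algebra k K']
  [IsScalarTower k k' K'] [IsScalarTower k K K']

/-- The embedding of the residue field of `P` into `k'` given by a place of degree one above. -/
theorem exists_sigma (P : Place k K) (Q : Place k' K') (hdeg : Q.deg = 1) {e : ℕ}
    (he : IsOverWith (ofC (k := k) Q) P e) :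
    ∃ σ : ResidueField P.O →ₐ[k] k', ∀ (a : K) (ha : P.1 a ≤ 1),
      Q.1 (algebraMap K K' a - algebraMap k' K' (σ (residue P.O ⟨a, ha⟩))) < 1 := by
  haveI hloc : IsLocalHom (localHom he) := isLocalHom_localHom he
  have hbij : Function.Bijective (algebraMap k' (ResidueField Q.O)) :=
    ⟨(algebraMap k' (ResidueField Q.O)).injective, algebraMap_surjective_of_deg_eq_one Q hdeg⟩
  let ε : k' ≃+* ResidueField Q.O := RingEquiv.ofBijective _ hbij
  let m₁ : ResidueField P.O →+* ResidueField (ofC (k := k) Q).O := ResidueField.map (localHom he)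
  let m : ResidueField P.O →+* ResidueField Q.O := m₁
  have hm : ∀ x : P.O, m (residue P.O x) = residue Q.O
      (⟨algebraMap K K' x.1, val_le_one_of_isOverWith he x.2⟩ : Q.O) :=
    fun x => ResidueField.map_residue (localHom he) x
  have hcomm : ∀ c : k, ((ε.symm : ResidueField Q.O →+* k').comp m)
      (algebraMap k (ResidueField P.O) c) = algebraMap k k' c := by
    intro c
    rw [RingHom.comp_apply, RingEquiv.coe_toRingHom, RingEquiv.symm_apply_eq]
    change m (residue P.O (algebraMap k P.O c)) =
      residue Q.O (algebraMap k' Q.O (algebraMap k k' c))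
    rw [hm]
    congr 1
    apply Subtype.ext
    change algebraMap K K' (algebraMap k K c) = algebraMap k' K' (algebraMap k k' c)
    rw [← IsScalarTower.algebraMap_apply k K K', ← IsScalarTower.algebraMap_apply k k' K']
  refine ⟨{ toRingHom := (ε.symm : ResidueField Q.O →+* k').comp m, commutes' := hcomm }, ?_⟩
  intro a ha
  have h1 : algebraMap k' (ResidueField Q.O) (ε.symm (m (residue P.O ⟨a, ha⟩))) =
      m (residue P.O ⟨a, ha⟩) := ε.apply_symm_apply _
  have h2 : residue Q.O ((⟨algebraMap K K' a, val_le_one_of_isOverWith he ha⟩ : Q.O) -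
      algebraMap k' Q.O (ε.symm (m (residue P.O ⟨a, ha⟩)))) = 0 := by
    rw [map_sub, sub_eq_zero, ← hm ⟨a, ha⟩]
    exact h1.symm
  rw [residue_eq_zero_iff, Valuation.mem_maximalIdeal_iff] at h2
  exact h2

end sigma


section count

variable {k k' : Type u} {K : Type v} {K' : Type w} [Field k] [Field k'] [Field K] [Field K']
  [Algebra k k'] [FiniteDimensional k k'] [Algebra k K] [Algebra K K'] [Algebra k' K']
  [Algebra k K'] [IsScalarTower k k' K'] [IsScalarTower k K K']

theorem ofC_injective' : Function.Injective (ofC (k := k) : Place k' K' → Place k K') := by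
  haveI : Algebra.IsAlgebraic k k' := Algebra.IsAlgebraic.of_finite k k'
  intro Q₁ Q₂ h
  rw [← toC_ofC (k := k) Q₁, h, toC_ofC]

/-- At a nonsingular place, the places of degree one above are determined by their residue
embeddings. -/
theorem eq_of_sigma_eq (h : Function.Bijective (Algebra.TensorProduct.productMap
      (IsScalarTower.toAlgHom k k' K') (IsScalarTower.toAlgHom k K K')))
    (hK : IsFunctionField k K) (P : Place k K)
    (hns : integralClosure ↥(P.O.toSubring.map (algebraMap K K')) K' =
      Algebra.adjoin ↥(P.O.toSubring.map (algebraMap K K')) (Set.range (algebraMap k' K')))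
    (Q Q' : Place k' K') (hQ : IsOver (ofC (k := k) Q) P) (hQ' : IsOver (ofC (k := k) Q') P)
    (σ : ResidueField P.O →ₐ[k] k')
    (hσ : ∀ (a : K) (ha : P.1 a ≤ 1),
      Q.1 (algebraMap K K' a - algebraMap k' K' (σ (residue P.O ⟨a, ha⟩))) < 1)
    (hσ' : ∀ (a : K) (ha : P.1 a ≤ 1),
      Q'.1 (algebraMap K K' a - algebraMap k' K' (σ (residue P.O ⟨a, ha⟩))) < 1) : Q = Q' := by
  classical
  by_contra hne
  haveI : FiniteDimensional K K' := finite_of_bijective h
  have hcoord := (ns_iff hK P (Module.finBasis k k')).1 hns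
  have hfin := finite_setOf_isOver (K' := K') P
  have hne' : ofC (k := k) Q ≠ ofC (k := k) Q' := fun h => hne (ofC_injective' h)
  have hexp : exp (-1 : ℤ) < (1 : ℤᵐ⁰) := by
    rw [← exp_zero, exp_lt_exp]; omega
  obtain ⟨z, hz⟩ := ff_weak_approx_le hfin.toFinset
    (fun Q₁ => if Q₁ = ofC (k := k) Q' then 1 else 0)
    (fun Q₁ => if Q₁ = ofC (k := k) Q ∨ Q₁ = ofC (k := k) Q' then -1 else 0)
  have hzQ : Q.1 z ≤ exp (-1 : ℤ) := by
    have := hz (ofC (k := k) Q) (hfin.mem_toFinset.2 hQ)
    rw [if_neg hne', if_pos (Or.inl rfl), sub_zero] at this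
    exact this
  have hzQ' : Q'.1 (z - 1) ≤ exp (-1 : ℤ) := by
    have := hz (ofC (k := k) Q') (hfin.mem_toFinset.2 hQ')
    rw [if_pos rfl, if_pos (Or.inr rfl)] at this
    exact this
  have hzint : ∀ Q₁ : Place k K', IsOver Q₁ P → Q₁.1 z ≤ 1 := by
    intro Q₁ hQ₁
    have := hz Q₁ (hfin.mem_toFinset.2 hQ₁)
    by_cases h1 : Q₁ = ofC (k := k) Q
    · rw [h1]; exact hzQ.trans hexp.le
    · by_cases h2 : Q₁ = ofC (k := k) Q'
      · rw [h2]
        have h3 : z = (z - 1) + 1 := by ring
        rw [h3]
        refine (Q'.1.map_add _ _).trans (max_le (hzQ'.trans hexp.le) ?_)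
        rw [map_one]
      · rw [if_neg h2, if_neg (not_or.2 ⟨h1, h2⟩), sub_zero, exp_zero] at this
        exact this
  obtain ⟨a, ha, hza⟩ := hcoord z hzint
  set ζ : k' := ∑ i, Module.finBasis k k' i * σ (residue P.O ⟨a i, ha i⟩) with hζ
  have hdiff : z - algebraMap k' K' ζ = ∑ i, algebraMap k' K' (Module.finBasis k k' i) *
      (algebraMap K K' (a i) - algebraMap k' K' (σ (residue P.O ⟨a i, ha i⟩))) := by
    rw [hza, hζ, map_sum, ← Finset.sum_sub_distrib]
    refine Finset.sum_congr rfl (fun i _ => ?_)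
    rw [map_mul]; ring
  have hzζ : Q.1 (z - algebraMap k' K' ζ) < 1 := by
    rw [hdiff]
    refine Valuation.map_sum_lt Q.1 one_ne_zero (fun i _ => ?_)
    rw [map_mul]
    exact lt_of_le_of_lt (mul_le_of_le_one_left' (Q.2.1 _)) (hσ (a i) (ha i))
  have hzζ' : Q'.1 (z - algebraMap k' K' ζ) < 1 := by
    rw [hdiff]
    refine Valuation.map_sum_lt Q'.1 one_ne_zero (fun i _ => ?_)
    rw [map_mul]
    exact lt_of_le_of_lt (mul_le_of_le_one_left' (Q'.2.1 _)) (hσ' (a i) (ha i))
  have hζ0 : ζ = 0 := by
    apply const_eq_zero_of_lt Q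
    have h3 : algebraMap k' K' ζ = z - (z - algebraMap k' K' ζ) := by ring
    rw [h3]
    exact lt_of_le_of_lt (Q.1.map_sub _ _) (max_lt (lt_of_le_of_lt hzQ hexp) hzζ)
  rw [hζ0, map_zero, sub_zero] at hzζ'
  have h4 : Q'.1 (1 : K') < 1 := by
    have h3 : (1 : K') = z - (z - 1) := by ring
    rw [h3]
    exact lt_of_le_of_lt (Q'.1.map_sub _ _) (max_lt hzζ' (lt_of_le_of_lt hzQ' hexp))
  rw [map_one] at h4
  exact lt_irrefl _ h4

/-- The number of places above a nonsingular place in a splitting field is at most the separable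
degree of the residue field. -/
theorem ncard_le_finSepDegree (h : Function.Bijective (Algebra.TensorProduct.productMap
      (IsScalarTower.toAlgHom k k' K') (IsScalarTower.toAlgHom k K K')))
    (hK : IsFunctionField k K) (P : Place k K)
    (hns : integralClosure ↥(P.O.toSubring.map (algebraMap K K')) K' =
      Algebra.adjoin ↥(P.O.toSubring.map (algebraMap K K')) (Set.range (algebraMap k' K')))
    (hsplit : ∀ Q : Place k' K', IsOver (ofC (k := k) Q) P → Q.deg = 1) :
    {Q : Place k' K' | IsOver (ofC (k := k) Q) P}.ncard ≤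
      Field.finSepDegree k (ResidueField P.O) := by
  classical
  haveI : Algebra.IsAlgebraic k k' := Algebra.IsAlgebraic.of_finite k k'
  have hex : ∀ Q : ↥{Q : Place k' K' | IsOver (ofC (k := k) Q) P},
      ∃ σ : ResidueField P.O →ₐ[k] k', ∀ (a : K) (ha : P.1 a ≤ 1),
        Q.1.1 (algebraMap K K' a - algebraMap k' K' (σ (residue P.O ⟨a, ha⟩))) < 1 := by
    intro Q
    obtain ⟨e, he⟩ := Q.2
    exact exists_sigma P Q.1 (hsplit Q.1 Q.2) he
  choose σ hσ using hex
  have hinj : Function.Injective σ := fun Q Q' hQQ' =>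
    Subtype.ext (eq_of_sigma_eq h hK P hns Q.1 Q'.1 Q.2 Q'.2 (σ Q) (hσ Q) (hQQ' ▸ hσ Q'))
  obtain ⟨j⟩ : Nonempty (k' →ₐ[k] AlgebraicClosure (ResidueField P.O)) := ⟨IsAlgClosed.lift⟩
  have hinj2 : Function.Injective
      (fun Q : ↥{Q : Place k' K' | IsOver (ofC (k := k) Q) P} =>
        (j.comp (σ Q) : Field.Emb k (ResidueField P.O))) := by
    intro Q Q' hQQ'
    apply hinj
    ext x
    have := DFunLike.congr_fun hQQ' x
    exact j.injective this
  haveI hfd : @Module.Finite k (ResidueField P.O) _ _
      (@Algebra.toModule _ _ _ _ (Place.algRes P)) := ff_finiteDimensional_residueField hK P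
  haveI : Finite (Field.Emb k (ResidueField P.O)) :=
    Fintype.finite (minpoly.AlgHom.fintype _ _ _)
  rw [← _root_.Nat.card_coe_set_eq]
  exact Nat.card_le_card_of_injective _ hinj2

end count


section resStruct

open IntermediateField

variable {k : Type u} {K : Type v} [Field k] [Field K] [Algebra k K]

/-- The structure of the residue field: a separable generator and a basis over the separable
closure, lifted to the valuation ring. -/
theorem exists_structure (hK : IsFunctionField k K) (P : Place k K) :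
    ∃ (α : P.O) (g : Polynomial k)
      (c : Fin (Module.finrank (separableClosure k (ResidueField P.O)) (ResidueField P.O)) → P.O),
      g.Separable ∧ aeval α g ∈ maximalIdeal P.O ∧
      ∀ A : P.O, ∃ G : Fin (Module.finrank (separableClosure k (ResidueField P.O))
        (ResidueField P.O)) → Polynomial k, A - ∑ l, aeval α (G l) * c l ∈ maximalIdeal P.O := by
  haveI hfd : @Module.Finite k (ResidueField P.O) _ _
      (@Algebra.toModule _ _ _ _ (Place.algRes P)) := ff_finiteDimensional_residueField hK P
  obtain ⟨αbar, hαbar⟩ :=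
    Field.exists_primitive_element k (separableClosure k (ResidueField P.O))
  let resA : P.O →ₐ[k] ResidueField P.O := { residue P.O with commutes' := fun c => rfl }
  obtain ⟨α, hα⟩ := residue_surjective (αbar : ResidueField P.O)
  let b := Module.finBasis (separableClosure k (ResidueField P.O)) (ResidueField P.O)
  choose c hc using fun l => residue_surjective (b l)
  have hcoe : ((αbar : ResidueField P.O)) =
      algebraMap (separableClosure k (ResidueField P.O)) (ResidueField P.O) αbar := rfl
  refine ⟨α, minpoly k αbar, c, Algebra.IsSeparable.isSeparable k αbar, ?_, ?_⟩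
  · rw [← residue_eq_zero_iff]
    change resA (aeval α (minpoly k αbar)) = 0
    rw [← aeval_algHom_apply]
    change aeval (residue P.O α) _ = 0
    rw [hα, hcoe, aeval_algebraMap_apply, minpoly.aeval, map_zero]
  · intro A
    have hG : ∀ y : separableClosure k (ResidueField P.O),
        ∃ G : Polynomial k, aeval αbar G = y := by
      intro y
      have hy : y ∈ k⟮αbar⟯ := by rw [hαbar]; trivial
      have halg : IsAlgebraic k αbar := Algebra.IsAlgebraic.isAlgebraic αbar
      rw [← IntermediateField.mem_toSubalgebra,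
        IntermediateField.adjoin_simple_toSubalgebra_of_isAlgebraic halg,
        Algebra.adjoin_singleton_eq_range_aeval] at hy
      exact hy
    choose G hG using fun l => hG (b.repr (residue P.O A) l)
    refine ⟨G, ?_⟩
    rw [← residue_eq_zero_iff, map_sub, sub_eq_zero, map_sum]
    conv_lhs => rw [← b.sum_repr (residue P.O A)]
    refine Finset.sum_congr rfl (fun l _ => ?_)
    rw [map_mul, hc l]
    change _ = resA (aeval α (G l)) * _
    rw [← aeval_algHom_apply]
    change _ = aeval (residue P.O α) (G l) * _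
    rw [hα, hcoe, aeval_algebraMap_apply, hG l, Algebra.smul_def]

end resStruct


section poly

variable {k' : Type u} {K' : Type w} [Field k'] [Field K'] [Algebra k' K']

/-- A polynomial is Lipschitz for the valuation near a constant. -/
theorem val_aeval_sub_le (Q : Place k' K') (A : K') (r : k')
    (hA : Q.1 (A - algebraMap k' K' r) ≤ 1) (p : Polynomial k') :
    Q.1 (aeval A p - algebraMap k' K' (p.eval r)) ≤ Q.1 (A - algebraMap k' K' r) := by
  have hA1 : Q.1 A ≤ 1 := by
    have h3 : A = (A - algebraMap k' K' r) + algebraMap k' K' r := by ring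
    rw [h3]
    exact (Q.1.map_add _ _).trans (max_le hA (Q.2.1 r))
  let subA : Q.O →ₐ[k'] K' := { Q.O.subtype with commutes' := fun c => rfl }
  obtain ⟨w, hw⟩ := Polynomial.sub_dvd_eval_sub (⟨A, hA1⟩ : Q.O) (algebraMap k' Q.O r)
    (p.map (algebraMap k' Q.O))
  rw [Polynomial.eval_map_apply, Polynomial.eval_map_algebraMap] at hw
  have h4 := congrArg subA hw
  rw [map_sub, map_mul, map_sub, ← aeval_algHom_apply, AlgHom.commutes, AlgHom.commutes] at h4
  change aeval A p - _ = (A - _) * (w : K') at h4
  rw [h4, map_mul]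
  exact mul_le_of_le_one_right' w.2

/-- Near a simple root of `g`, the distance to the root is the value of `g`. -/
theorem val_sub_root_le (Q : Place k' K') (A : K') (r : k') (g : Polynomial k')
    (hg : g.Separable) (hlt : Q.1 (A - algebraMap k' K' r) < 1) (δ : ℤᵐ⁰) (hδ : δ < 1)
    (hgA : Q.1 (aeval A g) ≤ δ) : Q.1 (A - algebraMap k' K' r) ≤ δ := by
  have hroot : g.eval r = 0 := by
    apply const_eq_zero_of_lt Q
    have h3 : algebraMap k' K' (g.eval r) = aeval A g - (aeval A g - algebraMap k' K' (g.eval r)) := by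
      ring
    rw [h3]
    exact lt_of_le_of_lt (Q.1.map_sub _ _) (max_lt (lt_of_le_of_lt hgA hδ)
      (lt_of_le_of_lt (val_aeval_sub_le Q A r hlt.le g) hlt))
  have hfac : (X - C r) * (g /ₘ (X - C r)) = g :=
    Polynomial.mul_divByMonic_eq_iff_isRoot.2 hroot
  have hh : (g /ₘ (X - C r)).eval r ≠ 0 := by
    intro h0
    have hfac2 : (X - C r) * ((g /ₘ (X - C r)) /ₘ (X - C r)) = g /ₘ (X - C r) :=
      Polynomial.mul_divByMonic_eq_iff_isRoot.2 h0
    have hdvd : (X - C r) * (X - C r) ∣ g := by
      refine ⟨(g /ₘ (X - C r)) /ₘ (X - C r), ?_⟩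
      rw [mul_assoc, hfac2, hfac]
    exact Polynomial.not_isUnit_X_sub_C r (hg.squarefree _ hdvd)
  have hone : Q.1 (aeval A (g /ₘ (X - C r))) = 1 := by
    have h3 : aeval A (g /ₘ (X - C r)) = algebraMap k' K' ((g /ₘ (X - C r)).eval r) +
        (aeval A (g /ₘ (X - C r)) - algebraMap k' K' ((g /ₘ (X - C r)).eval r)) := by ring
    rw [h3, Valuation.map_add_eq_of_lt_left]
    · exact val_const_eq_one Q hh
    · rw [val_const_eq_one Q hh]
      exact lt_of_le_of_lt (val_aeval_sub_le Q A r hlt.le _) hlt
  have h5 : aeval A g = (A - algebraMap k' K' r) * aeval A (g /ₘ (X - C r)) := by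
    conv_lhs => rw [← hfac]
    rw [map_mul, map_sub, aeval_X, aeval_C]
  rw [h5, map_mul, hone, mul_one] at hgA
  exact hgA

end poly


section ram

variable {k k' : Type u} {K : Type v} {K' : Type w} [Field k] [Field k'] [Field K] [Field K']
  [Algebra k k'] [FiniteDimensional k k'] [Algebra k K] [Algebra K K'] [Algebra k' K']
  [Algebra k K'] [IsScalarTower k k' K'] [IsScalarTower k K K']

omit [FiniteDimensional k k'] in
theorem val_le_exp_of_lt_one {P : Place k K} {Q : Place k' K'} {e : ℕ}
    (he : IsOverWith (ofC (k := k) Q) P e) {d : K} (hd : P.1 d < 1) :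
    Q.1 (algebraMap K K' d) ≤ exp (-(e : ℤ)) := by
  have h1 : Q.1 (algebraMap K K' d) = P.1 d ^ e := he d
  rw [h1]
  have h2 : P.1 d ≤ exp (-1 : ℤ) := ff_lt_one_iff.1 hd
  calc P.1 d ^ e ≤ exp (-1 : ℤ) ^ e := pow_le_pow_left' h2 e
    _ = exp (-(e : ℤ)) := by rw [← exp_nsmul]; congr 1; simp

/-- Approximation of an element integral above `P` by a `k'`-combination of the lifted basis. -/
theorem exists_approx_coords (h : Function.Bijective (Algebra.TensorProduct.productMap
      (IsScalarTower.toAlgHom k k' K') (IsScalarTower.toAlgHom k K K')))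
    (hK : IsFunctionField k K) (P : Place k K)
    (hns : integralClosure ↥(P.O.toSubring.map (algebraMap K K')) K' =
      Algebra.adjoin ↥(P.O.toSubring.map (algebraMap K K')) (Set.range (algebraMap k' K')))
    (Q : Place k' K') {e : ℕ} (he : IsOverWith (ofC (k := k) Q) P e)
    (α : P.O) (r : k')
    (hAr : Q.1 (algebraMap K K' α.1 - algebraMap k' K' r) ≤ exp (-(e : ℤ)))
    {q : ℕ} (c : Fin q → P.O)
    (hG : ∀ A : P.O, ∃ G : Fin q → Polynomial k,
      A - ∑ l, aeval α (G l) * c l ∈ maximalIdeal P.O)
    (z : K') (hz : ∀ Q₁ : Place k K', IsOver Q₁ P → Q₁.1 z ≤ 1) :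
    ∃ μ : Fin q → k',
      Q.1 (z - ∑ l, algebraMap k' K' (μ l) * algebraMap K K' (c l).1) ≤ exp (-(e : ℤ)) := by
  classical
  haveI : FiniteDimensional K K' := finite_of_bijective h
  have hcoord := (ns_iff hK P (Module.finBasis k k')).1 hns
  obtain ⟨a, ha, hza⟩ := hcoord z hz
  choose G hGi using fun i => hG ⟨a i, ha i⟩
  have hexp1 : exp (-(e : ℤ)) ≤ (1 : ℤᵐ⁰) := by rw [← exp_zero, exp_le_exp]; omega
  set A : K' := algebraMap K K' α.1 with hA
  let subP : P.O →ₐ[k] K := { P.O.subtype with commutes' := fun c => rfl }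
  have hcoeA : ∀ p : Polynomial k, algebraMap K K' ((aeval α p : P.O) : K) =
      aeval A (p.map (algebraMap k k')) := by
    intro p
    rw [Polynomial.aeval_map_algebraMap, hA, Polynomial.aeval_algebraMap_apply]
    congr 1
    change subP (aeval α p) = aeval (subP α) p
    rw [aeval_algHom_apply]
  let ev : Fin (Module.finrank k k') → Fin q → k' :=
    fun i l => ((G i l).map (algebraMap k k')).eval r
  have hi : ∀ i, Q.1 (algebraMap K K' (a i) -
      ∑ l, algebraMap k' K' (ev i l) * algebraMap K K' (c l).1) ≤ exp (-(e : ℤ)) := by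
    intro i
    have hsplit : algebraMap K K' (a i) -
        ∑ l, algebraMap k' K' (ev i l) * algebraMap K K' (c l).1 =
        algebraMap K K' (a i - ∑ l, ((aeval α (G i l) : P.O) : K) * (c l).1) +
        ∑ l, (aeval A ((G i l).map (algebraMap k k')) - algebraMap k' K' (ev i l)) *
          algebraMap K K' (c l).1 := by
      rw [map_sub, map_sum]
      simp only [map_mul, hcoeA, sub_mul, Finset.sum_sub_distrib]
      ring
    rw [hsplit]
    refine (Q.1.map_add _ _).trans (max_le ?_ ?_)
    · apply val_le_exp_of_lt_one he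
      have h3 := hGi i
      rw [Valuation.mem_maximalIdeal_iff] at h3
      have h4 : ((⟨a i, ha i⟩ - ∑ l, aeval α (G i l) * c l : P.O) : K) =
          a i - ∑ l, ((aeval α (G i l) : P.O) : K) * (c l).1 := by
        change subP (⟨a i, ha i⟩ - ∑ l, aeval α (G i l) * c l) = _
        rw [map_sub, map_sum]
        simp only [map_mul]
        rfl
      rw [← h4]
      exact h3
    · refine Valuation.map_sum_le Q.1 (fun l _ => ?_)
      rw [map_mul]
      calc Q.1 (aeval A ((G i l).map (algebraMap k k')) - algebraMap k' K' (ev i l)) *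
            Q.1 (algebraMap K K' (c l).1)
          ≤ Q.1 (aeval A ((G i l).map (algebraMap k k')) - algebraMap k' K' (ev i l)) * 1 :=
            mul_le_mul' le_rfl (val_le_one_of_isOverWith he (c l).2)
        _ ≤ exp (-(e : ℤ)) := by
            rw [mul_one]
            exact (val_aeval_sub_le Q A r (hAr.trans hexp1) _).trans hAr
  refine ⟨fun l => ∑ i, Module.finBasis k k' i * ev i l, ?_⟩
  have hdiff : z - ∑ l, algebraMap k' K' (∑ i, Module.finBasis k k' i * ev i l) *
        algebraMap K K' (c l).1 =
      ∑ i, algebraMap k' K' (Module.finBasis k k' i) * (algebraMap K K' (a i) -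
        ∑ l, algebraMap k' K' (ev i l) * algebraMap K K' (c l).1) := by
    rw [hza]
    simp only [map_sum, map_mul, Finset.sum_mul, mul_sub, Finset.mul_sum,
      Finset.sum_sub_distrib]
    congr 1
    rw [Finset.sum_comm]
    refine Finset.sum_congr rfl (fun i _ => Finset.sum_congr rfl (fun l _ => ?_))
    ring
  rw [hdiff]
  refine Valuation.map_sum_le Q.1 (fun i _ => ?_)
  rw [map_mul]
  exact (mul_le_of_le_one_left' (Q.2.1 _)).trans (hi i)

/-- The ramification index of a degree-one place above a nonsingular place is at most the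
inseparable degree of the residue field. -/
theorem ramIdx_le_aux (h : Function.Bijective (Algebra.TensorProduct.productMap
      (IsScalarTower.toAlgHom k k' K') (IsScalarTower.toAlgHom k K K')))
    (hK : IsFunctionField k K) (P : Place k K)
    (hns : integralClosure ↥(P.O.toSubring.map (algebraMap K K')) K' =
      Algebra.adjoin ↥(P.O.toSubring.map (algebraMap K K')) (Set.range (algebraMap k' K')))
    (Q : Place k' K') (hdeg : Q.deg = 1) {e : ℕ} (he : IsOverWith (ofC (k := k) Q) P e)
    {q : ℕ} (α : P.O) (g : Polynomial k) (c : Fin q → P.O) (hgsep : g.Separable)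
    (hgα : aeval α g ∈ maximalIdeal P.O)
    (hG : ∀ A : P.O, ∃ G : Fin q → Polynomial k,
      A - ∑ l, aeval α (G l) * c l ∈ maximalIdeal P.O) :
    e ≤ q := by
  classical
  haveI : FiniteDimensional K K' := finite_of_bijective h
  by_contra hlt
  rw [not_le] at hlt
  have he0 : e ≠ 0 := isOverWith_ne_zero he
  have hexp1 : exp (-(e : ℤ)) < (1 : ℤᵐ⁰) := by rw [← exp_zero, exp_lt_exp]; omega
  set A : K' := algebraMap K K' α.1 with hA
  have hA1 : Q.1 A ≤ 1 := val_le_one_of_isOverWith he α.2
  obtain ⟨r, hr⟩ := exists_const_of_deg_eq_one Q hdeg A hA1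
  let subP : P.O →ₐ[k] K := { P.O.subtype with commutes' := fun c => rfl }
  have hgA : Q.1 (aeval A (g.map (algebraMap k k'))) ≤ exp (-(e : ℤ)) := by
    rw [Polynomial.aeval_map_algebraMap, hA, Polynomial.aeval_algebraMap_apply]
    apply val_le_exp_of_lt_one he
    have h1 : aeval α.1 g = ((aeval α g : P.O) : K) := by
      change aeval (subP α) g = subP (aeval α g)
      rw [aeval_algHom_apply]
    rw [h1]
    rw [Valuation.mem_maximalIdeal_iff] at hgα
    exact hgα
  have hAr := val_sub_root_le Q A r (g.map (algebraMap k k')) hgsep.map hr _ hexp1 hgA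
  have hfin := finite_setOf_isOver (K' := K') P
  have hQover : IsOver (ofC (k := k) Q) P := ⟨e, he⟩
  have hw : ∀ ν : Fin (q + 1), ∃ w : K', Q.1 w = exp (-(ν.1 : ℤ)) ∧
      ∀ Q₁ : Place k K', IsOver Q₁ P → Q₁.1 w ≤ 1 := by
    intro ν
    obtain ⟨w, hw⟩ := ff_weak_approx_eq hfin.toFinset (fun _ => (0 : K'))
      (fun Q₁ => if Q₁ = ofC (k := k) Q then -(ν.1 : ℤ) else 0)
    refine ⟨w, ?_, ?_⟩
    · have h3 := hw _ (hfin.mem_toFinset.2 hQover)
      rw [if_pos rfl, sub_zero] at h3
      exact h3
    · intro Q₁ hQ₁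
      have h3 := hw Q₁ (hfin.mem_toFinset.2 hQ₁)
      rw [sub_zero] at h3
      rw [h3, ← exp_zero, exp_le_exp]
      split_ifs <;> omega
  choose w hwQ hwint using hw
  have hμ := fun ν => exists_approx_coords h hK P hns Q he α r hAr c hG (w ν) (hwint ν)
  choose μ hμ using hμ
  have hdep : ¬ LinearIndependent k' μ := by
    intro hli
    have h3 := hli.fintype_card_le_finrank
    rw [Fintype.card_fin, Module.finrank_fin_fun] at h3
    omega
  obtain ⟨θ, hθsum, hθne⟩ := Fintype.not_linearIndependent_iff.1 hdep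
  set y : K' := ∑ ν, algebraMap k' K' (θ ν) * w ν with hy
  have hy_le : Q.1 y ≤ exp (-(e : ℤ)) := by
    have hy2 : y = ∑ ν, algebraMap k' K' (θ ν) *
        (w ν - ∑ l, algebraMap k' K' (μ ν l) * algebraMap K K' (c l).1) := by
      have h0 : ∀ l, ∑ ν, θ ν * μ ν l = 0 := by
        intro l
        have h3 := congrFun hθsum l
        simpa [Finset.sum_apply, Pi.smul_apply, smul_eq_mul] using h3
      have h00 : ∑ ν, algebraMap k' K' (θ ν) *
          ∑ l, algebraMap k' K' (μ ν l) * algebraMap K K' (c l).1 = 0 := by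
        simp only [Finset.mul_sum]
        rw [Finset.sum_comm]
        refine Finset.sum_eq_zero (fun l _ => ?_)
        have h5 : ∑ ν, algebraMap k' K' (θ ν) *
            (algebraMap k' K' (μ ν l) * algebraMap K K' (c l).1) =
            algebraMap k' K' (∑ ν, θ ν * μ ν l) * algebraMap K K' (c l).1 := by
          rw [map_sum, Finset.sum_mul]
          refine Finset.sum_congr rfl (fun ν _ => ?_)
          rw [map_mul]; ring
        rw [h5, h0 l, map_zero, zero_mul]
      simp only [mul_sub, Finset.sum_sub_distrib]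
      rw [h00, sub_zero]
    rw [hy2]
    refine Valuation.map_sum_le Q.1 (fun ν _ => ?_)
    rw [map_mul]
    exact (mul_le_of_le_one_left' (Q.2.1 _)).trans (hμ ν)
  obtain ⟨ν₁, hν₁⟩ := hθne
  have hne : (Finset.univ.filter (fun ν => θ ν ≠ 0)).Nonempty :=
    ⟨ν₁, Finset.mem_filter.2 ⟨Finset.mem_univ _, hν₁⟩⟩
  set ν₀ := (Finset.univ.filter (fun ν => θ ν ≠ 0)).min' hne with hν₀
  have hν₀mem : θ ν₀ ≠ 0 := by
    have h3 := Finset.min'_mem _ hne
    rw [Finset.mem_filter] at h3
    exact h3.2
  have hy_eq : Q.1 y = exp (-(ν₀.1 : ℤ)) := by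
    have hterm : Q.1 (algebraMap k' K' (θ ν₀) * w ν₀) = exp (-(ν₀.1 : ℤ)) := by
      rw [map_mul, val_const_eq_one Q hν₀mem, one_mul, hwQ]
    rw [hy, ← Finset.add_sum_erase _ _ (Finset.mem_univ ν₀),
      Valuation.map_add_eq_of_lt_left, hterm]
    rw [hterm]
    refine Valuation.map_sum_lt Q.1 exp_ne_zero (fun ν hν => ?_)
    rw [Finset.mem_erase] at hν
    by_cases hθν : θ ν = 0
    · rw [hθν, map_zero, zero_mul, map_zero]; exact exp_pos
    · have hle : ν₀ ≤ ν :=
        Finset.min'_le (Finset.univ.filter (fun ν => θ ν ≠ 0)) ν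
          (Finset.mem_filter.2 ⟨Finset.mem_univ _, hθν⟩)
      have hlt' : ν₀ < ν := lt_of_le_of_ne hle (Ne.symm hν.1)
      rw [map_mul, val_const_eq_one Q hθν, one_mul, hwQ, exp_lt_exp]
      have h6 : ν₀.1 < ν.1 := hlt'
      omega
  rw [hy_eq, exp_le_exp] at hy_le
  have h7 := ν₀.2
  omega

/-- The ramification index of a degree-one place above a nonsingular place is at most the
inseparable degree of the residue field. -/
theorem ramIdx_le (h : Function.Bijective (Algebra.TensorProduct.productMap
      (IsScalarTower.toAlgHom k k' K') (IsScalarTower.toAlgHom k K K')))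
    (hK : IsFunctionField k K) (P : Place k K)
    (hns : integralClosure ↥(P.O.toSubring.map (algebraMap K K')) K' =
      Algebra.adjoin ↥(P.O.toSubring.map (algebraMap K K')) (Set.range (algebraMap k' K')))
    (Q : Place k' K') (hdeg : Q.deg = 1) {e : ℕ} (he : IsOverWith (ofC (k := k) Q) P e) :
    e ≤ Module.finrank (separableClosure k (ResidueField P.O)) (ResidueField P.O) := by
  obtain ⟨α, g, c, hgsep, hgα, hG⟩ := exists_structure hK P
  exact ramIdx_le_aux h hK P hns Q hdeg he α g c hgsep hgα hG

end ram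


section final

variable {k k' : Type u} {K : Type v} {K' : Type w} [Field k] [Field k'] [Field K] [Field K']
  [Algebra k k'] [FiniteDimensional k k'] [Algebra k K] [Algebra K K'] [Algebra k' K']
  [Algebra k K'] [IsScalarTower k k' K'] [IsScalarTower k K K']

/-- S12592: the number and ramification of the places above a nonsingular place in a splitting
field. -/
theorem main (h : Function.Bijective (Algebra.TensorProduct.productMap
      (IsScalarTower.toAlgHom k k' K') (IsScalarTower.toAlgHom k K K')))
    (hK : IsFunctionField k K) (P : Place k K)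
    (hns : integralClosure ↥(P.O.toSubring.map (algebraMap K K')) K' =
      Algebra.adjoin ↥(P.O.toSubring.map (algebraMap K K')) (Set.range (algebraMap k' K')))
    (hsplit : ∀ Q : Place k' K', IsOver (ofC (k := k) Q) P → Q.deg = 1) :
    {Q : Place k' K' | IsOver (ofC (k := k) Q) P}.Finite ∧
    {Q : Place k' K' | IsOver (ofC (k := k) Q) P}.ncard =
      Field.finSepDegree k (ResidueField P.O) ∧
    ∀ Q : Place k' K', IsOver (ofC (k := k) Q) P →
      IsOverWith (ofC (k := k) Q) P
        (Module.finrank (separableClosure k (ResidueField P.O)) (ResidueField P.O)) := by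
  classical
  haveI : FiniteDimensional K K' := finite_of_bijective h
  haveI : Algebra.IsAlgebraic k k' := Algebra.IsAlgebraic.of_finite k k'
  haveI hfd : @Module.Finite k (ResidueField P.O) _ _
      (@Algebra.toModule _ _ _ _ (Place.algRes P)) := ff_finiteDimensional_residueField hK P
  have hT : {Q : Place k' K' | IsOver (ofC (k := k) Q) P}.Finite :=
    (finite_setOf_isOver (K' := K') P).preimage
      (f := (ofC (k := k) : Place k' K' → Place k K')) ofC_injective'.injOn
  have hcard_le := ncard_le_finSepDegree h hK P hns hsplit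
  have hTs : ∀ Q, Q ∈ hT.toFinset ↔ IsOver (ofC (k := k) Q) P := fun Q => hT.mem_toFinset
  have hQs : ∀ Q₁, Q₁ ∈ hT.toFinset.image (ofC (k := k)) ↔ IsOver Q₁ P := by
    intro Q₁
    rw [Finset.mem_image]
    constructor
    · rintro ⟨Q, hQ, rfl⟩; exact (hTs Q).1 hQ
    · intro hQ₁
      refine ⟨toC (k' := k') Q₁, (hTs _).2 ?_, ofC_toC Q₁⟩
      rw [ofC_toC]; exact hQ₁
  have hsum := sum_ramIdx_mul_deg_toC h hK P _ hQs
  rw [Finset.sum_image (fun Q _ Q' _ hQQ' => ofC_injective' hQQ')] at hsum
  have hsum2 : ∑ Q ∈ hT.toFinset, ramIdx (ofC (k := k) Q) P = P.deg := by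
    rw [← hsum]
    refine Finset.sum_congr rfl (fun Q hQ => ?_)
    rw [toC_ofC, hsplit Q ((hTs Q).1 hQ), mul_one]
  have hdeg : P.deg = Field.finSepDegree k (ResidueField P.O) *
      Module.finrank (separableClosure k (ResidueField P.O)) (ResidueField P.O) :=
    (Field.finSepDegree_mul_finInsepDegree k (ResidueField P.O)).symm
  have hle : ∀ Q ∈ hT.toFinset, ramIdx (ofC (k := k) Q) P ≤
      Module.finrank (separableClosure k (ResidueField P.O)) (ResidueField P.O) := by
    intro Q hQ
    have hov := (hTs Q).1 hQ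
    exact ramIdx_le h hK P hns Q (hsplit Q hov) (isOverWith_ramIdx hov)
  have hcardTs : {Q : Place k' K' | IsOver (ofC (k := k) Q) P}.ncard = hT.toFinset.card :=
    Set.ncard_eq_toFinset_card _ hT
  have hqpos : 0 < Module.finrank (separableClosure k (ResidueField P.O)) (ResidueField P.O) :=
    Module.finrank_pos
  have h1 : Field.finSepDegree k (ResidueField P.O) *
      Module.finrank (separableClosure k (ResidueField P.O)) (ResidueField P.O) ≤
      hT.toFinset.card *
      Module.finrank (separableClosure k (ResidueField P.O)) (ResidueField P.O) := by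
    rw [← hdeg, ← hsum2]
    calc ∑ Q ∈ hT.toFinset, ramIdx (ofC (k := k) Q) P
        ≤ ∑ Q ∈ hT.toFinset,
          Module.finrank (separableClosure k (ResidueField P.O)) (ResidueField P.O) :=
          Finset.sum_le_sum hle
      _ = _ := by rw [Finset.sum_const, smul_eq_mul]
  have h2 : Field.finSepDegree k (ResidueField P.O) ≤ hT.toFinset.card :=
    Nat.le_of_mul_le_mul_right h1 hqpos
  have hcard : hT.toFinset.card = Field.finSepDegree k (ResidueField P.O) :=
    le_antisymm (hcardTs ▸ hcard_le) h2
  have heq : ∀ Q ∈ hT.toFinset, ramIdx (ofC (k := k) Q) P =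
      Module.finrank (separableClosure k (ResidueField P.O)) (ResidueField P.O) := by
    have hsumeq : ∑ Q ∈ hT.toFinset, ramIdx (ofC (k := k) Q) P = ∑ Q ∈ hT.toFinset,
        Module.finrank (separableClosure k (ResidueField P.O)) (ResidueField P.O) := by
      rw [hsum2, hdeg, Finset.sum_const, smul_eq_mul, hcard]
    exact (Finset.sum_eq_sum_iff_of_le hle).1 hsumeq
  refine ⟨hT, hcardTs.trans hcard, ?_⟩
  intro Q hQ
  have h3 := isOverWith_ramIdx hQ
  rw [heq Q ((hTs Q).2 hQ)] at h3
  exact h3

end final

end Groth.Agent.Lib.Helper63.SplitCount
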