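import Groth.Agent.Lib.Helper63.TaylorLaurent
import Groth.Prelude.Def_LocRes

set_option autoImplicit false
set_option linter.style.haveILetI false

/-!
# Hasse derivatives through a Laurent expansion

If `K` is separable over `k(t)`, a total Hasse derivative `H` with respect to `t` is carried by an
expansion `φ` with `φ t = X` to the Taylor homomorphism of Laurent series.
-/

namespace Groth.Agent.Lib.Helper63.TaylorCompare

open HahnSeries LaurentSeries Finset IntermediateField
open Groth.Agent.Lib.Helper63.TaylorLaurent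

variable {k : Type*} {K : Type*} {F : Type*} [Field k] [Field K] [Algebra k K] [Field F]
  [Algebra k F]

/-- The intermediate field on which two ring homomorphisms to a commutative ring agree. -/
def eqField {B : Type*} [CommRing B] (Φ₁ Φ₂ : K →+* B)
    (hk : ∀ c : k, Φ₁ (algebraMap k K c) = Φ₂ (algebraMap k K c)) : IntermediateField k K where
  carrier := {y | Φ₁ y = Φ₂ y}
  mul_mem' {a b} ha hb := by
    simp only [Set.mem_ofPred_eq] at ha hb ⊢
    rw [map_mul, map_mul, ha, hb]
  one_mem' := by simp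
  add_mem' {a b} ha hb := by
    simp only [Set.mem_ofPred_eq] at ha hb ⊢
    rw [map_add, map_add, ha, hb]
  zero_mem' := by simp
  algebraMap_mem' c := hk c
  inv_mem' a ha := by
    simp only [Set.mem_ofPred_eq] at ha ⊢
    by_cases h0 : a = 0
    · rw [h0, inv_zero, map_zero, map_zero]
    · have h1 : Φ₁ a⁻¹ * Φ₁ a = 1 := by rw [← map_mul, inv_mul_cancel₀ h0, map_one]
      have h2 : Φ₂ a⁻¹ * Φ₁ a = 1 := by rw [ha, ← map_mul, inv_mul_cancel₀ h0, map_one]
      calc Φ₁ a⁻¹ = Φ₁ a⁻¹ * (Φ₂ a⁻¹ * Φ₁ a) := by rw [h2, mul_one]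
        _ = (Φ₁ a⁻¹ * Φ₁ a) * Φ₂ a⁻¹ := by ring
        _ = Φ₂ a⁻¹ := by rw [h1, one_mul]

theorem hasse_compare (φ : K →ₐ[k] F⸨X⸩) (t : K) (ht : φ t = HahnSeries.single 1 1)
    (H : K →ₐ[k] PowerSeries K) (hHt : H t = PowerSeries.C t + PowerSeries.X)
    (hH0 : ∀ y : K, PowerSeries.constantCoeff (H y) = y) [Algebra.IsSeparable k⟮t⟯ K]
    (y : K) (n : ℕ) :
    φ (PowerSeries.coeff n (H y)) = hasseDeriv F n (φ y) := by
  let B := PowerSeries F⸨X⸩
  let Φ₁ : K →+* B := (PowerSeries.map φ.toRingHom).comp H.toRingHom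
  let Φ₂ : K →+* B := (taylor F).comp φ.toRingHom
  have hk : ∀ c : k, Φ₁ (algebraMap k K c) = Φ₂ (algebraMap k K c) := by
    intro c
    show PowerSeries.map φ.toRingHom (H (algebraMap k K c)) = taylor F (φ (algebraMap k K c))
    rw [H.commutes, LocRes.map_algebraMap, taylor_C, PowerSeries.algebraMap_apply,
      PowerSeries.map_C]
    congr 1
    exact LocRes.map_algebraMap φ c
  have htE : Φ₁ t = Φ₂ t := by
    show PowerSeries.map φ.toRingHom (H t) = taylor F (φ t)
    rw [hHt, ht, taylor_X, map_add, PowerSeries.map_C, PowerSeries.map_X]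
    congr 2
  have hE : ∀ z ∈ k⟮t⟯, Φ₁ z = Φ₂ z := by
    have hle : k⟮t⟯ ≤ eqField Φ₁ Φ₂ hk := by
      rw [adjoin_simple_le_iff]
      exact htE
    exact fun z hz => hle hz
  letI : Algebra k⟮t⟯ B := (Φ₁.comp (algebraMap k⟮t⟯ K)).toAlgebra
  let g₁ : K →ₐ[k⟮t⟯] B := { Φ₁ with commutes' := fun r => rfl }
  let g₂ : K →ₐ[k⟮t⟯] B := { Φ₂ with commutes' := fun r => (hE r r.2).symm }
  haveI : Algebra.FormallyUnramified k⟮t⟯ K := Algebra.FormallyUnramified.of_isSeparable _ _
  have hg : g₁ = g₂ := by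
    refine Algebra.FormallyUnramified.ext_of_iInf (I := Ideal.span {PowerSeries.X})
      (iInf_span_X_pow _) ?_
    intro z
    rw [Ideal.Quotient.eq, Ideal.mem_span_singleton, PowerSeries.X_dvd_iff, map_sub, sub_eq_zero]
    show PowerSeries.constantCoeff (PowerSeries.map φ.toRingHom (H z)) =
      PowerSeries.constantCoeff (taylor F (φ z))
    rw [← PowerSeries.coeff_zero_eq_constantCoeff_apply, ← PowerSeries.coeff_zero_eq_constantCoeff_apply,
      PowerSeries.coeff_map, coeff_taylor, hasseDeriv_zero, PowerSeries.coeff_zero_eq_constantCoeff_apply,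
      hH0]
    rfl
  have := congrArg (fun g : K →ₐ[k⟮t⟯] B => PowerSeries.coeff n (g y)) hg
  simp only [g₁, g₂] at this
  have h2 : PowerSeries.coeff n (Φ₁ y) = PowerSeries.coeff n (Φ₂ y) := this
  rw [show Φ₁ y = PowerSeries.map φ.toRingHom (H y) from rfl,
    show Φ₂ y = taylor F (φ y) from rfl, PowerSeries.coeff_map, coeff_taylor] at h2
  exact h2

end Groth.Agent.Lib.Helper63.TaylorCompare
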