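import Mathlib

set_option autoImplicit false
set_option linter.style.haveILetI false

/-!
# The Taylor homomorphism on Laurent series

The Leibniz rule for `LaurentSeries.hasseDeriv` and the ring homomorphism
`f ↦ ∑ (hasseDeriv n f) T ^ n`.
-/

namespace Groth.Agent.Lib.Helper63.TaylorLaurent

open HahnSeries LaurentSeries Finset

variable {F : Type*} [Field F]

/-- Coefficients of a product of Laurent series as a sum over an interval (with a shift). -/
theorem coeff_mul_Icc (f g : F⸨X⸩) (N : ℤ) (hf : ∀ a < N, f.coeff a = 0)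
    (hg : ∀ b < N, g.coeff b = 0) (m i L U : ℤ) (hL : L - i ≤ N) (hU : m - N ≤ U - i) :
    (f * g).coeff m = ∑ a ∈ Finset.Icc L U, f.coeff (a - i) * g.coeff (m - (a - i)) := by
  rw [HahnSeries.coeff_mul]
  refine Finset.sum_bij_ne_zero (fun p _ _ => p.1 + i) ?_ ?_ ?_ ?_
  · intro p hp _
    rw [Finset.mem_antidiagonal] at hp
    obtain ⟨h1, h2, h3⟩ := hp
    have h1' : N ≤ p.1 := by
      by_contra hlt
      exact h1 (hf _ (not_le.1 hlt))
    have h2' : N ≤ p.2 := by
      by_contra hlt
      exact h2 (hg _ (not_le.1 hlt))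
    rw [Finset.mem_Icc]
    constructor <;> omega
  · intro p hp _ q hq _ hpq
    rw [Finset.mem_antidiagonal] at hp hq
    have h1 : p.1 = q.1 := by simpa using hpq
    have h2 : p.2 = q.2 := by
      have := hp.2.2
      have := hq.2.2
      omega
    exact Prod.ext h1 h2
  · intro b _ hb
    refine ⟨(b - i, m - (b - i)), ?_, hb, by simp⟩
    rw [Finset.mem_antidiagonal]
    refine ⟨?_, ?_, by simp⟩
    · exact fun h0 => hb (by rw [show f.coeff (b - i) = 0 from h0, zero_mul])
    · exact fun h0 => hb (by rw [show g.coeff (m - (b - i)) = 0 from h0, mul_zero])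
  · intro p hp _
    rw [Finset.mem_antidiagonal] at hp
    have h3 := hp.2.2
    have e1 : p.1 + i - i = p.1 := by ring
    have e2 : m - p.1 = p.2 := by omega
    simp only [e1, e2]

/-- The Leibniz rule for Hasse derivatives of Laurent series. -/
theorem hasseDeriv_mul (n : ℕ) (f g : F⸨X⸩) :
    hasseDeriv F n (f * g) =
      ∑ ij ∈ antidiagonal n, hasseDeriv F ij.1 f * hasseDeriv F ij.2 g := by
  ext m
  set N : ℤ := min f.order g.order with hN
  have hf : ∀ a < N, f.coeff a = 0 := fun a ha =>
    HahnSeries.coeff_eq_zero_of_lt_order (lt_of_lt_of_le ha (min_le_left _ _))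
  have hg : ∀ a < N, g.coeff a = 0 := fun a ha =>
    HahnSeries.coeff_eq_zero_of_lt_order (lt_of_lt_of_le ha (min_le_right _ _))
  have hfi : ∀ i : ℕ, i ≤ n → ∀ a < N - n, (hasseDeriv F i f).coeff a = 0 := by
    intro i hi a ha
    rw [hasseDeriv_coeff, hf _ (by omega), smul_zero]
  have hgi : ∀ i : ℕ, i ≤ n → ∀ a < N - n, (hasseDeriv F i g).coeff a = 0 := by
    intro i hi a ha
    rw [hasseDeriv_coeff, hg _ (by omega), smul_zero]
  rw [hasseDeriv_coeff, HahnSeries.coeff_sum,
    coeff_mul_Icc f g N hf hg (m + n) 0 (N - n) (m - N + 2 * n) (by omega) (by omega)]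
  have hR : ∀ ij ∈ antidiagonal n, (hasseDeriv F ij.1 f * hasseDeriv F ij.2 g).coeff m =
      ∑ a ∈ Finset.Icc (N - n) (m - N + 2 * n),
        (Ring.choose a ij.1 * Ring.choose (m + n - a) ij.2) • (f.coeff a * g.coeff (m + n - a)) := by
    intro ij hij
    rw [Finset.HasAntidiagonal.mem_antidiagonal] at hij
    have hi : ij.1 ≤ n := by omega
    have hj : ij.2 ≤ n := by omega
    rw [coeff_mul_Icc _ _ (N - n) (hfi _ hi) (hgi _ hj) m ij.1 (N - n) (m - N + 2 * n)
      (by omega) (by omega)]
    refine Finset.sum_congr rfl fun a _ => ?_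
    rw [hasseDeriv_coeff, hasseDeriv_coeff, smul_mul_smul_comm]
    have e1 : a - (ij.1 : ℤ) + ij.1 = a := by ring
    have e2 : m - (a - (ij.1 : ℤ)) + ij.2 = m + n - a := by
      have : (ij.1 : ℤ) + ij.2 = n := by exact_mod_cast hij
      omega
    rw [e1, e2]
  rw [Finset.sum_congr rfl hR, Finset.sum_comm, Finset.smul_sum]
  refine Finset.sum_congr rfl fun a _ => ?_
  rw [← Finset.sum_smul, ← Ring.add_choose_eq n (Commute.all _ _)]
  simp only [sub_zero]
  congr 2
  ring

/-- The Hasse derivatives of `1`. -/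
theorem hasseDeriv_one (n : ℕ) :
    hasseDeriv F n (1 : F⸨X⸩) = if n = 0 then 1 else 0 := by
  rw [show (1 : F⸨X⸩) = HahnSeries.single 0 1 from rfl, hasseDeriv_single, Ring.choose_zero_ite]
  split_ifs with h
  · subst h
    simp
  · simp

/-- The Taylor homomorphism `f ↦ ∑ (hasseDeriv n f) T ^ n`. -/
noncomputable def taylor (F : Type*) [Field F] : F⸨X⸩ →+* PowerSeries F⸨X⸩ where
  toFun f := PowerSeries.mk fun n => hasseDeriv F n f
  map_one' := by
    ext n
    rw [PowerSeries.coeff_mk, PowerSeries.coeff_one, hasseDeriv_one]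
  map_mul' f g := by
    ext n
    rw [PowerSeries.coeff_mk, PowerSeries.coeff_mul, hasseDeriv_mul]
    simp only [PowerSeries.coeff_mk]
  map_zero' := by
    ext n
    simp
  map_add' f g := by
    ext n
    simp

@[simp] theorem coeff_taylor (f : F⸨X⸩) (n : ℕ) :
    PowerSeries.coeff n (taylor F f) = hasseDeriv F n f := by
  simp [taylor]

theorem taylor_C (a : F) : taylor F (HahnSeries.C a) = PowerSeries.C (HahnSeries.C a) := by
  refine PowerSeries.ext fun n => ?_
  rw [coeff_taylor, PowerSeries.coeff_C, HahnSeries.C_apply, hasseDeriv_single,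
    Ring.choose_zero_ite]
  split_ifs with h
  · subst h
    simp
  · simp

theorem taylor_X : taylor F (HahnSeries.single 1 1) =
    PowerSeries.C (HahnSeries.single 1 1) + PowerSeries.X := by
  refine PowerSeries.ext fun n => ?_
  rw [coeff_taylor, hasseDeriv_single, map_add, PowerSeries.coeff_C, PowerSeries.coeff_X]
  rcases n with _ | _ | n
  · simp
  · simp
  · have : Ring.choose (1 : ℤ) (n + 1 + 1) = 0 := by
      have := Ring.choose_natCast (R := ℤ) 1 (n + 1 + 1)
      rw [Nat.cast_one] at this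
      rw [this, Nat.choose_eq_zero_of_lt (by omega)]
      rfl
    simp [this]

theorem iInf_span_X_pow (R : Type*) [CommRing R] :
    ⨅ i : ℕ, (Ideal.span {(PowerSeries.X : PowerSeries R)}) ^ i = ⊥ := by
  rw [eq_bot_iff]
  intro p hp
  rw [Ideal.mem_iInf] at hp
  rw [Ideal.mem_bot]
  ext m
  have h := hp (m + 1)
  rw [Ideal.span_singleton_pow, Ideal.mem_span_singleton, PowerSeries.X_pow_dvd_iff] at h
  rw [h m (Nat.lt_succ_self m), map_zero]

end Groth.Agent.Lib.Helper63.TaylorLaurent
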