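import Mathlib

set_option linter.style.haveILetI false
set_option linter.unusedSectionVars false
set_option linter.unusedVariables false

namespace Groth.Agent.Lib.Helper63.TensorLen

open TensorProduct

universe u

theorem length_self_eq_of_ringEquiv {A B : Type*} [CommRing A] [CommRing B] (e : A ≃+* B) :
    Module.length A A = Module.length B B := by
  letI : Algebra A B := e.toRingHom.toAlgebra
  have h1 : Module.length A B = Module.length B B :=
    Module.length_eq_of_surjective (S := A) (R := B) (M := B) e.surjective
  let g : A ≃ₗ[A] B :=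
    { toFun := e
      map_add' := map_add e
      map_smul' := by
        intro a y
        simp only [RingHom.id_apply, smul_eq_mul, map_mul]
        rw [Algebra.smul_def]
        rfl
      invFun := e.symm
      left_inv := e.left_inv
      right_inv := e.right_inv }
  rw [← h1]
  exact g.length_eq

/-- all local rings at minimal primes have length a power of `p`. -/
def Good (p : ℕ) (A : Type*) [CommRing A] : Prop :=
  ∀ (q : Ideal A) [q.IsPrime], q ∈ minimalPrimes A →
    ∃ n : ℕ, Module.length (Localization.AtPrime q) (Localization.AtPrime q) = (p ^ n : ℕ)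

theorem Good.of_ringEquiv {p : ℕ} {A B : Type*} [CommRing A] [CommRing B] (e : A ≃+* B)
    (h : Good p A) : Good p B := by
  intro q _ hq
  let q' : Ideal A := q.comap (e : A →+* B)
  have hq' : q' ∈ minimalPrimes A := by
    have := Ideal.minimalPrimes_comap_of_surjective (f := (e : A →+* B)) e.surjective
      (I := ⊥) hq
    have h0 : Ideal.comap (e : A →+* B) ⊥ = ⊥ :=
      Ideal.comap_bot_of_injective (e : A →+* B) e.injective
    rw [h0] at this
    exact this
  haveI : q'.IsPrime := hq'.1.1
  obtain ⟨n, hn⟩ := h q' hq'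
  refine ⟨n, ?_⟩
  rw [← hn]
  symm
  apply length_self_eq_of_ringEquiv
  refine IsLocalization.ringEquivOfRingEquiv (M := q'.primeCompl) (T := q.primeCompl)
    (Localization.AtPrime q') (Localization.AtPrime q) e ?_
  ext x
  constructor
  · rintro ⟨a, ha, rfl⟩
    exact ha
  · intro hx
    refine ⟨e.symm x, ?_, by simp⟩
    show e.symm x ∉ q'
    intro hmem
    apply hx
    have : (e : A →+* B) (e.symm x) ∈ q := hmem
    simpa using this

theorem core (p : ℕ) (E L T0 : Type*) [Field E] [Field L] [Algebra E L] [ExpChar E p]
    [FiniteDimensional E L] [IsPurelyInseparable E L] [CommRing T0] [Algebra E T0] [IsReduced T0] :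
    Good p (T0 ⊗[E] L) := by
  intro q _ hq
  let q0 : Ideal T0 := q.under T0
  haveI : q0.IsPrime := inferInstance
  haveI : q.LiesOver q0 := ⟨rfl⟩
  have hq0 : q0 ∈ minimalPrimes T0 := by
    obtain ⟨p0, hp0, hle⟩ := Ideal.exists_minimalPrimes_le (show (⊥ : Ideal T0) ≤ q0 from bot_le)
    haveI := hp0.1.1
    obtain ⟨P, hPq, hP, hPover⟩ := Ideal.exists_ideal_le_liesOver_of_le (p := p0) (q := q0) q hle
    have hPeq : P = q := le_antisymm hPq (hq.2 ⟨hP, bot_le⟩ hPq)
    have : p0 = q0 := by rw [hPover.over, hPeq]
    rwa [this] at hp0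
  haveI : Ring.KrullDimLE 0 (Localization.AtPrime q0) := .of_isLocalization _ hq0 _
  letI : Field (Localization.AtPrime q0) := Ring.KrullDimLE.isField_of_isReduced.toField
  let S := Algebra.algebraMapSubmonoid (T0 ⊗[E] L) q0.primeCompl
  have hloc : IsLocalization q.primeCompl (Localization S) := by
    refine IsLocalization.of_le_of_exists_dvd S q.primeCompl ?_ ?_
    · rintro _ ⟨s, hs, rfl⟩
      exact hs
    · intro t ht
      obtain ⟨n, hn, s, hs⟩ :=
        IsPurelyInseparable.exists_pow_mem_range_tensorProduct (k := E) (K := L) (R := T0) t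
      refine ⟨t ^ n, ⟨s, ?_, hs⟩, dvd_pow_self t hn.ne'⟩
      intro hsq
      apply ht
      have h1 : algebraMap T0 (T0 ⊗[E] L) s ∈ q := hsq
      rw [hs] at h1
      exact Ideal.IsPrime.mem_of_pow_mem ‹_› n h1
  haveI : IsLocalization.AtPrime (Localization S) q := hloc
  haveI : IsLocalRing (Localization S) := IsLocalization.AtPrime.isLocalRing (Localization S) q
  have e1 : Module.length (Localization.AtPrime q) (Localization.AtPrime q) =
      Module.length (Localization S) (Localization S) :=
    length_self_eq_of_ringEquiv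
      (IsLocalization.algEquiv q.primeCompl (Localization.AtPrime q) (Localization S)).toRingEquiv
  haveI : Nontrivial T0 := (algebraMap T0 (Localization.AtPrime q0)).domain_nontrivial
  have hfin : Module.finrank (Localization.AtPrime q0) (Localization S) = Module.finrank E L := by
    have h1 := Module.finrank_of_isLocalizedModule_of_free (Localization.AtPrime q0) q0.primeCompl
      (IsScalarTower.toAlgHom T0 (T0 ⊗[E] L) (Localization S)).toLinearMap
    rw [h1, Module.finrank_baseChange]
  haveI : Module.Finite (Localization.AtPrime q0) (Localization S) :=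
    Module.finite_of_finrank_pos (by rw [hfin]; exact Module.finrank_pos)
  have hlen : Module.length (Localization.AtPrime q0) (Localization S) =
      (Module.finrank E L : ℕ∞) := by
    rw [Module.length_eq_rank, ← Module.finrank_eq_rank, hfin]
    simp
  have key := IsLocalRing.length_restrictScalars (Localization.AtPrime q0) (Localization S)
    (Localization S)
  rw [hlen] at key
  obtain ⟨m, hm⟩ := IsPurelyInseparable.finrank_eq_pow (F := E) L p
  have hr0 : Module.length (IsLocalRing.ResidueField (Localization.AtPrime q0))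
      (IsLocalRing.ResidueField (Localization S)) ≠ 0 := by
    have := Module.length_pos (R := IsLocalRing.ResidueField (Localization.AtPrime q0))
      (M := IsLocalRing.ResidueField (Localization S))
    exact this.ne'
  have hl0 : Module.length (Localization S) (Localization S) ≠ 0 := by
    have := Module.length_pos (R := Localization S) (M := Localization S)
    exact this.ne'
  have hlt : Module.length (Localization S) (Localization S) ≠ ⊤ := by
    intro h
    rw [h, ENat.top_mul hr0] at key
    exact ENat.natCast_ne_top _ key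
  have hrt : Module.length (IsLocalRing.ResidueField (Localization.AtPrime q0))
      (IsLocalRing.ResidueField (Localization S)) ≠ ⊤ := by
    intro h
    rw [h, ENat.mul_top hl0] at key
    exact ENat.natCast_ne_top _ key
  obtain ⟨a, ha⟩ := ENat.ne_top_iff_exists.1 hlt
  obtain ⟨b, hb⟩ := ENat.ne_top_iff_exists.1 hrt
  rw [← ha, ← hb] at key
  have hab : Module.finrank E L = a * b := by exact_mod_cast key
  rw [e1, ← ha]
  rcases expChar_is_prime_or_one E p with hp | hp
  · obtain ⟨i, _, hi⟩ := (Nat.dvd_prime_pow hp).1 (⟨b, by rw [← hm, hab]⟩ : a ∣ p ^ m)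
    exact ⟨i, by exact_mod_cast hi⟩
  · refine ⟨0, ?_⟩
    rw [hp, one_pow] at hm
    have : a = 1 := by
      have h1 : a * b = 1 := by rw [← hab, hm]
      exact Nat.eq_one_of_mul_eq_one_right h1
    simp [this]

theorem isDomain_fractionRing_tensor (k K : Type*) [Field k] [Field K] [Algebra k K] (ι : Type*) :
    IsDomain (FractionRing (MvPolynomial ι k) ⊗[k] K) := by
  haveI : IsDomain (MvPolynomial ι k ⊗[k] K) := by
    let e : MvPolynomial ι k ⊗[k] K ≃+* MvPolynomial ι K :=
      (Algebra.TensorProduct.comm k (MvPolynomial ι k) K).toRingEquiv.trans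
        (MvPolynomial.algebraTensorAlgEquiv k K).toRingEquiv
    exact e.toMulEquiv.isDomain _
  let f' : MvPolynomial ι k ⊗[k] K →ₐ[MvPolynomial ι k] FractionRing (MvPolynomial ι k) ⊗[k] K :=
    Algebra.TensorProduct.map
      (IsScalarTower.toAlgHom (MvPolynomial ι k) (MvPolynomial ι k)
        (FractionRing (MvPolynomial ι k)))
      (AlgHom.id k K)
  letI : Algebra (MvPolynomial ι k ⊗[k] K) (FractionRing (MvPolynomial ι k) ⊗[k] K) :=
    f'.toRingHom.toAlgebra
  haveI : IsScalarTower (MvPolynomial ι k) (MvPolynomial ι k ⊗[k] K)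
      (FractionRing (MvPolynomial ι k) ⊗[k] K) := ⟨fun a x y => by
    show (f' (a • x)) * y = a • (f' x * y)
    rw [map_smul, smul_mul_assoc]⟩
  haveI hloc := IsLocalization.tensorProduct_tensorProduct k K (nonZeroDivisors (MvPolynomial ι k))
    (FractionRing (MvPolynomial ι k)) (by ext x; simp [RingHom.algebraMap_toAlgebra, f'])
  refine IsLocalization.isDomain_of_le_nonZeroDivisors (R := MvPolynomial ι k ⊗[k] K)
    (M := Algebra.algebraMapSubmonoid (MvPolynomial ι k ⊗[k] K)
      (nonZeroDivisors (MvPolynomial ι k)))
    (FractionRing (MvPolynomial ι k) ⊗[k] K) ?_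
  rintro _ ⟨a, ha, rfl⟩
  apply mem_nonZeroDivisors_of_ne_zero
  intro h0
  have hinj : Function.Injective
      (Algebra.TensorProduct.includeLeft : MvPolynomial ι k →ₐ[k] MvPolynomial ι k ⊗[k] K) :=
    Algebra.TensorProduct.includeLeft_injective (algebraMap k K).injective
  have : a = 0 := hinj (by simpa using h0)
  exact nonZeroDivisors.ne_zero ha this

theorem isReduced_tensor_of_separable (k K F E : Type*) [Field k] [Field K] [Field F] [Field E]
    [Algebra k K] [Algebra k F] [Algebra F E] [Algebra k E] [IsScalarTower k F E]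
    [FiniteDimensional F E] [Algebra.IsSeparable F E] [IsDomain (F ⊗[k] K)] :
    IsReduced (E ⊗[k] K) := by
  let e1 : E ⊗[F] (F ⊗[k] K) ≃ₐ[E] E ⊗[k] K := Algebra.TensorProduct.cancelBaseChange k F E E K
  let e2 : E ⊗[F] (F ⊗[k] K) ≃ₐ[F] (F ⊗[k] K) ⊗[F] E := Algebra.TensorProduct.comm F E (F ⊗[k] K)
  let g : (F ⊗[k] K) ⊗[F] E →ₐ[F] FractionRing (F ⊗[k] K) ⊗[F] E :=
    Algebra.TensorProduct.map (IsScalarTower.toAlgHom F (F ⊗[k] K) (FractionRing (F ⊗[k] K)))
      (AlgHom.id F E)
  have hg : Function.Injective g :=
    Module.Flat.rTensor_preserves_injective_linearMap (M := E)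
      (IsScalarTower.toAlgHom F (F ⊗[k] K) (FractionRing (F ⊗[k] K))).toLinearMap
      (IsFractionRing.injective (F ⊗[k] K) (FractionRing (F ⊗[k] K)))
  haveI : Algebra.FormallyUnramified F E := Algebra.FormallyUnramified.of_isSeparable F E
  haveI : IsReduced (FractionRing (F ⊗[k] K) ⊗[F] E) :=
    Algebra.FormallyUnramified.isReduced_of_field (FractionRing (F ⊗[k] K))
      (FractionRing (F ⊗[k] K) ⊗[F] E)
  let h : E ⊗[k] K →+* FractionRing (F ⊗[k] K) ⊗[F] E :=
    g.toRingHom.comp (e2.toRingEquiv.toRingHom.comp e1.symm.toRingEquiv.toRingHom)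
  exact isReduced_of_injective h (hg.comp (e2.injective.comp e1.symm.injective))

theorem main (k K L : Type u) [Field k] [Field K] [Field L] [Algebra k K] [Algebra k L]
    (hL : (⊤ : IntermediateField k L).FG) (p : ℕ) [ExpChar k p] : Good p (K ⊗[k] L) := by
  obtain ⟨ι, x, hx⟩ := exists_isTranscendenceBasis' k L
  let F := IntermediateField.adjoin k (Set.range x)
  haveI : Algebra.IsAlgebraic F L := hx.isAlgebraic_field
  haveI : Algebra.EssFiniteType k L := IntermediateField.fg_top_iff.1 hL
  haveI : Algebra.EssFiniteType F L := Algebra.EssFiniteType.of_comp k F L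
  haveI : Module.Finite F L := Algebra.finite_of_essFiniteType_of_isAlgebraic
  let E := separableClosure F L
  haveI : IsPurelyInseparable E L := separableClosure.isPurelyInseparable F L
  haveI : Algebra.IsSeparable F E := separableClosure.isSeparable F L
  haveI : IsDomain (F ⊗[k] K) := by
    let e : FractionRing (MvPolynomial ι k) ≃ₐ[k] F := hx.1.aevalEquivField
    haveI := isDomain_fractionRing_tensor k K ι
    exact (Algebra.TensorProduct.congr e.symm (AlgEquiv.refl (R := k) (A₁ := K))).toMulEquiv.isDomain _
  haveI : IsScalarTower k F E := inferInstance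
  haveI : IsScalarTower k E L := IsScalarTower.of_algebraMap_eq (fun a => rfl)
  haveI : IsReduced (E ⊗[k] K) := isReduced_tensor_of_separable k K F E
  haveI : ExpChar E p := expChar_of_injective_algebraMap (algebraMap k E).injective p
  have hcore := core p E L (E ⊗[k] K)
  refine hcore.of_ringEquiv ?_
  exact ((Algebra.TensorProduct.comm E (E ⊗[k] K) L).toRingEquiv.trans
    ((Algebra.TensorProduct.cancelBaseChange k E E L K).toRingEquiv)).trans
      (Algebra.TensorProduct.comm k L K).toRingEquiv

end Groth.Agent.Lib.Helper63.TensorLen
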