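import Groth.Agent.Lib.Helper63.LocResRam

/-! Derivations preserve integrality along unramified extensions (helper63). -/

set_option autoImplicit false
set_option linter.style.haveILetI false
set_option linter.unusedSectionVars false

namespace Groth.Agent.Lib.Helper63.UnramDeriv

open WithZero Polynomial Groth.Agent.Lib.Helper63.LocResRam

variable {k K K' L : Type*} [Field k] [Field K] [Field K'] [Field L] [Algebra k K]
  [Algebra K K'] [Algebra k K'] [IsScalarTower k K K'] [Algebra K' L] [Module k L]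
  [IsScalarTower k K' L]

theorem val_aeval_le_one (w : Valuation K ℤᵐ⁰) (w' : Valuation K' ℤᵐ⁰) {e : ℕ}
    (he : ∀ c : K, w' (algebraMap K K' c) = w c ^ e) {α : K'} (hα : w' α ≤ 1) {p : K[X]}
    (hp : ∀ i, w (p.coeff i) ≤ 1) : w' (aeval α p) ≤ 1 := by
  rw [aeval_eq_sum_range]
  apply Valuation.map_sum_le
  intro i _
  rw [Algebra.smul_def, map_mul, he, map_pow]
  exact mul_le_one' (pow_le_one₀ zero_le (hp i)) (pow_le_one₀ zero_le hα)

theorem val_sum_le_one (w : Valuation K ℤᵐ⁰) (w' : Valuation K' ℤᵐ⁰) (v : Valuation L ℤᵐ⁰)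
    (hv : ∀ y : K', v (algebraMap K' L y) = w' y) (δ : Derivation k K' L)
    (H1 : ∀ c : K, w c ≤ 1 → v (δ (algebraMap K K' c)) ≤ 1) {α : K'} (hα : w' α ≤ 1) {p : K[X]}
    (hp : ∀ i, w (p.coeff i) ≤ 1) :
    v (p.sum fun i a => α ^ i • δ (algebraMap K K' a)) ≤ 1 := by
  rw [Polynomial.sum_def]
  apply Valuation.map_sum_le
  intro i _
  rw [Algebra.smul_def, map_mul, hv, map_pow]
  exact mul_le_one' (pow_le_one₀ zero_le hα) (H1 _ (hp i))

/-- Key lemma: a derivation which is integral on `O_w`, bounded on `O_w'`, and normalised by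
`δ t = 1`, is integral on the integers of an intermediate field unramified over `K` whose residue
field is generated by a separable element. -/
theorem key_lemma (w : Valuation K ℤᵐ⁰) (w' : Valuation K' ℤᵐ⁰) (v : Valuation L ℤᵐ⁰)
    (hv : ∀ y : K', v (algebraMap K' L y) = w' y)
    (δ : Derivation k K' L) (e : ℕ) (he0 : 0 < e)
    (he : ∀ c : K, w' (algebraMap K K' c) = w c ^ e)
    (T : IntermediateField K K')
    {t : K} (ht : w t = exp (-1)) (hδt : δ (algebraMap K K' t) = 1)
    (H1 : ∀ c : K, w c ≤ 1 → v (δ (algebraMap K K' c)) ≤ 1)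
    (n₀ : ℕ) (H2 : ∀ y : K', w' y ≤ 1 → v (δ y) ≤ exp (n₀ : ℤ))
    (H3 : ∀ a ∈ T, w' a < 1 → w' a ≤ exp (-(e : ℤ)))
    {α : K'} (hαT : α ∈ T) (hα : w' α ≤ 1) (G : K[X]) (hG : ∀ i, w (G.coeff i) ≤ 1)
    (hGα : w' (aeval α G) < 1) (hG'α : w' (aeval α (derivative G)) = 1)
    (H4 : ∀ a ∈ T, w' a ≤ 1 → ∃ p : K[X], (∀ i, w (p.coeff i) ≤ 1) ∧ w' (a - aeval α p) < 1) :
    ∀ a ∈ T, w' a ≤ 1 → v (δ a) ≤ 1 := by
  have ht0 : t ≠ 0 := by
    intro h
    rw [h, map_zero] at ht
    exact exp_ne_zero ht.symm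
  have ht' : w' (algebraMap K K' t) = exp (-(e : ℤ)) := by
    rw [he, ht, ← exp_nsmul, nsmul_eq_mul, mul_neg, mul_one]
  have ht0' : algebraMap K K' t ≠ 0 := by
    rw [Ne, map_eq_zero_iff _ (algebraMap K K').injective]
    exact ht0
  have hnat : ∀ m : ℕ, w (m : K) ≤ 1 := by
    intro m
    induction m with
    | zero => simp
    | succ m ih =>
      rw [Nat.cast_succ]
      exact le_trans (w.map_add _ _) (max_le ih (by rw [map_one]))
  have hpolyT : ∀ p : K[X], aeval α p ∈ T := by
    intro p
    rw [aeval_eq_sum_range]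
    refine sum_mem fun i _ => ?_
    rw [Algebra.smul_def]
    exact mul_mem (T.algebraMap_mem _) (pow_mem hαT i)
  -- the inductive step
  have step : ∀ n : ℕ, (∀ a ∈ T, w' a ≤ 1 → v (δ a) ≤ exp (n : ℤ)) →
      ∀ a ∈ T, w' a ≤ 1 → v (δ a) ≤ exp ((n - e : ℕ) : ℤ) := by
    intro n hyp
    have hB : (1 : ℤᵐ⁰) ≤ exp ((n - e : ℕ) : ℤ) := by
      rw [← exp_zero, exp_le_exp]
      exact Int.natCast_nonneg _
    have hB' : exp (-(e : ℤ)) * exp (n : ℤ) ≤ exp ((n - e : ℕ) : ℤ) := by
      rw [← exp_add, exp_le_exp]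
      omega
    -- `δ (t c)` for small elements
    have hsmall : ∀ a ∈ T, w' a < 1 → v (δ a) ≤ exp ((n - e : ℕ) : ℤ) := by
      intro a haT ha
      set c := a / algebraMap K K' t with hc
      have hcT : c ∈ T := div_mem haT (T.algebraMap_mem t)
      have hc1 : w' c ≤ 1 := by
        rw [hc, map_div₀, ht', div_le_iff₀ exp_pos, one_mul]
        exact H3 a haT ha
      have hac : a = algebraMap K K' t * c := by
        rw [hc, mul_div_cancel₀ _ ht0']
      rw [hac, Derivation.leibniz, hδt, Algebra.smul_def, Algebra.smul_def, mul_one]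
      refine le_trans (v.map_add _ _) (max_le ?_ ?_)
      · rw [map_mul, hv, ht']
        calc exp (-(e : ℤ)) * v (δ c) ≤ exp (-(e : ℤ)) * exp (n : ℤ) :=
              mul_le_mul' le_rfl (hyp c hcT hc1)
          _ ≤ _ := hB'
      · rw [hv]
        exact le_trans hc1 hB
    -- `δ α`
    have hδα : v (δ α) ≤ exp ((n - e : ℕ) : ℤ) := by
      have h1 := derivation_aeval (R := k) (A := K) (B := K') δ α G
      have h2 : aeval α (derivative G) • δ α =
          δ (aeval α G) - G.sum fun i a => α ^ i • δ (algebraMap K K' a) := by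
        rw [h1]
        ring
      have h3 : v (aeval α (derivative G) • δ α) = v (δ α) := by
        rw [Algebra.smul_def, map_mul, hv, hG'α, one_mul]
      rw [← h3, h2]
      refine le_trans (v.map_sub _ _) (max_le ?_ ?_)
      · exact hsmall _ (hpolyT G) hGα
      · exact le_trans (val_sum_le_one w w' v hv δ H1 hα hG) hB
    intro a haT ha
    obtain ⟨p, hp, hap⟩ := H4 a haT ha
    have h1 := derivation_aeval (R := k) (A := K) (B := K') δ α p
    have h2 : δ a = δ (a - aeval α p) + δ (aeval α p) := by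
      rw [← map_add, sub_add_cancel]
    rw [h2, h1]
    refine le_trans (v.map_add _ _) (max_le ?_ ?_)
    · exact hsmall _ (sub_mem haT (hpolyT p)) hap
    · refine le_trans (v.map_add _ _) (max_le ?_ ?_)
      · exact le_trans (val_sum_le_one w w' v hv δ H1 hα hp) hB
      · rw [Algebra.smul_def, map_mul, hv]
        calc w' (aeval α (derivative p)) * v (δ α) ≤ 1 * exp ((n - e : ℕ) : ℤ) := by
              refine mul_le_mul' ?_ hδα
              apply val_aeval_le_one w w' he hα
              intro i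
              rw [coeff_derivative]
              have h5 : w ((i : K) + 1) ≤ 1 := by
                have : ((i : K) + 1) = ((i + 1 : ℕ) : K) := by push_cast; ring
                rw [this]
                exact hnat _
              rw [map_mul]
              exact mul_le_one' (hp _) h5
          _ = _ := one_mul _
  -- descend
  have main : ∀ n : ℕ, (∀ a ∈ T, w' a ≤ 1 → v (δ a) ≤ exp (n : ℤ)) →
      ∀ a ∈ T, w' a ≤ 1 → v (δ a) ≤ 1 := by
    intro n
    induction n using Nat.strong_induction_on with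
    | _ n ih =>
      intro hyp
      rcases Nat.eq_zero_or_pos n with rfl | hn
      · simpa using hyp
      · exact ih (n - e) (by omega) (step n hyp)
  exact main n₀ (fun a _ ha => H2 a ha)

end Groth.Agent.Lib.Helper63.UnramDeriv
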