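import Mathlib.RingTheory.Valuation.Basic
import Mathlib.RingTheory.Polynomial.Basic
import Mathlib.RingTheory.PrincipalIdealDomain
import Mathlib.Algebra.Squarefree.Basic
import Mathlib.Algebra.Order.GroupWithZero.Canonical
import Mathlib.RingTheory.Ideal.Maps
import Mathlib.Algebra.Polynomial.FieldDivision


/-! Dedekind-type criterion (abstract form): if `α` is a root of `g ∈ R[T]` whose reduction is
squarefree, then the value group of `w` on `R[α]` is generated by the value of the local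
parameter `t` of `R` (helper63). -/

set_option autoImplicit false
set_option linter.style.haveILetI false

namespace Groth.Agent.Lib.Helper63.Unramified

open WithZero Polynomial

local notation "ℤᵐ⁰" => WithZero (Multiplicative ℤ)

variable {R K' 𝔽 : Type*} [CommRing R] [Field K'] [Field 𝔽] (w : Valuation K' ℤᵐ⁰)
  (φ : R →+* K') (ρ : R →+* 𝔽)

theorem val_eval₂_le_one (hφ : ∀ r, w (φ r) ≤ 1) {α : K'} (hα : w α ≤ 1) (G : R[X]) :
    w (eval₂ φ α G) ≤ 1 := by
  rw [eval₂_eq_sum_range]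
  refine w.map_sum_le fun i _ => ?_
  rw [map_mul, map_pow]
  exact mul_le_one' (hφ _) (pow_le_one₀ zero_le hα)

theorem val_eval₂_lt_one (hφ : ∀ r, w (φ r) ≤ 1) {α : K'} (hα : w α ≤ 1) (G : R[X])
    (hG : ∀ i, w (φ (G.coeff i)) < 1) : w (eval₂ φ α G) < 1 := by
  rw [eval₂_eq_sum_range]
  refine w.map_sum_lt (by simp) fun i _ => ?_
  rw [map_mul, map_pow]
  exact (mul_le_of_le_one_right zero_le (pow_le_one₀ zero_le hα)).trans_lt (hG i)

/-- The ideal of polynomials whose value at `α` is in the maximal ideal of `w`. -/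
def J (hφ : ∀ r, w (φ r) ≤ 1) {α : K'} (hα : w α ≤ 1) : Ideal R[X] where
  carrier := {G | w (eval₂ φ α G) < 1}
  add_mem' {a b} ha hb := by
    change w (eval₂ φ α (a + b)) < 1
    rw [eval₂_add]
    exact (w.map_add _ _).trans_lt (max_lt ha hb)
  zero_mem' := by
    change w (eval₂ φ α 0) < 1
    rw [eval₂_zero, map_zero]
    exact zero_lt_one
  smul_mem' c x hx := by
    change w (eval₂ φ α (c * x)) < 1
    rw [eval₂_mul, map_mul]
    exact (mul_le_of_le_one_left zero_le (val_eval₂_le_one w φ hφ hα c)).trans_lt hx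

theorem mem_J (hφ : ∀ r, w (φ r) ≤ 1) {α : K'} (hα : w α ≤ 1) (G : R[X]) :
    G ∈ J w φ hφ hα ↔ w (eval₂ φ α G) < 1 := Iff.rfl

/-- Dedekind-type criterion. -/
theorem exists_val_eq_pow (hφ : ∀ r, w (φ r) ≤ 1) (hρ : Function.Surjective ρ)
    (hker : ∀ r, ρ r = 0 ↔ w (φ r) < 1) {t : R} (ht : ∀ r, w (φ r) < 1 → t ∣ r)
    (ht1 : w (φ t) < 1) (ht0 : φ t ≠ 0) {α : K'} (hα : w α ≤ 1) {g : R[X]}
    (hroot : eval₂ φ α g = 0) (hsq : Squarefree (g.map ρ)) (G : R[X])
    (hG : eval₂ φ α G ≠ 0) : ∃ n : ℕ, w (eval₂ φ α G) = w (φ t) ^ n := by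
  classical
  set ρ' : R[X] →+* 𝔽[X] := mapRingHom ρ with hρ'
  have hρ's : Function.Surjective ρ' := map_surjective ρ hρ
  set I := J w φ hφ hα with hI
  have hkerJ : RingHom.ker ρ' ≤ I := by
    intro G hG
    rw [RingHom.mem_ker] at hG
    apply val_eval₂_lt_one w φ hφ hα
    intro i
    rw [← hker]
    have := congrArg (fun p => p.coeff i) hG
    simpa [hρ', coeff_map] using this
  have hmemI : ∀ G : R[X], G ∈ I ↔ ρ' G ∈ I.map ρ' := by
    intro G
    rw [← Ideal.mem_comap, Ideal.comap_map_of_surjective ρ' hρ's, ← RingHom.ker_eq_comap_bot,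
      sup_eq_left.2 hkerJ]
  obtain ⟨hb', hhb'⟩ : ∃ hb', I.map ρ' = Ideal.span {hb'} :=
    ⟨_, (IsPrincipalIdealRing.principal (I.map ρ')).span_singleton_generator.symm⟩
  have h1 : (1 : R[X]) ∉ I := by
    rw [hI, mem_J, eval₂_one, map_one]
    exact lt_irrefl _
  have hunit : ¬ IsUnit hb' := by
    intro hu
    apply h1
    rw [hmemI, hhb', Ideal.span_singleton_eq_top.2 hu]
    exact Submodule.mem_top
  have hgI : g ∈ I := by
    rw [hI, mem_J, hroot, map_zero]; exact zero_lt_one
  obtain ⟨qb', hqb'⟩ : hb' ∣ ρ' g := by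
    rw [← Ideal.mem_span_singleton, ← hhb', ← hmemI]; exact hgI
  have hqb'I : qb' ∉ I.map ρ' := by
    rw [hhb', Ideal.mem_span_singleton]
    rintro ⟨c, rfl⟩
    apply hunit
    apply hsq hb'
    refine ⟨c, ?_⟩
    have : ρ' g = g.map ρ := rfl
    rw [← this, hqb']; ring
  obtain ⟨q, rfl⟩ := hρ's qb'
  have hqI : q ∉ I := fun h => hqb'I ((hmemI q).1 h)
  have hq1 : w (eval₂ φ α q) = 1 :=
    le_antisymm (val_eval₂_le_one w φ hφ hα q) (not_lt.1 hqI)
  obtain ⟨h, rfl⟩ := hρ's hb'
  -- lifting congruences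
  have hlift : ∀ G : R[X], ρ' G = 0 → ∃ G₂, G = C t * G₂ := by
    intro G hG
    have : C t ∣ G := by
      rw [C_dvd_iff_dvd_coeff]
      intro i
      apply ht
      rw [← hker]
      have := congrArg (fun p => p.coeff i) hG
      simpa [hρ', coeff_map] using this
    exact this
  obtain ⟨r, hr⟩ := hlift (g - h * q) (by rw [map_sub, map_mul, hqb', sub_self])
  -- main induction on the order
  have main : ∀ m : ℕ, ∀ G : R[X], eval₂ φ α G ≠ 0 → exp (-(m : ℤ)) ≤ w (eval₂ φ α G) →
      ∃ n : ℕ, w (eval₂ φ α G) = w (φ t) ^ n := by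
    intro m
    induction m with
    | zero =>
      intro G _ hm
      refine ⟨0, ?_⟩
      rw [pow_zero]
      simp only [CharP.cast_eq_zero, neg_zero, exp_zero] at hm
      exact le_antisymm (val_eval₂_le_one w φ hφ hα G) hm
    | succ m ih =>
      intro G hG0 hm
      by_cases hGI : G ∈ I
      · have h2 : ρ' G ∈ Ideal.span {ρ' h} := by rw [← hhb', ← hmemI]; exact hGI
        obtain ⟨Gb₁, hGb₁⟩ := Ideal.mem_span_singleton.1 h2
        obtain ⟨G₁, rfl⟩ := hρ's Gb₁
        obtain ⟨G₂, hG₂⟩ := hlift (G - h * G₁) (by rw [map_sub, map_mul, hGb₁, sub_self])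
        have hkey : q * G = g * G₁ + C t * (q * G₂ - r * G₁) := by
          have e1 : G = h * G₁ + C t * G₂ := by rw [← hG₂]; ring
          have e2 : g = h * q + C t * r := by rw [← hr]; ring
          rw [e1, e2]; ring
        have hev := congrArg (eval₂ φ α) hkey
        rw [eval₂_mul, eval₂_add, eval₂_mul, hroot, zero_mul, zero_add, eval₂_mul, eval₂_C] at hev
        set G' := q * G₂ - r * G₁ with hG'
        have hq0 : eval₂ φ α q ≠ 0 := by
          intro h0
          rw [h0, map_zero] at hq1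
          exact zero_ne_one hq1
        have hG'0 : eval₂ φ α G' ≠ 0 := by
          intro h0
          rw [h0, mul_zero] at hev
          exact (mul_ne_zero hq0 hG0) hev
        have hval : w (eval₂ φ α G) = w (φ t) * w (eval₂ φ α G') := by
          have := congrArg w hev
          rwa [map_mul, map_mul, hq1, one_mul] at this
        have htpos : 0 < w (φ t) := zero_lt_iff.2 ((Valuation.ne_zero_iff _).2 ht0)
        have hm' : exp (-(m : ℤ)) ≤ w (eval₂ φ α G') := by
          obtain ⟨a, ha⟩ : ∃ a : ℤ, w (φ t) = exp a :=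
            ⟨_, (exp_log ((Valuation.ne_zero_iff _).2 ht0)).symm⟩
          obtain ⟨b, hb⟩ : ∃ b : ℤ, w (eval₂ φ α G') = exp b :=
            ⟨_, (exp_log ((Valuation.ne_zero_iff _).2 hG'0)).symm⟩
          rw [hval, ha, hb, ← exp_add, exp_le_exp] at hm
          rw [ha, ← exp_zero, exp_lt_exp] at ht1
          rw [hb, exp_le_exp]
          push_cast at hm
          omega
        obtain ⟨n, hn⟩ := ih G' hG'0 hm'
        exact ⟨n + 1, by rw [hval, hn, pow_succ']⟩
      · refine ⟨0, ?_⟩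
        rw [pow_zero]
        exact le_antisymm (val_eval₂_le_one w φ hφ hα G) (not_lt.1 hGI)
  obtain ⟨b, hb⟩ : ∃ b : ℤ, w (eval₂ φ α G) = exp b :=
    ⟨_, (exp_log ((Valuation.ne_zero_iff _).2 hG)).symm⟩
  have hb0 : b ≤ 0 := by
    have := val_eval₂_le_one w φ hφ hα G
    rwa [hb, ← exp_zero, exp_le_exp] at this
  refine main (-b).toNat G hG ?_
  rw [hb, exp_le_exp, Int.toNat_of_nonneg (by omega)]
  omega

end Groth.Agent.Lib.Helper63.Unramified
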