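import Groth.Agent.Lib.Helper63.Unramified
import Mathlib.Algebra.Polynomial.Derivative
import Mathlib.Tactic.FieldSimp
import Mathlib.Tactic.Ring

/-! Dedekind-type criterion, residue-field form (helper63): if `α` is a root of `g ∈ R[T]` with
`g'(α)` a unit of the valuation `w`, every `w`-integral element `G(α)/t^n` is congruent modulo the
maximal ideal of `w` to a quotient `A(α)/B(α)` with `B(α)` a unit. -/

set_option autoImplicit false
set_option linter.style.haveILetI false

namespace Groth.Agent.Lib.Helper63.UnramifiedRes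

open WithZero Polynomial Groth.Agent.Lib.Helper63.Unramified

local notation "ℤᵐ⁰" => WithZero (Multiplicative ℤ)

variable {R K' 𝔽 : Type*} [CommRing R] [Field K'] [Field 𝔽] (w : Valuation K' ℤᵐ⁰)
  (φ : R →+* K') (ρ : R →+* 𝔽)

theorem exists_residue_rep (hφ : ∀ r, w (φ r) ≤ 1) (hρ : Function.Surjective ρ)
    (hker : ∀ r, ρ r = 0 ↔ w (φ r) < 1) {t : R} (ht : ∀ r, w (φ r) < 1 → t ∣ r)
    (ht1 : w (φ t) < 1) (ht0 : φ t ≠ 0) {α : K'} (hα : w α ≤ 1) {g : R[X]}
    (hroot : eval₂ φ α g = 0) (hder : w (eval₂ φ α (derivative g)) = 1) :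
    ∀ (n : ℕ) (G : R[X]), w (eval₂ φ α G) ≤ w (φ t) ^ n →
      ∃ A B : R[X], w (eval₂ φ α B) = 1 ∧
        w (eval₂ φ α G / φ t ^ n - eval₂ φ α A / eval₂ φ α B) < 1 := by
  classical
  set ρ' : R[X] →+* 𝔽[X] := mapRingHom ρ with hρ'
  have hρ's : Function.Surjective ρ' := map_surjective ρ hρ
  set I := J w φ hφ hα with hI
  have hkerJ : RingHom.ker ρ' ≤ I := by
    intro G hG
    rw [RingHom.mem_ker] at hG
    apply val_eval₂_lt_one w φ hφ hα
    intro i
    rw [← hker]
    have := congrArg (fun p => p.coeff i) hG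
    simpa [hρ', coeff_map] using this
  have hmemI : ∀ G : R[X], G ∈ I ↔ ρ' G ∈ I.map ρ' := by
    intro G
    rw [← Ideal.mem_comap, Ideal.comap_map_of_surjective ρ' hρ's, ← RingHom.ker_eq_comap_bot,
      sup_eq_left.2 hkerJ]
  obtain ⟨hb', hhb'⟩ : ∃ hb', I.map ρ' = Ideal.span {hb'} :=
    ⟨_, (IsPrincipalIdealRing.principal (I.map ρ')).span_singleton_generator.symm⟩
  have hgI : g ∈ I := by
    rw [hI, mem_J, hroot, map_zero]; exact zero_lt_one
  obtain ⟨qb', hqb'⟩ : hb' ∣ ρ' g := by
    rw [← Ideal.mem_span_singleton, ← hhb', ← hmemI]; exact hgI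
  obtain ⟨q, rfl⟩ := hρ's qb'
  obtain ⟨h, rfl⟩ := hρ's hb'
  have hhI : h ∈ I := by
    rw [hmemI, hhb']; exact Ideal.mem_span_singleton_self _
  -- lifting congruences
  have hlift : ∀ G : R[X], ρ' G = 0 → ∃ G₂, G = C t * G₂ := by
    intro G hG
    have : C t ∣ G := by
      rw [C_dvd_iff_dvd_coeff]
      intro i
      apply ht
      rw [← hker]
      have := congrArg (fun p => p.coeff i) hG
      simpa [hρ', coeff_map] using this
    exact this
  obtain ⟨r, hr⟩ := hlift (g - h * q) (by rw [map_sub, map_mul, hqb', sub_self])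
  have hle : ∀ G : R[X], w (eval₂ φ α G) ≤ 1 := val_eval₂_le_one w φ hφ hα
  have hqI : q ∉ I := by
    intro hq
    have e2 : g = h * q + C t * r := by rw [← hr]; ring
    have e3 : derivative g = derivative h * q + h * derivative q + C t * derivative r := by
      rw [e2, derivative_add, derivative_mul, derivative_mul, derivative_C]; ring
    have hlt : w (eval₂ φ α (derivative g)) < 1 := by
      rw [e3, eval₂_add, eval₂_add, eval₂_mul, eval₂_mul, eval₂_mul, eval₂_C]
      refine (w.map_add _ _).trans_lt (max_lt ((w.map_add _ _).trans_lt (max_lt ?_ ?_)) ?_)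
      · rw [map_mul]
        exact (mul_le_of_le_one_left zero_le (hle _)).trans_lt hq
      · rw [map_mul]
        exact (mul_le_of_le_one_right zero_le (hle _)).trans_lt hhI
      · rw [map_mul]
        exact (mul_le_of_le_one_right zero_le (hle _)).trans_lt ht1
    rw [hder] at hlt
    exact lt_irrefl _ hlt
  have hq1 : w (eval₂ φ α q) = 1 := le_antisymm (hle q) (not_lt.1 hqI)
  have hq0 : eval₂ φ α q ≠ 0 := by
    intro h0
    rw [h0, map_zero] at hq1
    exact zero_ne_one hq1
  have htpos : 0 < w (φ t) := zero_lt_iff.2 ((Valuation.ne_zero_iff _).2 ht0)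
  intro n
  induction n with
  | zero =>
    intro G _
    refine ⟨G, 1, by rw [eval₂_one, map_one], ?_⟩
    rw [pow_zero, eval₂_one, sub_self, map_zero]
    exact zero_lt_one
  | succ n ih =>
    intro G hG
    have hGI : G ∈ I := by
      rw [hI, mem_J]
      refine hG.trans_lt ?_
      rw [pow_succ]
      exact (mul_le_of_le_one_left zero_le (pow_le_one₀ zero_le ht1.le)).trans_lt ht1
    have h2 : ρ' G ∈ Ideal.span {ρ' h} := by rw [← hhb', ← hmemI]; exact hGI
    obtain ⟨Gb₁, hGb₁⟩ := Ideal.mem_span_singleton.1 h2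
    obtain ⟨G₁, rfl⟩ := hρ's Gb₁
    obtain ⟨G₂, hG₂⟩ := hlift (G - h * G₁) (by rw [map_sub, map_mul, hGb₁, sub_self])
    have hkey : q * G = g * G₁ + C t * (q * G₂ - r * G₁) := by
      have e1 : G = h * G₁ + C t * G₂ := by rw [← hG₂]; ring
      have e2 : g = h * q + C t * r := by rw [← hr]; ring
      rw [e1, e2]; ring
    have hev := congrArg (eval₂ φ α) hkey
    rw [eval₂_mul, eval₂_add, eval₂_mul, hroot, zero_mul, zero_add, eval₂_mul, eval₂_C] at hev
    set G' := q * G₂ - r * G₁ with hG'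
    have hval : w (eval₂ φ α G) = w (φ t) * w (eval₂ φ α G') := by
      have := congrArg w hev
      rwa [map_mul, map_mul, hq1, one_mul] at this
    have hG'le : w (eval₂ φ α G') ≤ w (φ t) ^ n := by
      rw [hval, pow_succ'] at hG
      exact le_of_mul_le_mul_left hG htpos
    obtain ⟨A, B, hB1, hAB⟩ := ih G' hG'le
    have hB0 : eval₂ φ α B ≠ 0 := by
      intro h0
      rw [h0, map_zero] at hB1
      exact zero_ne_one hB1
    refine ⟨A, B * q, by rw [eval₂_mul, map_mul, hB1, hq1, one_mul], ?_⟩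
    have hGeq : eval₂ φ α G = φ t * eval₂ φ α G' / eval₂ φ α q := by
      rw [← hev, mul_div_cancel_left₀ _ hq0]
    have hdiff : eval₂ φ α G / φ t ^ (n + 1) - eval₂ φ α A / eval₂ φ α (B * q) =
        (eval₂ φ α G' / φ t ^ n - eval₂ φ α A / eval₂ φ α B) / eval₂ φ α q := by
      rw [hGeq, eval₂_mul]
      field_simp
      ring
    rw [hdiff, map_div₀, hq1, div_one]
    exact hAB

end Groth.Agent.Lib.Helper63.UnramifiedRes
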