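import Mathlib
import Groth.Agent.S2680
import Groth.Agent.Lib.Helper39.KrullAkizuki

set_option linter.style.haveILetI false
set_option linter.unusedSectionVars false
set_option linter.unusedVariables false

namespace Groth.Agent.Lib.Helper63.ValFin

open Polynomial

universe u

section General
variable {F : Type*} [Field F]

theorem mem_of_isIntegral {R0 : Type*} [CommRing R0] [Algebra R0 F] (O : ValuationSubring F)
    (h : ∀ r : R0, algebraMap R0 F r ∈ O) {x : F} (hx : IsIntegral R0 x) : x ∈ O := by
  rw [← ValuationSubring.valuation_le_one_iff]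
  have hv := Valuation.integer.integers O.valuation
  let φ : R0 →+* O.valuation.integer := (algebraMap R0 F).codRestrict _ (fun r => by
    show O.valuation (algebraMap R0 F r) ≤ 1
    rw [ValuationSubring.valuation_le_one_iff]; exact h r)
  obtain ⟨p, hp, hpx⟩ := hx
  have : IsIntegral O.valuation.integer x := by
    refine ⟨p.map φ, hp.map φ, ?_⟩
    rw [Polynomial.eval₂_map]
    exact hpx
  exact hv.isIntegral_iff_v_le_one.mp this

variable {B : Type*} [CommRing B] [IsDomain B] [Algebra B F] [IsFractionRing B F]

/-- the center of a valuation subring on `B` (meaningful when `B ⊆ O`). -/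
def center (B : Type*) [CommRing B] [Algebra B F] (O : ValuationSubring F) : Ideal B where
  carrier := {b | ∀ c : B, O.valuation (algebraMap B F (c * b)) < 1}
  add_mem' := by
    intro a b ha hb c
    rw [mul_add, map_add]
    exact Valuation.map_add_lt _ (ha c) (hb c)
  zero_mem' := by
    intro c
    simp
  smul_mem' := by
    intro c' b hb c
    rw [smul_eq_mul, ← mul_assoc]
    exact hb (c * c')

theorem mem_center_iff (O : ValuationSubring F) (h : ∀ b : B, algebraMap B F b ∈ O) (b : B) :
    b ∈ center B O ↔ O.valuation (algebraMap B F b) < 1 := by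
  constructor
  · intro hb
    simpa using hb 1
  · intro hb c
    rw [map_mul, map_mul]
    have hc : O.valuation (algebraMap B F c) ≤ 1 := by
      rw [ValuationSubring.valuation_le_one_iff]; exact h c
    calc O.valuation (algebraMap B F c) * O.valuation (algebraMap B F b)
        ≤ 1 * O.valuation (algebraMap B F b) := mul_le_mul_left hc _
      _ = O.valuation (algebraMap B F b) := one_mul _
      _ < 1 := hb

theorem center_isPrime (O : ValuationSubring F) (h : ∀ b : B, algebraMap B F b ∈ O) :
    (center B O).IsPrime := by
  refine ⟨?_, ?_⟩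
  · intro htop
    have : (1 : B) ∈ center B O := htop ▸ Submodule.mem_top
    rw [mem_center_iff O h] at this
    simp at this
  · intro a b hab
    rw [mem_center_iff O h] at hab ⊢
    rw [mem_center_iff O h]
    rw [map_mul, map_mul] at hab
    by_contra hcon
    push Not at hcon
    have ha : O.valuation (algebraMap B F a) ≤ 1 := by
      rw [ValuationSubring.valuation_le_one_iff]; exact h a
    have hb : O.valuation (algebraMap B F b) ≤ 1 := by
      rw [ValuationSubring.valuation_le_one_iff]; exact h b
    have ha1 := le_antisymm ha hcon.1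
    have hb1 := le_antisymm hb hcon.2
    rw [ha1, hb1, one_mul] at hab
    exact lt_irrefl _ hab

end General

section Unique
variable {F : Type*} [Field F] {B : Type*} [CommRing B] [IsDedekindDomain B]
  [Algebra B F] [IsFractionRing B F]

theorem le_of_center_eq (O1 O2 : ValuationSubring F) (h1 : ∀ b : B, algebraMap B F b ∈ O1)
    (h2 : ∀ b : B, algebraMap B F b ∈ O2) (P : Ideal B) [P.IsPrime] (hP0 : P ≠ ⊥)
    (hc1 : center B O1 = P) (hc2 : center B O2 = P) : O1 ≤ O2 := by
  haveI : IsDiscreteValuationRing (Localization.AtPrime P) :=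
    IsLocalization.AtPrime.isDiscreteValuationRing_of_dedekind_domain B hP0 _
  have hunit : ∀ s : P.primeCompl, IsUnit (algebraMap B F s) := by
    intro s
    apply IsUnit.mk0
    intro h0
    have : (s : B) = 0 := (IsFractionRing.injective B F) (by rw [h0, map_zero])
    exact s.2 (this ▸ P.zero_mem)
  let ψ : Localization.AtPrime P →+* F := IsLocalization.lift (M := P.primeCompl) hunit
  -- elements outside P are units of O2 (valuation 1)
  have hval2 : ∀ s : B, s ∉ P → O2.valuation (algebraMap B F s) = 1 := by
    intro s hs
    have hle : O2.valuation (algebraMap B F s) ≤ 1 := by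
      rw [ValuationSubring.valuation_le_one_iff]; exact h2 s
    refine le_antisymm hle ?_
    by_contra hlt
    push Not at hlt
    exact hs (hc2 ▸ (mem_center_iff O2 h2 s).2 hlt)
  have hψ : ∀ (b : B) (s : P.primeCompl),
      ψ (IsLocalization.mk' (Localization.AtPrime P) b s) =
        algebraMap B F b / algebraMap B F s := by
    intro b s
    have key := (IsLocalization.lift_mk'_spec (S := Localization.AtPrime P)
      (g := algebraMap B F) (hg := hunit) b
      (ψ (IsLocalization.mk' (Localization.AtPrime P) b s)) s).1 rfl
    rw [key, mul_div_cancel_left₀ _ (hunit s).ne_zero]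
  have hψ2 : ∀ c : Localization.AtPrime P, ψ c ∈ O2 := by
    intro c
    obtain ⟨b, s, rfl⟩ := IsLocalization.exists_mk'_eq P.primeCompl c
    rw [hψ, ← ValuationSubring.valuation_le_one_iff, map_div₀, hval2 s s.2, div_one,
      ValuationSubring.valuation_le_one_iff]
    exact h2 b
  -- elements of the maximal ideal have O1-valuation < 1
  have hψ1 : ∀ c : Localization.AtPrime P, c ∈ IsLocalRing.maximalIdeal (Localization.AtPrime P) →
      O1.valuation (ψ c) < 1 := by
    intro c hc
    obtain ⟨b, s, rfl⟩ := IsLocalization.exists_mk'_eq P.primeCompl c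
    rw [IsLocalization.AtPrime.mk'_mem_maximal_iff (Localization.AtPrime P) P] at hc
    have hb : O1.valuation (algebraMap B F b) < 1 := by
      rw [← mem_center_iff O1 h1, hc1]; exact hc
    have hs : O1.valuation (algebraMap B F s) = 1 := by
      have hle : O1.valuation (algebraMap B F s) ≤ 1 := by
        rw [ValuationSubring.valuation_le_one_iff]; exact h1 s
      refine le_antisymm hle ?_
      by_contra hlt
      push Not at hlt
      exact s.2 (hc1 ▸ (mem_center_iff O1 h1 s).2 hlt)
    rw [hψ, map_div₀, hs, div_one]
    exact hb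
  intro x hx
  by_cases hx0 : x = 0
  · rw [hx0]; exact O2.zero_mem
  obtain ⟨b, s, hs, rfl⟩ : ∃ b s : B, s ≠ 0 ∧ x = algebraMap B F b / algebraMap B F s := by
    obtain ⟨b, s, hs, h⟩ := IsFractionRing.div_surjective (A := B) x
    exact ⟨b, s, nonZeroDivisors.ne_zero hs, h.symm⟩
  have hb0 : b ≠ 0 := by
    rintro rfl
    simp at hx0
  obtain ⟨c, hc | hc⟩ := ValuationRing.cond (algebraMap B (Localization.AtPrime P) b)
    (algebraMap B (Localization.AtPrime P) s)
  · -- b * c = s : x⁻¹ = ψ c
    have hψc : ψ c = algebraMap B F s / algebraMap B F b := by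
      have := congrArg ψ hc
      rw [map_mul, IsLocalization.lift_eq, IsLocalization.lift_eq] at this
      rw [← this, mul_div_cancel_left₀]
      exact fun h0 => hb0 ((IsFractionRing.injective B F) (by rw [h0, map_zero]))
    by_cases hcu : IsUnit c
    · obtain ⟨u, rfl⟩ := hcu
      have : algebraMap B F b / algebraMap B F s = ψ ((u⁻¹ : (Localization.AtPrime P)ˣ) : _) := by
        have h1' : ψ (u : Localization.AtPrime P) * ψ ((u⁻¹ : (Localization.AtPrime P)ˣ) : _) = 1 := by
          rw [← map_mul, Units.mul_inv, map_one]
        rw [hψc] at h1'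
        have hs0 : algebraMap B F s ≠ 0 :=
          fun h0 => hs ((IsFractionRing.injective B F) (by rw [h0, map_zero]))
        have hb0' : algebraMap B F b ≠ 0 :=
          fun h0 => hb0 ((IsFractionRing.injective B F) (by rw [h0, map_zero]))
        field_simp at h1' ⊢
        linear_combination -h1'
      rw [this]
      exact hψ2 _
    · have hcm : c ∈ IsLocalRing.maximalIdeal (Localization.AtPrime P) := by
        rwa [IsLocalRing.mem_maximalIdeal, mem_nonunits_iff]
      have hlt := hψ1 c hcm
      rw [hψc, map_div₀] at hlt
      have hx1 : O1.valuation (algebraMap B F b / algebraMap B F s) ≤ 1 := by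
        rw [ValuationSubring.valuation_le_one_iff]; exact hx
      rw [map_div₀] at hx1
      exfalso
      have hs0 : O1.valuation (algebraMap B F s) ≠ 0 := by
        rw [Valuation.ne_zero_iff]
        exact fun h0 => hs ((IsFractionRing.injective B F) (by rw [h0, map_zero]))
      have hb0' : O1.valuation (algebraMap B F b) ≠ 0 := by
        rw [Valuation.ne_zero_iff]
        exact fun h0 => hb0 ((IsFractionRing.injective B F) (by rw [h0, map_zero]))
      have h3 : O1.valuation (algebraMap B F s) < O1.valuation (algebraMap B F b) := by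
        rwa [div_lt_one₀ (zero_lt_iff.2 hb0')] at hlt
      have h4 : O1.valuation (algebraMap B F b) ≤ O1.valuation (algebraMap B F s) := by
        rwa [div_le_one₀ (zero_lt_iff.2 hs0)] at hx1
      exact absurd h3 (not_lt.2 h4)
  · -- s * c = b : x = ψ c
    have hψc : ψ c = algebraMap B F b / algebraMap B F s := by
      have := congrArg ψ hc
      rw [map_mul, IsLocalization.lift_eq, IsLocalization.lift_eq] at this
      rw [← this, mul_div_cancel_left₀]
      exact fun h0 => hs ((IsFractionRing.injective B F) (by rw [h0, map_zero]))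
    rw [← hψc]
    exact hψ2 c

theorem eq_of_center_eq (O1 O2 : ValuationSubring F) (h1 : ∀ b : B, algebraMap B F b ∈ O1)
    (h2 : ∀ b : B, algebraMap B F b ∈ O2) (P : Ideal B) [P.IsPrime] (hP0 : P ≠ ⊥)
    (hc1 : center B O1 = P) (hc2 : center B O2 = P) : O1 = O2 :=
  le_antisymm (le_of_center_eq O1 O2 h1 h2 P hP0 hc1 hc2)
    (le_of_center_eq O2 O1 h2 h1 P hP0 hc2 hc1)

end Unique

section Main
variable (k A F : Type u) [Field k] [CommRing A] [IsDomain A] [Algebra k A]
  [Algebra.FiniteType k A]
  [Field F] [Algebra A F] [IsFractionRing A F] [Algebra k F] [IsScalarTower k A F]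

theorem trdeg_eq_one (hA : ringKrullDim A = 1) : Algebra.trdeg k F = 1 := by
  obtain ⟨n, h1, h2, -⟩ := Groth.Agent.S2680.result k A
  have hn : n = 1 := by
    rw [hA] at h2
    exact_mod_cast h2.symm
  let e : FractionRing A ≃ₐ[k] F :=
    (IsLocalization.algEquiv (nonZeroDivisors A) (FractionRing A) F).restrictScalars k
  rw [← e.trdeg_eq, h1, hn]
  simp

theorem finite_of_transcendental (hA : ringKrullDim A = 1) (y : F) (hy : Transcendental k y) :
    {O : ValuationSubring F | (algebraMap k F).range ≤ O.toSubring ∧
      O.valuation y < 1}.Finite := by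
  letI alg1 : Algebra k[X] F := (Polynomial.aeval y : k[X] →ₐ[k] F).toRingHom.toAlgebra
  have halg1 : ∀ p : k[X], algebraMap k[X] F p = Polynomial.aeval y p := fun p => rfl
  have hinj : Function.Injective (algebraMap k[X] F) := transcendental_iff_injective.1 hy
  haveI : IsScalarTower k k[X] F := IsScalarTower.of_algebraMap_eq (fun c => by
    rw [halg1, Polynomial.algebraMap_apply, Polynomial.aeval_C]
    rfl)
  letI alg2 : Algebra (FractionRing k[X]) F := (IsFractionRing.lift hinj).toAlgebra
  haveI : IsScalarTower k[X] (FractionRing k[X]) F :=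
    IsScalarTower.of_algebraMap_eq (fun p => (IsFractionRing.lift_algebraMap hinj p).symm)
  haveI : IsScalarTower k (FractionRing k[X]) F := IsScalarTower.of_algebraMap_eq (fun c => by
    rw [IsScalarTower.algebraMap_apply k k[X] (FractionRing k[X]),
      ← IsScalarTower.algebraMap_apply k[X] (FractionRing k[X]) F,
      ← IsScalarTower.algebraMap_apply k k[X] F])
  -- algebraicity
  have htr := trdeg_eq_one k A F hA
  have hind : AlgebraicIndependent k (fun _ : PUnit.{u+1} => y) :=
    algebraicIndependent_unique_type_iff.2 hy
  have hbasis : IsTranscendenceBasis k (fun _ : PUnit.{u+1} => y) :=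
    hind.isTranscendenceBasis_of_trdeg_le (by rw [htr]; exact Cardinal.one_lt_aleph0)
      (by rw [htr, Cardinal.mk_punit])
  have halg0 : Algebra.IsAlgebraic (Algebra.adjoin k (Set.range fun _ : PUnit.{u+1} => y)) F :=
    hbasis.isAlgebraic
  haveI : Algebra.IsAlgebraic k[X] F := by
    have hrange : Set.range (fun _ : PUnit.{u+1} => y) = {y} := Set.range_const
    let f : k[X] →+* Algebra.adjoin k (Set.range fun _ : PUnit.{u+1} => y) :=
      ((Polynomial.aeval y : k[X] →ₐ[k] F).codRestrict _ (fun p => by
        rw [hrange]; exact Polynomial.aeval_mem_adjoin_singleton k y)).toRingHom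
    have hf : Function.Surjective f := by
      rintro ⟨z, hz⟩
      rw [hrange, Algebra.adjoin_singleton_eq_range_aeval] at hz
      obtain ⟨p, rfl⟩ := hz
      exact ⟨p, rfl⟩
    exact Algebra.IsAlgebraic.of_ringHom_of_comp_eq f (RingHom.id F) hf
      Function.injective_id (by ext <;> rfl)
  haveI : Algebra.IsAlgebraic (FractionRing k[X]) F :=
    (IsFractionRing.comap_isAlgebraic_iff (A := k[X]) (K := FractionRing k[X]) (C := F)).1
      inferInstance
  haveI : Algebra.EssFiniteType k F := by
    haveI : Algebra.EssFiniteType A F :=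
      Algebra.EssFiniteType.of_isLocalization F (nonZeroDivisors A)
    exact Algebra.EssFiniteType.comp k A F
  haveI : Algebra.EssFiniteType (FractionRing k[X]) F := Algebra.EssFiniteType.of_comp k _ F
  haveI : Module.Finite (FractionRing k[X]) F := Algebra.finite_of_essFiniteType_of_isAlgebraic
  -- the integral closure
  have hBinj : Function.Injective (algebraMap (integralClosure k[X] F) F) :=
    Subtype.val_injective
  haveI : Ring.KrullDimLE 1 k[X] := by
    rw [Ring.krullDimLE_one_iff_of_noZeroDivisors]
    intro I hI hIp
    exact hIp.isMaximal hI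
  haveI hN : IsNoetherianRing (integralClosure k[X] F) :=
    Groth.Agent.Lib.Helper39.KA.isNoetherianRing_of_between k[X] (FractionRing k[X]) hBinj
  haveI hD : Ring.KrullDimLE 1 (integralClosure k[X] F) :=
    Groth.Agent.Lib.Helper39.KA.krullDimLE_one_of_between k[X] (FractionRing k[X]) hBinj
  haveI : IsFractionRing (integralClosure k[X] F) F :=
    IsIntegralClosure.isFractionRing_of_finite_extension k[X] (FractionRing k[X]) F
      (integralClosure k[X] F)
  haveI : IsIntegrallyClosed (integralClosure k[X] F) :=
    integralClosure.isIntegrallyClosedOfFiniteExtension (FractionRing k[X])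
  haveI : IsDedekindDomain (integralClosure k[X] F) :=
    { toIsDomain := inferInstance
      toIsDedekindRing := (isDedekindRing_iff (A := integralClosure k[X] F) F).2 ⟨hN,
        ⟨fun hp hp' => (Ring.krullDimLE_one_iff_of_noZeroDivisors.1 hD) _ hp hp'⟩,
        fun hx => (isIntegrallyClosed_iff F).1 inferInstance hx⟩ }
  have hyB : y ∈ integralClosure k[X] F := by
    have := (integralClosure k[X] F).algebraMap_mem (Polynomial.X : k[X])
    rwa [halg1, Polynomial.aeval_X] at this
  have hyB0 : (⟨y, hyB⟩ : integralClosure k[X] F) ≠ 0 := by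
    intro h0
    have : y = 0 := congrArg Subtype.val h0
    exact hy (this ▸ isAlgebraic_zero)
  have hfinP := Groth.Agent.Lib.Helper39.KA.finite_primes_ge k[X] (FractionRing k[X]) hBinj
    (Ideal.span {(⟨y, hyB⟩ : integralClosure k[X] F)}) (by simpa using hyB0)
  -- every member of the set contains the integral closure
  have hcontains : ∀ O : ValuationSubring F, (algebraMap k F).range ≤ O.toSubring →
      O.valuation y < 1 → ∀ b : integralClosure k[X] F,
        algebraMap (integralClosure k[X] F) F b ∈ O := by
    intro O hk hyO b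
    refine mem_of_isIntegral (R0 := k[X]) O ?_ b.2
    intro p
    rw [halg1]
    let O' : Subalgebra k F :=
      { O.toSubring with algebraMap_mem' := fun r => hk ⟨r, rfl⟩ }
    have hy' : y ∈ O' := by
      show y ∈ O
      rw [← ValuationSubring.valuation_le_one_iff]; exact hyO.le
    have hle : Algebra.adjoin k {y} ≤ O' := Algebra.adjoin_le (by simpa using hy')
    exact hle (Polynomial.aeval_mem_adjoin_singleton k y)
  refine Set.Finite.of_injOn (f := center (integralClosure k[X] F))
    (t := {P : Ideal (integralClosure k[X] F) | P.IsPrime ∧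
      Ideal.span {(⟨y, hyB⟩ : integralClosure k[X] F)} ≤ P}) ?_ ?_ hfinP
  · rintro O ⟨hk, hyO⟩
    have hB := hcontains O hk hyO
    refine ⟨center_isPrime O hB, ?_⟩
    rw [Ideal.span_singleton_le_iff_mem, mem_center_iff O hB]
    exact hyO
  · rintro O1 ⟨hk1, hyO1⟩ O2 ⟨hk2, hyO2⟩ heq
    have hB1 := hcontains O1 hk1 hyO1
    have hB2 := hcontains O2 hk2 hyO2
    haveI := center_isPrime O1 hB1
    refine eq_of_center_eq O1 O2 hB1 hB2 (center (integralClosure k[X] F) O1) ?_ rfl heq.symm
    intro hbot
    have : (⟨y, hyB⟩ : integralClosure k[X] F) ∈ center (integralClosure k[X] F) O1 := by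
      rw [mem_center_iff O1 hB1]; exact hyO1
    rw [hbot] at this
    exact hyB0 (by simpa using this)

theorem main (hA : ringKrullDim A = 1) :
    {O : ValuationSubring F | (algebraMap k F).range ≤ O.toSubring ∧
        ¬ (algebraMap A F).range ≤ O.toSubring}.Finite := by
  obtain ⟨s, hs⟩ := (Algebra.FiniteType.out : (⊤ : Subalgebra k A).FG)
  have hsub : {O : ValuationSubring F | (algebraMap k F).range ≤ O.toSubring ∧
        ¬ (algebraMap A F).range ≤ O.toSubring} ⊆
      ⋃ a ∈ (s : Set A), {O : ValuationSubring F | (algebraMap k F).range ≤ O.toSubring ∧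
        algebraMap A F a ∉ O} := by
    rintro O ⟨hk, hnA⟩
    by_contra hcon
    apply hnA
    simp only [Set.mem_iUnion, Set.mem_ofPred_eq, not_exists, not_and, not_not] at hcon
    let O' : Subalgebra k F :=
      { O.toSubring with algebraMap_mem' := fun r => hk ⟨r, rfl⟩ }
    have hle : Algebra.adjoin k (s : Set A) ≤ O'.comap (IsScalarTower.toAlgHom k A F) := by
      refine Algebra.adjoin_le ?_
      intro a ha
      exact hcon a ha hk
    rw [hs] at hle
    rintro _ ⟨a, rfl⟩
    exact hle (Algebra.mem_top : a ∈ (⊤ : Subalgebra k A))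
  refine (Set.Finite.biUnion s.finite_toSet (fun a _ => ?_)).subset hsub
  by_cases htr : Transcendental k (algebraMap A F a)
  · have htr' : Transcendental k (algebraMap A F a)⁻¹ := by
      intro h
      exact htr (IsAlgebraic.inv_iff.1 h)
    refine (finite_of_transcendental k A F hA (algebraMap A F a)⁻¹ htr').subset ?_
    rintro O ⟨hk, ha⟩
    refine ⟨hk, ?_⟩
    rw [← ValuationSubring.valuation_le_one_iff] at ha
    push Not at ha
    rw [map_inv₀]
    exact inv_lt_one_of_one_lt₀ ha
  · have halg : IsAlgebraic k (algebraMap A F a) := not_not.1 htr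
    convert Set.finite_empty
    ext O
    simp only [Set.mem_ofPred_eq, Set.mem_empty_iff_false, iff_false, not_and, not_not]
    intro hk
    exact mem_of_isIntegral (R0 := k) O (fun r => hk ⟨r, rfl⟩) halg.isIntegral

end Main

end Groth.Agent.Lib.Helper63.ValFin
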