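import Mathlib

/-! The Wronskian `A' B - A B'` of two polynomials: its `p`-adic order and its degree
(helper63). -/

set_option autoImplicit false

namespace Groth.Agent.Lib.Helper63.Wronsk

open Polynomial

variable {k : Type*} [Field k]

/-- The Wronskian of `A` and `p^m B₁`. -/
theorem wronsk_pow_mul (A B₁ p : k[X]) (m : ℕ) (hm : 1 ≤ m) :
    derivative A * (p ^ m * B₁) - A * derivative (p ^ m * B₁) =
      p ^ (m - 1) * (p * derivative A * B₁ - (m : k[X]) * A * derivative p * B₁ -
        p * A * derivative B₁) := by
  obtain ⟨n, rfl⟩ : ∃ n, m = n + 1 := ⟨m - 1, by omega⟩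
  rw [derivative_mul, derivative_pow, Nat.add_sub_cancel, pow_succ]
  have hC : C ((n + 1 : ℕ) : k) = ((n + 1 : ℕ) : k[X]) := by simp
  rw [hC]
  ring

/-- The `p`-adic order of the Wronskian at a pole of order `m` prime to the characteristic. -/
theorem not_dvd_wronsk_factor {A B₁ p : k[X]} (hp : Irreducible p) (hp' : derivative p ≠ 0)
    (hA : ¬ p ∣ A) (hB₁ : ¬ p ∣ B₁) (m : ℕ) (hmk : (m : k) ≠ 0) :
    ¬ p ∣ (p * derivative A * B₁ - (m : k[X]) * A * derivative p * B₁ -
        p * A * derivative B₁) := by
  have hprime : Prime p := hp.prime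
  intro hdvd
  have h1 : p ∣ (m : k[X]) * A * derivative p * B₁ := by
    have h2 : (m : k[X]) * A * derivative p * B₁ =
        p * (derivative A * B₁ - A * derivative B₁) -
        (p * derivative A * B₁ - (m : k[X]) * A * derivative p * B₁ -
        p * A * derivative B₁) := by ring
    rw [h2]
    exact dvd_sub (dvd_mul_right _ _) hdvd
  rcases hprime.dvd_or_dvd h1 with h | h
  · rcases hprime.dvd_or_dvd h with h | h
    · rcases hprime.dvd_or_dvd h with h | h
      · have hC : (m : k[X]) = C (m : k) := by simp
        rw [hC] at h
        have hunit : IsUnit (C (m : k)) := isUnit_C.2 (isUnit_iff_ne_zero.2 hmk)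
        exact hp.not_isUnit (isUnit_of_dvd_unit h hunit)
      · exact hA h
    · have hlt : (derivative p).natDegree < p.natDegree := by
        apply natDegree_derivative_lt
        intro h0
        rw [eq_C_of_natDegree_eq_zero h0, derivative_C] at hp'
        exact hp' rfl
      have := natDegree_le_of_dvd h hp'
      omega
  · exact hB₁ h

/-- The degree of the Wronskian when the degrees differ by a number prime to the
characteristic. -/
theorem natDegree_wronsk {A B : k[X]} (hA : A ≠ 0) (hB : B ≠ 0)
    (hne : ((A.natDegree : k) - (B.natDegree : k)) ≠ 0) :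
    (derivative A * B - A * derivative B).natDegree = A.natDegree + B.natDegree - 1 ∧
      1 ≤ A.natDegree + B.natDegree ∧ derivative A * B - A * derivative B ≠ 0 := by
  set α := A.natDegree with hα
  set β := B.natDegree with hβ
  have hpos : 1 ≤ α + β := by
    by_contra h
    have h1 : α = 0 := by omega
    have h2 : β = 0 := by omega
    rw [h1, h2] at hne
    simp at hne
  suffices hc : (derivative A * B - A * derivative B).coeff (α + β - 1) ≠ 0 by
    refine ⟨?_, hpos, fun h => hc (by rw [h, coeff_zero])⟩
    have hle : (derivative A * B - A * derivative B).natDegree ≤ α + β - 1 := by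
      refine (natDegree_sub_le _ _).trans (max_le ?_ ?_)
      · by_cases hα0 : α = 0
        · have hA' : derivative A = 0 := by
            rw [eq_C_of_natDegree_eq_zero (p := A) (hα0 ▸ hα.symm), derivative_C]
          rw [hA', zero_mul, natDegree_zero]
          exact Nat.zero_le _
        · refine natDegree_mul_le.trans ?_
          have := natDegree_derivative_le A
          rw [← hα] at this
          omega
      · by_cases hβ0 : β = 0
        · have hB' : derivative B = 0 := by
            rw [eq_C_of_natDegree_eq_zero (p := B) (hβ0 ▸ hβ.symm), derivative_C]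
          rw [hB', mul_zero, natDegree_zero]
          exact Nat.zero_le _
        · refine natDegree_mul_le.trans ?_
          have := natDegree_derivative_le B
          rw [← hβ] at this
          omega
    exact le_antisymm hle (le_natDegree_of_ne_zero hc)
  rw [coeff_sub]
  -- the two coefficients
  have h1 : (derivative A * B).coeff (α + β - 1) = (α : k) * (A.leadingCoeff * B.leadingCoeff) := by
    by_cases hα0 : α = 0
    · have hA' : derivative A = 0 := by
        rw [eq_C_of_natDegree_eq_zero (p := A) (hα0 ▸ hα.symm), derivative_C]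
      rw [hA', zero_mul, coeff_zero, hα0]
      simp
    · have e : α + β - 1 = (α - 1) + β := by omega
      rw [e, coeff_mul_add_eq_of_natDegree_le ((natDegree_derivative_le A)) le_rfl, coeff_derivative,
        Nat.sub_add_cancel (by omega : 1 ≤ α)]
      rw [show ((α - 1 : ℕ) : k) + 1 = (α : k) by
        rw [Nat.cast_sub (by omega : 1 ≤ α)]; simp]
      simp only [leadingCoeff, ← hα, ← hβ]
      ring
  have h2 : (A * derivative B).coeff (α + β - 1) = (β : k) * (A.leadingCoeff * B.leadingCoeff) := by
    by_cases hβ0 : β = 0
    · have hB' : derivative B = 0 := by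
        rw [eq_C_of_natDegree_eq_zero (p := B) (hβ0 ▸ hβ.symm), derivative_C]
      rw [hB', mul_zero, coeff_zero, hβ0]
      simp
    · have e : α + β - 1 = α + (β - 1) := by omega
      rw [e, coeff_mul_add_eq_of_natDegree_le le_rfl ((natDegree_derivative_le B)), coeff_derivative,
        Nat.sub_add_cancel (by omega : 1 ≤ β)]
      rw [show ((β - 1 : ℕ) : k) + 1 = (β : k) by
        rw [Nat.cast_sub (by omega : 1 ≤ β)]; simp]
      simp only [leadingCoeff, ← hα, ← hβ]
      ring
  rw [h1, h2, ← sub_mul]
  exact mul_ne_zero hne (mul_ne_zero (leadingCoeff_ne_zero.2 hA) (leadingCoeff_ne_zero.2 hB))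

end Groth.Agent.Lib.Helper63.Wronsk
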